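import Cfsg.Prelude.Def_Transfer
import Mathlib.GroupTheory.Transfer
import Mathlib.GroupTheory.Abelianization.Defs

/-! Transfer to a subgroup controlling fusion; the residual `O^p`. -/

set_option autoImplicit false

namespace CfsgLib.Inv

variable {G : Type*} [Group G]

/-- Transfer of `g ∈ H` when conjugates of powers of `g` lying in `H` map as the powers do. -/
theorem transfer_eq_pow_of_ctrl {A : Type*} [CommGroup A] (H : Subgroup G) [H.FiniteIndex]
    (ϕ : H →* A) {g : G} (hg : g ∈ H)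
    (ctrl : ∀ (k : ℕ) (g₀ : G) (h : g₀⁻¹ * g ^ k * g₀ ∈ H),
      ϕ ⟨_, h⟩ = ϕ ⟨g, hg⟩ ^ k) :
    MonoidHom.transfer ϕ g = ϕ ⟨g, hg⟩ ^ H.index := by
  classical
  let := H.fintypeQuotientOfFiniteIndex
  rw [MonoidHom.transfer_eq_prod_quotient_orbitRel_zpowers_quot,
    Subgroup.index_eq_sum_minimalPeriod H g, ← Finset.prod_pow_eq_pow_sum]
  exact Finset.prod_congr rfl fun q _ => ctrl _ _ _

theorem pResidual_normal (p : ℕ) (G : Type*) [Group G] : (Cfsg.pResidual p G).Normal := by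
  rw [← Subgroup.normalizer_eq_top_iff, eq_top_iff]
  intro g _
  have key : ∀ g : G, ∀ x ∈ Cfsg.pResidual p G, g * x * g⁻¹ ∈ Cfsg.pResidual p G := by
    intro g x hx
    induction hx using Subgroup.closure_induction with
    | mem y hy =>
      refine Subgroup.subset_closure ?_
      show Nat.Coprime (orderOf (g * y * g⁻¹)) p
      have h : orderOf (g * y * g⁻¹) = orderOf y := MulEquiv.orderOf_eq (MulAut.conj g) y
      rw [h]; exact hy
    | one => simp
    | mul a b _ _ iha ihb => rw [← conj_mul]; exact mul_mem iha ihb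
    | inv a _ iha => rw [← conj_inv]; exact inv_mem iha
  rw [Subgroup.mem_normalizer_iff]
  exact fun x => ⟨key g x, fun h => by simpa [mul_assoc] using key g⁻¹ _ h⟩

theorem mem_pResidual {p : ℕ} {x : G} (h : Nat.Coprime (orderOf x) p) :
    x ∈ Cfsg.pResidual p G := Subgroup.subset_closure h

theorem pResidual_map_le {G' : Type*} [Group G'] (p : ℕ) (f : G →* G') :
    (Cfsg.pResidual p G).map f ≤ Cfsg.pResidual p G' := by
  rw [Cfsg.pResidual, MonoidHom.map_closure, Subgroup.closure_le]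
  rintro _ ⟨x, hx, rfl⟩
  exact mem_pResidual (Nat.Coprime.coprime_dvd_left (orderOf_map_dvd f x) hx)

theorem exists_pow_mem_pResidual [Finite G] {p : ℕ} [Fact p.Prime] (x : G) :
    ∃ a : ℕ, x ^ p ^ a ∈ Cfsg.pResidual p G := by
  obtain ⟨a, m, hm, he⟩ :=
    Nat.exists_eq_pow_mul_and_not_dvd (orderOf_pos x).ne' p (Fact.out (p := p.Prime)).ne_one
  refine ⟨a, mem_pResidual ?_⟩
  rw [orderOf_pow, he,
    Nat.gcd_eq_right (dvd_mul_right _ _), Nat.mul_div_cancel_left _ (Nat.pow_pos (Fact.out (p := p.Prime)).pos)]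
  exact Nat.Coprime.symm ((Nat.Prime.coprime_iff_not_dvd Fact.out).2 hm)

theorem isPGroup_quot_pResidual [Finite G] {p : ℕ} [Fact p.Prime] :
    haveI := pResidual_normal p G
    IsPGroup p (G ⧸ Cfsg.pResidual p G) := by
  haveI := pResidual_normal p G
  intro q
  obtain ⟨x, rfl⟩ := QuotientGroup.mk_surjective q
  obtain ⟨a, ha⟩ := exists_pow_mem_pResidual (p := p) x
  exact ⟨a, by rw [← QuotientGroup.mk_pow]; exact (QuotientGroup.eq_one_iff _).2 ha⟩

/-- If `O^p(G) G' = G` then `O^p(G) = G`. -/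
theorem pResidual_eq_top_of_sup [Finite G] {p : ℕ} [Fact p.Prime]
    (h : Cfsg.pResidual p G ⊔ commutator G = ⊤) : Cfsg.pResidual p G = ⊤ := by
  haveI := pResidual_normal p G
  have hp := isPGroup_quot_pResidual (G := G) (p := p)
  haveI := hp.isNilpotent
  by_contra hne
  haveI : Nontrivial (G ⧸ Cfsg.pResidual p G) :=
    QuotientGroup.nontrivial_iff.2 hne
  have hlt : commutator (G ⧸ Cfsg.pResidual p G) < ⊤ :=
    IsSolvable.commutator_lt_top_of_nontrivial _
  refine hlt.ne (top_le_iff.1 ?_)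
  have h2 := congrArg (Subgroup.map (QuotientGroup.mk' (Cfsg.pResidual p G))) h
  rw [Subgroup.map_sup, QuotientGroup.map_mk'_self, bot_sup_eq,
    Subgroup.map_top_of_surjective _ (QuotientGroup.mk'_surjective _)] at h2
  rw [← h2, commutator_def, commutator_def, Subgroup.map_commutator]
  exact Subgroup.commutator_mono le_top le_top

/-- Focal subgroup theorem for a subgroup of index prime to `p` controlling `p`-fusion. -/
theorem residual_inf_eq [Finite G] {p : ℕ} [Fact p.Prime] (H : Subgroup G)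
    (hidx : Nat.Coprime p H.index)
    (hfus : ∀ g ∈ H, (∃ k : ℕ, orderOf g = p ^ k) → ∀ a : G, a * g * a⁻¹ ∈ H →
      ∃ h ∈ H, h * g * h⁻¹ = a * g * a⁻¹) :
    (Cfsg.pResidual p G ⊔ commutator G) ⊓ H =
      (Cfsg.pResidual p ↥H ⊔ commutator ↥H).map H.subtype := by
  refine le_antisymm ?_ (le_inf ?_ (Subgroup.map_subtype_le _))
  swap
  · rw [Subgroup.map_sup]
    refine sup_le_sup (pResidual_map_le p _) ?_
    rw [commutator_def, commutator_def, Subgroup.map_commutator]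
    exact Subgroup.commutator_mono le_top le_top
  set N := Cfsg.pResidual p ↥H ⊔ commutator ↥H with hN
  haveI := pResidual_normal p ↥H
  haveI hNn : N.Normal := by rw [hN]; infer_instance
  let A := ↥H ⧸ N
  letI : CommGroup A :=
    { (inferInstance : Group A) with
      mul_comm := fun a b => by
        obtain ⟨a, rfl⟩ := QuotientGroup.mk_surjective a
        obtain ⟨b, rfl⟩ := QuotientGroup.mk_surjective b
        have h : a * b * a⁻¹ * b⁻¹ ∈ N := by
          rw [hN]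
          exact (le_sup_right : commutator ↥H ≤ _)
            (Subgroup.commutator_mem_commutator (Subgroup.mem_top a) (Subgroup.mem_top b))
        have h2 := (QuotientGroup.eq_one_iff (a * b * a⁻¹ * b⁻¹)).2 h
        rw [QuotientGroup.mk_mul, QuotientGroup.mk_mul, QuotientGroup.mk_mul,
          QuotientGroup.mk_inv, QuotientGroup.mk_inv, mul_inv_eq_one,
          mul_inv_eq_iff_eq_mul] at h2
        exact h2 }
  have hA : IsPGroup p A := by
    intro q
    obtain ⟨x, rfl⟩ := QuotientGroup.mk_surjective q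
    obtain ⟨a, ha⟩ := exists_pow_mem_pResidual (p := p) x
    exact ⟨a, (QuotientGroup.eq_one_iff (x ^ p ^ a)).2 (le_sup_left (a := Cfsg.pResidual p ↥H) ha)⟩
  let ϕ : ↥H →* A := QuotientGroup.mk' N
  let ψ := MonoidHom.transfer ϕ
  have hψ : Cfsg.pResidual p G ⊔ commutator G ≤ ψ.ker := by
    refine sup_le ?_ (Abelianization.commutator_subset_ker ψ)
    rw [Cfsg.pResidual, Subgroup.closure_le]
    intro x hx
    obtain ⟨a, ha⟩ := hA (ψ x)
    rw [SetLike.mem_coe, MonoidHom.mem_ker, ← orderOf_eq_one_iff]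
    exact Nat.eq_one_of_dvd_coprimes (Nat.Coprime.pow_right a hx)
      (orderOf_map_dvd ψ x) (orderOf_dvd_of_pow_eq_one ha)
  have kill : ∀ g : G, ∀ hg : g ∈ H, g ∈ Cfsg.pResidual p G ⊔ commutator G →
      (∃ k : ℕ, orderOf g = p ^ k) → ϕ ⟨g, hg⟩ = 1 := by
    intro g hg hg0 hgp
    have h1 : ψ g = ϕ ⟨g, hg⟩ ^ H.index := by
      refine transfer_eq_pow_of_ctrl H ϕ hg fun k g₀ h => ?_
      have hgk : ∃ j : ℕ, orderOf (g ^ k) = p ^ j := by
        obtain ⟨j, hj⟩ := hgp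
        obtain ⟨i, -, hi⟩ := (Nat.dvd_prime_pow Fact.out).1 (hj ▸ orderOf_pow_dvd (x := g) k)
        exact ⟨i, hi⟩
      obtain ⟨c, hc, he⟩ := hfus (g ^ k) (pow_mem hg k) hgk g₀⁻¹ (by simpa using h)
      have e : (⟨g₀⁻¹ * g ^ k * g₀, h⟩ : H) = ⟨c, hc⟩ * ⟨g, hg⟩ ^ k * (⟨c, hc⟩)⁻¹ := by
        apply Subtype.ext; simpa using he.symm
      rw [e, map_mul, map_mul, map_inv, map_pow, mul_comm (ϕ ⟨c, hc⟩), mul_inv_cancel_right]
    rw [MonoidHom.mem_ker.1 (hψ hg0)] at h1
    obtain ⟨a, ha⟩ := hA (ϕ ⟨g, hg⟩)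
    rw [← orderOf_eq_one_iff]
    exact Nat.eq_one_of_dvd_coprimes (Nat.Coprime.pow_left a hidx)
      (orderOf_dvd_of_pow_eq_one ha) (orderOf_dvd_of_pow_eq_one h1.symm)
  rintro x ⟨hx0, hxH⟩
  refine ⟨⟨x, hxH⟩, ?_, rfl⟩
  show (⟨x, hxH⟩ : H) ∈ N
  rw [← QuotientGroup.eq_one_iff]
  obtain ⟨a, m, hm, he⟩ :=
    Nat.exists_eq_pow_mul_and_not_dvd (orderOf_pos x).ne' p (Fact.out (p := p.Prime)).ne_one
  have hm0 : m ≠ 0 := by rintro rfl; exact hm (dvd_zero p)
  have h1 : ϕ ⟨x, hxH⟩ ^ m = 1 := by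
    rw [← map_pow]
    refine kill (x ^ m) (pow_mem hxH m) (pow_mem hx0 m) ⟨a, ?_⟩
    rw [orderOf_pow, he, Nat.gcd_eq_right (dvd_mul_left _ _), Nat.mul_div_cancel _
      (Nat.pos_of_ne_zero hm0)]
  obtain ⟨b, hb⟩ := hA (ϕ ⟨x, hxH⟩)
  show ϕ ⟨x, hxH⟩ = 1
  rw [← orderOf_eq_one_iff]
  exact Nat.eq_one_of_dvd_coprimes
    ((Nat.Prime.coprime_iff_not_dvd (Fact.out (p := p.Prime))).2 hm |>.pow_left b)
    (orderOf_dvd_of_pow_eq_one hb) (orderOf_dvd_of_pow_eq_one h1)

end CfsgLib.Inv
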