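import Cfsg.Agent.Inv.CharP
import Cfsg.Prelude.Def_PLocal
import Cfsg.Agent.Inv.Transfer

/-!
More on p-reduced normal subgroups.
-/

set_option autoImplicit false
set_option linter.style.haveILetI false

namespace CfsgLib.Inv

open Cfsg
open scoped commutatorElement

variable {G : Type*} [Group G] {p : ℕ}

theorem eq_top_of_sylow_coprime [Finite G] [hp : Fact p.Prime] {M : Subgroup G} (P : Sylow p G)
    (hP : (P : Subgroup G) ≤ M) (hcop : ∀ x : G, (orderOf x).Coprime p → x ∈ M) : M = ⊤ := by
  rw [← Subgroup.index_eq_one]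
  by_contra h
  obtain ⟨q, hq, hqd⟩ := Nat.exists_prime_and_dvd h
  haveI : Fact q.Prime := ⟨hq⟩
  rcases eq_or_ne q p with rfl | hne
  · exact P.not_dvd_index (hqd.trans (Subgroup.index_dvd_of_le hP))
  · obtain ⟨Q⟩ : Nonempty (Sylow q G) := inferInstance
    refine Q.not_dvd_index (hqd.trans (Subgroup.index_dvd_of_le fun x hx => hcop x ?_))
    obtain ⟨k, hk⟩ := Q.2 ⟨x, hx⟩
    have hk' : x ^ q ^ k = 1 := by simpa using congrArg Subtype.val hk
    exact Nat.Coprime.coprime_dvd_left (orderOf_dvd_of_pow_eq_one hk')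
      (Nat.Coprime.pow_left k ((Nat.coprime_primes hq hp.out).2 hne))

/-- A normal subgroup whose `p'`-elements centralize a `p`-reduced `V` centralizes `V`. -/
theorem reduced_le [Finite G] [hp : Fact p.Prime] {V : Subgroup G} (hV : IsPReducedNormal p V)
    {N : Subgroup G} (hN : N.Normal)
    (hel : ∀ x ∈ N, (orderOf x).Coprime p → x ∈ Subgroup.centralizer (V : Set G)) :
    N ≤ Subgroup.centralizer (V : Set G) := by
  obtain ⟨hn, -, h⟩ := reduced_iff.1 hV
  haveI := hn
  refine le_sup_left.trans (h (N ⊔ Subgroup.centralizer (V : Set G)) inferInstance le_sup_right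
    fun x hx hxo => ?_)
  rw [← QuotientGroup.eq_one_iff]
  have h1 := Subgroup.mem_map_of_mem (QuotientGroup.mk' (Subgroup.centralizer (V : Set G))) hx
  rw [Subgroup.map_sup, QuotientGroup.map_mk'_self, sup_bot_eq] at h1
  obtain ⟨n, hn', hnx⟩ := h1
  set b := (orderOf n).factorization p
  have hno : orderOf n ≠ 0 := (orderOf_pos n).ne'
  have h2 : n ^ p ^ b ∈ Subgroup.centralizer (V : Set G) := by
    refine hel _ (pow_mem hn' _) ?_
    rw [orderOf_pow_of_dvd (pow_ne_zero _ hp.out.ne_zero) (Nat.ordProj_dvd _ _)]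
    exact (Nat.coprime_ordCompl hp.out hno).symm
  have h3 : (QuotientGroup.mk' (Subgroup.centralizer (V : Set G)) x) ^ p ^ b = 1 := by
    rw [← hnx, ← map_pow, QuotientGroup.mk'_apply, QuotientGroup.eq_one_iff]; exact h2
  exact orderOf_eq_one_iff.1 (Nat.eq_one_of_dvd_coprimes
    ((hxo.coprime_dvd_left
      (orderOf_map_dvd (QuotientGroup.mk' (Subgroup.centralizer (V : Set G))) x)).pow_right b)
    dvd_rfl (orderOf_dvd_of_pow_eq_one h3))

theorem subnormal_pgroup_le_pCore [Finite G] [hp : Fact p.Prime] {U : Subgroup G} (hU : U.IsSubnormal)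
    (hUp : IsPGroup p U) : U ≤ pCore p G := by
  refine (CfsgLib.Solv.piNat_subnormal_le_piCore (π := {p}) hU ?_).trans ?_
  · exact CfsgLib.Solv.PiNat.of_isPGroup hUp rfl
  · haveI := CfsgLib.Solv.piCore_characteristic (G := G) (π := ({p} : Set ℕ))
    refine CfsgLib.Solv.le_pCore (IsPGroup.of_card
      (n := (Nat.card (piCore ({p} : Set ℕ) G)).primeFactorsList.length) ?_)
    exact Nat.eq_prime_pow_of_unique_prime_dvd Nat.card_pos.ne'
      fun {d} hd hdd => CfsgLib.Solv.piNat_card_piCore ({p} : Set ℕ) d hd hdd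

theorem exists_iterCommutator_le {K : Subgroup G} (hK : K.IsSubnormal) :
    ∃ m, iterCommutator ⊤ K m ≤ K := by
  induction hK with
  | top => exact ⟨0, le_rfl⟩
  | step K H hKH _ hn ih =>
    obtain ⟨m, hm⟩ := ih
    refine ⟨m + 1, le_trans (Subgroup.commutator_mono
      ((iterCommutator_mono le_rfl hKH m).trans hm) le_rfl) ?_⟩
    rw [Subgroup.commutator_comm]
    exact CfsgLib.Solv.commutator_le_of_le_normalizer
      ((Subgroup.normal_subgroupOf_iff_le_normalizer hKH).1 hn)

theorem sylow_inf_normal [Finite G] [hp : Fact p.Prime] (T : Sylow p G) (N : Subgroup G) [hN : N.Normal] :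
    ∃ P : Sylow p N, (P : Subgroup N).map N.subtype = (T : Subgroup G) ⊓ N := by
  obtain ⟨P⟩ : Nonempty (Sylow p N) := inferInstance
  obtain ⟨T', hT'⟩ := (P.2.map N.subtype).exists_le_sylow
  obtain ⟨g, hg⟩ := MulAction.exists_smul_eq G T' T
  have h1 : (P : Subgroup N) = (T' : Subgroup G).subgroupOf N :=
    (P.3 T'.2.comap_subtype (fun y hy => hT' (Subgroup.mem_map.2 ⟨y, hy, rfl⟩))).symm
  have h2 : Nat.card P = Nat.card ↥((T' : Subgroup G) ⊓ N) := by
    rw [h1, ← CfsgLib.Solv.card_subgroupOf (inf_le_right : (T' : Subgroup G) ⊓ N ≤ N),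
      Subgroup.inf_subgroupOf_right]
  have hcard : Nat.card ↥(((T : Subgroup G) ⊓ N).subgroupOf N) = Nat.card P := by
    rw [CfsgLib.Solv.card_subgroupOf inf_le_right, h2, ← hg, Sylow.coe_subgroup_smul,
      ← CfsgLib.Solv.card_conj_smul g ((T' : Subgroup G) ⊓ N)]
    have hNg : N.map (MulAut.conj g).toMonoidHom = N := by
      rw [← CfsgLib.Solv.conj_smul_eq_map]
      exact CfsgLib.Solv.conj_smul_eq_self_of_mem_normalizer
        (by rw [Subgroup.normalizer_eq_top]; exact Subgroup.mem_top _)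
    rw [CfsgLib.Solv.conj_smul_eq_map, CfsgLib.Solv.conj_smul_eq_map,
      Subgroup.map_inf _ _ _ (MulAut.conj g).injective, hNg]
  exact ⟨Sylow.ofCard _ (hcard.trans P.card_eq_multiplicity),
    Subgroup.map_subgroupOf_eq_of_le inf_le_right⟩

theorem subnormal_of_nilpotent [Finite G] [Group.IsNilpotent G] (H : Subgroup G) : H.IsSubnormal := by
  induction H using (wellFounded_gt (α := Subgroup G)).induction with
  | _ H ih =>
    rcases eq_or_ne H ⊤ with rfl | hne
    · exact Subgroup.IsSubnormal.top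
    · have hlt := Group.normalizerCondition_of_isNilpotent H (lt_top_iff_ne_top.2 hne)
      exact Subgroup.IsSubnormal.step H _ hlt.le (ih _ hlt) Subgroup.normal_in_normalizer

theorem pResidual_quotient_pgroup [Finite G] [hp : Fact p.Prime] (N : Subgroup G) [N.Normal]
    (hN : pResidual p G ≤ N) : IsPGroup p (G ⧸ N) := by
  intro y
  obtain ⟨x, rfl⟩ := QuotientGroup.mk'_surjective N y
  have hxo : orderOf x ≠ 0 := (orderOf_pos x).ne'
  refine ⟨(orderOf x).factorization p, ?_⟩
  rw [← map_pow, QuotientGroup.mk'_apply, QuotientGroup.eq_one_iff]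
  refine hN (Subgroup.subset_closure ?_)
  show (orderOf _).Coprime p
  rw [orderOf_pow_of_dvd (pow_ne_zero _ hp.out.ne_zero) (Nat.ordProj_dvd _ _)]
  exact (Nat.coprime_ordCompl hp.out hxo).symm

theorem subnormal_sInf [Finite G] (S : Set (Subgroup G)) (h : ∀ K ∈ S, K.IsSubnormal) :
    (sInf S).IsSubnormal := by
  classical
  haveI := Fintype.ofFinite (Subgroup G)
  have key : ∀ s : Finset (Subgroup G), (∀ K ∈ s, K.IsSubnormal) → (s.inf id).IsSubnormal := by
    intro s
    induction s using Finset.induction with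
    | empty => exact fun _ => Subgroup.IsSubnormal.top
    | insert a s _ ih =>
      intro hs
      rw [Finset.inf_insert]
      exact Subgroup.IsSubnormal.inf (hs a (Finset.mem_insert_self _ _))
        (ih fun K hK => hs K (Finset.mem_insert_of_mem hK))
  have e : sInf S = S.toFinset.inf id := by
    rw [Finset.inf_id_eq_sInf, Set.coe_toFinset]
  rw [e]
  exact key _ fun K hK => h K (Set.mem_toFinset.1 hK)

end CfsgLib.Inv
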