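import Cfsg.Prelude.Def_Local
import Cfsg.Agent.Solv.Basic
import Cfsg.Agent.Fus.CoreBasic
import Mathlib.GroupTheory.IsPerfect
import Mathlib.GroupTheory.IsSubnormal
import Mathlib.GroupTheory.Solvable
import Mathlib.GroupTheory.Nilpotent
import Mathlib.Tactic

/-! Components, the layer and the generalized Fitting subgroup. -/

set_option autoImplicit false
set_option linter.style.haveILetI false

open scoped commutatorElement IsMulCommutative

namespace CfsgLib.Inv

variable {G : Type*} [Group G]

/-! ### Quasisimple groups -/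

theorem center_map_mulEquiv {H : Type*} [Group H] (e : G ≃* H) :
    (Subgroup.center G).map e.toMonoidHom = Subgroup.center H := by
  ext y
  constructor
  · rintro ⟨x, hx, rfl⟩
    rw [Subgroup.mem_center_iff]
    intro z
    obtain ⟨w, rfl⟩ := e.surjective z
    simpa using congrArg e (Subgroup.mem_center_iff.1 hx w)
  · intro hy
    refine ⟨e.symm y, Subgroup.mem_center_iff.2 fun z => e.injective ?_, e.apply_symm_apply y⟩
    simpa using Subgroup.mem_center_iff.1 hy (e z)

theorem quasisimple_congr {H : Type*} [Group H] (e : G ≃* H) (hG : Cfsg.IsQuasisimple G) :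
    Cfsg.IsQuasisimple H := by
  haveI := hG.1
  refine ⟨Group.IsPerfect.ofSurjective (f := e.toMonoidHom) e.surjective, ?_⟩
  exact ((QuotientGroup.congr _ _ e (center_map_mulEquiv e)).isSimpleGroup_congr).1 hG.2

theorem quasisimple_nontrivial (hG : Cfsg.IsQuasisimple G) : Nontrivial G := by
  haveI := hG.2.toNontrivial
  exact (QuotientGroup.mk_surjective (s := Subgroup.center G)).nontrivial

theorem quasisimple_not_solvable (hG : Cfsg.IsQuasisimple G) : ¬ Group.IsSolvable G := by
  haveI := hG.1
  haveI := quasisimple_nontrivial hG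
  exact Group.IsPerfect.not_isSolvable G

theorem quasisimple_center_ne_top (hG : Cfsg.IsQuasisimple G) : Subgroup.center G ≠ ⊤ := by
  haveI := hG.2.toNontrivial
  exact QuotientGroup.nontrivial_iff.1 inferInstance

/-- A normal subgroup of a quasisimple group is central or everything. -/
theorem quasisimple_normal (hG : Cfsg.IsQuasisimple G) (N : Subgroup G) [hN : N.Normal] :
    N ≤ Subgroup.center G ∨ N = ⊤ := by
  haveI := hG.2
  rcases (Subgroup.Normal.map hN _ (QuotientGroup.mk'_surjective (Subgroup.center G))).eq_bot_or_eq_top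
    with h | h
  · left
    rw [Subgroup.map_eq_bot_iff, QuotientGroup.ker_mk'] at h
    exact h
  · right
    rw [eq_top_iff, ← hG.1.commutator_eq_top, commutator_def, Subgroup.commutator_le]
    intro a _ b _
    have hdec : ∀ x : G, ∃ n ∈ N, ∃ z ∈ Subgroup.center G, x = n * z := by
      intro x
      obtain ⟨n, hn, he⟩ : QuotientGroup.mk' (Subgroup.center G) x ∈ N.map (QuotientGroup.mk' _) := by
        rw [h]; trivial
      exact ⟨n, hn, n⁻¹ * x, QuotientGroup.eq.1 he, by group⟩
    obtain ⟨n, hn, z, hz, rfl⟩ := hdec a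
    obtain ⟨m, hm, w, hw, rfl⟩ := hdec b
    have hz' := Subgroup.mem_center_iff.1 hz
    have hw' := Subgroup.mem_center_iff.1 hw
    have e : ⁅n * z, m * w⁆ = n * m * n⁻¹ * m⁻¹ := by
      rw [commutatorElement_def]
      calc n * z * (m * w) * (n * z)⁻¹ * (m * w)⁻¹
          = n * (z * m) * w * z⁻¹ * n⁻¹ * w⁻¹ * m⁻¹ := by group
        _ = n * (m * z) * w * z⁻¹ * n⁻¹ * w⁻¹ * m⁻¹ := by rw [hz' m]
        _ = n * m * z * (w * z⁻¹) * n⁻¹ * w⁻¹ * m⁻¹ := by group
        _ = n * m * z * (z⁻¹ * w) * n⁻¹ * w⁻¹ * m⁻¹ := by rw [hw' z⁻¹]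
        _ = n * m * (w * n⁻¹) * w⁻¹ * m⁻¹ := by group
        _ = n * m * (n⁻¹ * w) * w⁻¹ * m⁻¹ := by rw [hw' n⁻¹]
        _ = n * m * n⁻¹ * m⁻¹ := by group
    rw [e]
    exact mul_mem (mul_mem (mul_mem hn hm) (inv_mem hn)) (inv_mem hm)

/-- A subnormal subgroup of a quasisimple group is central or everything. -/
theorem quasisimple_subnormal (hG : Cfsg.IsQuasisimple G) {U : Subgroup G} (hU : U.IsSubnormal) :
    U ≤ Subgroup.center G ∨ U = ⊤ := by
  rcases hU.lt_normal with h | ⟨N, hN, hUN, hlt⟩
  · exact .inr h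
  · haveI := hN
    rcases quasisimple_normal hG N with h | h
    · exact .inl (hUN.trans h)
    · exact absurd h hlt.ne

/-! ### Components -/

theorem isComponent_map {H : Type*} [Group H] (e : G ≃* H) {K : Subgroup G}
    (hK : Cfsg.IsComponent K) : Cfsg.IsComponent (K.map e.toMonoidHom) :=
  ⟨hK.1.map e.surjective, quasisimple_congr (e.subgroupMap K) hK.2⟩

theorem isComponent_conj {K : Subgroup G} (hK : Cfsg.IsComponent K) (g : G) :
    Cfsg.IsComponent (K.map (MulAut.conj g).toMonoidHom) := isComponent_map (MulAut.conj g) hK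

theorem isComponent_subgroupOf {K H : Subgroup G} (hK : Cfsg.IsComponent K) (h : K ≤ H) :
    Cfsg.IsComponent (K.subgroupOf H) :=
  ⟨hK.1.subgroupOf, quasisimple_congr (Subgroup.subgroupOfEquivOfLe h).symm hK.2⟩

theorem isComponent_map_subtype {H : Subgroup G} (hH : H.IsSubnormal) {L : Subgroup H}
    (hL : Cfsg.IsComponent L) : Cfsg.IsComponent (L.map H.subtype) :=
  ⟨hL.1.trans' hH, quasisimple_congr (L.equivMapOfInjective _ H.subtype_injective) hL.2⟩

theorem component_ne_bot {K : Subgroup G} (hK : Cfsg.IsComponent K) : K ≠ ⊥ := by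
  haveI := quasisimple_nontrivial hK.2
  exact Subgroup.nontrivial_iff_ne_bot K |>.1 inferInstance

theorem component_commutator {K : Subgroup G} (hK : Cfsg.IsComponent K) : ⁅K, K⁆ = K :=
  Subgroup.isPerfect_iff.1 hK.2.1

theorem component_not_solvable {K : Subgroup G} (hK : Cfsg.IsComponent K) :
    ¬ Group.IsSolvable K := quasisimple_not_solvable hK.2

theorem component_not_le_solvable {K H : Subgroup G} (hK : Cfsg.IsComponent K)
    (hH : Group.IsSolvable H) : ¬ K ≤ H := fun h => by
  haveI := hH
  exact component_not_solvable hK (Group.isSolvable_of_isSolvable_injective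
    (Subgroup.inclusion_injective h))

theorem map_commutator_eq_bot {H : Subgroup G} {A B : Subgroup H} :
    ⁅A.map H.subtype, B.map H.subtype⁆ = ⊥ ↔ ⁅A, B⁆ = ⊥ := by
  rw [← Subgroup.map_commutator, Subgroup.map_eq_bot_iff_of_injective _ H.subtype_injective]

theorem component_dichotomy_aux : ∀ (n : ℕ) (G : Type*) [Group G] [Finite G], Nat.card G ≤ n →
    ∀ K U : Subgroup G, Cfsg.IsComponent K → U.IsSubnormal → K ≤ U ∨ ⁅K, U⁆ = ⊥ := by
  intro n
  induction n with
  | zero => intro G _ _ h; exact absurd h (Nat.not_le.2 Nat.card_pos)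
  | succ n ih =>
    intro G _ _ hn K U hK hU
    rcases hU.lt_normal with rfl | ⟨N, hN, hUN, hNlt⟩
    · exact .inl le_top
    rcases hK.1.lt_normal with rfl | ⟨M, hM, hKM, hMlt⟩
    · -- `G` itself is quasisimple
      have hG : Cfsg.IsQuasisimple G := quasisimple_congr Subgroup.topEquiv hK.2
      rcases quasisimple_subnormal hG hU with h | h
      · right
        rw [Subgroup.commutator_comm, Subgroup.commutator_eq_bot_iff_le_centralizer]
        exact h.trans (Subgroup.center_le_centralizer _)
      · exact .inl (h ▸ le_rfl)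
    haveI := hN
    haveI := hM
    have hsmall : ∀ H : Subgroup G, H < ⊤ → Nat.card H ≤ n := by
      intro H hH
      have := CfsgLib.Solv.card_lt_of_ne_top hH.ne
      omega
    by_cases hKU : K ≤ M ⊓ N
    · have hKN : K ≤ N := hKU.trans inf_le_right
      rcases ih N (hsmall N hNlt) (K.subgroupOf N) (U.subgroupOf N)
          (isComponent_subgroupOf hK hKN) hU.subgroupOf with h | h
      · exact .inl fun x hx => h (x := ⟨x, hKN hx⟩) hx
      · right
        rw [← map_commutator_eq_bot, Subgroup.map_subgroupOf_eq_of_le hKN,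
          Subgroup.map_subgroupOf_eq_of_le hUN] at h
        exact h
    · have h1 : ⁅K, M ⊓ N⁆ = ⊥ := by
        rcases ih M (hsmall M hMlt) (K.subgroupOf M) ((M ⊓ N).subgroupOf M)
            (isComponent_subgroupOf hK hKM)
            ((inferInstance : (M ⊓ N).Normal).isSubnormal.subgroupOf) with h | h
        · exact absurd (fun x hx => h (x := ⟨x, hKM hx⟩) hx) hKU
        · rwa [← map_commutator_eq_bot, Subgroup.map_subgroupOf_eq_of_le hKM,
            Subgroup.map_subgroupOf_eq_of_le inf_le_left] at h
      have h2 : ⁅K, U⁆ ≤ M ⊓ N :=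
        (Subgroup.commutator_mono hKM hUN).trans (Subgroup.commutator_le_inf M N)
      have h3 : ⁅⁅K, U⁆, K⁆ = ⊥ := by
        rw [eq_bot_iff, ← h1, Subgroup.commutator_comm K (M ⊓ N)]
        exact Subgroup.commutator_mono h2 le_rfl
      have h4 : ⁅⁅U, K⁆, K⁆ = ⊥ := by rwa [Subgroup.commutator_comm U K]
      have h5 : ⁅⁅K, K⁆, U⁆ = ⊥ := Subgroup.commutator_commutator_eq_bot_of_rotate h3 h4
      rw [component_commutator hK] at h5
      exact .inr h5

/-- A component lies in a given subnormal subgroup or centralizes it. -/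
theorem component_dichotomy [Finite G] {K U : Subgroup G} (hK : Cfsg.IsComponent K)
    (hU : U.IsSubnormal) : K ≤ U ∨ ⁅K, U⁆ = ⊥ :=
  component_dichotomy_aux _ G le_rfl K U hK hU

theorem component_le_or_commute [Finite G] {K : Subgroup G} (hK : Cfsg.IsComponent K)
    (N : Subgroup G) [hN : N.Normal] : K ≤ N ∨ ⁅K, N⁆ = ⊥ :=
  component_dichotomy hK hN.isSubnormal

/-- Distinct components commute. -/
theorem components_commute [Finite G] {K L : Subgroup G} (hK : Cfsg.IsComponent K)
    (hL : Cfsg.IsComponent L) (h : K ≠ L) : ⁅K, L⁆ = ⊥ := by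
  rcases component_dichotomy hK hL.1 with hle | hc
  · exfalso
    rcases quasisimple_subnormal hL.2 (hK.1.subgroupOf (K := L)) with h1 | h1
    · refine component_not_le_solvable hK (H := (Subgroup.center L).map L.subtype) ?_ ?_
      · haveI : Group.IsSolvable (Subgroup.center L) :=
          Group.isSolvable_of_comm fun a b =>
            Subtype.ext (Subgroup.mem_center_iff.1 b.2 (a : L))
        exact Group.isSolvable_of_surjective (f := (L.subtype).subgroupMap (Subgroup.center L))
          (MonoidHom.subgroupMap_surjective _ _)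
      · intro x hx
        exact ⟨⟨x, hle hx⟩, h1 hx, rfl⟩
    · exact h (le_antisymm hle (Subgroup.subgroupOf_eq_top.1 h1))
  · exact hc

/-- A solvable subnormal subgroup is centralized by every component. -/
theorem component_commute_solvable [Finite G] {K U : Subgroup G} (hK : Cfsg.IsComponent K)
    (hU : U.IsSubnormal) (hs : Group.IsSolvable U) : ⁅K, U⁆ = ⊥ :=
  (component_dichotomy hK hU).resolve_left (component_not_le_solvable hK hs)

/-! ### The Fitting subgroup -/

theorem fitting_nilpotent [Finite G] : Group.IsNilpotent (Cfsg.fittingSubgroup G) := by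
  rw [CfsgLib.Solv.fittingSubgroup_eq_iSup_pCore]
  exact CfsgLib.Solv.iSup_pCore_isNilpotent

theorem fitting_characteristic : (Cfsg.fittingSubgroup G).Characteristic := by
  rw [Subgroup.characteristic_iff_map_le]
  intro e
  refine Subgroup.map_le_iff_le_comap.2 (sSup_le fun N hN => ?_)
  rw [← Subgroup.map_le_iff_le_comap]
  haveI := hN.1.map e.toMonoidHom e.surjective
  haveI := hN.2
  exact CfsgLib.Solv.le_fittingSubgroup
    (Group.nilpotent_of_surjective (e.subgroupMap N).toMonoidHom (e.subgroupMap N).surjective)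

theorem fitting_subnormal_map_le [Finite G] {K : Subgroup G} (hK : K.IsSubnormal) :
    (Cfsg.fittingSubgroup K).map K.subtype ≤ Cfsg.fittingSubgroup G := by
  induction hK with
  | top =>
    haveI : ((Cfsg.fittingSubgroup (⊤ : Subgroup G)).map (⊤ : Subgroup G).subtype).Normal :=
      Subgroup.Normal.map (CfsgLib.Solv.fittingSubgroup_normal _) _ fun x => ⟨⟨x, trivial⟩, rfl⟩
    refine CfsgLib.Solv.le_fittingSubgroup ?_
    haveI := fitting_nilpotent (G := (⊤ : Subgroup G))
    exact Group.nilpotent_of_surjective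
      ((Subgroup.subtype _).subgroupMap (Cfsg.fittingSubgroup (⊤ : Subgroup G)))
      (MonoidHom.subgroupMap_surjective _ _)
  | step A B hab _ hAB ih =>
    refine le_trans ?_ ih
    haveI := fitting_characteristic (G := A)
    haveI hn := CfsgLib.Fus.normal_map_characteristic hab hAB (Cfsg.fittingSubgroup A)
    have hle : (Cfsg.fittingSubgroup A).map A.subtype ≤ B := (Subgroup.map_subtype_le _).trans hab
    have h1 : ((Cfsg.fittingSubgroup A).map A.subtype).subgroupOf B ≤ Cfsg.fittingSubgroup B := by
      refine CfsgLib.Solv.le_fittingSubgroup ?_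
      haveI := fitting_nilpotent (G := A)
      let e := (Subgroup.equivMapOfInjective (Cfsg.fittingSubgroup A) _ A.subtype_injective).trans
        (Subgroup.subgroupOfEquivOfLe hle).symm
      exact Group.nilpotent_of_surjective e.toMonoidHom e.surjective
    exact fun x hx => ⟨⟨x, hle hx⟩, h1 hx, rfl⟩

/-- A nilpotent subnormal subgroup lies in the Fitting subgroup. -/
theorem subnormal_le_fitting [Finite G] {U : Subgroup G} (hU : U.IsSubnormal)
    (hn : Group.IsNilpotent U) : U ≤ Cfsg.fittingSubgroup G := by
  refine le_trans ?_ (fitting_subnormal_map_le hU)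
  haveI : Group.IsNilpotent (⊤ : Subgroup U) :=
    haveI := hn
    inferInstance
  intro x hx
  exact ⟨⟨x, hx⟩, CfsgLib.Solv.le_fittingSubgroup (N := ⊤) inferInstance trivial, rfl⟩

/-! ### The layer -/

theorem component_le_layer {K : Subgroup G} (hK : Cfsg.IsComponent K) : K ≤ Cfsg.layer G :=
  le_sSup hK

theorem layer_map_le {H : Type*} [Group H] (e : G ≃* H) :
    (Cfsg.layer G).map e.toMonoidHom ≤ Cfsg.layer H := by
  refine Subgroup.map_le_iff_le_comap.2 (sSup_le fun K hK => ?_)
  rw [← Subgroup.map_le_iff_le_comap]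
  exact component_le_layer (isComponent_map e hK)

theorem layer_characteristic : (Cfsg.layer G).Characteristic :=
  Subgroup.characteristic_iff_map_le.2 fun e => layer_map_le e

theorem layer_normal : (Cfsg.layer G).Normal :=
  haveI := layer_characteristic (G := G)
  inferInstance

theorem layer_perfect : ⁅Cfsg.layer G, Cfsg.layer G⁆ = Cfsg.layer G := by
  haveI := layer_normal (G := G)
  refine le_antisymm (Subgroup.commutator_le_left _ _) ?_
  refine sSup_le fun K hK => ?_
  rw [← component_commutator hK]
  exact Subgroup.commutator_mono (component_le_layer hK) (component_le_layer hK)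

theorem layer_eq_bot_iff : Cfsg.layer G = ⊥ ↔ ∀ K : Subgroup G, ¬ Cfsg.IsComponent K :=
  ⟨fun h _ hK => component_ne_bot hK (le_bot_iff.1 (h ▸ component_le_layer hK)),
    fun h => le_bot_iff.1 (sSup_le fun K hK => absurd hK (h K))⟩

theorem layer_le_centralizer_of_solvable [Finite G] {U : Subgroup G} (hU : U.IsSubnormal)
    (hs : Group.IsSolvable U) : Cfsg.layer G ≤ Subgroup.centralizer (U : Set G) :=
  sSup_le fun _ hK => Subgroup.commutator_eq_bot_iff_le_centralizer.1
    (component_commute_solvable hK hU hs)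

theorem layer_eq_bot_of_solvable [Group.IsSolvable G] : Cfsg.layer G = ⊥ := by
  rw [layer_eq_bot_iff]
  exact fun K hK => component_not_solvable hK inferInstance

theorem layer_commute_fitting [Finite G] : ⁅Cfsg.layer G, Cfsg.fittingSubgroup G⁆ = ⊥ := by
  haveI := fitting_nilpotent (G := G)
  exact Subgroup.commutator_eq_bot_iff_le_centralizer.2 (layer_le_centralizer_of_solvable
    (CfsgLib.Solv.fittingSubgroup_normal G).isSubnormal inferInstance)

theorem component_normal_in_layer [Finite G] {K : Subgroup G} (hK : Cfsg.IsComponent K) :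
    Cfsg.layer G ≤ Subgroup.normalizer (K : Set G) := by
  refine sSup_le fun L hL => ?_
  by_cases h : L = K
  · exact h ▸ Subgroup.le_normalizer
  · exact (Subgroup.commutator_eq_bot_iff_le_centralizer.1 (components_commute hL hK h)).trans
      (Subgroup.centralizer_le_normalizer (K : Set G))

theorem layer_map_subtype_le {H : Subgroup G} (hH : H.IsSubnormal) :
    (Cfsg.layer H).map H.subtype ≤ Cfsg.layer G := by
  refine Subgroup.map_le_iff_le_comap.2 (sSup_le fun L hL => ?_)
  rw [← Subgroup.map_le_iff_le_comap]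
  exact component_le_layer (isComponent_map_subtype hH hL)

/-! ### The generalized Fitting subgroup -/

theorem layer_le_genFitting : Cfsg.layer G ≤ Cfsg.generalizedFittingSubgroup G := le_sup_left

theorem fitting_le_genFitting : Cfsg.fittingSubgroup G ≤ Cfsg.generalizedFittingSubgroup G :=
  le_sup_right

theorem genFitting_characteristic : (Cfsg.generalizedFittingSubgroup G).Characteristic := by
  rw [Subgroup.characteristic_iff_map_le]
  intro e
  rw [Cfsg.generalizedFittingSubgroup, Subgroup.map_sup]
  exact sup_le_sup (layer_map_le e)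
    (Subgroup.characteristic_iff_map_le.1 fitting_characteristic e)

theorem genFitting_normal : (Cfsg.generalizedFittingSubgroup G).Normal :=
  haveI := genFitting_characteristic (G := G)
  inferInstance

theorem isComponent_or_center_of_minimal [Finite G] {T Z : Subgroup G} (hT : T.IsSubnormal)
    (hTZ : ¬ T ≤ Z) (hZn : Z.Normal) (hZc : ∀ z ∈ Z, ∀ t ∈ T, z * t = t * z)
    (hmin : ∀ U : Subgroup G, U.IsSubnormal → U < T → U ≤ Z) :
    Group.IsNilpotent T ∨ Cfsg.IsComponent T := by
  have hproper : ∀ N : Subgroup T, N.Normal → N ≠ ⊤ → N.map T.subtype ≤ Z := by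
    intro N hN hne
    refine hmin _ (hN.isSubnormal.trans' hT) (lt_of_le_of_ne (Subgroup.map_subtype_le N) fun h => hne ?_)
    rw [← Subgroup.map_subtype_inj]
    rw [h, ← MonoidHom.range_eq_map, Subgroup.range_subtype]
  have hZcenter : ∀ x : T, (x : G) ∈ Z → x ∈ Subgroup.center T := fun x hx =>
    Subgroup.mem_center_iff.2 fun y => Subtype.ext (hZc _ hx _ y.2).symm
  by_cases hperf : commutator T = ⊤
  · refine .inr ⟨hT, ⟨hperf⟩, ?_⟩
    have hc : Subgroup.center T ≠ ⊤ := by
      intro h
      refine hTZ ?_
      haveI : Group.IsPerfect T := ⟨hperf⟩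
      haveI : IsMulCommutative T :=
        ⟨⟨fun a b => (Subgroup.mem_center_iff.1 (h.symm ▸ Subgroup.mem_top a) b).symm⟩⟩
      haveI : Subsingleton T := Group.IsPerfect.subsingleton_of_isMulCommutative
      intro x hx
      rw [show x = 1 from congrArg Subtype.val (Subsingleton.elim (⟨x, hx⟩ : T) 1)]
      exact one_mem Z
    haveI : Nontrivial (T ⧸ Subgroup.center T) := QuotientGroup.nontrivial_iff.2 hc
    refine ⟨fun N hN => ?_⟩
    by_cases hne : N.comap (QuotientGroup.mk' (Subgroup.center T)) = ⊤
    · right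
      rw [eq_top_iff]
      intro q _
      obtain ⟨x, rfl⟩ := QuotientGroup.mk_surjective q
      exact (hne.symm ▸ Subgroup.mem_top x : x ∈ N.comap (QuotientGroup.mk' (Subgroup.center T)))
    · left
      have h1 : N.comap (QuotientGroup.mk' (Subgroup.center T)) ≤ Subgroup.center T := fun x hx =>
        hZcenter x (hproper _ (hN.comap _) hne ⟨x, hx, rfl⟩)
      rw [eq_bot_iff]
      intro q hq
      obtain ⟨x, rfl⟩ := QuotientGroup.mk_surjective q
      exact (QuotientGroup.eq_one_iff x).2 (h1 hq)
  · left
    have h1 : commutator T ≤ Subgroup.center T := fun x hx =>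
      hZcenter x (hproper _ inferInstance hperf ⟨x, hx, rfl⟩)
    haveI : IsMulCommutative (T ⧸ Subgroup.center T) := by
      refine ⟨⟨fun a b => ?_⟩⟩
      obtain ⟨a, rfl⟩ := QuotientGroup.mk_surjective a
      obtain ⟨b, rfl⟩ := QuotientGroup.mk_surjective b
      rw [← QuotientGroup.mk_mul, ← QuotientGroup.mk_mul, QuotientGroup.eq]
      refine h1 ?_
      have : (a * b)⁻¹ * (b * a) = ⁅b⁻¹, a⁻¹⁆ := by rw [commutatorElement_def]; group
      rw [this]
      exact Subgroup.commutator_mem_commutator (Subgroup.mem_top _) (Subgroup.mem_top _)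
    exact Subgroup.isNilpotent_of_ker_le_center (QuotientGroup.mk' (Subgroup.center T))
      (by rw [QuotientGroup.ker_mk'])

/-- The generalized Fitting subgroup contains its centralizer. -/
theorem centralizer_genFitting_le [Finite G] :
    Subgroup.centralizer (Cfsg.generalizedFittingSubgroup G : Set G) ≤
      Cfsg.generalizedFittingSubgroup G := by
  set F := Cfsg.generalizedFittingSubgroup G with hF
  haveI := genFitting_normal (G := G)
  set C := Subgroup.centralizer (F : Set G) with hC
  haveI : C.Normal := by rw [hC, hF]; infer_instance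
  by_contra hne
  let S : Set (Subgroup G) := {U | U.IsSubnormal ∧ U ≤ C ∧ ¬ U ≤ C ⊓ F}
  have hS : S.Nonempty :=
    ⟨C, (inferInstance : C.Normal).isSubnormal, le_rfl, fun h => hne (h.trans inf_le_right)⟩
  obtain ⟨T, hT⟩ := S.toFinite.exists_minimal hS
  obtain ⟨⟨hTsn, hTC, hTZ⟩, hmin⟩ := hT
  refine hTZ (le_inf hTC ?_)
  rcases isComponent_or_center_of_minimal hTsn hTZ (inferInstance : (C ⊓ F).Normal)
    (fun z hz t ht => Subgroup.mem_centralizer_iff.1 (hTC ht) z hz.2)
    (fun U hU hUT => by
      by_contra hUZ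
      exact hUT.not_ge (hmin ⟨hU, hUT.le.trans hTC, hUZ⟩ hUT.le)) with h | h
  · exact (subnormal_le_fitting hTsn h).trans fitting_le_genFitting
  · exact (component_le_layer h).trans layer_le_genFitting

end CfsgLib.Inv
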