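import Cfsg.Prelude.Def_Amalgam
import Cfsg.Agent.Solv.Basic
import Mathlib.Tactic

/-!
Basic properties of the coset graph of a pair of subgroups (amalgam method).
-/

set_option autoImplicit false

namespace CfsgLib.Inv.Coset

variable {X : Type*} [Group X] {M₁ M₂ : Subgroup X}

open Cfsg

theorem adj_iff (δ μ : CosetVertex M₁ M₂) :
    (cosetGraph M₁ M₂).Adj δ μ ↔ ∃ x : X, (δ = Sum.inl (x : X ⧸ M₁) ∧ μ = Sum.inr (x : X ⧸ M₂)) ∨
      (μ = Sum.inl (x : X ⧸ M₁) ∧ δ = Sum.inr (x : X ⧸ M₂)) := by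
  rw [cosetGraph, SimpleGraph.fromRel_adj]
  constructor
  · rintro ⟨-, ⟨x, hx⟩ | ⟨x, hx⟩⟩
    · exact ⟨x, Or.inl hx⟩
    · exact ⟨x, Or.inr hx⟩
  · rintro ⟨x, ⟨rfl, rfl⟩ | ⟨rfl, rfl⟩⟩
    · exact ⟨Sum.inl_ne_inr, Or.inl ⟨x, rfl, rfl⟩⟩
    · exact ⟨Sum.inr_ne_inl, Or.inr ⟨x, rfl, rfl⟩⟩

theorem adj_mk (x : X) :
    (cosetGraph M₁ M₂).Adj (Sum.inl (x : X ⧸ M₁)) (Sum.inr (x : X ⧸ M₂)) :=
  (adj_iff _ _).2 ⟨x, Or.inl ⟨rfl, rfl⟩⟩

theorem smul_inl (g x : X) :
    g • (Sum.inl (x : X ⧸ M₁) : CosetVertex M₁ M₂) = Sum.inl ((g * x : X) : X ⧸ M₁) := rfl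

theorem smul_inr (g x : X) :
    g • (Sum.inr (x : X ⧸ M₂) : CosetVertex M₁ M₂) = Sum.inr ((g * x : X) : X ⧸ M₂) := rfl

theorem adj_smul (g : X) {δ μ : CosetVertex M₁ M₂} (h : (cosetGraph M₁ M₂).Adj δ μ) :
    (cosetGraph M₁ M₂).Adj (g • δ) (g • μ) := by
  obtain ⟨x, ⟨rfl, rfl⟩ | ⟨rfl, rfl⟩⟩ := (adj_iff _ _).1 h
  · exact adj_mk (g * x)
  · exact (adj_mk (g * x)).symm

theorem stab_inl (x : X) :
    MulAction.stabilizer X (Sum.inl (x : X ⧸ M₁) : CosetVertex M₁ M₂) =
      M₁.map (MulAut.conj x).toMonoidHom := by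
  ext g
  rw [MulAction.mem_stabilizer_iff, smul_inl, CfsgLib.Solv.mem_map_conj_iff, Sum.inl.injEq, eq_comm,
    QuotientGroup.eq, mul_assoc]

theorem stab_inr (x : X) :
    MulAction.stabilizer X (Sum.inr (x : X ⧸ M₂) : CosetVertex M₁ M₂) =
      M₂.map (MulAut.conj x).toMonoidHom := by
  ext g
  rw [MulAction.mem_stabilizer_iff, smul_inr, CfsgLib.Solv.mem_map_conj_iff, Sum.inr.injEq, eq_comm,
    QuotientGroup.eq, mul_assoc]

theorem edge_mk (x : X) :
    edgeStabilizer (Sum.inl (x : X ⧸ M₁) : CosetVertex M₁ M₂) (Sum.inr (x : X ⧸ M₂)) =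
      (M₁ ⊓ M₂).map (MulAut.conj x).toMonoidHom := by
  show MulAction.stabilizer X (Sum.inl (x : X ⧸ M₁) : CosetVertex M₁ M₂) ⊓
      MulAction.stabilizer X (Sum.inr (x : X ⧸ M₂) : CosetVertex M₁ M₂) = _
  rw [stab_inl, stab_inr, Subgroup.map_inf _ _ _ (MulAut.conj x).injective]

theorem edge_comm (δ μ : CosetVertex M₁ M₂) : edgeStabilizer δ μ = edgeStabilizer μ δ :=
  inf_comm _ _

theorem adj_edge {δ μ : CosetVertex M₁ M₂} (h : (cosetGraph M₁ M₂).Adj δ μ) :
    ∃ x : X, edgeStabilizer δ μ = (M₁ ⊓ M₂).map (MulAut.conj x).toMonoidHom := by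
  obtain ⟨x, ⟨rfl, rfl⟩ | ⟨rfl, rfl⟩⟩ := (adj_iff _ _).1 h
  · exact ⟨x, edge_mk x⟩
  · exact ⟨x, (edge_comm _ _).trans (edge_mk x)⟩

theorem exists_adj (δ : CosetVertex M₁ M₂) : ∃ μ, (cosetGraph M₁ M₂).Adj δ μ := by
  rcases δ with a | a
  · induction a using QuotientGroup.induction_on with
    | H x => exact ⟨_, adj_mk x⟩
  · induction a using QuotientGroup.induction_on with
    | H x => exact ⟨_, (adj_mk x).symm⟩

/-- A vertex stabilizer is transitive on the neighbours of its vertex. -/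
theorem stab_transitive {δ μ μ' : CosetVertex M₁ M₂} (hμ : (cosetGraph M₁ M₂).Adj δ μ)
    (hμ' : (cosetGraph M₁ M₂).Adj δ μ') : ∃ g ∈ MulAction.stabilizer X δ, g • μ = μ' := by
  obtain ⟨x, ⟨hδ, rfl⟩ | ⟨rfl, hδ⟩⟩ := (adj_iff _ _).1 hμ
  · obtain ⟨y, ⟨hδ', rfl⟩ | ⟨rfl, hδ'⟩⟩ := (adj_iff _ _).1 hμ'
    · refine ⟨y * x⁻¹, ?_, ?_⟩
      · rw [MulAction.mem_stabilizer_iff, hδ, smul_inl, inv_mul_cancel_right, ← hδ', hδ]
      · rw [smul_inr, inv_mul_cancel_right]
    · exact absurd (hδ.symm.trans hδ') Sum.inl_ne_inr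
  · obtain ⟨y, ⟨hδ', rfl⟩ | ⟨rfl, hδ'⟩⟩ := (adj_iff _ _).1 hμ'
    · exact absurd (hδ.symm.trans hδ') Sum.inr_ne_inl
    · refine ⟨y * x⁻¹, ?_, ?_⟩
      · rw [MulAction.mem_stabilizer_iff, hδ, smul_inr, inv_mul_cancel_right, ← hδ', hδ]
      · rw [smul_inl, inv_mul_cancel_right]

theorem connected (hgen : M₁ ⊔ M₂ = ⊤) : (cosetGraph M₁ M₂).Connected := by
  let v : CosetVertex M₁ M₂ := Sum.inl ((1 : X) : X ⧸ M₁)
  have step : ∀ x : X, ∀ m ∈ M₁ ⊔ M₂,
      (cosetGraph M₁ M₂).Reachable (Sum.inl (x : X ⧸ M₁)) (Sum.inl ((x * m : X) : X ⧸ M₁)) := by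
    intro x m hm
    rw [Subgroup.sup_eq_closure] at hm
    induction hm using Subgroup.closure_induction generalizing x with
    | mem m hm =>
      rcases hm with h | h
      · rw [QuotientGroup.mk_mul_of_mem x h]
      · refine (adj_mk x).reachable.trans ?_
        rw [← QuotientGroup.mk_mul_of_mem (s := M₂) x h]
        exact (adj_mk (x * m)).symm.reachable
    | one => rw [mul_one]
    | mul a b _ _ ha hb =>
      refine (ha x).trans ?_
      rw [← mul_assoc]
      exact hb (x * a)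
    | inv a _ ha =>
      have := ha (x * a⁻¹)
      rw [inv_mul_cancel_right] at this
      exact this.symm
  have key : ∀ w : CosetVertex M₁ M₂, (cosetGraph M₁ M₂).Reachable v w := by
    intro w
    have hl : ∀ x : X, (cosetGraph M₁ M₂).Reachable v (Sum.inl (x : X ⧸ M₁)) := fun x => by
      simpa [v] using step 1 x (by rw [hgen]; exact Subgroup.mem_top _)
    rcases w with a | a
    · induction a using QuotientGroup.induction_on with
      | H x => exact hl x
    · induction a using QuotientGroup.induction_on with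
      | H x => exact (hl x).trans (adj_mk x).reachable
  exact ⟨fun a b => (key a).symm.trans (key b)⟩

theorem faithful_eq_one (h : ∀ N : Subgroup X, N ≤ M₁ ⊓ M₂ → N.Normal → N = ⊥) {g : X}
    (hg : ∀ v : CosetVertex M₁ M₂, g • v = v) : g = 1 := by
  have hk := h (MulAction.toPermHom X (CosetVertex M₁ M₂)).ker (fun k hk => ?_) inferInstance
  · have hmem : g ∈ (MulAction.toPermHom X (CosetVertex M₁ M₂)).ker :=
      MonoidHom.mem_ker.2 (Equiv.ext fun v => hg v)
    rw [hk] at hmem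
    exact Subgroup.mem_bot.1 hmem
  · have hk' : ∀ v : CosetVertex M₁ M₂, k • v = v := fun v =>
      Equiv.congr_fun (MonoidHom.mem_ker.1 hk) v
    have h1 : (Sum.inl ((k * 1 : X) : X ⧸ M₁) : CosetVertex M₁ M₂) = Sum.inl ((1 : X) : X ⧸ M₁) :=
      hk' (Sum.inl ((1 : X) : X ⧸ M₁))
    have h2 : (Sum.inr ((k * 1 : X) : X ⧸ M₂) : CosetVertex M₁ M₂) = Sum.inr ((1 : X) : X ⧸ M₂) :=
      hk' (Sum.inr ((1 : X) : X ⧸ M₂))
    rw [Sum.inl.injEq, QuotientGroup.eq] at h1
    rw [Sum.inr.injEq, QuotientGroup.eq] at h2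
    simp only [mul_one, inv_mem_iff] at h1 h2
    exact Subgroup.mem_inf.2 ⟨h1, h2⟩

/-- A subgroup fixing an edge whose normalizer is edge-transitive at both ends is trivial. -/
theorem eq_bot_of_local_transitive (h : IsAmalgamPair M₁ M₂) {δ μ : CosetVertex M₁ M₂}
    (hμ : (cosetGraph M₁ M₂).Adj δ μ) {T : Subgroup X} (hT : T ≤ edgeStabilizer δ μ)
    (hδ : ∀ ν ν' : CosetVertex M₁ M₂, (cosetGraph M₁ M₂).Adj δ ν → (cosetGraph M₁ M₂).Adj δ ν' →
      ∃ g ∈ Subgroup.normalizer (T : Set X) ⊓ MulAction.stabilizer X δ, g • ν = ν')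
    (hμ' : ∀ ν ν' : CosetVertex M₁ M₂, (cosetGraph M₁ M₂).Adj μ ν → (cosetGraph M₁ M₂).Adj μ ν' →
      ∃ g ∈ Subgroup.normalizer (T : Set X) ⊓ MulAction.stabilizer X μ, g • ν = ν') : T = ⊥ := by
  let W : Set (CosetVertex M₁ M₂) :=
    {w | ∃ g ∈ Subgroup.normalizer (T : Set X), w = g • δ ∨ w = g • μ}
  have hW : ∀ a b : CosetVertex M₁ M₂, a ∈ W → (cosetGraph M₁ M₂).Adj a b → b ∈ W := by
    rintro a b ⟨g, hg, rfl | rfl⟩ hab
    · have := adj_smul g⁻¹ hab
      rw [inv_smul_smul] at this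
      obtain ⟨k, hk, hkμ⟩ := hδ μ (g⁻¹ • b) hμ this
      exact ⟨g * k, mul_mem hg (Subgroup.mem_inf.1 hk).1, Or.inr (by rw [mul_smul, hkμ, smul_inv_smul])⟩
    · have := adj_smul g⁻¹ hab
      rw [inv_smul_smul] at this
      obtain ⟨k, hk, hkμ⟩ := hμ' δ (g⁻¹ • b) hμ.symm this
      exact ⟨g * k, mul_mem hg (Subgroup.mem_inf.1 hk).1, Or.inl (by rw [mul_smul, hkμ, smul_inv_smul])⟩
  have hall : ∀ w, w ∈ W := by
    intro w
    obtain ⟨p⟩ := (connected h.1).preconnected δ w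
    have : ∀ a b : CosetVertex M₁ M₂, (cosetGraph M₁ M₂).Walk a b → a ∈ W → b ∈ W := by
      intro a b p
      induction p with
      | nil => exact fun hh => hh
      | cons hab _ ih => exact fun hh => ih (hW _ _ hh hab)
    exact this δ w p ⟨1, one_mem _, Or.inl (one_smul _ _).symm⟩
  rw [Subgroup.eq_bot_iff_forall]
  intro t ht
  refine faithful_eq_one h.2.2.2 fun w => ?_
  obtain ⟨g, hg, hw⟩ := hall w
  have ht' : g⁻¹ * t * g ∈ T := (Subgroup.mem_normalizer_iff''.1 hg t).1 ht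
  obtain ⟨h1, h2⟩ := Subgroup.mem_inf.1 (hT ht')
  rw [MulAction.mem_stabilizer_iff, mul_smul, mul_smul, inv_smul_eq_iff] at h1 h2
  rcases hw with rfl | rfl
  · exact h1
  · exact h2

section CharP

variable {p : ℕ}

theorem finite_stab (h : IsCharPAmalgamPair p M₁ M₂) (δ : CosetVertex M₁ M₂) :
    Finite (MulAction.stabilizer X δ) := by
  haveI := h.2.1
  haveI := h.2.2.1
  rcases δ with a | a
  · induction a using QuotientGroup.induction_on with
    | H x =>
      rw [stab_inl]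
      exact Finite.of_equiv _ (M₁.equivMapOfInjective _ (MulAut.conj x).injective).toEquiv
  · induction a using QuotientGroup.induction_on with
    | H x =>
      rw [stab_inr]
      exact Finite.of_equiv _ (M₂.equivMapOfInjective _ (MulAut.conj x).injective).toEquiv

theorem charP_equiv {A B : Type*} [Group A] [Group B] (e : A ≃* B)
    (h : Subgroup.centralizer (pCore p A : Set A) ≤ pCore p A) :
    Subgroup.centralizer (pCore p B : Set B) ≤ pCore p B := by
  rw [← CfsgLib.Solv.map_pCore_equiv e]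
  intro b hb
  obtain ⟨a, rfl⟩ := e.surjective b
  refine Subgroup.mem_map.2 ⟨a, h (Subgroup.mem_centralizer_iff.2 fun c hc => ?_), rfl⟩
  apply e.injective
  rw [map_mul, map_mul]
  exact Subgroup.mem_centralizer_iff.1 hb (e c) (Subgroup.mem_map.2 ⟨c, hc, rfl⟩)

theorem charP_stab (h : IsCharPAmalgamPair p M₁ M₂) (δ : CosetVertex M₁ M₂) :
    Subgroup.centralizer (pCore p ↥(MulAction.stabilizer X δ) : Set ↥(MulAction.stabilizer X δ)) ≤
      pCore p ↥(MulAction.stabilizer X δ) := by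
  rcases δ with a | a
  · induction a using QuotientGroup.induction_on with
    | H x =>
      exact charP_equiv ((M₁.equivMapOfInjective _ (MulAut.conj x).injective).trans
        (MulEquiv.subgroupCongr (stab_inl (M₂ := M₂) x).symm)) h.2.2.2.2.2.2.1
  · induction a using QuotientGroup.induction_on with
    | H x =>
      exact charP_equiv ((M₂.equivMapOfInjective _ (MulAut.conj x).injective).trans
        (MulEquiv.subgroupCongr (stab_inr (M₁ := M₁) x).symm)) h.2.2.2.2.2.2.2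

variable [hp : Fact p.Prime]

theorem edge_factorization (h : IsCharPAmalgamPair p M₁ M₂) {δ μ : CosetVertex M₁ M₂}
    (hμ : (cosetGraph M₁ M₂).Adj δ μ) :
    (Nat.card ↥(edgeStabilizer δ μ)).factorization p =
      (Nat.card ↥(MulAction.stabilizer X δ)).factorization p := by
  haveI := h.2.1
  haveI := h.2.2.1
  haveI : Finite ↥(M₁ ⊓ M₂) :=
    Finite.of_injective (Subgroup.inclusion inf_le_left) (Subgroup.inclusion_injective _)
  obtain ⟨S⟩ : Nonempty (Sylow p ↥(M₁ ⊓ M₂)) := inferInstance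
  obtain ⟨P₁⟩ : Nonempty (Sylow p M₁) := inferInstance
  obtain ⟨P₂⟩ : Nonempty (Sylow p M₂) := inferInstance
  obtain ⟨h1, h2⟩ := h.2.2.2.2.2.1 S P₁ P₂
  rw [Sylow.card_eq_multiplicity, Sylow.card_eq_multiplicity] at h1 h2
  have h1' := Nat.pow_right_injective hp.out.two_le h1
  have h2' := Nat.pow_right_injective hp.out.two_le h2
  have hc : ∀ (x : X) (K : Subgroup X), Nat.card (K.map (MulAut.conj x).toMonoidHom) = Nat.card K :=
    fun x K => (Nat.card_congr (K.equivMapOfInjective _ (MulAut.conj x).injective).toEquiv).symm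
  obtain ⟨x, ⟨rfl, rfl⟩ | ⟨rfl, rfl⟩⟩ := (adj_iff _ _).1 hμ
  · rw [edge_mk, stab_inl, hc, hc, h1']
  · rw [edge_comm, edge_mk, stab_inr, hc, hc, h2']

/-- A Sylow subgroup of an edge stabilizer is a Sylow subgroup of either vertex stabilizer. -/
theorem edge_sylow (h : IsCharPAmalgamPair p M₁ M₂) {δ μ : CosetVertex M₁ M₂}
    (hμ : (cosetGraph M₁ M₂).Adj δ μ) (S : Sylow p ↥(edgeStabilizer δ μ)) :
    ∃ P : Sylow p ↥(MulAction.stabilizer X δ),
      (P : Subgroup ↥(MulAction.stabilizer X δ)).map (MulAction.stabilizer X δ).subtype =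
        (S : Subgroup ↥(edgeStabilizer δ μ)).map (edgeStabilizer δ μ).subtype := by
  haveI := finite_stab h δ
  have hle : edgeStabilizer δ μ ≤ MulAction.stabilizer X δ := inf_le_left
  haveI : Finite ↥(edgeStabilizer δ μ) :=
    Finite.of_injective (Subgroup.inclusion hle) (Subgroup.inclusion_injective _)
  refine ⟨Sylow.ofCard ((S : Subgroup ↥(edgeStabilizer δ μ)).map (Subgroup.inclusion hle)) ?_, ?_⟩
  · rw [Nat.card_congr ((S : Subgroup ↥(edgeStabilizer δ μ)).equivMapOfInjective _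
      (Subgroup.inclusion_injective hle)).symm.toEquiv, ← edge_factorization h hμ]
    exact S.card_eq_multiplicity
  · rw [Sylow.coe_ofCard, Subgroup.map_map]
    rfl

theorem vertexQ_le_edge (h : IsCharPAmalgamPair p M₁ M₂) {δ μ : CosetVertex M₁ M₂}
    (hμ : (cosetGraph M₁ M₂).Adj δ μ) : vertexQ p δ ≤ edgeStabilizer δ μ := by
  haveI := finite_stab h δ
  haveI : Finite ↥(edgeStabilizer δ μ) :=
    Finite.of_injective (Subgroup.inclusion (inf_le_left : edgeStabilizer δ μ ≤ _))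
      (Subgroup.inclusion_injective _)
  obtain ⟨S⟩ : Nonempty (Sylow p ↥(edgeStabilizer δ μ)) := inferInstance
  obtain ⟨P, hP⟩ := edge_sylow h hμ S
  refine (Subgroup.map_mono (CfsgLib.Solv.pCore_le_sylow P)).trans ?_
  rw [hP]
  exact Subgroup.map_subtype_le _

theorem vertexQ_le_kernel (h : IsCharPAmalgamPair p M₁ M₂) (δ : CosetVertex M₁ M₂) :
    vertexQ p δ ≤ neighbourKernel δ :=
  le_inf (Subgroup.map_subtype_le _) (le_iInf₂ fun _ hμ => (vertexQ_le_edge h hμ).trans inf_le_right)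

end CharP

section Center

variable {p : ℕ}

theorem omegaOne_map {A B : Type*} [Group A] [Group B] (f : A →* B) (hf : Function.Injective f)
    (H : Subgroup A) : omegaOne p (H.map f) = (omegaOne p H).map f := by
  rw [omegaOne, omegaOne, MonoidHom.map_closure]
  congr 1
  ext b
  constructor
  · rintro ⟨⟨a, ha, rfl⟩, hb⟩
    exact ⟨a, ⟨ha, hf (by rw [map_pow, map_one]; exact hb)⟩, rfl⟩
  · rintro ⟨a, ⟨ha, hpow⟩, rfl⟩
    exact ⟨⟨a, ha, rfl⟩, by rw [← map_pow, hpow, map_one]⟩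

theorem omegaOne_le (H : Subgroup X) : omegaOne p H ≤ H :=
  (Subgroup.closure_le _).2 fun _ hx => hx.1

theorem centralPart_map (g : X) (T : Subgroup X) :
    (T ⊓ Subgroup.centralizer (T : Set X)).map (MulAut.conj g).toMonoidHom =
      T.map (MulAut.conj g).toMonoidHom ⊓
        Subgroup.centralizer ((T.map (MulAut.conj g).toMonoidHom : Subgroup X) : Set X) := by
  ext a
  simp only [CfsgLib.Solv.mem_map_conj_iff, Subgroup.mem_inf, Subgroup.mem_centralizer_iff,
    SetLike.mem_coe]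
  refine and_congr_right fun _ => ⟨fun h t ht => ?_, fun h t ht => ?_⟩
  · calc t * a = g * (g⁻¹ * t * g * (g⁻¹ * a * g)) * g⁻¹ := by group
      _ = g * (g⁻¹ * a * g * (g⁻¹ * t * g)) * g⁻¹ := by rw [h _ ht]
      _ = a * t := by group
  · have := h (g * t * g⁻¹) (by simpa [mul_assoc] using ht)
    calc t * (g⁻¹ * a * g) = g⁻¹ * (g * t * g⁻¹ * a) * g := by group
      _ = g⁻¹ * (a * (g * t * g⁻¹)) * g := by rw [this]
      _ = g⁻¹ * a * g * t := by group

theorem omegaCenter_map (g : X) (T : Subgroup X) :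
    (omegaOne p (T ⊓ Subgroup.centralizer (T : Set X))).map (MulAut.conj g).toMonoidHom =
      omegaOne p (T.map (MulAut.conj g).toMonoidHom ⊓
        Subgroup.centralizer ((T.map (MulAut.conj g).toMonoidHom : Subgroup X) : Set X)) := by
  rw [← centralPart_map, omegaOne_map _ (MulAut.conj g).injective]

theorem sylow_smul_map {H : Subgroup X} (g : H) (S : Sylow p H) :
    ((g • S : Sylow p H) : Subgroup H).map H.subtype =
      ((S : Subgroup H).map H.subtype).map (MulAut.conj (g : X)).toMonoidHom := by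
  rw [Sylow.coe_subgroup_smul, CfsgLib.Solv.conj_smul_eq_map, Subgroup.map_map, Subgroup.map_map]
  rfl

theorem sylowCenterClosure_normal (H : Subgroup X) :
    H ≤ Subgroup.normalizer (sylowCenterClosure p H : Set X) := by
  rw [CfsgLib.Solv.le_normalizer_iff_forall_conj_mem]
  intro g hg k hk
  have hle : (sylowCenterClosure p H).map (MulAut.conj g).toMonoidHom ≤ sylowCenterClosure p H := by
    rw [sylowCenterClosure, Subgroup.map_iSup]
    refine iSup_le fun S => ?_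
    rw [omegaCenter_map]
    have h2 : ((S : Subgroup H).map H.subtype).map (MulAut.conj g).toMonoidHom =
        (((⟨g, hg⟩ : H) • S : Sylow p H) : Subgroup H).map H.subtype :=
      (sylow_smul_map ⟨g, hg⟩ S).symm
    rw [h2]
    exact le_iSup (fun S : Sylow p H => omegaOne p (((S : Subgroup H).map H.subtype) ⊓
      Subgroup.centralizer (((S : Subgroup H).map H.subtype : Subgroup X) : Set X))) _
  exact hle (Subgroup.mem_map.2 ⟨k, hk, rfl⟩)

variable [hp : Fact p.Prime]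

theorem centralPart_le_pCore {H : Subgroup X} [Finite H]
    (hH : Subgroup.centralizer (pCore p ↥H : Set ↥H) ≤ pCore p ↥H) (S : Sylow p H) :
    (S : Subgroup H).map H.subtype ⊓
      Subgroup.centralizer (((S : Subgroup H).map H.subtype : Subgroup X) : Set X) ≤ pCoreOf p H := by
  intro x hx
  obtain ⟨⟨a, ha, rfl⟩, hc⟩ := Subgroup.mem_inf.1 hx
  refine Subgroup.mem_map.2 ⟨a, hH (Subgroup.mem_centralizer_iff.2 fun c hc' => ?_), rfl⟩
  exact Subtype.ext (Subgroup.mem_centralizer_iff.1 hc c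
    (Subgroup.mem_map.2 ⟨c, CfsgLib.Solv.pCore_le_sylow S hc', rfl⟩))

theorem vertexZ_le_vertexQ (h : IsCharPAmalgamPair p M₁ M₂) (δ : CosetVertex M₁ M₂) :
    vertexZ p δ ≤ vertexQ p δ := by
  haveI := finite_stab h δ
  exact iSup_le fun S => (omegaOne_le _).trans (centralPart_le_pCore (charP_stab h δ) S)

theorem vertexZ_le_kernel_of_lt {δ μ : CosetVertex M₁ M₂}
    (hd : (cosetGraph M₁ M₂).dist δ μ < criticalDistance p M₁ M₂) :
    vertexZ p δ ≤ neighbourKernel μ := by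
  by_contra hc
  exact absurd (Nat.sInf_le ⟨δ, μ, rfl, hc⟩ : criticalDistance p M₁ M₂ ≤ _) (not_le.2 hd)

theorem critical_pos (h : IsCharPAmalgamPair p M₁ M₂) {α α' : CosetVertex M₁ M₂}
    (hc : IsCriticalPair p α α') : 0 < criticalDistance p M₁ M₂ := by
  rw [← hc.2]
  refine (connected h.1.1).pos_dist_of_ne ?_
  rintro rfl
  exact hc.1 ((vertexZ_le_vertexQ h α).trans (vertexQ_le_kernel h α))

theorem kernel_le_stab {δ μ : CosetVertex M₁ M₂} (hμ : (cosetGraph M₁ M₂).Adj δ μ) :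
    neighbourKernel δ ≤ MulAction.stabilizer X μ :=
  inf_le_right.trans (iInf₂_le μ hμ)

theorem exists_step (hgen : M₁ ⊔ M₂ = ⊤) {α α' : CosetVertex M₁ M₂}
    (hd : 0 < (cosetGraph M₁ M₂).dist α α') :
    ∃ β, (cosetGraph M₁ M₂).Adj α β ∧
      (cosetGraph M₁ M₂).dist β α' + 1 = (cosetGraph M₁ M₂).dist α α' := by
  obtain ⟨w, hw⟩ := ((connected hgen).preconnected α α').exists_walk_length_eq_dist
  cases w with
  | nil => simp at hd
  | cons hab w' =>
    refine ⟨_, hab, ?_⟩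
    rw [SimpleGraph.Walk.length_cons] at hw
    have h1 := SimpleGraph.dist_le w'
    rename_i b
    have h3 := (connected hgen).dist_triangle (u := α) (v := b) (w := α')
    have h4 : (cosetGraph M₁ M₂).dist α b ≤ 1 := by
      simpa using SimpleGraph.dist_le hab.toWalk
    omega

theorem critical_stab (h : IsCharPAmalgamPair p M₁ M₂) {α α' : CosetVertex M₁ M₂}
    (hc : IsCriticalPair p α α') :
    vertexZ p α' ≤ MulAction.stabilizer X α ∧ vertexZ p α ≤ MulAction.stabilizer X α' := by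
  have hpos := critical_pos h hc
  have hd : 0 < (cosetGraph M₁ M₂).dist α α' := by rw [hc.2]; exact hpos
  constructor
  · obtain ⟨β, hαβ, hβ⟩ := exists_step h.1.1 hd
    refine (vertexZ_le_kernel_of_lt (μ := β) ?_).trans (kernel_le_stab hαβ.symm)
    rw [SimpleGraph.dist_comm]
    rw [hc.2] at hβ
    omega
  · rw [SimpleGraph.dist_comm] at hd
    obtain ⟨β, hαβ, hβ⟩ := exists_step h.1.1 hd
    refine (vertexZ_le_kernel_of_lt (μ := β) ?_).trans (kernel_le_stab hαβ.symm)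
    have h1 : (cosetGraph M₁ M₂).dist α' α = criticalDistance p M₁ M₂ := by
      rw [SimpleGraph.dist_comm]; exact hc.2
    rw [SimpleGraph.dist_comm]
    omega

theorem spe_normalizer_aux (h : IsSpeAmalgamPair p M₁ M₂) (y : X) (R : Subgroup X)
    (hR : IsPGroup p R) (hle : R ≤ (M₁ ⊓ M₂).map (MulAut.conj y).toMonoidHom)
    (hcard : Nat.card R =
      p ^ (Nat.card ↥((M₁ ⊓ M₂).map (MulAut.conj y).toMonoidHom)).factorization p)
    {n : X} (hn : n ∈ Subgroup.normalizer (R : Set X)) :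
    (n ∈ M₁.map (MulAut.conj y).toMonoidHom → n ∈ M₂.map (MulAut.conj y).toMonoidHom) ∧
      (n ∈ M₂.map (MulAut.conj y).toMonoidHom → n ∈ M₁.map (MulAut.conj y).toMonoidHom) := by
  haveI := h.1.2.1
  haveI : Finite ↥(M₁ ⊓ M₂) :=
    Finite.of_injective (Subgroup.inclusion inf_le_left) (Subgroup.inclusion_injective _)
  set R' : Subgroup X := R.map (MulAut.conj y⁻¹).toMonoidHom with hR'
  have hle' : R' ≤ M₁ ⊓ M₂ := fun x hx => by
    rw [hR', CfsgLib.Solv.mem_map_conj_iff, inv_inv] at hx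
    have := CfsgLib.Solv.mem_map_conj_iff.1 (hle hx)
    simpa [mul_assoc] using this
  have hc : ∀ (x : X) (K : Subgroup X), Nat.card (K.map (MulAut.conj x).toMonoidHom) = Nat.card K :=
    fun x K => CfsgLib.Solv.card_conj_smul x K
  have hcard' : Nat.card ↥(R'.subgroupOf (M₁ ⊓ M₂)) =
      p ^ (Nat.card ↥(M₁ ⊓ M₂)).factorization p := by
    rw [CfsgLib.Solv.card_subgroupOf hle', hR', hc, hcard, hc]
  obtain ⟨hspe, hspe'⟩ := h.2.1 (Sylow.ofCard _ hcard')
  rw [Sylow.coe_ofCard, Subgroup.map_subgroupOf_eq_of_le hle'] at hspe hspe'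
  have hn' : y⁻¹ * n * y ∈ Subgroup.normalizer (R' : Set X) := by
    have h1 := Subgroup.le_normalizer_map (MulAut.conj y⁻¹).toMonoidHom
      (Subgroup.mem_map.2 ⟨n, hn, rfl⟩)
    simpa [hR'] using h1
  simp only [CfsgLib.Solv.mem_map_conj_iff]
  constructor
  · exact fun h1 => (Subgroup.mem_inf.1 (hspe' (Subgroup.mem_inf.2 ⟨h1, hn'⟩))).2
  · intro h2
    have hmem : y⁻¹ * n * y ∈ M₂ ⊓ Subgroup.normalizer (R' : Set X) :=
      Subgroup.mem_inf.2 ⟨h2, hn'⟩
    rw [← hspe] at hmem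
    exact (Subgroup.mem_inf.1 hmem).1

/-- An element of a vertex stabilizer normalizing a Sylow subgroup of an edge stabilizer fixes the
edge. -/
theorem spe_normalizer_fix (h : IsSpeAmalgamPair p M₁ M₂) {a ν : CosetVertex M₁ M₂}
    (hν : (cosetGraph M₁ M₂).Adj a ν) (R : Sylow p ↥(edgeStabilizer a ν))
    {n : X} (hna : n ∈ MulAction.stabilizer X a)
    (hn : n ∈ Subgroup.normalizer
      (((R : Subgroup ↥(edgeStabilizer a ν)).map (edgeStabilizer a ν).subtype : Subgroup X) : Set X)) :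
    n • ν = ν := by
  haveI := finite_stab h.1 a
  haveI : Finite ↥(edgeStabilizer a ν) :=
    Finite.of_injective (Subgroup.inclusion (inf_le_left : edgeStabilizer a ν ≤ _))
      (Subgroup.inclusion_injective _)
  have hR := R.2.map (edgeStabilizer a ν).subtype
  have hle := Subgroup.map_subtype_le (R : Subgroup ↥(edgeStabilizer a ν))
  have hcard : Nat.card ↥((R : Subgroup ↥(edgeStabilizer a ν)).map (edgeStabilizer a ν).subtype) =
      p ^ (Nat.card ↥(edgeStabilizer a ν)).factorization p := by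
    rw [CfsgLib.Solv.card_map_subtype, R.card_eq_multiplicity]
  generalize (R : Subgroup ↥(edgeStabilizer a ν)).map (edgeStabilizer a ν).subtype = R'
    at hR hle hcard hn
  rw [← MulAction.mem_stabilizer_iff]
  obtain ⟨y, ⟨rfl, rfl⟩ | ⟨rfl, rfl⟩⟩ := (adj_iff _ _).1 hν
  · rw [edge_mk] at hle hcard
    rw [stab_inl] at hna
    rw [stab_inr]
    exact (spe_normalizer_aux h y R' hR hle hcard hn).1 hna
  · rw [edge_comm, edge_mk] at hle hcard
    rw [stab_inr] at hna
    rw [stab_inl]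
    exact (spe_normalizer_aux h y R' hR hle hcard hn).2 hna

end Center

end CfsgLib.Inv.Coset
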