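import Cfsg.Prelude.Def_LocalStructure
import Cfsg.Agent.Inv.Component
import Cfsg.Agent.Inv.CharP2
import Cfsg.Agent.Inv.CosetGraph

/-!
Inheritance of characteristic p by centralizers and normalizers of p-subgroups.
-/

set_option autoImplicit false
set_option linter.style.haveILetI false

namespace CfsgLib.Inv

open Cfsg
open scoped commutatorElement

variable {G : Type*} [Group G] {p : ℕ}

theorem charP_of_coprime [Finite G] [hp : Fact p.Prime]
    (h : ∀ x : G, (orderOf x).Coprime p → x ∈ Subgroup.centralizer (pCore p G : Set G) → x = 1) :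
    Subgroup.centralizer (pCore p G : Set G) ≤ pCore p G := by
  haveI := CfsgLib.Solv.pCore_normal G p
  exact CfsgLib.Solv.le_pCore (isPGroup_of_elements fun x hx hxo => h x hxo hx)

theorem genFitting_eq_pCore_iff [Finite G] [hp : Fact p.Prime] :
    generalizedFittingSubgroup G = pCore p G ↔
      Subgroup.centralizer (pCore p G : Set G) ≤ pCore p G := by
  constructor
  · intro h
    rw [← h]; exact centralizer_genFitting_le
  · intro h
    refine le_antisymm (sup_le ?_ ?_) ?_
    · refine sSup_le fun K hK => ?_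
      haveI := CfsgLib.Solv.pCore_normal G p
      have hnil := (CfsgLib.Solv.pCore_isPGroup G p).isNilpotent
      have h1 : ⁅K, pCore p G⁆ = ⊥ :=
        component_commute_solvable hK (CfsgLib.Solv.pCore_normal G p).isSubnormal
          (haveI := hnil; inferInstance)
      have h2 : K ≤ pCore p G := (Subgroup.commutator_eq_bot_iff_le_centralizer.1 h1).trans h
      exact absurd h2 (component_not_le_solvable hK (haveI := hnil; inferInstance))
    · rw [CfsgLib.Solv.fittingSubgroup_eq_iSup_pCore]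
      refine iSup_le fun q => ?_
      rcases eq_or_ne (q : ℕ) p with hq | hq
      · rw [hq]
      · haveI : Fact (Nat.Prime (q : ℕ)) := ⟨q.2⟩
        haveI := CfsgLib.Solv.pCore_normal G p
        haveI := CfsgLib.Solv.pCore_normal G (q : ℕ)
        have hd : Disjoint (pCore (q : ℕ) G) (pCore p G) :=
          IsPGroup.disjoint_of_ne (q : ℕ) p hq _ _ (CfsgLib.Solv.pCore_isPGroup G _) (CfsgLib.Solv.pCore_isPGroup G _)
        have h1 : ⁅pCore (q : ℕ) G, pCore p G⁆ = ⊥ :=
          le_bot_iff.1 ((Subgroup.commutator_le_inf _ _).trans hd.le_bot)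
        exact (Subgroup.commutator_eq_bot_iff_le_centralizer.1 h1).trans h
    · refine le_trans ?_ fitting_le_genFitting
      exact CfsgLib.Solv.pCore_le_fittingSubgroup

theorem genFitting_pgroup_iff [Finite G] [hp : Fact p.Prime] :
    IsPGroup p (generalizedFittingSubgroup G) ↔
      Subgroup.centralizer (pCore p G : Set G) ≤ pCore p G := by
  rw [← genFitting_eq_pCore_iff]
  constructor
  · intro h
    haveI := genFitting_normal (G := G)
    exact le_antisymm (CfsgLib.Solv.le_pCore h)
      (CfsgLib.Solv.pCore_le_fittingSubgroup.trans fitting_le_genFitting)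
  · intro h; rw [h]; exact CfsgLib.Solv.pCore_isPGroup G p

theorem pCoreOf_le [Finite G] [hp : Fact p.Prime] {K L : Subgroup G} (hKL : K ≤ L)
    (hn : L ≤ Subgroup.normalizer (K : Set G)) : pCoreOf p K ≤ pCoreOf p L := by
  haveI : (K.subgroupOf L).Normal := (Subgroup.normal_subgroupOf_iff_le_normalizer hKL).2 hn
  have h := CfsgLib.Solv.map_pCore_subtype_le (p := p) (K.subgroupOf L)
  have e := CfsgLib.Solv.map_pCore_equiv (p := p) (Subgroup.subgroupOfEquivOfLe hKL)
  intro x hx
  obtain ⟨y, hy, rfl⟩ := hx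
  rw [← e] at hy
  obtain ⟨z, hz, rfl⟩ := hy
  exact Subgroup.mem_map.2 ⟨z.1, h (Subgroup.mem_map.2 ⟨z, hz, rfl⟩), rfl⟩

/-- A `p'`-element centralizing `B` and `O_p(C(B))` is trivial if `C(B)` lies in a subgroup `H ≥ B`
of characteristic `p`. -/
theorem centralizer_kill [Finite G] [hp : Fact p.Prime] {H B : Subgroup G}
    (hH : Subgroup.centralizer (pCore p ↥H : Set ↥H) ≤ pCore p ↥H) (hB : IsPGroup p B) (hBH : B ≤ H)
    (hCB : Subgroup.centralizer (B : Set G) ≤ H) {x : G} (hx : (orderOf x).Coprime p)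
    (hxB : x ∈ Subgroup.centralizer (B : Set G))
    (hxQ : x ∈ Subgroup.centralizer (pCoreOf p (Subgroup.centralizer (B : Set G)) : Set G)) : x = 1 := by
  haveI := CfsgLib.Solv.pCore_normal ↥H p
  set R := pCoreOf p H with hR
  have hRp : IsPGroup p R := (CfsgLib.Solv.pCore_isPGroup ↥H p).map _
  have hHR : H ≤ Subgroup.normalizer (R : Set G) := by
    refine le_trans ?_ (Subgroup.le_normalizer_map H.subtype)
    rw [Subgroup.normalizer_eq_top, ← MonoidHom.range_eq_map, Subgroup.range_subtype]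
  set C := Subgroup.centralizer (B : Set G) with hC
  have hCR : R ⊓ C ≤ pCoreOf p C := by
    haveI : ((R ⊓ C).subgroupOf C).Normal :=
      (Subgroup.normal_subgroupOf_iff_le_normalizer inf_le_right).2
        (CfsgLib.Solv.le_normalizer_inf_of_le (hCB.trans hHR) Subgroup.le_normalizer)
    intro y hy
    exact Subgroup.mem_map.2 ⟨⟨y, (Subgroup.mem_inf.1 hy).2⟩,
      CfsgLib.Solv.le_pCore (G := ↥C) (N := (R ⊓ C).subgroupOf C) (hRp.to_le inf_le_left).comap_subtype hy, rfl⟩
  have hcx : ∀ y, Commute y x → ∀ z ∈ Subgroup.zpowers x, Commute y z := by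
    rintro y hy _ ⟨i, rfl⟩; exact hy.zpow_right i
  have hZ := CfsgLib.Solv.thompson_pq (P := B) (Q := Subgroup.zpowers x) hB
    (by rw [Nat.card_zpowers]; exact hx)
    (fun b hb => Subgroup.mem_centralizer_iff.2 fun z hz =>
      (hcx b (Subgroup.mem_centralizer_iff.1 hxB b hb) z hz).symm.eq)
    R hRp (hBH.trans hHR) (Subgroup.zpowers_le.2 (hHR (hCB hxB)))
    (fun r hr => Subgroup.mem_centralizer_iff.2 fun z hz =>
      (hcx r (Subgroup.mem_centralizer_iff.1 hxQ r (hCR hr)) z hz).symm.eq)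
  have hxH : (⟨x, hCB hxB⟩ : ↥H) ∈ pCore p ↥H := by
    refine hH (Subgroup.mem_centralizer_iff.2 fun r hr => Subtype.ext ?_)
    exact Subgroup.mem_centralizer_iff.1 (hZ (Subgroup.mem_zpowers x)) r (Subgroup.mem_map.2 ⟨r, hr, rfl⟩)
  exact eq_one_of_coprime_mem hRp (Subgroup.mem_map.2 ⟨_, hxH, rfl⟩) hx

theorem charP_centralizer [Finite G] [hp : Fact p.Prime] {H B : Subgroup G}
    (hH : Subgroup.centralizer (pCore p ↥H : Set ↥H) ≤ pCore p ↥H) (hB : IsPGroup p B) (hBH : B ≤ H)
    (hCB : Subgroup.centralizer (B : Set G) ≤ H) :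
    Subgroup.centralizer (pCore p ↥(Subgroup.centralizer (B : Set G)) : Set ↥(Subgroup.centralizer (B : Set G))) ≤
      pCore p ↥(Subgroup.centralizer (B : Set G)) := by
  refine charP_of_coprime fun x hxo hxc => Subtype.ext ?_
  rw [← Subgroup.orderOf_coe] at hxo
  refine centralizer_kill hH hB hBH hCB hxo x.2 (Subgroup.mem_centralizer_iff.2 ?_)
  rintro _ ⟨q, hq, rfl⟩
  exact congrArg Subtype.val (Subgroup.mem_centralizer_iff.1 hxc q hq)

theorem charP_normalizer [Finite G] [hp : Fact p.Prime] {H B : Subgroup G}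
    (hH : Subgroup.centralizer (pCore p ↥H : Set ↥H) ≤ pCore p ↥H) (hB : IsPGroup p B) (hBH : B ≤ H)
    (hCB : Subgroup.centralizer (B : Set G) ≤ H) :
    Subgroup.centralizer (pCore p ↥(Subgroup.normalizer (B : Set G)) : Set ↥(Subgroup.normalizer (B : Set G))) ≤
      pCore p ↥(Subgroup.normalizer (B : Set G)) := by
  set N := Subgroup.normalizer (B : Set G) with hN
  refine charP_of_coprime fun x hxo hxc => Subtype.ext ?_
  rw [← Subgroup.orderOf_coe] at hxo
  haveI : (B.subgroupOf N).Normal := Subgroup.normal_in_normalizer (H := B)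
  have hxQ : (x : G) ∈ Subgroup.centralizer (pCoreOf p N : Set G) := by
    refine Subgroup.mem_centralizer_iff.2 ?_
    rintro _ ⟨q, hq, rfl⟩
    exact congrArg Subtype.val (Subgroup.mem_centralizer_iff.1 hxc q hq)
  have hBQ : B ≤ pCoreOf p N := fun b hb => Subgroup.mem_map.2 ⟨⟨b, Subgroup.le_normalizer hb⟩,
    CfsgLib.Solv.le_pCore (G := ↥N) (N := B.subgroupOf N) hB.comap_subtype hb, rfl⟩
  refine centralizer_kill hH hB hBH hCB hxo (Subgroup.centralizer_le hBQ hxQ) ?_
  refine Subgroup.centralizer_le (pCoreOf_le (Subgroup.centralizer_le_normalizer _) ?_) hxQ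
  rw [CfsgLib.Solv.le_normalizer_iff_forall_conj_mem]
  intro n hn c hc
  refine Subgroup.mem_centralizer_iff.2 fun b hb => ?_
  have h1 := Subgroup.mem_centralizer_iff.1 hc _ ((Subgroup.mem_normalizer_iff''.1 hn b).1 hb)
  calc b * (n * c * n⁻¹) = n * (n⁻¹ * b * n * c) * n⁻¹ := by group
    _ = n * (c * (n⁻¹ * b * n)) * n⁻¹ := by rw [h1]
    _ = _ := by group

theorem charP_normal [Finite G] [hp : Fact p.Prime] {K L : Subgroup G} (hKL : K ≤ L)
    (hn : L ≤ Subgroup.normalizer (K : Set G))
    (hL : Subgroup.centralizer (pCore p ↥L : Set ↥L) ≤ pCore p ↥L) :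
    Subgroup.centralizer (pCore p ↥K : Set ↥K) ≤ pCore p ↥K := by
  haveI : (K.subgroupOf L).Normal := (Subgroup.normal_subgroupOf_iff_le_normalizer hKL).2 hn
  exact Coset.charP_equiv (Subgroup.subgroupOfEquivOfLe hKL)
    (charP_sub hL le_rfl fun x hx _ => hx)

theorem charP_subnormal [Finite G] [hp : Fact p.Prime]
    (hG : Subgroup.centralizer (pCore p G : Set G) ≤ pCore p G) {Y : Subgroup G} (hY : Y.IsSubnormal) :
    Subgroup.centralizer (pCore p ↥Y : Set ↥Y) ≤ pCore p ↥Y := by
  induction hY with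
  | top => exact Coset.charP_equiv Subgroup.topEquiv.symm hG
  | step K L hKL _ hn ih =>
    exact charP_normal hKL ((Subgroup.normal_subgroupOf_iff_le_normalizer hKL).1 hn) ih

theorem sylow_subnormal [Finite G] [hp : Fact p.Prime] (T : Sylow p G) {L : Subgroup G}
    (hL : L.IsSubnormal) :
    ∃ P : Sylow p L, (P : Subgroup L).map L.subtype = (T : Subgroup G) ⊓ L := by
  induction hL with
  | top =>
    refine ⟨T.subtype (le_top : (T : Subgroup G) ≤ ⊤), ?_⟩
    rw [Sylow.coe_subtype, Subgroup.map_subgroupOf_eq_of_le le_top, inf_top_eq]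
  | step K L hKL _ hn ih =>
    obtain ⟨P, hP⟩ := ih
    haveI := hn
    obtain ⟨R, hR⟩ := sylow_inf_normal P (K.subgroupOf L)
    have hmap : ((T : Subgroup G) ⊓ K).subgroupOf K =
        (R : Subgroup ↥(K.subgroupOf L)).map (Subgroup.subgroupOfEquivOfLe hKL).toMonoidHom := by
      ext ⟨y, hy⟩
      constructor
      · intro h
        have hT : y ∈ (T : Subgroup G) ⊓ L :=
          Subgroup.mem_inf.2 ⟨(Subgroup.mem_inf.1 (Subgroup.mem_subgroupOf.1 h)).1, hKL hy⟩
        rw [← hP] at hT
        obtain ⟨z, hz, hzy⟩ := hT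
        have hzK : z ∈ (P : Subgroup L) ⊓ K.subgroupOf L := Subgroup.mem_inf.2 ⟨hz, by
          rw [Subgroup.mem_subgroupOf, show (z : G) = y from hzy]; exact hy⟩
        rw [← hR] at hzK
        obtain ⟨w, hw, hwz⟩ := hzK
        refine Subgroup.mem_map.2 ⟨w, hw, Subtype.ext ?_⟩
        exact (congrArg Subtype.val hwz).trans hzy
      · intro h
        obtain ⟨w, hw, hwy⟩ := h
        have hwz : (w : ↥L) ∈ (P : Subgroup L) ⊓ K.subgroupOf L := hR ▸ Subgroup.mem_map.2 ⟨w, hw, rfl⟩
        have hmem : ((w : ↥L) : G) ∈ (T : Subgroup G) ⊓ L :=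
          hP ▸ Subgroup.mem_map.2 ⟨_, (Subgroup.mem_inf.1 hwz).1, rfl⟩
        have e : ((w : ↥L) : G) = y := congrArg Subtype.val hwy
        rw [e] at hmem
        exact Subgroup.mem_subgroupOf.2 (Subgroup.mem_inf.2 ⟨(Subgroup.mem_inf.1 hmem).1, hy⟩)
    refine ⟨R.mapSurjective (f := (Subgroup.subgroupOfEquivOfLe hKL).toMonoidHom)
      (Subgroup.subgroupOfEquivOfLe hKL).surjective, ?_⟩
    refine Eq.trans ?_ (Subgroup.map_subgroupOf_eq_of_le (inf_le_right : (T : Subgroup G) ⊓ K ≤ K))
    rw [hmap]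
    exact congrArg _ (Sylow.coe_mapSurjective _ R)

theorem charP_conj [Finite G] {z g : G}
    (hz : Subgroup.centralizer (pCore p ↥(Subgroup.centralizer ({z} : Set G)) :
        Set ↥(Subgroup.centralizer ({z} : Set G))) ≤ pCore p ↥(Subgroup.centralizer ({z} : Set G))) :
    Subgroup.centralizer (pCore p ↥(Subgroup.centralizer ({g * z * g⁻¹} : Set G)) :
        Set ↥(Subgroup.centralizer ({g * z * g⁻¹} : Set G))) ≤
      pCore p ↥(Subgroup.centralizer ({g * z * g⁻¹} : Set G)) := by
  have e : (Subgroup.centralizer ({z} : Set G)).map (MulAut.conj g).toMonoidHom =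
      Subgroup.centralizer ({g * z * g⁻¹} : Set G) := by
    ext y
    rw [CfsgLib.Solv.mem_map_conj_iff, Subgroup.mem_centralizer_singleton_iff,
      Subgroup.mem_centralizer_singleton_iff]
    constructor
    · intro h
      calc y * (g * z * g⁻¹) = g * (g⁻¹ * y * g * z) * g⁻¹ := by group
        _ = g * (z * (g⁻¹ * y * g)) * g⁻¹ := by rw [h]
        _ = g * z * g⁻¹ * y := by group
    · intro h
      calc g⁻¹ * y * g * z = g⁻¹ * (y * (g * z * g⁻¹)) * g := by group
        _ = g⁻¹ * (g * z * g⁻¹ * y) * g := by rw [h]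
        _ = z * (g⁻¹ * y * g) := by group
  exact Coset.charP_equiv (((Subgroup.centralizer ({z} : Set G)).equivMapOfInjective _
    (MulAut.conj g).injective).trans (MulEquiv.subgroupCongr e)) hz

theorem exists_central_order_p [Finite G] [hp : Fact p.Prime] {X : Subgroup G} (hX : IsPGroup p X)
    (hX1 : X ≠ ⊥) : ∃ z ∈ X, orderOf z = p ∧ ∀ x ∈ X, x * z = z * x := by
  haveI : Nontrivial X := (Subgroup.nontrivial_iff_ne_bot _).2 hX1
  haveI := hX.center_nontrivial
  obtain ⟨k, hk, hc⟩ := (hX.to_subgroup (Subgroup.center X)).nontrivial_iff_card.1 inferInstance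
  obtain ⟨z, hz⟩ := exists_prime_orderOf_dvd_card' (G := Subgroup.center X) p (hc ▸ dvd_pow_self p hk.ne')
  exact ⟨((z : X) : G), (z : X).2, by rw [Subgroup.orderOf_coe, Subgroup.orderOf_coe, hz],
    fun x hx => congrArg Subtype.val (Subgroup.mem_center_iff.1 z.2 ⟨x, hx⟩)⟩

theorem centralizer_singleton_le_normalizer (z : G) :
    Subgroup.centralizer ({z} : Set G) ≤ Subgroup.normalizer (Subgroup.zpowers z : Set G) := by
  refine le_trans ?_ (Subgroup.centralizer_le_normalizer _)
  intro c hc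
  refine Subgroup.mem_centralizer_iff.2 ?_
  rintro _ ⟨i, rfl⟩
  exact (Commute.zpow_left (Subgroup.mem_centralizer_iff.1 hc z (Set.mem_singleton z)) i).eq

/-- A central element of order p in the centre of a Sylow subgroup has centralizer of
characteristic p in a group of parabolic characteristic p. -/
theorem charP_of_parabolic [Finite G] [hp : Fact p.Prime] (hG : IsOfParabolicCharacteristic p G)
    (S : Sylow p G) {z : G} (hzo : z ^ p = 1) (hz1 : z ≠ 1)
    (hzc : (S : Subgroup G) ≤ Subgroup.centralizer ({z} : Set G)) :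
    Subgroup.centralizer (pCore p ↥(Subgroup.centralizer ({z} : Set G)) :
        Set ↥(Subgroup.centralizer ({z} : Set G))) ≤ pCore p ↥(Subgroup.centralizer ({z} : Set G)) := by
  have hzp : IsPGroup p (Subgroup.zpowers z) := pgroup_zpowers_of_order (orderOf_eq_prime hzo hz1)
  have hne : Subgroup.zpowers z ≠ ⊥ := by simpa using hz1
  have hN := hG (Subgroup.zpowers z) hzp hne
    ⟨S, hzc.trans (centralizer_singleton_le_normalizer z)⟩
  refine charP_normal (centralizer_singleton_le_normalizer z) ?_ hN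
  rw [CfsgLib.Solv.le_normalizer_iff_forall_conj_mem]
  intro n hn c hc
  refine Subgroup.mem_centralizer_singleton_iff.2 ?_
  obtain ⟨i, hi⟩ := (Subgroup.mem_normalizer_iff''.1 hn z).1 (Subgroup.mem_zpowers z)
  have hci : c * (n⁻¹ * z * n) = n⁻¹ * z * n * c := by
    rw [← hi]
    exact (Commute.zpow_right (Subgroup.mem_centralizer_singleton_iff.1 hc) i).eq
  calc n * c * n⁻¹ * z = n * (c * (n⁻¹ * z * n)) * n⁻¹ := by group
    _ = n * (n⁻¹ * z * n * c) * n⁻¹ := by rw [hci]
    _ = z * (n * c * n⁻¹) := by group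

end CfsgLib.Inv
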