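import Mathlib.GroupTheory.SpecificGroups.Dihedral
import Mathlib.GroupTheory.OrderOfElement
import Mathlib.Algebra.Group.Subgroup.Basic
import Mathlib.Tactic

/-! Two involutions generate a dihedral group. -/

set_option autoImplicit false

namespace CfsgLib.Inv

variable {G : Type*} [Group G]

theorem invol_iff {t : G} : orderOf t = 2 ↔ t ≠ 1 ∧ t * t = 1 := by
  rw [orderOf_eq_prime_iff]
  simp [pow_two, and_comm]

theorem invol_mul_self {t : G} (ht : orderOf t = 2) : t * t = 1 := (invol_iff.1 ht).2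

theorem invol_ne_one {t : G} (ht : orderOf t = 2) : t ≠ 1 := (invol_iff.1 ht).1

theorem invol_inv {t : G} (ht : orderOf t = 2) : t⁻¹ = t :=
  inv_eq_of_mul_eq_one_right (invol_mul_self ht)

theorem invol_conj {t : G} (ht : orderOf t = 2) (g : G) : orderOf (g * t * g⁻¹) = 2 := by
  rw [← ht]; exact MulEquiv.orderOf_eq (MulAut.conj g) t

theorem conj_zpow_eq {x a : G} (h : x * a * x⁻¹ = a⁻¹) (k : ℤ) :
    x * a ^ k * x⁻¹ = a ^ (-k) := by
  rw [← conj_zpow, h, inv_zpow, zpow_neg]

theorem pair_conj {x y : G} (hx : orderOf x = 2) (hy : orderOf y = 2) :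
    x * (x * y) * x⁻¹ = (x * y)⁻¹ := by
  rw [mul_inv_rev, invol_inv hx, invol_inv hy, ← mul_assoc x x y, invol_mul_self hx, one_mul]

theorem pair_flip {x y : G} (hx : orderOf x = 2) (hy : orderOf y = 2) (k : ℤ) :
    (x * y) ^ k * x = x * (x * y) ^ (-k) := by
  have h := conj_zpow_eq (pair_conj hx hy) (-k)
  rw [neg_neg] at h
  conv_lhs => rw [← h]
  simp

theorem right_eq {x y : G} (hx : orderOf x = 2) : y = x * (x * y) := by
  rw [← mul_assoc, invol_mul_self hx, one_mul]

theorem refl_mul_refl {x y : G} (hx : orderOf x = 2) (hy : orderOf y = 2) (i j : ℤ) :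
    (x * (x * y) ^ i) * (x * (x * y) ^ j) = (x * y) ^ (j - i) := by
  calc (x * (x * y) ^ i) * (x * (x * y) ^ j)
      = x * ((x * y) ^ i * x) * (x * y) ^ j := by group
    _ = x * (x * (x * y) ^ (-i)) * (x * y) ^ j := by rw [pair_flip hx hy]
    _ = (x * x) * ((x * y) ^ (-i) * (x * y) ^ j) := by group
    _ = (x * y) ^ (j - i) := by rw [invol_mul_self hx, one_mul, ← zpow_add]; congr 1; ring

theorem mem_pair_iff {x y : G} (hx : orderOf x = 2) (hy : orderOf y = 2) {d : G} :
    d ∈ Subgroup.closure ({x, y} : Set G) ↔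
      (∃ k : ℤ, d = (x * y) ^ k) ∨ ∃ k : ℤ, d = x * (x * y) ^ k := by
  constructor
  · intro hd
    induction hd using Subgroup.closure_induction with
    | mem z hz =>
      rcases hz with rfl | rfl
      · exact .inr ⟨0, by simp⟩
      · exact .inr ⟨1, by rw [zpow_one]; exact right_eq hx⟩
    | one => exact .inl ⟨0, by simp⟩
    | mul a b _ _ iha ihb =>
      rcases iha with ⟨i, rfl⟩ | ⟨i, rfl⟩ <;> rcases ihb with ⟨j, rfl⟩ | ⟨j, rfl⟩
      · exact .inl ⟨i + j, (zpow_add _ _ _).symm⟩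
      · exact .inr ⟨-i + j, by rw [← mul_assoc, pair_flip hx hy, mul_assoc, ← zpow_add]⟩
      · exact .inr ⟨i + j, by rw [mul_assoc, ← zpow_add]⟩
      · exact .inl ⟨j - i, refl_mul_refl hx hy i j⟩
    | inv a _ iha =>
      rcases iha with ⟨i, rfl⟩ | ⟨i, rfl⟩
      · exact .inl ⟨-i, (zpow_neg _ _).symm⟩
      · refine .inr ⟨i, inv_eq_of_mul_eq_one_right ?_⟩
        rw [refl_mul_refl hx hy, sub_self, zpow_zero]
  · have hxm : x ∈ Subgroup.closure ({x, y} : Set G) := Subgroup.subset_closure (by simp)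
    have hym : y ∈ Subgroup.closure ({x, y} : Set G) := Subgroup.subset_closure (by simp)
    rintro (⟨k, rfl⟩ | ⟨k, rfl⟩)
    · exact zpow_mem (mul_mem hxm hym) _
    · exact mul_mem hxm (zpow_mem (mul_mem hxm hym) _)

theorem left_not_mem_zpowers {x y : G} (hx : orderOf x = 2) (hy : orderOf y = 2) :
    x ∉ Subgroup.zpowers (x * y) := by
  intro h
  obtain ⟨k, hk⟩ := Subgroup.mem_zpowers_iff.1 h
  have hc : Commute x (x * y) := by
    have h0 := (Commute.refl (x * y)).zpow_left k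
    rwa [hk] at h0
  have h2 : (x * y)⁻¹ = x * y := by
    rw [← pair_conj hx hy, hc.eq, mul_inv_cancel_right]
  have h3 : (x * y) ^ (2 : ℤ) = 1 := by
    rw [zpow_two]
    conv_lhs => lhs; rw [← h2]
    exact inv_mul_cancel _
  rcases Int.even_or_odd k with ⟨m, hm⟩ | ⟨m, hm⟩
  · rw [show k = 2 * m by omega, zpow_mul, h3, one_zpow] at hk
    exact invol_ne_one hx hk.symm
  · rw [hm, zpow_add, zpow_mul, h3, one_zpow, one_mul, zpow_one] at hk
    exact invol_ne_one hy (mul_eq_left.1 hk)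

theorem conj_left {x y : G} (hx : orderOf x = 2) (hy : orderOf y = 2) {d : G}
    (hd : d ∈ Subgroup.closure ({x, y} : Set G)) :
    ∃ k : ℤ, d * x * d⁻¹ = x * (x * y) ^ (2 * k) := by
  rcases (mem_pair_iff hx hy).1 hd with ⟨k, rfl⟩ | ⟨k, rfl⟩
  · exact ⟨-k, by rw [← zpow_neg, pair_flip hx hy, mul_assoc, ← zpow_add]; congr 2; ring⟩
  · refine ⟨k, ?_⟩
    calc x * (x * y) ^ k * x * (x * (x * y) ^ k)⁻¹
        = x * ((x * y) ^ k * x) * ((x * y) ^ (-k) * x⁻¹) := by group
      _ = x * (x * (x * y) ^ (-k)) * ((x * y) ^ (-k) * x) := by rw [pair_flip hx hy, invol_inv hx]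
      _ = (x * x) * ((x * y) ^ (-k + -k) * x) := by group
      _ = x * (x * y) ^ (2 * k) := by
          rw [invol_mul_self hx, one_mul, pair_flip hx hy]; congr 2; ring

theorem conj_by_zpow {x y : G} (hx : orderOf x = 2) (hy : orderOf y = 2) (k : ℤ) :
    (x * y) ^ (-k) * x * ((x * y) ^ (-k))⁻¹ = x * (x * y) ^ (2 * k) := by
  rw [← zpow_neg, pair_flip hx hy, mul_assoc, ← zpow_add]; congr 2; ring

/-- Two involutions with product of odd order are conjugate. -/
theorem conj_of_odd {x y : G} (hx : orderOf x = 2) (hy : orderOf y = 2)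
    (hodd : Odd (orderOf (x * y))) :
    ∃ d ∈ Subgroup.closure ({x, y} : Set G), d * x * d⁻¹ = y := by
  obtain ⟨m, hm⟩ := hodd
  refine ⟨(x * y) ^ (-((m : ℤ) + 1)), (mem_pair_iff hx hy).2 (.inl ⟨_, rfl⟩), ?_⟩
  rw [conj_by_zpow hx hy]
  have h : (2 : ℤ) * ((m : ℤ) + 1) = (orderOf (x * y) : ℤ) + 1 := by omega
  rw [h, zpow_add, zpow_natCast, pow_orderOf_eq_one, one_mul, zpow_one]
  exact (right_eq hx).symm

theorem isConj_of_odd {x y : G} (hx : orderOf x = 2) (hy : orderOf y = 2)
    (hodd : Odd (orderOf (x * y))) : IsConj x y :=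
  let ⟨d, _, hd⟩ := conj_of_odd hx hy hodd
  isConj_iff.2 ⟨d, hd⟩

/-- The central involution of a dihedral pair with even product order. -/
theorem even_center {x y : G} [Finite G] (hx : orderOf x = 2) (hy : orderOf y = 2)
    (heven : Even (orderOf (x * y))) :
    orderOf ((x * y) ^ (orderOf (x * y) / 2)) = 2 ∧
      Commute ((x * y) ^ (orderOf (x * y) / 2)) x ∧
      Commute ((x * y) ^ (orderOf (x * y) / 2)) y := by
  set a := x * y with ha
  obtain ⟨m, hm⟩ := heven
  have hpos := orderOf_pos a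
  have hh : orderOf a / 2 = m := by omega
  rw [hh]
  have hz : orderOf (a ^ m) = 2 := by
    refine invol_iff.2 ⟨?_, ?_⟩
    · intro h
      have := orderOf_dvd_of_pow_eq_one h
      exact absurd (Nat.le_of_dvd (by omega) this) (by omega)
    · rw [← pow_add, ← hm, pow_orderOf_eq_one]
  have hcx : Commute (a ^ m) x := by
    have h := pair_flip hx hy (m : ℤ)
    rw [← ha, zpow_neg, zpow_natCast, invol_inv hz] at h
    exact h
  refine ⟨hz, hcx, ?_⟩
  rw [right_eq (y := y) hx]
  exact hcx.mul_right ((Commute.refl a).pow_left m)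

theorem zmodCastPow {a : G} (k : ℤ) :
    a ^ (((k : ZMod (orderOf a))).cast : ℤ) = a ^ k := by
  rw [zpow_eq_zpow_iff_modEq, ← ZMod.intCast_eq_intCast_iff, ZMod.intCast_zmod_cast]

/-- The map from the dihedral group onto the subgroup of two involutions. -/
noncomputable def dihedralHom {x y : G} (hx : orderOf x = 2) (hy : orderOf y = 2) :
    DihedralGroup (orderOf (x * y)) →* G where
  toFun
    | .r i => (x * y) ^ (i.cast : ℤ)
    | .sr i => x * (x * y) ^ (i.cast : ℤ)
  map_one' := by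
    show (x * y) ^ (((0 : ZMod (orderOf (x * y)))).cast : ℤ) = 1
    simp
  map_mul' := by
    rintro (i | i) (j | j) <;>
      obtain ⟨i, rfl⟩ := ZMod.intCast_surjective i <;>
      obtain ⟨j, rfl⟩ := ZMod.intCast_surjective j <;>
      simp only [DihedralGroup.r_mul_r, DihedralGroup.r_mul_sr, DihedralGroup.sr_mul_r,
        DihedralGroup.sr_mul_sr, ← Int.cast_add, ← Int.cast_sub, zmodCastPow]
    · exact zpow_add _ _ _
    · rw [← mul_assoc, pair_flip hx hy, mul_assoc, ← zpow_add]; congr 2; ring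
    · rw [mul_assoc, ← zpow_add]
    · exact (refl_mul_refl hx hy i j).symm

theorem dihedralHom_r {x y : G} (hx : orderOf x = 2) (hy : orderOf y = 2) (k : ℤ) :
    dihedralHom hx hy (.r (k : ZMod (orderOf (x * y)))) = (x * y) ^ k := zmodCastPow k

theorem dihedralHom_sr {x y : G} (hx : orderOf x = 2) (hy : orderOf y = 2) (k : ℤ) :
    dihedralHom hx hy (.sr (k : ZMod (orderOf (x * y)))) = x * (x * y) ^ k :=
  congrArg (x * ·) (zmodCastPow k)

theorem dihedral_equiv {x y : G} (hx : orderOf x = 2) (hy : orderOf y = 2) :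
    Nonempty (↥(Subgroup.closure ({x, y} : Set G)) ≃* DihedralGroup (orderOf (x * y))) := by
  have hinj : Function.Injective (dihedralHom hx hy) := by
    rw [injective_iff_map_eq_one]
    rintro (i | i) h <;> obtain ⟨i, rfl⟩ := ZMod.intCast_surjective i
    · rw [dihedralHom_r, ← orderOf_dvd_iff_zpow_eq_one,
        ← ZMod.intCast_zmod_eq_zero_iff_dvd] at h
      rw [h, DihedralGroup.r_zero]
    · rw [dihedralHom_sr] at h
      exfalso
      refine left_not_mem_zpowers hx hy (Subgroup.mem_zpowers_iff.2 ⟨-i, ?_⟩)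
      rw [zpow_neg]
      exact (eq_inv_of_mul_eq_one_left h).symm
  have hr : (dihedralHom hx hy).range = Subgroup.closure ({x, y} : Set G) := by
    ext d
    rw [mem_pair_iff hx hy, MonoidHom.mem_range]
    constructor
    · rintro ⟨i | i, rfl⟩ <;> obtain ⟨i, rfl⟩ := ZMod.intCast_surjective i
      · exact .inl ⟨i, dihedralHom_r hx hy i⟩
      · exact .inr ⟨i, dihedralHom_sr hx hy i⟩
    · rintro (⟨k, rfl⟩ | ⟨k, rfl⟩)
      · exact ⟨_, dihedralHom_r hx hy k⟩
      · exact ⟨_, dihedralHom_sr hx hy k⟩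
  exact ⟨((MonoidHom.ofInjective hinj).trans (MulEquiv.subgroupCongr hr)).symm⟩

end CfsgLib.Inv
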