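import Cfsg.Agent.Inv.Dihedral
import Cfsg.Agent.Solv.Basic
import Cfsg.Agent.Solv.PComplement
import Mathlib.GroupTheory.SpecificGroups.Dihedral
import Mathlib.GroupTheory.SpecificGroups.KleinFour

/-!
Dihedral 2-groups as Sylow subgroups.
-/

set_option autoImplicit false

namespace CfsgLib.Inv

/-- An automorphism of odd order of a cyclic 2-group, realised by conjugation, is trivial. -/
theorem commute_of_cyclic_two {G : Type*} [Group G] {g : G} (hg : Odd (orderOf g)) :
    ∀ (n : ℕ) (c : G), orderOf c = 2 ^ n → g * c * g⁻¹ ∈ Subgroup.zpowers c → Commute g c := by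
  intro n
  induction n with
  | zero =>
    intro c hc _
    rw [pow_zero, orderOf_eq_one_iff] at hc
    rw [hc]; exact Commute.one_right g
  | succ n ih =>
    intro c hc hmem
    obtain ⟨s, hs⟩ := Subgroup.mem_zpowers_iff.1 hmem
    have hc2 : orderOf (c ^ 2) = 2 ^ n := by
      rw [orderOf_pow' c two_ne_zero, hc, Nat.gcd_eq_right (dvd_pow_self 2 (by omega)), pow_succ,
        Nat.mul_div_cancel _ two_pos]
    have h2 : Commute g (c ^ 2) := by
      refine ih _ hc2 (Subgroup.mem_zpowers_iff.2 ⟨s, ?_⟩)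
      rw [← conj_pow, ← hs, ← zpow_natCast, ← zpow_natCast, ← zpow_mul, ← zpow_mul, mul_comm]
    set w := c⁻¹ * (g * c * g⁻¹) with hw
    have hcw : g * c * g⁻¹ = c * w := by rw [hw, mul_inv_cancel_left]
    have hcomm : Commute c (g * c * g⁻¹) := by rw [← hs]; exact Commute.self_zpow c s
    have hw2 : w ^ 2 = 1 := by
      rw [hw, hcomm.inv_left.mul_pow, conj_pow, h2.eq, mul_inv_cancel_right, inv_pow, inv_mul_cancel]
    have hwc : w = c ^ (s - 1) := by
      rw [hw, ← hs, zpow_sub, zpow_one]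
      exact (Commute.self_zpow c s).inv_left.eq
    have hgw : Commute g w := by
      rcases Int.even_or_odd (s - 1) with ⟨r, hr⟩ | ⟨r, hr⟩
      · rw [hwc, hr, ← two_mul, zpow_mul]
        have : Commute g (c ^ (2 : ℤ)) := by rw [zpow_two, ← pow_two]; exact h2
        exact this.zpow_right r
      · -- an odd exponent forces `c ^ 2 = 1`
        have h1 : (2 ^ (n + 1) : ℤ) ∣ (s - 1) * 2 := by
          have h := orderOf_dvd_iff_zpow_eq_one.2 (show c ^ ((s - 1) * 2) = 1 by
            rw [zpow_mul, ← hwc, zpow_two, ← pow_two, hw2])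
          rw [hc] at h
          exact_mod_cast h
        have hn : n = 0 := by
          by_contra hn
          obtain ⟨k, rfl⟩ : ∃ k, n = k + 1 := ⟨n - 1, by omega⟩
          have h3 : (4 : ℤ) ∣ (s - 1) * 2 := (dvd_trans ⟨2 ^ k, by ring⟩ h1)
          omega
        subst hn
        have hs1 : s = 2 * r + 2 := by omega
        have hc1 : c ^ (2 : ℤ) = 1 := by
          rw [← orderOf_dvd_iff_zpow_eq_one, hc]; norm_num
        rw [hs1, zpow_add, zpow_mul, hc1, one_zpow, one_mul, eq_comm, conj_eq_one_iff] at hs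
        rw [hs, orderOf_one] at hc
        norm_num at hc
    have hiter : ∀ k : ℕ, g ^ k * c * (g ^ k)⁻¹ = c * w ^ k := by
      intro k
      induction k with
      | zero => simp
      | succ k ihk =>
        calc g ^ (k + 1) * c * (g ^ (k + 1))⁻¹ = g * (g ^ k * c * (g ^ k)⁻¹) * g⁻¹ := by
              rw [pow_succ']; group
          _ = (g * c * g⁻¹) * (g * w ^ k * g⁻¹) := by rw [ihk]; group
          _ = c * w * w ^ k := by rw [hcw, (hgw.pow_right k).eq, mul_inv_cancel_right]
          _ = c * w ^ (k + 1) := by rw [pow_succ', mul_assoc]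
    have h := hiter (orderOf g)
    rw [pow_orderOf_eq_one, one_mul, inv_one, mul_one, left_eq_mul] at h
    have hw1 : w = 1 := by
      obtain ⟨r, hr⟩ := hg
      rwa [hr, pow_succ, pow_mul, hw2, one_pow, one_mul] at h
    rw [hw1, mul_one] at hcw
    exact mul_inv_eq_iff_eq_mul.1 hcw

/-- Generators of a dihedral group of order `2 ^ (d + 2)`. -/
structure DData (S : Type*) [Group S] (d : ℕ) where
  x : S
  y : S
  card_eq : Nat.card S = 2 ^ (d + 2)
  order_x : orderOf x = 2 ^ (d + 1)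
  order_y : orderOf y = 2
  rel : y * x * y⁻¹ = x⁻¹
  y_not_mem : y ∉ Subgroup.zpowers x

namespace DData

variable {S : Type*} [Group S] {d : ℕ}

theorem of_equiv [Finite S] {m : ℕ} (hm : 2 ≤ m) (hS : IsPGroup 2 S) (e : S ≃* DihedralGroup m) :
    ∃ d, m = 2 ^ (d + 1) ∧ Nonempty (DData S d) := by
  haveI : Fact (Nat.Prime 2) := ⟨Nat.prime_two⟩
  obtain ⟨n, hn⟩ := IsPGroup.iff_card.1 hS
  have hc : Nat.card S = 2 * m := by rw [Nat.card_congr e.toEquiv, DihedralGroup.nat_card]
  obtain ⟨d, rfl⟩ : ∃ d, n = d + 2 := ⟨n - 2, by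
    rcases n with _ | _ | n
    · omega
    · omega
    · omega⟩
  have hmd : m = 2 ^ (d + 1) := by
    rw [hn, pow_succ'] at hc
    omega
  have horder : orderOf (e.symm (DihedralGroup.r 1)) = 2 ^ (d + 1) := by
    rw [e.symm.orderOf_eq, DihedralGroup.orderOf_r_one, hmd]
  refine ⟨d, hmd, ⟨⟨e.symm (DihedralGroup.r 1), e.symm (DihedralGroup.sr 0), hn, horder, ?_, ?_, ?_⟩⟩⟩
  · rw [e.symm.orderOf_eq, DihedralGroup.orderOf_sr]
  · rw [← map_inv, ← map_inv, ← map_mul, ← map_mul]
    congr 1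
    simp [DihedralGroup.sr_mul_r, DihedralGroup.sr_mul_sr, DihedralGroup.inv_sr, DihedralGroup.inv_r]
  · rintro ⟨i, hi⟩
    have h := congrArg e (show e.symm (DihedralGroup.r 1) ^ i = e.symm (DihedralGroup.sr 0) from hi)
    rw [map_zpow, MulEquiv.apply_symm_apply, MulEquiv.apply_symm_apply, DihedralGroup.r_zpow] at h
    exact absurd h (by simp)

variable (D : DData S d)

theorem zpow_x_eq_one {i : ℤ} : D.x ^ i = 1 ↔ (2 : ℤ) ^ (d + 1) ∣ i := by
  rw [← orderOf_dvd_iff_zpow_eq_one, D.order_x]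
  push_cast
  rfl

theorem zpow_x_eq {i j : ℤ} : D.x ^ i = D.x ^ j ↔ (2 : ℤ) ^ (d + 1) ∣ i - j := by
  rw [← D.zpow_x_eq_one, zpow_sub, mul_inv_eq_one]

theorem y_mul_zpow (i : ℤ) : D.y * D.x ^ i = D.x ^ (-i) * D.y := by
  rw [← conj_zpow_eq D.rel i]; group

theorem out_mul_out (i j : ℤ) : D.x ^ i * D.y * (D.x ^ j * D.y) = D.x ^ (i - j) := by
  calc D.x ^ i * D.y * (D.x ^ j * D.y) = D.x ^ i * (D.y * D.x ^ j) * D.y := by group
    _ = D.x ^ i * D.x ^ (-j) * (D.y * D.y) := by rw [D.y_mul_zpow]; group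
    _ = D.x ^ (i - j) := by rw [invol_mul_self D.order_y, mul_one, ← zpow_add, sub_eq_add_neg]

theorem out_mul_pow (i j : ℤ) : D.x ^ i * D.y * D.x ^ j = D.x ^ (i - j) * D.y := by
  rw [mul_assoc, D.y_mul_zpow, ← mul_assoc, ← zpow_add, sub_eq_add_neg]

theorem out_not_mem (i : ℤ) : D.x ^ i * D.y ∉ Subgroup.zpowers D.x := fun h => D.y_not_mem (by
  simpa using mul_mem (inv_mem (Subgroup.zpow_mem_zpowers D.x i)) h)

theorem out_mul_self (i : ℤ) : D.x ^ i * D.y * (D.x ^ i * D.y) = 1 := by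
  rw [D.out_mul_out, sub_self, zpow_zero]

theorem out_inv (i : ℤ) : (D.x ^ i * D.y)⁻¹ = D.x ^ i * D.y :=
  inv_eq_of_mul_eq_one_right (D.out_mul_self i)

theorem out_order (i : ℤ) : orderOf (D.x ^ i * D.y) = 2 :=
  invol_iff.2 ⟨fun h => D.out_not_mem i (h ▸ one_mem _), D.out_mul_self i⟩

theorem index_zpowers_x [Finite S] : (Subgroup.zpowers D.x).index = 2 := by
  have h := (Subgroup.zpowers D.x).card_mul_index
  rw [Nat.card_zpowers, D.order_x, D.card_eq, pow_succ 2 (d + 1)] at h
  exact Nat.eq_of_mul_eq_mul_left (by positivity) h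

theorem cases [Finite S] (g : S) : (∃ i : ℤ, g = D.x ^ i) ∨ ∃ i : ℤ, g = D.x ^ i * D.y := by
  by_cases hg : g ∈ Subgroup.zpowers D.x
  · obtain ⟨i, rfl⟩ := hg; exact .inl ⟨i, rfl⟩
  · right
    have h : g * D.y⁻¹ ∈ Subgroup.zpowers D.x := by
      rw [Subgroup.mul_mem_iff_of_index_two D.index_zpowers_x, inv_mem_iff]
      exact iff_of_false hg D.y_not_mem
    obtain ⟨i, hi⟩ := h
    exact ⟨i, by show g = D.x ^ i * D.y; rw [show D.x ^ i = g * D.y⁻¹ from hi, inv_mul_cancel_right]⟩

theorem out_eq_out {i j : ℤ} : D.x ^ i * D.y = D.x ^ j * D.y ↔ (2 : ℤ) ^ (d + 1) ∣ i - j := by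
  rw [mul_left_inj, D.zpow_x_eq]

theorem conj_out_pow (i j : ℤ) : D.x ^ j * (D.x ^ i * D.y) * (D.x ^ j)⁻¹ = D.x ^ (i + 2 * j) * D.y := by
  rw [← zpow_neg, ← mul_assoc, ← zpow_add, D.out_mul_pow]
  congr 2
  ring

theorem conj_out_out (i j : ℤ) :
    D.x ^ j * D.y * (D.x ^ i * D.y) * (D.x ^ j * D.y)⁻¹ = D.x ^ (2 * j - i) * D.y := by
  rw [D.out_inv, D.out_mul_out, ← mul_assoc, ← zpow_add]
  congr 2
  ring

theorem conj_pow_out (l j : ℤ) : D.x ^ j * D.y * D.x ^ l * (D.x ^ j * D.y)⁻¹ = D.x ^ (-l) := by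
  rw [D.out_mul_pow, D.out_inv, D.out_mul_out]
  congr 1
  ring

/-- The dihedral subgroup generated by `x ^ (2 ^ k)` and `x ^ i * y`. -/
def sub (i : ℤ) (k : ℕ) : Subgroup S where
  carrier := {g | ∃ l : ℤ, g = D.x ^ ((2 : ℤ) ^ k * l) ∨ g = D.x ^ (i + (2 : ℤ) ^ k * l) * D.y}
  one_mem' := ⟨0, Or.inl (by simp)⟩
  mul_mem' := by
    rintro a b ⟨l, rfl | rfl⟩ ⟨l', rfl | rfl⟩
    · exact ⟨l + l', Or.inl (by rw [← zpow_add]; congr 1; ring)⟩
    · exact ⟨l + l', Or.inr (by rw [← mul_assoc, ← zpow_add]; congr 2; ring)⟩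
    · exact ⟨l - l', Or.inr (by rw [D.out_mul_pow]; congr 2; ring)⟩
    · exact ⟨l - l', Or.inl (by rw [D.out_mul_out]; congr 1; ring)⟩
  inv_mem' := by
    rintro a ⟨l, rfl | rfl⟩
    · exact ⟨-l, Or.inl (by rw [← zpow_neg]; congr 1; ring)⟩
    · exact ⟨l, Or.inr (D.out_inv _)⟩

theorem out_mem_sub (i : ℤ) (k : ℕ) {j : ℤ} :
    D.x ^ j * D.y ∈ D.sub i k ↔ k ≤ d + 1 ∧ (2 : ℤ) ^ k ∣ j - i ∨ d + 1 < k ∧ (2 : ℤ) ^ (d + 1) ∣ j - i := by
  constructor
  · rintro ⟨l, h | h⟩
    · exact absurd (h ▸ Subgroup.zpow_mem_zpowers D.x _) (D.out_not_mem j)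
    · rw [D.out_eq_out] at h
      rcases le_or_gt k (d + 1) with hk | hk
      · refine Or.inl ⟨hk, ?_⟩
        have h2 := (pow_dvd_pow (2 : ℤ) hk).trans h
        rw [sub_add_eq_sub_sub] at h2
        exact (dvd_sub_left (dvd_mul_right _ _)).1 h2
      · refine Or.inr ⟨hk, ?_⟩
        rw [sub_add_eq_sub_sub] at h
        exact (dvd_sub_left (Dvd.dvd.mul_right (pow_dvd_pow (2 : ℤ) hk.le) l)).1 h
  · rintro (⟨-, l, hl⟩ | ⟨-, hl⟩)
    · exact ⟨l, Or.inr (by rw [← hl]; congr 2; ring)⟩
    · exact ⟨0, Or.inr (by rw [D.out_eq_out]; simpa using hl)⟩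

theorem out_mem_sub' {i : ℤ} {k : ℕ} (hk : k ≤ d + 1) {j : ℤ} :
    D.x ^ j * D.y ∈ D.sub i k ↔ (2 : ℤ) ^ k ∣ j - i := by
  rw [D.out_mem_sub i k]
  constructor
  · rintro (⟨-, h⟩ | ⟨h, -⟩)
    · exact h
    · omega
  · exact fun h => Or.inl ⟨hk, h⟩

theorem pow_mem_sub {i : ℤ} {k : ℕ} (hk : k ≤ d + 1) {j : ℤ} :
    D.x ^ j ∈ D.sub i k ↔ (2 : ℤ) ^ k ∣ j := by
  constructor
  · rintro ⟨l, h | h⟩
    · rw [D.zpow_x_eq] at h
      exact (dvd_sub_left (dvd_mul_right _ _)).1 ((pow_dvd_pow (2 : ℤ) hk).trans h)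
    · exact absurd (h ▸ Subgroup.zpow_mem_zpowers D.x _) (D.out_not_mem _)
  · rintro ⟨l, rfl⟩
    exact ⟨l, Or.inl rfl⟩

theorem sub_eq_iff {i j : ℤ} {k : ℕ} (hk : k ≤ d + 1) : D.sub i k = D.sub j k ↔ (2 : ℤ) ^ k ∣ i - j := by
  constructor
  · intro h
    have h1 : D.x ^ i * D.y ∈ D.sub i k := (D.out_mem_sub' hk).2 (by simp)
    rw [h, D.out_mem_sub' hk] at h1
    exact h1
  · intro h
    ext g
    constructor
    · rintro ⟨l, rfl | rfl⟩
      · exact ⟨l, Or.inl rfl⟩
      · rw [D.out_mem_sub' hk]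
        have e : i + (2 : ℤ) ^ k * l - j = (i - j) + (2 : ℤ) ^ k * l := by ring
        rw [e]
        exact dvd_add h (dvd_mul_right _ _)
    · rintro ⟨l, rfl | rfl⟩
      · exact ⟨l, Or.inl rfl⟩
      · rw [D.out_mem_sub' hk]
        have e : j + (2 : ℤ) ^ k * l - i = -(i - j) + (2 : ℤ) ^ k * l := by ring
        rw [e]
        exact dvd_add h.neg_right (dvd_mul_right _ _)

theorem card_zpowers_pow {k : ℕ} (hk : k ≤ d + 1) :
    Nat.card (Subgroup.zpowers (D.x ^ (2 ^ k : ℕ))) = 2 ^ (d + 1 - k) := by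
  rw [Nat.card_zpowers, orderOf_pow' _ (pow_ne_zero _ two_ne_zero), D.order_x,
    Nat.gcd_eq_right (pow_dvd_pow 2 hk), Nat.pow_div hk two_pos]

theorem card_sub [Finite S] {i : ℤ} {k : ℕ} (hk : k ≤ d + 1) :
    Nat.card (D.sub i k) = 2 ^ (d + 2 - k) := by
  have hC : ∀ g, g ∈ Subgroup.zpowers (D.x ^ (2 ^ k : ℕ)) ↔ ∃ l : ℤ, g = D.x ^ ((2 : ℤ) ^ k * l) := by
    intro g
    rw [Subgroup.mem_zpowers_iff]
    refine exists_congr fun l => ?_
    rw [← zpow_natCast, ← zpow_mul, eq_comm]
    push_cast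
    rfl
  have hset : (D.sub i k : Set S) = (Subgroup.zpowers (D.x ^ (2 ^ k : ℕ)) : Set S) ∪
      (fun c => D.x ^ i * D.y * c) '' (Subgroup.zpowers (D.x ^ (2 ^ k : ℕ)) : Set S) := by
    ext g
    constructor
    · rintro ⟨l, rfl | rfl⟩
      · exact Or.inl ((hC _).2 ⟨l, rfl⟩)
      · refine Or.inr ⟨D.x ^ ((2 : ℤ) ^ k * -l), (hC _).2 ⟨-l, rfl⟩, ?_⟩
        show D.x ^ i * D.y * _ = _
        rw [D.out_mul_pow]; congr 2; ring
    · rintro (h | ⟨c, hc, rfl⟩)
      · obtain ⟨l, rfl⟩ := (hC g).1 h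
        exact ⟨l, Or.inl rfl⟩
      · obtain ⟨l, rfl⟩ := (hC c).1 hc
        refine ⟨-l, Or.inr ?_⟩
        show D.x ^ i * D.y * _ = _
        rw [D.out_mul_pow]; congr 2; ring
  have hd : Disjoint (Subgroup.zpowers (D.x ^ (2 ^ k : ℕ)) : Set S)
      ((fun c => D.x ^ i * D.y * c) '' (Subgroup.zpowers (D.x ^ (2 ^ k : ℕ)) : Set S)) := by
    rw [Set.disjoint_left]
    rintro g hg ⟨c, hc, rfl⟩
    have hle : Subgroup.zpowers (D.x ^ (2 ^ k : ℕ)) ≤ Subgroup.zpowers D.x :=
      Subgroup.zpowers_le.2 (pow_mem (Subgroup.mem_zpowers _) _)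
    refine D.out_not_mem i ?_
    simpa using mul_mem (hle hg) (inv_mem (hle hc))
  show Nat.card (D.sub i k : Set S) = _
  rw [Nat.card_coe_set_eq, hset, Set.ncard_union_eq hd, Set.ncard_image_of_injective _ (mul_right_injective _),
    ← Nat.card_coe_set_eq]
  simp only [SetLike.coe_sort_coe, D.card_zpowers_pow hk]
  rw [show d + 2 - k = (d + 1 - k) + 1 by omega, pow_succ]
  ring

include D in
theorem isPGroup : IsPGroup 2 S := IsPGroup.of_card D.card_eq

theorem sub_cases [Finite S] (Q : Subgroup S) :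
    Q ≤ Subgroup.zpowers D.x ∨ ∃ (i : ℤ) (k : ℕ), k ≤ d + 1 ∧ Q = D.sub i k := by
  by_cases hQ : Q ≤ Subgroup.zpowers D.x
  · exact Or.inl hQ
  obtain ⟨g, hg, hgx⟩ := SetLike.not_le_iff_exists.1 hQ
  rcases D.cases g with ⟨i, rfl⟩ | ⟨i, rfl⟩
  · exact absurd (Subgroup.zpow_mem_zpowers D.x i) hgx
  right
  set K := Q ⊓ Subgroup.zpowers D.x with hK
  obtain ⟨e, he, hKe⟩ := (Nat.dvd_prime_pow Nat.prime_two).1
    ((Subgroup.card_dvd_of_le (inf_le_right : K ≤ Subgroup.zpowers D.x)).trans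
      (dvd_of_eq ((Nat.card_zpowers D.x).trans D.order_x)))
  refine ⟨i, d + 1 - e, by omega, ?_⟩
  have hKeq : K = Subgroup.zpowers (D.x ^ (2 ^ (d + 1 - e) : ℕ)) := by
    refine Subgroup.eq_of_le_of_card_ge ?_ (le_of_eq ?_)
    · intro g hg
      obtain ⟨j, rfl⟩ := (Subgroup.mem_inf.1 hg).2
      have h1 : (D.x ^ j) ^ (2 ^ e : ℕ) = 1 :=
        orderOf_dvd_iff_pow_eq_one.1 (hKe ▸ Subgroup.orderOf_dvd_natCard K hg)
      rw [← zpow_natCast, ← zpow_mul, D.zpow_x_eq_one] at h1
      obtain ⟨l, rfl⟩ : (2 : ℤ) ^ (d + 1 - e) ∣ j := by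
        rw [show d + 1 = (d + 1 - e) + e by omega, pow_add] at h1
        push_cast at h1
        exact (mul_dvd_mul_iff_right (pow_ne_zero e two_ne_zero)).1 h1
      refine ⟨l, ?_⟩
      show (D.x ^ (2 ^ (d + 1 - e) : ℕ)) ^ l = D.x ^ ((2 : ℤ) ^ (d + 1 - e) * l)
      rw [← zpow_natCast, ← zpow_mul]
      push_cast
      rfl
    · rw [D.card_zpowers_pow (by omega), hKe]
      congr 1
      omega
  have hpow : ∀ j : ℤ, D.x ^ j ∈ Q ↔ (2 : ℤ) ^ (d + 1 - e) ∣ j := by
    intro j
    constructor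
    · intro h
      have h2 : D.x ^ j ∈ K := Subgroup.mem_inf.2 ⟨h, Subgroup.zpow_mem_zpowers _ _⟩
      rw [hKeq] at h2
      obtain ⟨l, hl⟩ := h2
      have hl' : (D.x ^ (2 ^ (d + 1 - e) : ℕ)) ^ l = D.x ^ j := hl
      rw [← zpow_natCast, ← zpow_mul, D.zpow_x_eq] at hl'
      push_cast at hl'
      exact (dvd_sub_right (dvd_mul_right _ _)).1 ((pow_dvd_pow (2 : ℤ) (by omega)).trans hl')
    · rintro ⟨l, rfl⟩
      have h2 : D.x ^ ((2 : ℤ) ^ (d + 1 - e) * l) ∈ K := by
        rw [hKeq]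
        refine ⟨l, ?_⟩
        show (D.x ^ (2 ^ (d + 1 - e) : ℕ)) ^ l = _
        rw [← zpow_natCast, ← zpow_mul]
        push_cast
        rfl
      exact (Subgroup.mem_inf.1 h2).1
  ext g
  rcases D.cases g with ⟨j, rfl⟩ | ⟨j, rfl⟩
  · rw [hpow, D.pow_mem_sub (by omega)]
  · rw [D.out_mem_sub' (by omega), ← hpow]
    constructor
    · intro h
      rw [← D.out_mul_out]
      exact mul_mem h hg
    · intro h
      have := mul_mem h hg
      rwa [← mul_assoc, ← zpow_add, sub_add_cancel] at this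

/-- The normalizer of a dihedral subgroup. -/
theorem normalizer_sub [Finite S] {i : ℤ} {k : ℕ} (hk : k + 1 ≤ d + 1) :
    Subgroup.normalizer (D.sub i (k + 1) : Set S) = D.sub i k := by
  refine le_antisymm (fun g hg => ?_) (fun g hg => ?_)
  · have hiy : D.x ^ i * D.y ∈ D.sub i (k + 1) := (D.out_mem_sub' hk).2 (by simp)
    have h := (Subgroup.mem_normalizer_iff.1 hg _).1 hiy
    rcases D.cases g with ⟨j, rfl⟩ | ⟨j, rfl⟩
    · rw [D.conj_out_pow, D.out_mem_sub' hk, pow_succ', add_sub_cancel_left] at h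
      exact (D.pow_mem_sub (by omega)).2 ((mul_dvd_mul_iff_left two_ne_zero).1 h)
    · rw [D.conj_out_out, D.out_mem_sub' hk, show 2 * j - i - i = 2 * (j - i) by ring, pow_succ'] at h
      exact (D.out_mem_sub' (by omega)).2 ((mul_dvd_mul_iff_left two_ne_zero).1 h)
  · have key : ∀ g ∈ D.sub i k, ∀ q ∈ D.sub i (k + 1), g * q * g⁻¹ ∈ D.sub i (k + 1) := by
      rintro g ⟨l, rfl | rfl⟩ q ⟨l', rfl | rfl⟩
      · rw [← zpow_add, ← zpow_neg, ← zpow_add, D.pow_mem_sub hk]
        exact ⟨l', by ring⟩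
      · rw [D.conj_out_pow, D.out_mem_sub' hk]
        exact ⟨l' + l, by ring⟩
      · rw [D.conj_pow_out, D.pow_mem_sub hk]
        exact ⟨-l', by ring⟩
      · rw [D.conj_out_out, D.out_mem_sub' hk]
        exact ⟨l - l', by ring⟩
    refine Subgroup.mem_normalizer_iff.2 fun q => ⟨key g hg q, fun h => ?_⟩
    have := key g⁻¹ (inv_mem hg) _ h
    simpa [mul_assoc] using this

/-- The central involution. -/
def z : S := D.x ^ ((2 : ℤ) ^ d)

theorem z_mul_self : D.z * D.z = 1 := by
  rw [z, ← zpow_add, D.zpow_x_eq_one, pow_succ]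
  exact ⟨1, by ring⟩

theorem z_ne_one : D.z ≠ 1 := by
  rw [z, Ne, D.zpow_x_eq_one]
  intro h
  have := Int.le_of_dvd (by positivity) h
  rw [pow_succ] at this
  have : (0 : ℤ) < 2 ^ d := by positivity
  omega

theorem z_commute [Finite S] (g : S) : Commute g D.z := by
  rcases D.cases g with ⟨j, rfl⟩ | ⟨j, rfl⟩
  · exact (Commute.refl D.x).zpow_zpow _ _
  · refine mul_inv_eq_iff_eq_mul.1 ?_
    rw [z, D.conj_pow_out, D.zpow_x_eq, pow_succ]
    exact ⟨-1, by ring⟩

theorem pow_sq_one {j : ℤ} (h : D.x ^ j * D.x ^ j = 1) : D.x ^ j = 1 ∨ D.x ^ j = D.z := by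
  rw [← zpow_add, D.zpow_x_eq_one, ← two_mul, pow_succ'] at h
  obtain ⟨l, rfl⟩ := (mul_dvd_mul_iff_left two_ne_zero).1 h
  rcases Int.even_or_odd l with ⟨r, rfl⟩ | ⟨r, rfl⟩
  · left
    rw [D.zpow_x_eq_one]
    exact ⟨r, by ring⟩
  · right
    rw [z, D.zpow_x_eq]
    exact ⟨r, by ring⟩

theorem invol_cases [Finite S] {t : S} (ht : orderOf t = 2) : t = D.z ∨ ∃ i : ℤ, t = D.x ^ i * D.y := by
  rcases D.cases t with ⟨j, rfl⟩ | h
  · exact Or.inl ((D.pow_sq_one (invol_mul_self ht)).resolve_left (invol_ne_one ht))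
  · exact Or.inr h

theorem z_mem_sub (i : ℤ) : D.z ∈ D.sub i d := (D.pow_mem_sub (Nat.le_succ d)).2 dvd_rfl

theorem out_mem_four (i : ℤ) : D.x ^ i * D.y ∈ D.sub i d := (D.out_mem_sub' (Nat.le_succ d)).2 (by simp)

theorem four_mem [Finite S] (i : ℤ) {g : S} (hg : g ∈ D.sub i d) :
    g = 1 ∨ g = D.z ∨ g = D.x ^ i * D.y ∨ g = D.z * (D.x ^ i * D.y) := by
  obtain ⟨l, rfl | rfl⟩ := hg
  · rcases D.pow_sq_one (j := (2 : ℤ) ^ d * l) (by rw [← zpow_add, D.zpow_x_eq_one, pow_succ]; exact ⟨l, by ring⟩) with h | h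
    · exact Or.inl h
    · exact Or.inr (Or.inl h)
  · rcases D.pow_sq_one (j := (2 : ℤ) ^ d * l) (by rw [← zpow_add, D.zpow_x_eq_one, pow_succ]; exact ⟨l, by ring⟩) with h | h
    · refine Or.inr (Or.inr (Or.inl ?_))
      rw [zpow_add, mul_assoc, h, one_mul]
    · refine Or.inr (Or.inr (Or.inr ?_))
      rw [zpow_add, h, mul_assoc, ← mul_assoc (D.x ^ i), (D.z_commute _).eq, mul_assoc]

theorem four_isKlein [Finite S] (i : ℤ) : IsKleinFour (D.sub i d) := by
  refine ⟨by rw [D.card_sub (Nat.le_succ d), show d + 2 - d = 2 by omega]; rfl, ?_⟩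
  refine Nat.dvd_antisymm (Monoid.exponent_dvd_of_forall_pow_eq_one fun g => Subtype.ext ?_) ?_
  · rw [SubmonoidClass.coe_pow, OneMemClass.coe_one, pow_two]
    rcases D.four_mem i g.2 with h | h | h | h <;> rw [h]
    · rw [one_mul]
    · exact D.z_mul_self
    · exact D.out_mul_self i
    · calc D.z * (D.x ^ i * D.y) * (D.z * (D.x ^ i * D.y))
          = D.z * ((D.x ^ i * D.y) * D.z) * (D.x ^ i * D.y) := by group
        _ = D.z * (D.z * (D.x ^ i * D.y)) * (D.x ^ i * D.y) := by rw [(D.z_commute _).eq]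
        _ = (D.z * D.z) * ((D.x ^ i * D.y) * (D.x ^ i * D.y)) := by group
        _ = 1 := by rw [D.z_mul_self, D.out_mul_self, one_mul]
  · have := Monoid.order_dvd_exponent (⟨D.z, D.z_mem_sub i⟩ : D.sub i d)
    rwa [Subgroup.orderOf_mk, orderOf_eq_prime (p := 2) (by rw [pow_two]; exact D.z_mul_self) D.z_ne_one] at this

theorem klein_eq_sub [Finite S] {T : Subgroup S} (hT : IsKleinFour T) : ∃ i, T = D.sub i d := by
  rcases D.sub_cases T with h | ⟨i, k, hk, rfl⟩
  · exfalso
    have hle : T ≤ Subgroup.zpowers D.z := by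
      intro t ht
      obtain ⟨j, rfl⟩ := h ht
      have hsq : D.x ^ j * D.x ^ j = 1 := congrArg Subtype.val (@IsKleinFour.mul_self _ _ hT ⟨_, ht⟩)
      show D.x ^ j ∈ _
      rcases D.pow_sq_one hsq with e | e <;> rw [e]
      · exact one_mem _
      · exact Subgroup.mem_zpowers _
    have := Nat.le_of_dvd Nat.card_pos (Subgroup.card_dvd_of_le hle)
    rw [hT.card_four, Nat.card_zpowers, orderOf_eq_prime (p := 2) (by rw [pow_two]; exact D.z_mul_self) D.z_ne_one] at this
    omega
  · have h := hT.card_four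
    rw [D.card_sub hk, show (4 : ℕ) = 2 ^ 2 by rfl] at h
    exact ⟨i, by rw [show k = d by have := Nat.pow_right_injective le_rfl h; omega]⟩

theorem centralizer_out [Finite S] {i : ℤ} {g : S} (h : Commute g (D.x ^ i * D.y)) : g ∈ D.sub i d := by
  have h' := mul_inv_eq_iff_eq_mul.2 h.eq
  rcases D.cases g with ⟨j, rfl⟩ | ⟨j, rfl⟩
  · rw [D.conj_out_pow, D.out_eq_out, add_sub_cancel_left, pow_succ'] at h'
    exact (D.pow_mem_sub (Nat.le_succ d)).2 ((mul_dvd_mul_iff_left two_ne_zero).1 h')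
  · rw [D.conj_out_out, D.out_eq_out, show 2 * j - i - i = 2 * (j - i) by ring, pow_succ'] at h'
    exact (D.out_mem_sub' (Nat.le_succ d)).2 ((mul_dvd_mul_iff_left two_ne_zero).1 h')

theorem four_conj {i j : ℤ} (h : Even (i - j)) :
    ∃ s : S, ∀ g ∈ D.sub i d, s * g * s⁻¹ ∈ D.sub j d := by
  obtain ⟨r, hr⟩ := h
  refine ⟨D.x ^ (-r), ?_⟩
  rintro g ⟨l, rfl | rfl⟩
  · rw [← zpow_add, ← zpow_neg, ← zpow_add, D.pow_mem_sub (Nat.le_succ d)]
    exact ⟨l, by ring⟩
  · rw [D.conj_out_pow, D.out_mem_sub' (Nat.le_succ d)]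
    exact ⟨l, by linear_combination hr⟩

end DData

/-! ### Dihedral Sylow subgroups -/

section Sylow

variable {G : Type*} [Group G] [Finite G] (P : Sylow 2 G) {d : ℕ} (D : DData (P : Subgroup G) d)

/-- The image in the group of a dihedral subgroup of the Sylow subgroup. -/
def dsub (i : ℤ) (k : ℕ) : Subgroup G := (D.sub i k).map (P : Subgroup G).subtype

omit [Finite G] in
theorem dsub_le (i : ℤ) (k : ℕ) : dsub P D i k ≤ (P : Subgroup G) := Subgroup.map_subtype_le _

theorem card_dsub (i : ℤ) {k : ℕ} (hk : k ≤ d + 1) : Nat.card (dsub P D i k) = 2 ^ (d + 2 - k) := by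
  rw [dsub, ← Nat.card_congr (Subgroup.equivMapOfInjective _ _ (P : Subgroup G).subtype_injective).toEquiv,
    D.card_sub hk]

include D in
/-- A 2-subgroup of the Sylow subgroup with a nontrivial automorphism of odd order is a four group. -/
theorem centralize_or_klein {Q : Subgroup G} (hQ : Q ≤ (P : Subgroup G)) {g : G}
    (hg : g ∈ Subgroup.normalizer (Q : Set G)) (hodd : Odd (orderOf g)) :
    g ∈ Subgroup.centralizer (Q : Set G) ∨ IsKleinFour Q := by
  have hconj : ∀ q ∈ Q, g * q * g⁻¹ ∈ Q := fun q hq => (Subgroup.mem_normalizer_iff.1 hg q).1 hq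
  have hpow : ∀ j : ℤ, ((D.x ^ j : (P : Subgroup G)) : G) ∈ Q →
      g * ((D.x ^ j : (P : Subgroup G)) : G) * g⁻¹ ∈ Subgroup.zpowers ((D.x ^ j : (P : Subgroup G)) : G) →
      Commute g ((D.x ^ j : (P : Subgroup G)) : G) := by
    intro j _ h
    obtain ⟨n, hn⟩ := IsPGroup.iff_orderOf.1 D.isPGroup (D.x ^ j)
    rw [← Subgroup.orderOf_coe] at hn
    exact commute_of_cyclic_two hodd n _ hn h
  have hQeq : (Q.subgroupOf (P : Subgroup G)).map (P : Subgroup G).subtype = Q :=
    Subgroup.map_subgroupOf_eq_of_le hQ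
  rcases D.sub_cases (Q.subgroupOf (P : Subgroup G)) with h | ⟨i, k, hk, hsub⟩
  · left
    rw [Subgroup.mem_centralizer_iff]
    intro q hq
    obtain ⟨⟨w, hw⟩, hcyc⟩ : ∃ w : Q, ∀ v : Q, v ∈ Subgroup.zpowers w := by
      haveI : IsCyclic (Q.subgroupOf (P : Subgroup G)) := Subgroup.isCyclic_of_le h
      haveI : IsCyclic Q := (Subgroup.subgroupOfEquivOfLe hQ).isCyclic.1 inferInstance
      exact IsCyclic.exists_generator
    obtain ⟨n, hn⟩ := IsPGroup.iff_orderOf.1 (P.2.to_le hQ) ⟨w, hw⟩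
    rw [Subgroup.orderOf_mk] at hn
    have hmem : ∀ v ∈ Q, v ∈ Subgroup.zpowers w := by
      intro v hv
      obtain ⟨l, hl⟩ := hcyc ⟨v, hv⟩
      exact ⟨l, congrArg Subtype.val hl⟩
    have hc := commute_of_cyclic_two hodd n w hn (hmem _ (hconj w hw))
    obtain ⟨l, rfl⟩ := hmem q hq
    exact ((hc.zpow_right l).symm).eq
  · rcases lt_trichotomy k d with hlt | rfl | hgt
    · left
      set c : (P : Subgroup G) := D.x ^ ((2 : ℤ) ^ k) with hcdef
      have hcQ : (c : G) ∈ Q := by
        rw [← hQeq, hsub]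
        exact ⟨c, (D.pow_mem_sub hk).2 dvd_rfl, rfl⟩
      have hbig : ∀ t : G, t ∈ Q → t * t ≠ 1 → t ∈ Subgroup.zpowers (c : G) := by
        intro t ht htt
        rw [← hQeq, hsub] at ht
        obtain ⟨u, ⟨l, rfl | rfl⟩, rfl⟩ := ht
        · exact ⟨l, by rw [hcdef, zpow_mul]; rfl⟩
        · exact absurd (congrArg Subtype.val (D.out_mul_self _)) htt
      have hcc : (c : G) * c ≠ 1 := by
        intro h
        have h2 : c * c = 1 := Subtype.ext h
        rw [hcdef, ← zpow_add, D.zpow_x_eq_one] at h2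
        have h3 := Int.le_of_dvd (by positivity) h2
        have h4 : (2 : ℤ) ^ (k + 1) < 2 ^ (d + 1) := pow_lt_pow_right₀ (by norm_num) (by omega)
        rw [pow_succ] at h4
        omega
      have hgc : Commute g (c : G) := hpow _ hcQ (hbig _ (hconj _ hcQ) (by
        intro h
        refine hcc ?_
        have e : g * (c : G) * g⁻¹ * (g * c * g⁻¹) = g * ((c : G) * c) * g⁻¹ := by group
        rw [e, conj_eq_one_iff] at h
        exact h))
      set t : (P : Subgroup G) := D.x ^ i * D.y with ht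
      have htQ : (t : G) ∈ Q := by
        rw [← hQeq, hsub]
        exact ⟨t, (D.out_mem_sub' hk).2 (by simp), rfl⟩
      have hCt : ∀ l : ℤ, g * ((c : G) ^ l) * g⁻¹ = (c : G) ^ l := fun l => by
        rw [(hgc.zpow_right l).eq, mul_inv_cancel_right]
      obtain ⟨u, hu, hue⟩ : ∃ u ∈ D.sub i k, (u : G) = g * t * g⁻¹ := by
        have h := hconj _ htQ
        rw [← hQeq, hsub] at h
        obtain ⟨u, hu, he⟩ := h
        exact ⟨u, hu, he⟩
      have hut : g * (t : G) * g⁻¹ ∉ Subgroup.zpowers (c : G) := by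
        rintro ⟨l, hl⟩
        have hl' : (c : G) ^ l = g * t * g⁻¹ := hl
        rw [← hCt l] at hl'
        have h2 : (c : G) ^ l = t := mul_left_cancel (mul_right_cancel hl')
        refine D.out_not_mem i ?_
        have h3 : c ^ l = t := Subtype.ext (by rw [SubgroupClass.coe_zpow]; exact h2)
        rw [← ht, ← h3, hcdef, ← zpow_mul]
        exact Subgroup.zpow_mem_zpowers _ _
      obtain ⟨l, hl⟩ := hu
      rcases hl with rfl | rfl
      · refine absurd ?_ hut
        rw [← hue, hcdef]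
        exact ⟨l, by rw [zpow_mul]; rfl⟩
      have hstep : g * (t : G) * g⁻¹ = (c : G) ^ l * t := by
        rw [← hue, hcdef, ← SubgroupClass.coe_zpow, ← Subgroup.coe_mul, ht, ← mul_assoc, ← zpow_mul, ← zpow_add]
        congr 3
        ring
      have hiter : ∀ n : ℕ, g ^ n * (t : G) * (g ^ n)⁻¹ = (c : G) ^ (l * n) * t := by
        intro n
        induction n with
        | zero => simp
        | succ n ih =>
          calc g ^ (n + 1) * (t : G) * (g ^ (n + 1))⁻¹ = g * (g ^ n * t * (g ^ n)⁻¹) * g⁻¹ := by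
                rw [pow_succ']; group
            _ = (g * (c : G) ^ (l * n) * g⁻¹) * (g * t * g⁻¹) := by rw [ih]; group
            _ = (c : G) ^ (l * ↑(n + 1)) * t := by
              rw [hCt, hstep, ← mul_assoc, ← zpow_add]; congr 2; push_cast; ring
      have hend := hiter (orderOf g)
      rw [pow_orderOf_eq_one, one_mul, inv_one, mul_one, right_eq_mul] at hend
      have hl1 : (c : G) ^ l = 1 := by
        obtain ⟨n, hn⟩ := IsPGroup.iff_orderOf.1 D.isPGroup c
        rw [← Subgroup.orderOf_coe] at hn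
        rw [zpow_mul, zpow_natCast] at hend
        refine orderOf_eq_one_iff.1 (Nat.eq_one_of_dvd_coprimes (a := 2 ^ n) (b := orderOf g)
          (Nat.Coprime.pow_left n (Nat.coprime_two_left.2 hodd)) ?_ (orderOf_dvd_of_pow_eq_one hend))
        rw [← hn]
        exact orderOf_dvd_of_mem_zpowers (Subgroup.zpow_mem_zpowers _ l)
      rw [hl1, one_mul] at hstep
      have hgt : Commute g (t : G) := mul_inv_eq_iff_eq_mul.1 hstep
      rw [Subgroup.mem_centralizer_iff]
      intro q hq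
      rw [← hQeq, hsub] at hq
      obtain ⟨u, ⟨l', rfl | rfl⟩, rfl⟩ := hq
      · rw [zpow_mul]
        exact (hgc.zpow_right l').symm.eq
      · have e : D.x ^ (i + (2 : ℤ) ^ k * l') * D.y = c ^ l' * t := by
          rw [hcdef, ht, ← zpow_mul, ← mul_assoc, ← zpow_add, add_comm]
        rw [e]
        exact ((hgc.zpow_right l').mul_right hgt).symm.eq
    · right
      haveI := D.four_isKlein i
      rw [← hQeq, hsub]
      have e := (Subgroup.equivMapOfInjective (D.sub i k) _ (P : Subgroup G).subtype_injective)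
      exact ⟨by rw [← Nat.card_congr e.toEquiv]; exact IsKleinFour.card_four,
        by rw [← Monoid.exponent_eq_of_mulEquiv e]; exact IsKleinFour.exponent_two⟩
    · left
      have hk' : k = d + 1 := by omega
      have hc2 : Nat.card Q = 2 := by
        rw [← hQeq, hsub, show (D.sub i k).map (P : Subgroup G).subtype = dsub P D i k from rfl,
          card_dsub P D i hk, hk', show d + 2 - (d + 1) = 1 by omega, pow_one]
      rw [Subgroup.mem_centralizer_iff]
      intro q hq
      rcases eq_or_ne q 1 with rfl | hq1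
      · simp
      have hz : Subgroup.zpowers q = Q := Subgroup.eq_of_le_of_card_ge (Subgroup.zpowers_le.2 hq) (by
        rw [hc2, Nat.card_zpowers]
        exact (Nat.one_lt_iff_ne_zero_and_ne_one.2 ⟨(orderOf_pos q).ne', fun h => hq1 (orderOf_eq_one_iff.1 h)⟩))
      exact (commute_of_cyclic_two hodd 1 q (by rw [← Nat.card_zpowers, hz, hc2, pow_one])
        (hz.symm ▸ hconj q hq)).symm.eq

/-- Dihedral subgroups of different parity are not conjugate. -/
theorem dsub_parity : ∀ (k : ℕ), k ≤ d → ∀ (i j : ℤ) (g : G), 1 ≤ k →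
    (∀ q ∈ dsub P D i k, g * q * g⁻¹ ∈ dsub P D j k) → (2 : ℤ) ∣ i - j := by
  intro k
  induction k with
  | zero => intro _ i j g h; omega
  | succ k ih =>
    intro hk i j g _ hg
    open Pointwise in
    have hkd : k + 1 ≤ d + 1 := by omega
    set A := dsub P D i (k + 1) with hA
    set B := dsub P D j (k + 1) with hB
    open scoped Pointwise in
    have hgA : MulAut.conj g • A = B := by
      refine Subgroup.eq_of_le_of_card_ge ?_ ?_
      · intro x hx
        rw [CfsgLib.Solv.mem_conj_smul_iff] at hx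
        have := hg _ hx
        simpa [mul_assoc] using this
      · rw [CfsgLib.Solv.card_conj_smul, hA, hB, card_dsub P D i hkd, card_dsub P D j hkd]
    -- the normalizers in the Sylow subgroup are Sylow in the normalizers
    have hnorm : ∀ l : ℤ, dsub P D l k ≤ Subgroup.normalizer (dsub P D l (k + 1) : Set G) ∧
        ∃ T : Sylow 2 (Subgroup.normalizer (dsub P D l (k + 1) : Set G)),
          (T : Subgroup _).map (Subgroup.normalizer (dsub P D l (k + 1) : Set G)).subtype = dsub P D l k := by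
      intro l
      set N := Subgroup.normalizer (dsub P D l (k + 1) : Set G) with hN
      have hle : dsub P D l k ≤ N := by
        rintro _ ⟨u, hu, rfl⟩
        rw [← D.normalizer_sub hkd] at hu
        exact Subgroup.le_normalizer_map (P : Subgroup G).subtype ⟨u, hu, rfl⟩
      refine ⟨hle, ?_⟩
      obtain ⟨T, hT⟩ := ((P.2.to_le (dsub_le P D l k)).comap_of_injective N.subtype N.subtype_injective :
        IsPGroup 2 ((dsub P D l k).subgroupOf N)).exists_le_sylow
      refine ⟨T, (Subgroup.eq_of_le_of_card_ge ?_ ?_).symm⟩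
      · intro x hx
        exact ⟨⟨x, hle hx⟩, hT hx, rfl⟩
      · obtain ⟨R, hR⟩ := (T.2.map N.subtype).exists_le_sylow
        obtain ⟨h, hh⟩ := MulAction.exists_smul_eq G R P
        set E := (T : Subgroup N).map N.subtype with hE
        have hlN : dsub P D l (k + 1) ≤ N := Subgroup.le_normalizer
        open scoped Pointwise in
        have hEP : MulAut.conj h • E ≤ (P : Subgroup G) := by
          intro x hx
          rw [CfsgLib.Solv.mem_conj_smul_iff] at hx
          rw [← hh, Sylow.coe_subgroup_smul, CfsgLib.Solv.mem_conj_smul_iff]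
          exact hR hx
        have hAE : dsub P D l (k + 1) ≤ E := by
          refine le_trans (fun x hx => ?_) (le_of_eq hE.symm)
          refine ⟨⟨x, hlN hx⟩, ?_, rfl⟩
          have hn : ((dsub P D l (k + 1)).subgroupOf N).Normal := Subgroup.normal_in_normalizer
          haveI := hn
          exact (IsPGroup.le_sylow_of_normal (N := (dsub P D l (k + 1)).subgroupOf N)
            ((P.2.to_le (dsub_le P D l (k + 1))).comap_of_injective N.subtype N.subtype_injective) T) hx
        open scoped Pointwise in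
        set Q := (MulAut.conj h • dsub P D l (k + 1)).subgroupOf (P : Subgroup G) with hQ
        open scoped Pointwise in
        have hQmap : Q.map (P : Subgroup G).subtype = MulAut.conj h • dsub P D l (k + 1) :=
          Subgroup.map_subgroupOf_eq_of_le (fun x hx => hEP (by
            rw [CfsgLib.Solv.mem_conj_smul_iff] at hx ⊢
            exact hAE hx))
        have hQc : Nat.card Q = 2 ^ (d + 2 - (k + 1)) := by
          rw [Nat.card_congr (Subgroup.equivMapOfInjective Q _ (P : Subgroup G).subtype_injective).toEquiv, hQmap,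
            CfsgLib.Solv.card_conj_smul, card_dsub P D l hkd]
        rcases D.sub_cases Q with hcyc | ⟨l', k', hk', hQeq⟩
        · exfalso
          haveI : IsCyclic Q := Subgroup.isCyclic_of_le hcyc
          open scoped Pointwise in
          have e : Q ≃* D.sub l (k + 1) :=
            (Subgroup.equivMapOfInjective Q _ (P : Subgroup G).subtype_injective).trans
              ((MulEquiv.subgroupCongr hQmap).trans ((Subgroup.equivSMul (MulAut.conj h) _).symm.trans
                (Subgroup.equivMapOfInjective _ _ (P : Subgroup G).subtype_injective).symm))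
          haveI : IsCyclic (D.sub l (k + 1)) := e.isCyclic.1 inferInstance
          obtain ⟨w, hw⟩ := IsCyclic.exists_generator (α := D.sub l (k + 1))
          have hzo : orderOf D.z = 2 := orderOf_eq_prime (by rw [pow_two]; exact D.z_mul_self) D.z_ne_one
          have hzmem : D.z ∈ D.sub l (k + 1) := (D.pow_mem_sub hkd).2 (pow_dvd_pow 2 (by omega))
          have hymem : D.x ^ l * D.y ∈ D.sub l (k + 1) := (D.out_mem_sub' hkd).2 (by simp)
          have huniq : ∀ a b : D.sub l (k + 1), orderOf a = 2 → orderOf b = 2 → a = b := by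
            intro a b ha hb
            by_contra hne
            have h4 : ({1, a, b} : Set (D.sub l (k + 1))) ⊆ {v | v ^ 2 = 1} := by
              intro v hv
              show v ^ 2 = 1
              rcases hv with e | e | e <;> rw [e]
              · exact one_pow 2
              · have := pow_orderOf_eq_one a; rwa [ha] at this
              · have := pow_orderOf_eq_one b; rwa [hb] at this
            have h5 : ({1, a, b} : Set (D.sub l (k + 1))).ncard = 3 := by
              rw [Set.ncard_insert_of_notMem (by simp [(invol_ne_one ha).symm, (invol_ne_one hb).symm]),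
                Set.ncard_insert_of_notMem (by simp [hne]), Set.ncard_singleton]
            haveI : Fintype (D.sub l (k + 1)) := Fintype.ofFinite _
            classical
            have h6 := IsCyclic.card_pow_eq_one_le (α := D.sub l (k + 1)) two_pos
            have h7 := Set.ncard_le_ncard h4
            rw [h5, Set.ncard_eq_toFinset_card'] at h7
            simp only [Set.toFinset_setOf] at h7
            omega
          have h8 := huniq ⟨_, hzmem⟩ ⟨_, hymem⟩ (by rw [Subgroup.orderOf_mk]; exact hzo)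
            (by rw [Subgroup.orderOf_mk]; exact D.out_order l)
          refine D.out_not_mem l ?_
          have h9 : D.z = D.x ^ l * D.y := congrArg Subtype.val h8
          show D.x ^ l * D.y ∈ Subgroup.zpowers D.x
          rw [← h9]
          exact Subgroup.zpow_mem_zpowers _ _
        · have hkk : k' = k + 1 := by
            rw [hQeq, D.card_sub hk'] at hQc
            have := Nat.pow_right_injective le_rfl hQc
            omega
          subst hkk
          open scoped Pointwise in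
          have hEN : MulAut.conj h • E ≤ dsub P D l' k := by
            intro x hx
            refine ⟨⟨x, hEP hx⟩, ?_, rfl⟩
            rw [← D.normalizer_sub hkd, ← hQeq]
            rw [CfsgLib.Solv.mem_conj_smul_iff] at hx
            obtain ⟨x', -, hx'⟩ := hx
            have hx'N : h⁻¹ * x * h ∈ N := hx' ▸ x'.2
            refine Subgroup.mem_normalizer_iff.2 fun q => ?_
            simp only [hQ, Subgroup.mem_subgroupOf, CfsgLib.Solv.mem_conj_smul_iff, Subgroup.coe_mul, Subgroup.coe_inv]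
            have := Subgroup.mem_normalizer_iff.1 hx'N (h⁻¹ * (q : G) * h)
            simpa [mul_assoc] using this
          rw [← CfsgLib.Solv.card_conj_smul h E]
          refine (Subgroup.card_le_of_le hEN).trans ?_
          rw [card_dsub P D l' (by omega), card_dsub P D l (by omega)]
    obtain ⟨-, Ti, hTi⟩ := hnorm i
    set N := Subgroup.normalizer (B : Set G) with hN
    obtain ⟨-, Tj, hTj⟩ : dsub P D j k ≤ N ∧ ∃ T : Sylow 2 N, (T : Subgroup N).map N.subtype = dsub P D j k := hnorm j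
    open scoped Pointwise in
    have hgN : ∀ x ∈ dsub P D i k, g * x * g⁻¹ ∈ N := by
      intro x hx
      have hx' := (hnorm i).1 hx
      rw [hN, ← hgA]
      refine Subgroup.mem_normalizer_iff.2 fun q => ?_
      simp only [CfsgLib.Solv.mem_conj_smul_iff]
      have := Subgroup.mem_normalizer_iff.1 hx' (g⁻¹ * q * g)
      simpa [mul_assoc] using this
    obtain ⟨n, hn⟩ : ∃ n ∈ N, ∀ x ∈ dsub P D i k, (n * g) * x * (n * g)⁻¹ ∈ dsub P D j k := by
      open scoped Pointwise in
      have hle : MulAut.conj g • dsub P D i k ≤ N := by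
        intro x hx
        rw [CfsgLib.Solv.mem_conj_smul_iff] at hx
        simpa [mul_assoc] using hgN _ hx
      open scoped Pointwise in
      obtain ⟨T, hT⟩ := ((IsPGroup.of_equiv (P.2.to_le (dsub_le P D i k)) (Subgroup.equivSMul (MulAut.conj g) _)).comap_of_injective
        N.subtype N.subtype_injective : IsPGroup 2 ((MulAut.conj g • dsub P D i k).subgroupOf N)).exists_le_sylow
      obtain ⟨n, hn⟩ := MulAction.exists_smul_eq N T Tj
      refine ⟨n, n.2, fun x hx => ?_⟩
      rw [← hTj]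
      have hxT : (⟨g * x * g⁻¹, hgN x hx⟩ : N) ∈ (T : Subgroup N) := hT (Subgroup.mem_subgroupOf.2 (by
        rw [CfsgLib.Solv.mem_conj_smul_iff]; simpa [mul_assoc] using hx))
      refine ⟨n * ⟨g * x * g⁻¹, hgN x hx⟩ * n⁻¹, ?_, ?_⟩
      · rw [← hn, Sylow.coe_subgroup_smul, SetLike.mem_coe, CfsgLib.Solv.mem_conj_smul_iff]
        have e : n⁻¹ * (n * (⟨g * x * g⁻¹, hgN x hx⟩ : N) * n⁻¹) * n = ⟨g * x * g⁻¹, hgN x hx⟩ := by group
        rw [e]
        exact hxT
      · simp [mul_assoc]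
    obtain ⟨hnN, hn⟩ := hn
    rcases Nat.eq_zero_or_pos k with hk0 | hk0
    · subst hk0
      have hS : ∀ l : ℤ, dsub P D l 0 = (P : Subgroup G) := by
        intro l
        refine Subgroup.eq_of_le_of_card_ge (dsub_le P D l 0) ?_
        rw [card_dsub P D l (Nat.zero_le _), Nat.sub_zero, D.card_eq]
      simp only [hS] at hn
      set g' := n * g with hg'
      have hgP : g' ∈ Subgroup.normalizer ((P : Subgroup G) : Set G) := by
        open scoped Pointwise in
        have he : MulAut.conj g' • (P : Subgroup G) = P := by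
          refine Subgroup.eq_of_le_of_card_ge (fun x hx => ?_) (CfsgLib.Solv.card_conj_smul _ _).ge
          rw [CfsgLib.Solv.mem_conj_smul_iff] at hx
          simpa [mul_assoc] using hn _ hx
        refine Subgroup.mem_normalizer_iff.2 fun x => ?_
        conv_rhs => rw [← he, CfsgLib.Solv.mem_conj_smul_iff]
        simp [mul_assoc]
      obtain ⟨T⟩ : Nonempty (Sylow 2 (Subgroup.normalizer ((P : Subgroup G) : Set G))) := inferInstance
      have hcent : ∀ x ∈ Subgroup.normalizer ((P : Subgroup G) : Set G), Nat.Coprime (orderOf x) 2 →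
          x ∈ Subgroup.centralizer ((P : Subgroup G) : Set G) := by
        intro x hx hxo
        refine (centralize_or_klein P D le_rfl hx (Nat.coprime_two_right.1 hxo)).resolve_right fun hK => ?_
        have := hK.card_four
        rw [D.card_eq] at this
        have h2 : 2 ^ 3 ≤ 2 ^ (d + 2) := Nat.pow_le_pow_right two_pos (by omega)
        omega
      obtain ⟨s, hs, c, hc, -, hsc⟩ := CfsgLib.Solv.exists_mul_of_pElements T hcent hgP
      have hsP : (s : G) ∈ (P : Subgroup G) := by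
        obtain ⟨R, hR⟩ := (T.2.map (Subgroup.normalizer ((P : Subgroup G) : Set G)).subtype).exists_le_sylow
        haveI hn : ((P : Subgroup G).subgroupOf (Subgroup.normalizer ((P : Subgroup G) : Set G))).Normal :=
          Subgroup.normal_in_normalizer
        have hPT : (P : Subgroup G).subgroupOf (Subgroup.normalizer ((P : Subgroup G) : Set G)) ≤ T :=
          IsPGroup.le_sylow_of_normal (N := (P : Subgroup G).subgroupOf _)
            (P.2.comap_of_injective _ (Subgroup.normalizer ((P : Subgroup G) : Set G)).subtype_injective) T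
        have hPR : (P : Subgroup G) ≤ R := fun x hx =>
          hR ⟨⟨x, Subgroup.le_normalizer hx⟩, hPT hx, rfl⟩
        exact (P.3 R.2 hPR).le (hR ⟨s, hs, rfl⟩)
      set t : (P : Subgroup G) := D.x ^ i * D.y with ht
      have htA : (t : G) ∈ A := ⟨t, (D.out_mem_sub' hkd).2 (by simp), rfl⟩
      have h3 : n * (g * t * g⁻¹) * n⁻¹ ∈ B := (Subgroup.mem_normalizer_iff.1 hnN _).1 (hg _ htA)
      have h4 : n * (g * (t : G) * g⁻¹) * n⁻¹ = (s : G) * t * (s : G)⁻¹ := by
        have hct : c * (t : G) * c⁻¹ = t := by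
          rw [← Subgroup.mem_centralizer_iff.1 hc _ t.2, mul_inv_cancel_right]
        calc n * (g * (t : G) * g⁻¹) * n⁻¹ = g' * t * g'⁻¹ := by rw [hg']; group
          _ = (s : G) * (c * t * c⁻¹) * (s : G)⁻¹ := by rw [← hsc]; group
          _ = _ := by rw [hct]
      rw [h4] at h3
      obtain ⟨u, hu, hue⟩ := h3
      have hu2 : u = (⟨s, hsP⟩ : (P : Subgroup G)) * t * (⟨s, hsP⟩ : (P : Subgroup G))⁻¹ := Subtype.ext (by
        simp only [Subgroup.coe_mul, Subgroup.coe_inv]; exact hue)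
      rw [hu2, ht] at hu
      rcases D.cases (⟨s, hsP⟩ : (P : Subgroup G)) with ⟨m, hm⟩ | ⟨m, hm⟩
      · rw [hm, D.conj_out_pow, SetLike.mem_coe, D.out_mem_sub' hkd, zero_add, pow_one] at hu
        omega
      · rw [hm, D.conj_out_out, SetLike.mem_coe, D.out_mem_sub' hkd, zero_add, pow_one] at hu
        omega
    · exact ih (by omega) i j (n * g) hk0 hn

end Sylow

end CfsgLib.Inv
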