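import Cfsg.Prelude.Def_IsolatedElements
import Cfsg.Prelude.Def_TwoFusion
import Cfsg.Agent.Inv.Dihedral
import Mathlib.GroupTheory.Sylow

/-! Isolated involutions. -/

set_option autoImplicit false

namespace CfsgLib.Inv

variable {G : Type*} [Group G]

theorem pair_isPGroup_of_commute {u v : G} (hu : orderOf u = 2) (hv : orderOf v = 2)
    (h : Commute u v) : IsPGroup 2 ↥(Subgroup.closure ({u, v} : Set G)) := by
  rintro ⟨d, hd⟩
  refine ⟨1, Subtype.ext ?_⟩
  simp only [SubmonoidClass.coe_pow, pow_one, OneMemClass.coe_one]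
  rw [pow_two]
  have huv : (u * v) * (u * v) = 1 := by
    rw [h.symm.mul_mul_mul_comm, invol_mul_self hu, invol_mul_self hv, one_mul]
  rcases (mem_pair_iff hu hv).1 hd with ⟨k, rfl⟩ | ⟨k, rfl⟩
  · rw [← zpow_add, show k + k = 2 * k by ring, zpow_mul, zpow_two, huv, one_zpow]
  · rw [refl_mul_refl hu hv, sub_self, zpow_zero]

/-- An involution that is alone in its class inside a Sylow 2-subgroup is isolated. -/
theorem isolated_of_sylow [Finite G] (P : Sylow 2 G) {u : G} (hu : orderOf u = 2)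
    (huP : u ∈ P) (hiso : ∀ g : G, g * u * g⁻¹ ∈ P → g * u * g⁻¹ = u) : Cfsg.IsIsolated u := by
  intro g hg
  obtain ⟨Q, hQ⟩ := (pair_isPGroup_of_commute hu (invol_conj hu g) hg).exists_le_sylow
  obtain ⟨h, rfl⟩ := MulAction.exists_smul_eq G P Q
  have hin : ∀ w : G, w ∈ Subgroup.closure ({u, g * u * g⁻¹} : Set G) → h⁻¹ * w * h ∈ P := by
    intro w hw
    have h2 := hQ hw
    change w ∈ (P : Subgroup G).map (MulAut.conj h).toMonoidHom at h2
    obtain ⟨p, hp, rfl⟩ := Subgroup.mem_map.1 h2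
    have hp' : p ∈ P := hp
    simpa [MulAut.conj_apply, mul_assoc] using hp'
  have e0 := hin u (Subgroup.subset_closure (by simp))
  have e1 := hin (g * u * g⁻¹) (Subgroup.subset_closure (by simp))
  have f0 := hiso h⁻¹ (by simpa using e0)
  have f1 := hiso (h⁻¹ * g) (by simpa [mul_assoc] using e1)
  rw [inv_inv] at f0
  calc g * u * g⁻¹ = h * ((h⁻¹ * g) * u * (h⁻¹ * g)⁻¹) * h⁻¹ := by group
    _ = h * u * h⁻¹ := by rw [f1]
    _ = h * (h⁻¹ * u * h) * h⁻¹ := by rw [f0]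
    _ = u := by group

/-- The product of an isolated involution with any conjugate has odd order. -/
theorem isolated_odd [Finite G] {z : G} (hz : orderOf z = 2) (hiso : Cfsg.IsIsolated z) (g : G) :
    Odd (orderOf (z * (g * z * g⁻¹))) := by
  by_contra hne
  rw [Nat.not_odd_iff_even] at hne
  set v := g * z * g⁻¹ with hv
  have hv2 : orderOf v = 2 := invol_conj hz g
  obtain ⟨hw, hcz, -⟩ := even_center hz hv2 hne
  set n := orderOf (z * v) / 2
  have key : ∃ c : G, c * z * c⁻¹ = z * (z * v) ^ n := by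
    rcases Nat.even_or_odd n with ⟨m, hm⟩ | ⟨m, hm⟩
    · refine ⟨(z * v) ^ (-(m : ℤ)), ?_⟩
      rw [conj_by_zpow hz hv2, ← zpow_natCast (z * v) n]
      congr 2; omega
    · refine ⟨(z * v) ^ (-(m : ℤ)) * g, ?_⟩
      have e : (z * v) ^ (-(m : ℤ)) * g * z * ((z * v) ^ (-(m : ℤ)) * g)⁻¹
          = (z * v) ^ (-(m : ℤ)) * v * ((z * v) ^ (-(m : ℤ)))⁻¹ := by rw [hv]; group
      rw [e]
      calc (z * v) ^ (-(m : ℤ)) * v * ((z * v) ^ (-(m : ℤ)))⁻¹
          = ((z * v) ^ (-(m : ℤ)) * z) * ((z * v) * (z * v) ^ (m : ℤ)) := by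
            rw [mul_assoc ((z * v) ^ (-(m : ℤ))) z, ← mul_assoc z (z * v), ← right_eq hz,
              ← zpow_neg, neg_neg, mul_assoc]
        _ = z * ((z * v) ^ (m : ℤ) * ((z * v) * (z * v) ^ (m : ℤ))) := by
            rw [pair_flip hz hv2, neg_neg, mul_assoc]
        _ = z * (z * v) ^ n := by
            rw [← zpow_one_add, ← zpow_add, ← zpow_natCast (z * v) n]
            congr 2; omega
  obtain ⟨c, hc⟩ := key
  have h1 := hiso c (by rw [hc]; exact (Commute.refl z).mul_right hcz.symm)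
  rw [hc] at h1
  exact invol_ne_one hw (mul_eq_left.1 h1)

theorem isolated_odd' [Finite G] {z : G} (hz : orderOf z = 2) (hiso : Cfsg.IsIsolated z) (g : G) :
    Odd (orderOf (g * z * g⁻¹ * z)) := by
  have h : g * z * g⁻¹ * z = (z * (g * z * g⁻¹))⁻¹ := by
    rw [mul_inv_rev, invol_inv (invol_conj hz g), invol_inv hz]
  rw [h, orderOf_inv]
  exact isolated_odd hz hiso g

theorem isolated_of_isIsolatedInvolution {z : G} (hz : Cfsg.IsIsolatedInvolution z) :
    Cfsg.IsIsolated z := hz.2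

theorem eq_of_sq_eq {a b : G} (ha : Odd (orderOf a)) (hb : Odd (orderOf b))
    (h : a ^ 2 = b ^ 2) : a = b := by
  obtain ⟨m, hm⟩ := ha.mul hb
  have e : ∀ c : G, orderOf c ∣ 2 * m + 1 → (c ^ 2) ^ (m + 1) = c := fun c hc => by
    rw [← pow_mul, show 2 * (m + 1) = (2 * m + 1) + 1 by ring, pow_succ,
      orderOf_dvd_iff_pow_eq_one.1 hc, one_mul]
  rw [← e a (hm ▸ dvd_mul_right _ _), ← e b (hm ▸ dvd_mul_left _ _), h]

theorem odd_of_mem_zpowers [Finite G] {a k : G} (ha : Odd (orderOf a))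
    (hk : k ∈ Subgroup.zpowers a) : Odd (orderOf k) :=
  ha.of_dvd_nat (orderOf_dvd_of_mem_zpowers hk)

theorem sq_of_inverted {z k : G} (hz : orderOf z = 2) (h : z * k * z⁻¹ = k⁻¹) :
    k * z * k⁻¹ = k ^ 2 * z := by
  have : z * k⁻¹ = k * z := by
    calc z * k⁻¹ = z * (z * k * z⁻¹) := by rw [h]
      _ = (z * z) * (k * z⁻¹) := by group
      _ = k * z := by rw [invol_mul_self hz, one_mul, invol_inv hz]
  rw [mul_assoc, this, pow_two, mul_assoc]

/-- The canonical odd-order element carrying `z` to a conjugate `v`. -/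
theorem rep_exists [Finite G] {z v : G} (hz : orderOf z = 2) (hv : orderOf v = 2)
    (hodd : Odd (orderOf (v * z))) :
    ∃ k ∈ Subgroup.zpowers (v * z), Odd (orderOf k) ∧ z * k * z⁻¹ = k⁻¹ ∧ k * z * k⁻¹ = v := by
  obtain ⟨m, hm⟩ := hodd
  have hk : (v * z) ^ (m + 1) ∈ Subgroup.zpowers (v * z) := pow_mem (Subgroup.mem_zpowers _) _
  have hinv : z * (v * z) ^ (m + 1) * z⁻¹ = ((v * z) ^ (m + 1))⁻¹ := by
    rw [← conj_pow, ← inv_pow, mul_inv_rev, invol_inv hz, invol_inv hv]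
    congr 1
    rw [← mul_assoc z v z, mul_assoc (z * v), invol_mul_self hz, mul_one]
  refine ⟨_, hk, odd_of_mem_zpowers ⟨m, hm⟩ hk, hinv, ?_⟩
  rw [sq_of_inverted hz hinv, ← pow_mul, show (m + 1) * 2 = (2 * m + 1) + 1 by ring, ← hm,
    pow_succ, pow_orderOf_eq_one, one_mul, mul_assoc, invol_mul_self hz, mul_one]

theorem rep_unique {z k k' : G} (hz : orderOf z = 2) (h1 : Odd (orderOf k))
    (h2 : Odd (orderOf k')) (i1 : z * k * z⁻¹ = k⁻¹) (i2 : z * k' * z⁻¹ = k'⁻¹)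
    (he : k * z * k⁻¹ = k' * z * k'⁻¹) : k = k' := by
  rw [sq_of_inverted hz i1, sq_of_inverted hz i2] at he
  exact eq_of_sq_eq h1 h2 (mul_right_cancel he)

/-- Two conjugates of an isolated involution inside a subgroup are conjugate in it. -/
theorem isolated_fusion [Finite G] {z : G} (hz : orderOf z = 2) (hiso : Cfsg.IsIsolated z)
    {H : Subgroup G} (hzH : z ∈ H) {g : G} (hg : g * z * g⁻¹ ∈ H) :
    ∃ h ∈ H, h * z * h⁻¹ = g * z * g⁻¹ := by
  obtain ⟨k, hk, -, -, he⟩ := rep_exists hz (invol_conj hz g) (isolated_odd' hz hiso g)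
  exact ⟨k, Subgroup.zpowers_le.2 (mul_mem hg hzH) hk, he⟩

theorem isolated_conj {z : G} (hiso : Cfsg.IsIsolated z) (g : G) :
    Cfsg.IsIsolated (g * z * g⁻¹) := by
  intro x hx
  have h1 : Commute z ((g⁻¹ * x * g) * z * (g⁻¹ * x * g)⁻¹) := by
    have h := hx.map (MulAut.conj g⁻¹).toMonoidHom
    simpa [MulAut.conj_apply, mul_assoc] using h
  calc x * (g * z * g⁻¹) * x⁻¹ = g * ((g⁻¹ * x * g) * z * (g⁻¹ * x * g)⁻¹) * g⁻¹ := by group
    _ = g * z * g⁻¹ := by rw [hiso _ h1]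

theorem inv_of_mem_zpowers {x a k : G} (h : x * a * x⁻¹ = a⁻¹)
    (hk : k ∈ Subgroup.zpowers a) : x * k * x⁻¹ = k⁻¹ := by
  obtain ⟨i, rfl⟩ := Subgroup.mem_zpowers_iff.1 hk
  rw [conj_zpow_eq h, zpow_neg]

theorem commute_of_mem_zpowers {x a k : G} (h : Commute x a)
    (hk : k ∈ Subgroup.zpowers a) : Commute x k := by
  obtain ⟨i, rfl⟩ := Subgroup.mem_zpowers_iff.1 hk
  exact h.zpow_right i

end CfsgLib.Inv
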