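import Cfsg.Agent.Inv.Component
import Cfsg.Agent.Inv.Isolated
import Mathlib.GroupTheory.PGroup
import Mathlib.Tactic

/-! An involution acting on a 2-group or on a subgroup of odd order; centralizers in groups with
`F* = O_2`. -/

set_option autoImplicit false
set_option linter.style.haveILetI false

open scoped commutatorElement

namespace CfsgLib.Inv

variable {G : Type*} [Group G]

theorem odd_orderOf_of_mem {N : Subgroup G} (hN : Odd (Nat.card N)) {x : G} (hx : x ∈ N) :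
    Odd (orderOf x) := by
  rw [← Subgroup.orderOf_mk x hx]
  exact hN.of_dvd_nat (orderOf_dvd_natCard _)

theorem eq_one_of_odd_of_mem_pGroup {Q : Subgroup G} (hQ : IsPGroup 2 Q) {x : G} (hx : x ∈ Q)
    (ho : Odd (orderOf x)) : x = 1 := by
  obtain ⟨k, hk⟩ := hQ ⟨x, hx⟩
  have hk' : x ^ (2 ^ k) = 1 := by simpa [Subtype.ext_iff] using hk
  rw [← orderOf_eq_one_iff]
  exact Nat.eq_one_of_dvd_coprimes (Nat.Coprime.pow_right k (Nat.coprime_two_right.2 ho))
    dvd_rfl (orderOf_dvd_of_pow_eq_one hk')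

theorem exists_sqrt {a : G} (ho : Odd (orderOf a)) :
    ∃ b ∈ Subgroup.zpowers a, b * b = a := by
  obtain ⟨m, hm⟩ := ho
  refine ⟨a ^ (m + 1), pow_mem (Subgroup.mem_zpowers a) _, ?_⟩
  rw [← pow_add, show (m + 1) + (m + 1) = (2 * m + 1) + 1 by ring, ← hm, pow_succ,
    pow_orderOf_eq_one, one_mul]

theorem inv_eq_self_of_sq {a : G} (ha : a * a = 1) : a⁻¹ = a := inv_eq_of_mul_eq_one_right ha

/-- Thompson's P×Q lemma for an element of order at most two: an odd element commuting with `a`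
and centralizing `C_Q(a)` centralizes the 2-group `Q`. -/
theorem pxq [Finite G] {Q : Subgroup G} (hQ : IsPGroup 2 Q) {a d : G} (ha : a * a = 1)
    (hd : Odd (orderOf d)) (had : Commute a d) (haQ : a ∈ Subgroup.normalizer (Q : Set G))
    (hdQ : d ∈ Subgroup.normalizer (Q : Set G))
    (h : ∀ q ∈ Q, Commute a q → Commute d q) : ∀ q ∈ Q, Commute d q := by
  set K : Subgroup G := Q ⊓ Subgroup.centralizer ({d} : Set G) with hK
  have hmem : ∀ q, q ∈ K ↔ q ∈ Q ∧ Commute d q := fun q => by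
    rw [hK, Subgroup.mem_inf, Subgroup.mem_centralizer_singleton_iff]
    exact Iff.and Iff.rfl ⟨fun e => e.symm, fun e => e.symm⟩
  have hconjQ : ∀ q ∈ Q, ∀ g ∈ Subgroup.normalizer (Q : Set G), g * q * g⁻¹ ∈ Q :=
    fun q hq g hg => (Subgroup.mem_normalizer_iff.1 hg q).1 hq
  have hda : ∀ q, Commute d q → Commute d (a * q * a⁻¹) := fun q hq =>
    (had.symm.mul_right hq).mul_right had.symm.inv_right
  have haK : ∀ q ∈ K, a * q * a⁻¹ ∈ K := fun q hq =>
    (hmem _).2 ⟨hconjQ q ((hmem q).1 hq).1 a haQ, hda q ((hmem q).1 hq).2⟩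
  suffices hle : Q ≤ K from fun q hq => ((hmem q).1 (hle hq)).2
  by_contra hne
  -- an element of `N_Q(K)` outside `K`
  haveI := hQ.isNilpotent
  have hlt : K.subgroupOf Q < ⊤ := lt_top_iff_ne_top.2 fun e => hne (Subgroup.subgroupOf_eq_top.1 e)
  obtain ⟨⟨n, hnQ⟩, hnN, hnK⟩ :=
    SetLike.exists_of_lt (Group.normalizerCondition_of_isNilpotent _ hlt)
  have hnK' : n ∉ K := hnK
  have hnorm : ∀ k ∈ K, n * k * n⁻¹ ∈ K ∧ n⁻¹ * k * n ∈ K := by
    intro k hk
    have hkQ := ((hmem k).1 hk).1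
    have h1 := (Subgroup.mem_normalizer_iff.1 hnN ⟨k, hkQ⟩).1 hk
    have h2 := (Subgroup.mem_normalizer_iff.1 (inv_mem hnN) ⟨k, hkQ⟩).1 hk
    refine ⟨h1, ?_⟩
    simpa using (show (((⟨n, hnQ⟩ : Q)⁻¹ * ⟨k, hkQ⟩ * (⟨n, hnQ⟩ : Q)⁻¹⁻¹ : Q) : G) ∈ K from h2)
  -- replace it by one fixed by `a` modulo `K`
  obtain ⟨n', hn'Q, hn'K, hn'a⟩ : ∃ n' ∈ Q, n' ∉ K ∧ n'⁻¹ * (a * n' * a⁻¹) ∈ K := by
    set m := n⁻¹ * (a * n * a⁻¹) with hm
    have hmQ : m ∈ Q := mul_mem (inv_mem hnQ) (hconjQ n hnQ a haQ)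
    have hminv : a * m * a⁻¹ = m⁻¹ := by
      rw [hm, inv_eq_self_of_sq ha]
      calc a * (n⁻¹ * (a * n * a)) * a = a * n⁻¹ * a * n * (a * a) := by group
        _ = a * n⁻¹ * a * n := by rw [ha, mul_one]
        _ = (n⁻¹ * (a⁻¹ * n * a⁻¹))⁻¹ := by group
        _ = _ := by rw [inv_eq_self_of_sq ha]
    classical
    have hex : ∃ i, m ^ (2 ^ i) ∈ K := by
      obtain ⟨i, hi⟩ := hQ ⟨m, hmQ⟩
      exact ⟨i, by rw [show m ^ (2 ^ i) = 1 by simpa [Subtype.ext_iff] using hi]; exact one_mem K⟩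
    rcases Nat.eq_zero_or_pos (Nat.find hex) with h0 | hpos
    · exact ⟨n, hnQ, hnK', by simpa [h0] using Nat.find_spec hex⟩
    · refine ⟨m ^ (2 ^ (Nat.find hex - 1)), pow_mem hmQ _, Nat.find_min hex (by omega), ?_⟩
      rw [← conj_pow, hminv, inv_pow, ← mul_inv_rev, ← pow_add, ← two_mul, ← pow_succ',
        Nat.sub_add_cancel hpos]
      exact inv_mem (Nat.find_spec hex)
  set k := n'⁻¹ * (a * n' * a⁻¹) with hk
  have hkd : Commute d k := ((hmem k).1 hn'a).2
  set c := d * n' * d⁻¹ * n'⁻¹ with hc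
  have hcQ : c ∈ Q := mul_mem (hconjQ n' hn'Q d hdQ) (inv_mem hn'Q)
  have hna : a * n' * a⁻¹ = n' * k := by rw [hk]; group
  have hca : Commute a c := by
    have e : a * c * a⁻¹ = c := by
      calc a * c * a⁻¹ = (a * d) * n' * (d⁻¹ * a⁻¹) * (a * n' * a⁻¹)⁻¹ := by rw [hc]; group
        _ = (d * a) * n' * (a⁻¹ * d⁻¹) * (a * n' * a⁻¹)⁻¹ := by
            rw [had.eq, had.inv_inv.symm.eq]
        _ = d * (a * n' * a⁻¹) * d⁻¹ * (a * n' * a⁻¹)⁻¹ := by group
        _ = d * n' * (k * d⁻¹) * k⁻¹ * n'⁻¹ := by rw [hna]; group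
        _ = c := by rw [hkd.symm.inv_right.eq, hc]; group
    calc a * c = a * c * a⁻¹ * a := by group
      _ = c * a := by rw [e]
  have hcd : Commute d c := h c hcQ hca
  have hpow : ∀ j : ℕ, d ^ j * n' * (d ^ j)⁻¹ = c ^ j * n' := by
    intro j
    induction j with
    | zero => simp
    | succ j ih =>
      calc d ^ (j + 1) * n' * (d ^ (j + 1))⁻¹ = d * (d ^ j * n' * (d ^ j)⁻¹) * d⁻¹ := by
            rw [pow_succ']; group
        _ = (d * c ^ j) * n' * d⁻¹ := by rw [ih]; group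
        _ = c ^ j * (d * n' * d⁻¹) := by rw [(hcd.pow_right j).eq]; group
        _ = c ^ j * (c * n') := by rw [hc]; group
        _ = c ^ (j + 1) * n' := by rw [pow_succ]; group
  have hc1 : c = 1 := by
    refine eq_one_of_odd_of_mem_pGroup hQ hcQ (hd.of_dvd_nat (orderOf_dvd_of_pow_eq_one ?_))
    have h2 := hpow (orderOf d)
    rw [pow_orderOf_eq_one, one_mul, inv_one, mul_one] at h2
    exact right_eq_mul.1 h2
  exact hn'K ((hmem n').2 ⟨hn'Q, by
    show d * n' = n' * d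
    calc d * n' = c * (n' * d) := by rw [hc]; group
      _ = n' * d := by rw [hc1, one_mul]⟩)

/-- `C_{G/N}(a)` is the image of `C_G(a)` for odd `N` and `a * a = 1`. -/
theorem lift_centralizer [Finite G] (N : Subgroup G) [hNn : N.Normal] (hN : Odd (Nat.card N)) {a g : G}
    (ha : a * a = 1) (h : g * a * g⁻¹ * a⁻¹ ∈ N) : ∃ u ∈ N, Commute a (u⁻¹ * g) := by
  set w := g * a * g⁻¹ * a⁻¹ with hw
  have hinv : a * w * a⁻¹ = w⁻¹ := by
    rw [hw, inv_eq_self_of_sq ha]
    calc a * (g * a * g⁻¹ * a) * a = a * g * a * g⁻¹ * (a * a) := by group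
      _ = a * g * a * g⁻¹ := by rw [ha, mul_one]
      _ = a * g * a⁻¹ * g⁻¹ := by rw [inv_eq_self_of_sq ha]
      _ = (g * a * g⁻¹ * a⁻¹)⁻¹ := by group
      _ = _ := by rw [inv_eq_self_of_sq ha]
  obtain ⟨u, hu, hu2⟩ := exists_sqrt (odd_orderOf_of_mem hN h)
  have hui : a * u * a⁻¹ = u⁻¹ := inv_of_mem_zpowers hinv hu
  refine ⟨u, Subgroup.zpowers_le.2 h hu, ?_⟩
  have e : u * a * u⁻¹ = w * a := by
    calc u * a * u⁻¹ = u * (a * u⁻¹ * a⁻¹) * a := by group
      _ = w * a := by rw [← conj_inv, hui, inv_inv, hu2]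
  calc a * (u⁻¹ * g) = u⁻¹ * (u * a * u⁻¹) * g := by group
    _ = u⁻¹ * g * a := by rw [e, hw]; group

theorem fitting_eq_pCore_two [Finite G] (hO : Cfsg.pPrimeCore 2 G = ⊥) :
    Cfsg.fittingSubgroup G = Cfsg.pCore 2 G := by
  refine le_antisymm ?_ ?_
  · rw [CfsgLib.Solv.fittingSubgroup_eq_iSup_pCore]
    refine iSup_le fun q => ?_
    by_cases hq : (q : ℕ) = 2
    · rw [hq]
    · haveI := Fact.mk q.2
      obtain ⟨n, hn⟩ := IsPGroup.iff_card.1 (CfsgLib.Fus.isPGroup_pCore (G := G) (p := (q : ℕ)))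
      haveI := CfsgLib.Fus.normal_pCore (G := G) (q : ℕ)
      have h : Cfsg.pCore (q : ℕ) G ≤ Cfsg.pPrimeCore 2 G :=
        CfsgLib.Fus.le_pPrimeCore inferInstance
          (hn ▸ ((Nat.coprime_primes q.2 Nat.prime_two).2 hq).pow_left n)
      exact h.trans (hO.le.trans bot_le)
  · haveI := CfsgLib.Fus.normal_pCore (G := G) 2
    exact CfsgLib.Solv.le_fittingSubgroup
      (CfsgLib.Fus.isPGroup_pCore (G := G) (p := 2)).isNilpotent

theorem genFitting_eq_pCore_two [Finite G] (hE : Cfsg.layer G = ⊥)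
    (hO : Cfsg.pPrimeCore 2 G = ⊥) : Cfsg.generalizedFittingSubgroup G = Cfsg.pCore 2 G := by
  rw [Cfsg.generalizedFittingSubgroup, hE, bot_sup_eq, fitting_eq_pCore_two hO]

/-- In a group with `F* = O_2`, an odd element commuting with `a` (`a * a = 1`) and centralizing
`C(a) ∩ O_2` is trivial. -/
theorem char2_kill [Finite G]
    (hF : Cfsg.generalizedFittingSubgroup G = Cfsg.pCore 2 G) {a d : G} (ha : a * a = 1)
    (hd : Odd (orderOf d)) (had : Commute a d)
    (h : ∀ q ∈ Cfsg.pCore 2 G, Commute a q → Commute d q) : d = 1 := by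
  haveI := CfsgLib.Fus.normal_pCore (G := G) 2
  have hQ : IsPGroup 2 (Cfsg.pCore 2 G) := CfsgLib.Fus.isPGroup_pCore
  have key := pxq hQ ha hd had (Subgroup.normalizer_eq_top (H := Cfsg.pCore 2 G) ▸ Subgroup.mem_top a)
    (Subgroup.normalizer_eq_top (H := Cfsg.pCore 2 G) ▸ Subgroup.mem_top d) h
  refine eq_one_of_odd_of_mem_pGroup hQ ?_ hd
  rw [← hF]
  refine centralizer_genFitting_le ?_
  rw [hF, Subgroup.mem_centralizer_iff]
  exact fun q hq => (key q hq).eq.symm

/-- An odd-order subgroup of `C(a)` normalized by `C(a) ∩ O_2` is trivial when `F* = O_2`. -/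
theorem char2_odd_trivial [Finite G]
    (hF : Cfsg.generalizedFittingSubgroup G = Cfsg.pCore 2 G) {a : G} (ha : a * a = 1)
    {D : Subgroup G} (hD : Odd (Nat.card D)) (hDa : ∀ d ∈ D, Commute a d)
    (hn : ∀ q ∈ Cfsg.pCore 2 G, Commute a q → ∀ d ∈ D, q * d * q⁻¹ ∈ D) : D = ⊥ := by
  rw [eq_bot_iff]
  intro d hd
  refine Subgroup.mem_bot.2 (char2_kill hF ha (odd_orderOf_of_mem hD hd) (hDa d hd) fun q hq hqa => ?_)
  haveI := CfsgLib.Fus.normal_pCore (G := G) 2
  have h1 : d * q * d⁻¹ * q⁻¹ ∈ Cfsg.pCore 2 G :=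
    mul_mem (Subgroup.Normal.conj_mem inferInstance q hq d) (inv_mem hq)
  have h2 : d * q * d⁻¹ * q⁻¹ ∈ D := by
    rw [show d * q * d⁻¹ * q⁻¹ = d * (q * d⁻¹ * q⁻¹) by group]
    exact mul_mem hd (hn q hq hqa _ (inv_mem hd))
  have h3 := eq_one_of_odd_of_mem_pGroup CfsgLib.Fus.isPGroup_pCore h1 (odd_orderOf_of_mem hD h2)
  calc d * q = d * q * d⁻¹ * q⁻¹ * (q * d) := by group
    _ = q * d := by rw [h3, one_mul]

/-- If `F*(G) = O_2(G)` and `a * a = 1` then `C(a)` has no component. -/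
theorem char2_centralizer_no_component [Finite G]
    (hF : Cfsg.generalizedFittingSubgroup G = Cfsg.pCore 2 G) {a : G} (ha : a * a = 1)
    (K : Subgroup (Subgroup.centralizer ({a} : Set G))) : ¬ Cfsg.IsComponent K := by
  intro hK
  haveI := CfsgLib.Fus.normal_pCore (G := G) 2
  have hQ : IsPGroup 2 ((Cfsg.pCore 2 G).subgroupOf (Subgroup.centralizer ({a} : Set G))) :=
    (CfsgLib.Fus.isPGroup_pCore (G := G) (p := 2)).comap_of_injective _ (Subgroup.centralizer ({a} : Set G)).subtype_injective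
  have hodd : ∀ k ∈ K, Odd (orderOf k) → k = 1 := by
    intro k hk ho
    refine Subtype.ext (char2_kill hF ha (by rwa [Subgroup.orderOf_coe])
      (Subgroup.mem_centralizer_singleton_iff.1 k.2).symm fun q hq hqa => ?_)
    have hqC : q ∈ (Subgroup.centralizer ({a} : Set G)) := Subgroup.mem_centralizer_singleton_iff.2 hqa.eq.symm
    haveI := hQ.isNilpotent
    have h := Subgroup.commutator_eq_bot_iff_le_centralizer.1
      (component_commute_solvable hK (inferInstance : ((Cfsg.pCore 2 G).subgroupOf (Subgroup.centralizer ({a} : Set G))).Normal).isSubnormal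
        inferInstance) hk
    exact (congrArg Subtype.val ((Subgroup.mem_centralizer_iff.1 h ⟨q, hqC⟩ hq))).symm
  have hp : IsPGroup 2 K := by
    rw [IsPGroup.iff_card]
    refine ⟨_, Nat.eq_prime_pow_of_unique_prime_dvd (Nat.card_pos.ne') fun {q} hq hqd => ?_⟩
    by_contra hq2
    haveI := Fact.mk hq
    obtain ⟨x, hx⟩ := exists_prime_orderOf_dvd_card' q hqd
    have h1 : orderOf (x : (Subgroup.centralizer ({a} : Set G))) = q := by rw [Subgroup.orderOf_coe, hx]
    have := hodd (x : (Subgroup.centralizer ({a} : Set G))) x.2 (h1 ▸ hq.odd_of_ne_two hq2)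
    rw [this, orderOf_one] at h1
    exact hq.one_lt.ne h1
  haveI := hp.isNilpotent
  exact component_not_solvable hK inferInstance

theorem quasisimple_of_dichotomy [Nontrivial G] (hperf : commutator G = ⊤)
    (h : ∀ N : Subgroup G, N.Normal → N ≤ Subgroup.center G ∨ N = ⊤) : Cfsg.IsQuasisimple G := by
  haveI : Group.IsPerfect G := ⟨hperf⟩
  refine ⟨⟨hperf⟩, ?_⟩
  have hc : Subgroup.center G ≠ ⊤ := by
    intro h
    haveI : IsMulCommutative G :=
      ⟨⟨fun a b => (Subgroup.mem_center_iff.1 (h.symm ▸ Subgroup.mem_top a) b).symm⟩⟩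
    exact not_subsingleton G Group.IsPerfect.subsingleton_of_isMulCommutative
  haveI : Nontrivial (G ⧸ Subgroup.center G) := QuotientGroup.nontrivial_iff.2 hc
  refine ⟨fun N hN => ?_⟩
  rcases h _ (hN.comap (QuotientGroup.mk' (Subgroup.center G))) with h1 | h1
  · left
    rw [← Subgroup.map_comap_eq_self_of_surjective (QuotientGroup.mk'_surjective _) N,
      Subgroup.map_eq_bot_iff, QuotientGroup.ker_mk']
    exact h1
  · right
    rw [← Subgroup.map_comap_eq_self_of_surjective (QuotientGroup.mk'_surjective _) N, h1,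
      Subgroup.map_top_of_surjective _ (QuotientGroup.mk'_surjective _)]

/-- A component of `G / N` that is the image of a subgroup centralizing `N` lifts to a component. -/
theorem exists_component_of_central [Finite G] {N : Subgroup G} [hNn : N.Normal]
    {Lb : Subgroup (G ⧸ N)} (hL : Cfsg.IsComponent Lb) {A : Subgroup G} [hA : A.Normal]
    (hNA : N ≤ A) (hAc : ∀ a ∈ A, ∀ n ∈ N, a * n = n * a)
    (hLA : Lb ≤ A.map (QuotientGroup.mk' N)) : ∃ L : Subgroup G, Cfsg.IsComponent L := by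
  set π := QuotientGroup.mk' N with hπ
  set M : Subgroup G := Lb.comap π with hM
  have hMA : M ≤ A := by
    intro x hx
    obtain ⟨a, ha, he⟩ := hLA hx
    have : a⁻¹ * x ∈ N := QuotientGroup.eq.1 he
    simpa using mul_mem ha (hNA this)
  have hNM : N ≤ M := fun x hx => by
    show π x ∈ Lb
    rw [hπ, QuotientGroup.mk'_apply, (QuotientGroup.eq_one_iff x).2 hx]; exact one_mem _
  set L := ⁅M, M⁆ with hL'
  have hLM : L ≤ M := by
    rw [hL', Subgroup.commutator_le]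
    intro a ha b hb
    rw [commutatorElement_def]
    exact mul_mem (mul_mem (mul_mem ha hb) (inv_mem ha)) (inv_mem hb)
  have hmapL : L.map π = Lb := by
    rw [hL', Subgroup.map_commutator, hM,
      Subgroup.map_comap_eq_self_of_surjective (QuotientGroup.mk'_surjective _),
      component_commutator hL]
  have hdec : ∀ x ∈ M, ∃ l ∈ L, ∃ n ∈ N, x = l * n := by
    intro x hx
    obtain ⟨l, hl, he⟩ : π x ∈ L.map π := by rw [hmapL]; exact hx
    exact ⟨l, hl, l⁻¹ * x, QuotientGroup.eq.1 he, by group⟩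
  have hLL : ⁅L, L⁆ = L := by
    refine le_antisymm ?_ ?_
    · exact (Subgroup.commutator_mono hLM hLM).trans_eq hL'.symm
    · rw [hL', Subgroup.commutator_le]
      intro a ha b hb
      obtain ⟨l, hl, n, hn, rfl⟩ := hdec a ha
      obtain ⟨k, hk, m, hm, rfl⟩ := hdec b hb
      have hc : ∀ x ∈ M, ∀ n ∈ N, x * n = n * x := fun x hx n hn => hAc x (hMA hx) n hn
      have e : ⁅l * n, k * m⁆ = ⁅l, k⁆ := by
        rw [commutatorElement_def, commutatorElement_def]
        calc l * n * (k * m) * (l * n)⁻¹ * (k * m)⁻¹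
            = l * (n * k) * m * n⁻¹ * l⁻¹ * (m⁻¹ * k⁻¹) := by group
          _ = l * (k * n) * m * n⁻¹ * l⁻¹ * (m⁻¹ * k⁻¹) := by rw [hc k (hLM hk) n hn]
          _ = l * k * n * (m * n⁻¹) * l⁻¹ * (m⁻¹ * k⁻¹) := by group
          _ = l * k * n * (n⁻¹ * m) * l⁻¹ * (m⁻¹ * k⁻¹) := by
              rw [hc m (hNM hm) n⁻¹ (inv_mem hn)]
          _ = l * k * (m * l⁻¹) * (m⁻¹ * k⁻¹) := by group
          _ = l * k * (l⁻¹ * m) * (m⁻¹ * k⁻¹) := by rw [hc l⁻¹ (inv_mem (hLM hl)) m hm]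
          _ = l * k * l⁻¹ * k⁻¹ := by group
      rw [e]
      rw [hL'] at hl hk
      exact Subgroup.commutator_mem_commutator hl hk
  have hperf : commutator L = ⊤ := by
    rw [← Group.isPerfect_def]; exact Subgroup.isPerfect_iff.2 hLL
  haveI : Nontrivial L := by
    rw [Subgroup.nontrivial_iff_ne_bot]
    intro h
    rw [h, Subgroup.map_bot] at hmapL
    exact component_ne_bot hL hmapL.symm
  have hnorm : (L.subgroupOf M).Normal := by
    refine ⟨fun x hx g => ?_⟩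
    show (g : G) * x * (g : G)⁻¹ ∈ L
    have h1 : ⁅(g : G), (x : G)⁆ ∈ L := by
      rw [hL']; exact Subgroup.commutator_mem_commutator g.2 x.2
    have := mul_mem h1 (show (x : G) ∈ L from hx)
    rw [commutatorElement_def] at this
    simpa using this
  refine ⟨L, Subgroup.IsSubnormal.step _ M hLM (hL.1.comap π) hnorm,
    quasisimple_of_dichotomy hperf fun U hU => ?_⟩
  -- the image of `U` is a normal subgroup of `Lb`
  let φ : L →* Lb := (π.comp L.subtype).codRestrict Lb fun x => hLM x.2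
  have hφ : Function.Surjective φ := by
    rintro ⟨q, hq⟩
    obtain ⟨l, hl, he⟩ : q ∈ L.map π := by rw [hmapL]; exact hq
    exact ⟨⟨l, hl⟩, Subtype.ext he⟩
  haveI := hU.map φ hφ
  rcases quasisimple_normal hL.2 (U.map φ) with h | h
  · left
    have hcent : ∀ x : L, (x : G) ∈ N → x ∈ Subgroup.center L := fun x hx =>
      Subgroup.mem_center_iff.2 fun y => Subtype.ext (hAc _ (hMA (hLM y.2)) _ hx)
    have h1 : ⁅U, (⊤ : Subgroup L)⁆ ≤ Subgroup.center L := by
      rw [Subgroup.commutator_le]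
      intro u hu y _
      refine hcent _ ?_
      have hz := h (Subgroup.mem_map_of_mem φ hu)
      have e : φ ⁅u, y⁆ = 1 := by
        rw [map_commutatorElement, commutatorElement_eq_one_iff_mul_comm]
        exact (Subgroup.mem_center_iff.1 hz _).symm
      exact (QuotientGroup.eq_one_iff _).1 (congrArg Subtype.val e)
    have h2 : ⁅⁅U, (⊤ : Subgroup L)⁆, (⊤ : Subgroup L)⁆ = ⊥ :=
      Subgroup.commutator_top_right_eq_bot_iff_le_center.2 h1
    have h3 : ⁅⁅(⊤ : Subgroup L), U⁆, (⊤ : Subgroup L)⁆ = ⊥ := by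
      rw [Subgroup.commutator_comm ⊤ U]; exact h2
    have h4 := Subgroup.commutator_commutator_eq_bot_of_rotate (H₁ := (⊤ : Subgroup L))
      (H₂ := ⊤) (H₃ := U) h3 h2
    rw [← commutator_def, hperf] at h4
    rw [← Subgroup.commutator_top_right_eq_bot_iff_le_center, Subgroup.commutator_comm]
    exact h4
  · right
    rw [eq_top_iff, ← hperf, commutator_def, Subgroup.commutator_le]
    intro a _ b _
    have hdec' : ∀ x : L, ∃ u ∈ U, ∃ n : L, (n : G) ∈ N ∧ x = u * n := by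
      intro x
      obtain ⟨u, hu, he⟩ : φ x ∈ U.map φ := by rw [h]; trivial
      exact ⟨u, hu, u⁻¹ * x, QuotientGroup.eq.1 (congrArg Subtype.val he), by group⟩
    obtain ⟨u, hu, n, hn, rfl⟩ := hdec' a
    obtain ⟨w, hw, m, hm, rfl⟩ := hdec' b
    have hc : ∀ x n : L, (n : G) ∈ N → x * n = n * x := fun x n hn =>
      Subtype.ext (hAc _ (hMA (hLM x.2)) _ hn)
    have e : ⁅u * n, w * m⁆ = u * w * u⁻¹ * w⁻¹ := by
      rw [commutatorElement_def]
      calc u * n * (w * m) * (u * n)⁻¹ * (w * m)⁻¹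
          = u * (n * (w * m)) * n⁻¹ * u⁻¹ * m⁻¹ * w⁻¹ := by group
        _ = u * ((w * m) * n) * n⁻¹ * u⁻¹ * m⁻¹ * w⁻¹ := by rw [hc (w * m) n hn]
        _ = u * w * (m * u⁻¹) * m⁻¹ * w⁻¹ := by group
        _ = u * w * (u⁻¹ * m) * m⁻¹ * w⁻¹ := by rw [hc u⁻¹ m hm]
        _ = u * w * u⁻¹ * w⁻¹ := by group
    rw [e]
    exact mul_mem (mul_mem (mul_mem hu hw) (inv_mem hu)) (inv_mem hw)

/-- If all elements of an odd-order subgroup commuting with `z` are trivial, `z` inverts it. -/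
theorem inverted_of_no_fixed [Finite G] {V : Subgroup G} (hV : Odd (Nat.card V)) {z : G}
    (hz : z * z = 1) (hzV : ∀ v ∈ V, z * v * z⁻¹ ∈ V)
    (h : ∀ v ∈ V, Commute z v → v = 1) : ∀ v ∈ V, z * v * z⁻¹ = v⁻¹ := by
  let f : V → V := fun v => ⟨(v : G)⁻¹ * (z * v * z⁻¹), mul_mem (inv_mem v.2) (hzV v v.2)⟩
  have hf : Function.Injective f := by
    rintro ⟨x, hx⟩ ⟨y, hy⟩ he
    have he' : x⁻¹ * (z * x * z⁻¹) = y⁻¹ * (z * y * z⁻¹) := congrArg Subtype.val he
    have hc : z * (y * x⁻¹) * z⁻¹ = y * x⁻¹ := by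
      calc z * (y * x⁻¹) * z⁻¹ = (z * y * z⁻¹) * (x⁻¹ * (z * x * z⁻¹))⁻¹ * x⁻¹ := by group
        _ = y * x⁻¹ := by rw [he']; group
    have h1 := h _ (mul_mem hy (inv_mem hx)) (show z * (y * x⁻¹) = (y * x⁻¹) * z by
      calc z * (y * x⁻¹) = z * (y * x⁻¹) * z⁻¹ * z := by group
        _ = (y * x⁻¹) * z := by rw [hc])
    exact Subtype.ext (mul_inv_eq_one.1 h1).symm
  intro v hv
  obtain ⟨⟨x, hx⟩, he⟩ := Finite.injective_iff_surjective.1 hf ⟨v, hv⟩
  have he' : x⁻¹ * (z * x * z⁻¹) = v := congrArg Subtype.val he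
  rw [← he', inv_eq_self_of_sq hz]
  calc z * (x⁻¹ * (z * x * z)) * z = z * x⁻¹ * z * x * (z * z) := by group
    _ = z * x⁻¹ * z * x := by rw [hz, mul_one]
    _ = (x⁻¹ * (z⁻¹ * x * z⁻¹))⁻¹ := by group
    _ = _ := by rw [inv_eq_self_of_sq hz]

/-- If `O(G)` is inverted by some `z` with `z * z = 1`, `G` has no component and `C(z)` has none,
then `G / O(G)` has no component. -/
theorem layer_quotient_eq_bot [Finite G] {z : G} (hz : z * z = 1)
    (hinv : ∀ w ∈ Cfsg.pPrimeCore 2 G, z * w * z⁻¹ = w⁻¹) (hE : Cfsg.layer G = ⊥)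
    (hEz : Cfsg.layer (Subgroup.centralizer ({z} : Set G)) = ⊥)
    [hn : (Cfsg.pPrimeCore 2 G).Normal] :
    Cfsg.layer (G ⧸ Cfsg.pPrimeCore 2 G) = ⊥ := by
  set W := Cfsg.pPrimeCore 2 G with hW
  have hWodd : Odd (Nat.card W) :=
    Nat.coprime_two_right.1 (CfsgLib.Fus.coprime_card_pPrimeCore 2)
  rw [layer_eq_bot_iff]
  intro Lb hL
  set A := Subgroup.centralizer (W : Set G) with hA
  haveI : A.Normal := by rw [hA]; infer_instance
  have hWA : W ≤ A := by
    intro w hw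
    rw [hA, Subgroup.mem_centralizer_iff]
    intro v hv
    have h1 := hinv (v * w) (mul_mem hv hw)
    rw [mul_inv_rev, ← conj_mul, hinv v hv, hinv w hw] at h1
    calc v * w = (w⁻¹ * v⁻¹)⁻¹ := by group
      _ = (v⁻¹ * w⁻¹)⁻¹ := by rw [h1]
      _ = w * v := by group
  rcases component_le_or_commute hL (A.map (QuotientGroup.mk' W))
      (hN := Subgroup.Normal.map inferInstance _ (QuotientGroup.mk'_surjective W)) with h | h
  · obtain ⟨L, hL'⟩ := exists_component_of_central hL hWA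
      (fun a ha n hn => (Subgroup.mem_centralizer_iff.1 ha n hn).symm) h
    exact layer_eq_bot_iff.1 hE L hL'
  · set zb : G ⧸ W := QuotientGroup.mk z with hzb
    have hcomm : ⁅Lb, Subgroup.zpowers zb⁆ ≤ A.map (QuotientGroup.mk' W) := by
      rw [Subgroup.commutator_le]
      intro l _ y hy
      obtain ⟨g, rfl⟩ := QuotientGroup.mk_surjective l
      obtain ⟨i, rfl⟩ := Subgroup.mem_zpowers_iff.1 hy
      have hgz : ⁅g, z⁆ ∈ A := by
        rw [hA, Subgroup.mem_centralizer_iff]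
        intro w hw
        have hw1 : g⁻¹ * w * g ∈ W := by
          have := hn.conj_mem w hw g⁻¹
          rwa [inv_inv] at this
        have e1 : z * w * z⁻¹ = w⁻¹ := hinv w hw
        have e2 : z * (g⁻¹ * w * g) * z⁻¹ = (g⁻¹ * w * g)⁻¹ := hinv _ hw1
        rw [commutatorElement_def]
        have e : (g * z * g⁻¹ * z⁻¹) * w * (g * z * g⁻¹ * z⁻¹)⁻¹ = w := by
          calc (g * z * g⁻¹ * z⁻¹) * w * (g * z * g⁻¹ * z⁻¹)⁻¹
              = g * (z * (g⁻¹ * (z⁻¹ * w * z) * g) * z⁻¹) * g⁻¹ := by group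
            _ = g * (z * (g⁻¹ * w⁻¹ * g) * z⁻¹) * g⁻¹ := by
                rw [show z⁻¹ * w * z = w⁻¹ by
                  rw [inv_eq_self_of_sq hz] at e1 ⊢; exact e1]
            _ = g * (z * (g⁻¹ * w * g) * z⁻¹)⁻¹ * g⁻¹ := by group
            _ = w := by rw [e2]; group
        calc w * (g * z * g⁻¹ * z⁻¹)
            = (g * z * g⁻¹ * z⁻¹) * w * (g * z * g⁻¹ * z⁻¹)⁻¹ * (g * z * g⁻¹ * z⁻¹) := by rw [e]
          _ = g * z * g⁻¹ * z⁻¹ * w := by group
      have hzz : zb ^ (2 : ℤ) = 1 := by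
        rw [zpow_two, hzb, ← QuotientGroup.mk_mul, hz, QuotientGroup.mk_one]
      rcases Int.even_or_odd i with ⟨j, rfl⟩ | ⟨j, rfl⟩
      · rw [show j + j = 2 * j by ring, zpow_mul, hzz, one_zpow]
        simp
      · rw [zpow_add, zpow_mul, hzz, one_zpow, one_mul, zpow_one]
        exact ⟨⁅g, z⁆, hgz, map_commutatorElement _ g z⟩
    have h1 : ⁅⁅Lb, Subgroup.zpowers zb⁆, Lb⁆ = ⊥ := by
      rw [eq_bot_iff, ← h, Subgroup.commutator_comm Lb (A.map _)]
      exact Subgroup.commutator_mono hcomm le_rfl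
    have h2 : ⁅⁅Subgroup.zpowers zb, Lb⁆, Lb⁆ = ⊥ := by
      rwa [Subgroup.commutator_comm (Subgroup.zpowers zb) Lb]
    have h3 := Subgroup.commutator_commutator_eq_bot_of_rotate h1 h2
    rw [component_commutator hL, Subgroup.commutator_eq_bot_iff_le_centralizer] at h3
    set Cz := Subgroup.centralizer ({z} : Set G)
    let ρ : Cz →* G ⧸ W := (QuotientGroup.mk' W).comp Cz.subtype
    have hρ : Function.Injective ρ := by
      rw [injective_iff_map_eq_one]
      intro c hc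
      have hcW : (c : G) ∈ W := (QuotientGroup.eq_one_iff _).1 hc
      have hcz : z * c * z⁻¹ = c := by
        rw [← Subgroup.mem_centralizer_singleton_iff.1 c.2, mul_inv_cancel_right]
      rw [hinv _ hcW] at hcz
      refine Subtype.ext (eq_of_sq_eq (odd_orderOf_of_mem hWodd hcW) (by simp) ?_)
      rw [OneMemClass.coe_one, one_pow, pow_two]
      nth_rw 1 [← hcz]
      exact inv_mul_cancel _
    have hmap : (Lb.comap ρ).map ρ = Lb := by
      rw [Subgroup.map_comap_eq, inf_eq_right]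
      intro l hl
      obtain ⟨g, rfl⟩ := QuotientGroup.mk_surjective l
      have hlz : (zb : G ⧸ W) * g = g * zb :=
        Subgroup.mem_centralizer_iff.1 (h3 hl) zb (Subgroup.mem_zpowers zb)
      have hm : g * z * g⁻¹ * z⁻¹ ∈ W := by
        rw [← QuotientGroup.eq_one_iff]
        simp only [QuotientGroup.mk_mul, QuotientGroup.mk_inv, ← hzb]
        rw [← hlz]; group
      obtain ⟨u, hu, hcu⟩ := lift_centralizer W hWodd hz hm
      refine ⟨⟨u⁻¹ * g, Subgroup.mem_centralizer_singleton_iff.2 hcu.eq.symm⟩, ?_⟩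
      simp [ρ, (QuotientGroup.eq_one_iff u).2 hu]
    exact layer_eq_bot_iff.1 hEz (Lb.comap ρ) ⟨hL.1.comap ρ,
      quasisimple_congr ((Subgroup.equivMapOfInjective _ ρ hρ).trans
        (MulEquiv.subgroupCongr hmap)).symm hL.2⟩

end CfsgLib.Inv
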