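import Mathlib.GroupTheory.Transfer
import Mathlib.GroupTheory.SpecificGroups.Cyclic
import Mathlib.Tactic

/-! Cyclic Sylow 2-subgroups give a subgroup of index 2. -/

set_option autoImplicit false
set_option linter.style.haveILetI false

namespace CfsgLib.Inv

theorem exists_index_two_of_cyclic_sylow {G : Type*} [Group G] [Finite G]
    (heven : Even (Nat.card G)) (T : Sylow 2 G) (hT : IsCyclic (T : Subgroup G)) :
    ∃ H : Subgroup G, H.index = 2 := by
  haveI : Fact (Nat.Prime 2) := ⟨Nat.prime_two⟩
  have hmin : (Nat.card G).minFac = 2 := (Nat.minFac_eq_two_iff _).2 (even_iff_two_dvd.1 heven)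
  have hP := IsCyclic.normalizer_le_centralizer hmin hT
  have hc := MonoidHom.ker_transferSylow_isComplement' T hP
  set f := MonoidHom.transferSylow T hP
  have hsurj : Function.Surjective f := by
    have h := hc.symm.index_eq_card
    rw [← MonoidHom.range_eq_top]
    refine Subgroup.eq_top_of_card_eq _ ?_
    rw [← Subgroup.index_ker, hc.symm.index_eq_card]
  haveI := hT
  obtain ⟨t, ht⟩ := IsCyclic.exists_generator (α := (T : Subgroup G))
  have hTeven : 2 ∣ Nat.card (T : Subgroup G) :=
    Sylow.dvd_card_of_dvd_card T (even_iff_two_dvd.1 heven)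
  refine ⟨(Subgroup.zpowers (t ^ 2)).comap f, ?_⟩
  rw [Subgroup.index_comap_of_surjective _ hsurj]
  have e := (Subgroup.zpowers (t ^ 2)).card_mul_index
  have ho : orderOf t = Nat.card (T : Subgroup G) := orderOf_eq_card_of_forall_mem_zpowers ht
  rw [Nat.card_zpowers, orderOf_pow, ho, Nat.gcd_eq_right hTeven] at e
  obtain ⟨m, hm⟩ := hTeven
  have hpos : 0 < Nat.card (T : Subgroup G) := Nat.card_pos
  rw [hm, Nat.mul_div_cancel_left _ (by norm_num)] at e
  rw [hm] at hpos
  exact Nat.eq_of_mul_eq_mul_left (by omega) (e.trans (mul_comm 2 m))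

end CfsgLib.Inv
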