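import Cfsg.Prelude.Def_LocalStructure
import Cfsg.Agent.Inv.CharP2

/-!
p-closed normal subgroups and p-irreducible groups.
-/

set_option autoImplicit false
set_option linter.style.haveILetI false

namespace CfsgLib.Inv

open Cfsg
open scoped commutatorElement

variable {G : Type*} [Group G] {p : ℕ}

theorem pClosed_iff_le [Finite G] [hp : Fact p.Prime] (N : Subgroup G) [hN : N.Normal] :
    IsPClosed p N ↔ ∀ P : Sylow p N, (P : Subgroup N).map N.subtype ≤ pCore p G := by
  constructor
  · intro h P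
    haveI := h P
    exact le_trans (Subgroup.map_mono (CfsgLib.Solv.le_pCore P.2))
      (CfsgLib.Solv.map_pCore_subtype_le N)
  · intro h P
    haveI := CfsgLib.Solv.pCore_normal G p
    have heq : (P : Subgroup N) = (pCore p G).subgroupOf N :=
      le_antisymm (fun x hx => h P (Subgroup.mem_map.2 ⟨x, hx, rfl⟩))
        ((P.3 (CfsgLib.Solv.pCore_isPGroup G p).comap_subtype
          (fun x hx => h P (Subgroup.mem_map.2 ⟨x, hx, rfl⟩))).le)
    rw [heq]
    exact Subgroup.normal_subgroupOf

theorem pClosed_iff_relIndex [Finite G] [hp : Fact p.Prime] (N : Subgroup G) [hN : N.Normal] :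
    IsPClosed p N ↔ ¬ p ∣ (pCore p G).relIndex N := by
  haveI := CfsgLib.Solv.pCore_normal G p
  obtain ⟨P⟩ : Nonempty (Sylow p N) := inferInstance
  rw [pClosed_iff_le]
  constructor
  · intro h hd
    refine P.not_dvd_index (hd.trans (Subgroup.index_dvd_of_le (K := (pCore p G).subgroupOf N)
      fun x hx => ?_))
    exact h P (Subgroup.mem_map.2 ⟨x, hx, rfl⟩)
  · intro h P'
    have hQp : IsPGroup p ((pCore p G).subgroupOf N) :=
      (CfsgLib.Solv.pCore_isPGroup G p).comap_subtype
    obtain ⟨R, hR⟩ := hQp.exists_le_sylow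
    have hcard : Nat.card ((pCore p G).subgroupOf N) = Nat.card R := by
      obtain ⟨a, ha⟩ := IsPGroup.iff_card.1 hQp
      obtain ⟨b, hb⟩ := IsPGroup.iff_card.1 R.2
      have hd : Nat.card R ∣ Nat.card ((pCore p G).subgroupOf N) * ((pCore p G).subgroupOf N).index := by
        rw [Subgroup.card_mul_index]; exact Subgroup.card_subgroup_dvd_card _
      refine Nat.dvd_antisymm (Subgroup.card_dvd_of_le hR) ?_
      refine Nat.Coprime.dvd_of_dvd_mul_right ?_ hd
      rw [hb]
      exact ((hp.out.coprime_iff_not_dvd).2 h).pow_left b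
    have heq : (pCore p G).subgroupOf N = R := Subgroup.eq_of_le_of_card_ge hR hcard.ge
    haveI : ((R : Sylow p N) : Subgroup N).Normal := heq ▸ Subgroup.normal_subgroupOf
    obtain ⟨g, hg⟩ := MulAction.exists_smul_eq N R P'
    rw [Sylow.smul_eq_of_normal] at hg
    subst hg
    rintro _ ⟨x, hx, rfl⟩
    have hx' : x ∈ (pCore p G).subgroupOf N := by rw [heq]; exact hx
    exact hx'

theorem comap_pCore_of_pgroup [Finite G] [hp : Fact p.Prime] (D : Subgroup G) [hDn : D.Normal]
    (hD : IsPGroup p D) : (pCore p (G ⧸ D)).comap (QuotientGroup.mk' D) = pCore p G := by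
  haveI := CfsgLib.Solv.pCore_normal (G ⧸ D) p
  refine le_antisymm (CfsgLib.Solv.le_pCore ?_) ?_
  · exact (CfsgLib.Solv.pCore_isPGroup (G ⧸ D) p).comap_of_ker_isPGroup _
      (by rw [QuotientGroup.ker_mk']; exact hD)
  · rw [← Subgroup.map_le_iff_le_comap]
    exact CfsgLib.Solv.map_pCore_le (QuotientGroup.mk'_surjective D)

theorem map_pResidual [Finite G] [hp : Fact p.Prime] {G' : Type*} [Group G'] (f : G →* G')
    (hf : Function.Surjective f) : (pResidual p G).map f = pResidual p G' := by
  refine le_antisymm ?_ ?_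
  · rw [pResidual, MonoidHom.map_closure]
    refine Subgroup.closure_mono ?_
    rintro _ ⟨x, hx, rfl⟩
    exact Nat.Coprime.coprime_dvd_left (orderOf_map_dvd f x) hx
  · rw [pResidual, Subgroup.closure_le]
    intro y hy
    obtain ⟨x, rfl⟩ := hf y
    set a := (orderOf x).factorization p
    have hxo : orderOf x ≠ 0 := (orderOf_pos x).ne'
    obtain ⟨m, hm⟩ := exists_pow_eq_self_of_coprime
      ((Nat.Coprime.pow_right a hy).symm : (p ^ a).Coprime (orderOf (f x)))
    refine Subgroup.mem_map.2 ⟨(x ^ p ^ a) ^ m, pow_mem (Subgroup.subset_closure ?_) _, ?_⟩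
    · show (orderOf _).Coprime p
      rw [orderOf_pow_of_dvd (pow_ne_zero _ hp.out.ne_zero) (Nat.ordProj_dvd _ _)]
      exact (Nat.coprime_ordCompl hp.out hxo).symm
    · rw [map_pow, map_pow, hm]

/-- `O^p` and a Sylow subgroup generate. -/
theorem pResidual_sup_sylow [Finite G] [hp : Fact p.Prime] (T : Sylow p G) :
    pResidual p G ⊔ (T : Subgroup G) = ⊤ :=
  eq_top_of_sylow_coprime T le_sup_right fun _ hx => Subgroup.mem_sup_left (Subgroup.subset_closure hx)

theorem pResidual_le_of_sup [Finite G] [hp : Fact p.Prime] {N Y : Subgroup G} [N.Normal]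
    (hY : IsPGroup p Y) (h : pResidual p G ≤ Y ⊔ N) : pResidual p G ≤ N := by
  rw [pResidual, Subgroup.closure_le]
  intro x hx
  rw [SetLike.mem_coe, ← QuotientGroup.eq_one_iff]
  have hmem : QuotientGroup.mk' N x ∈ Y.map (QuotientGroup.mk' N) := by
    have h1 := Subgroup.mem_map_of_mem (QuotientGroup.mk' N) (h (Subgroup.subset_closure hx))
    rwa [Subgroup.map_sup, QuotientGroup.map_mk'_self, sup_bot_eq] at h1
  exact eq_one_of_coprime_mem (hY.map _) hmem
    (Nat.Coprime.coprime_dvd_left (orderOf_map_dvd (QuotientGroup.mk' N) x) hx)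

end CfsgLib.Inv
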