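import Mathlib.GroupTheory.Sylow
import Mathlib.GroupTheory.Nilpotent
import Mathlib.GroupTheory.QuotientGroup.Basic
import Mathlib.Tactic

/-! The Baer–Suzuki theorem. -/

set_option autoImplicit false
set_option linter.style.haveILetI false

namespace CfsgLib.Inv

theorem baer_suzuki_aux {p : ℕ} [hp : Fact p.Prime] :
    ∀ (n : ℕ) (G : Type*) [Group G] [Finite G], Nat.card G ≤ n →
      ∀ Ω : Set (Subgroup G), (∀ Y ∈ Ω, ∀ g : G, Y.map (MulAut.conj g).toMonoidHom ∈ Ω) →
        (∀ Y ∈ Ω, ∀ Z ∈ Ω, IsPGroup p ↥(Y ⊔ Z)) → IsPGroup p ↥(sSup Ω) := by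
  intro n
  induction n with
  | zero => intro G _ _ h; exact absurd h (Nat.not_le.2 Nat.card_pos)
  | succ n ih =>
    intro G _ _ hn Ω₀ hconj₀ hpair₀
    classical
    -- discard the trivial subgroup
    set Ω := Ω₀ \ {⊥} with hΩ
    have hsup : sSup Ω = sSup Ω₀ := sSup_diff_singleton_bot Ω₀
    rw [← hsup]
    have hconj : ∀ Y ∈ Ω, ∀ g : G, Y.map (MulAut.conj g).toMonoidHom ∈ Ω := fun Y hY g =>
      ⟨hconj₀ Y hY.1 g, fun h => hY.2
        ((Subgroup.map_eq_bot_iff_of_injective _ (MulAut.conj g).injective).1 h)⟩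
    have hpair : ∀ Y ∈ Ω, ∀ Z ∈ Ω, IsPGroup p ↥(Y ⊔ Z) := fun Y hY Z hZ => hpair₀ Y hY.1 Z hZ.1
    by_contra hnot
    -- maximal subfamilies generating `p`-groups
    let Good : Set (Subgroup G) → Prop := fun A => A ⊆ Ω ∧ IsPGroup p ↥(sSup A)
    have hext : ∀ A, Good A → ∃ B, A ⊆ B ∧ Maximal Good B := by
      intro A hA
      obtain ⟨B, hB, hmax⟩ := (Set.toFinite {B | Good B}).exists_le_maximal (a := A) hA
      exact ⟨B, hB, hmax⟩
    have hclosed : ∀ A, Maximal Good A → ∀ Y ∈ Ω, Y ≤ sSup A → Y ∈ A := by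
      intro A hA Y hY hle
      have : Good (insert Y A) := ⟨Set.insert_subset hY hA.1.1, by
        rw [sSup_insert, sup_eq_right.2 hle]; exact hA.1.2⟩
      exact hA.2 this (Set.subset_insert _ _) (Set.mem_insert _ _)
    have hgood2 : ∀ Y ∈ Ω, ∀ Z ∈ Ω, Good {Y, Z} := fun Y hY Z hZ =>
      ⟨Set.insert_subset hY (Set.singleton_subset_iff.2 hZ), by rw [sSup_pair]; exact hpair Y hY Z hZ⟩
    -- two distinct maximal families with a common member
    have hexists : ∃ A B, Maximal Good A ∧ Maximal Good B ∧ A ≠ B ∧ (A ∩ B).Nonempty := by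
      obtain ⟨A, -, hA⟩ := hext ∅ ⟨Set.empty_subset _, by rw [sSup_empty]; exact IsPGroup.of_bot⟩
      obtain ⟨Z, hZ, hZA⟩ : ∃ Z ∈ Ω, Z ∉ A := by
        by_contra h
        push Not at h
        exact hnot ((Set.Subset.antisymm hA.1.1 h) ▸ hA.1.2)
      rcases A.eq_empty_or_nonempty with hAe | ⟨Y, hY⟩
      · exfalso
        subst hAe
        exact Set.notMem_empty Z (hA.2 (hgood2 Z hZ Z hZ) (Set.empty_subset _) (Set.mem_insert _ _))
      · obtain ⟨B, hB, hBm⟩ := hext _ (hgood2 Y (hA.1.1 hY) Z hZ)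
        refine ⟨A, B, hA, hBm, ?_, Y, hY, hB (Set.mem_insert _ _)⟩
        rintro rfl
        exact hZA (hB (Set.mem_insert_of_mem _ rfl))
    obtain ⟨A₀, B₀, hA₀, hB₀, hne₀, hint₀⟩ := hexists
    obtain ⟨Δ, hΔmem, hΔmax⟩ :=
      (Set.toFinite {D | ∃ A B, Maximal Good A ∧ Maximal Good B ∧ A ≠ B ∧ D = A ∩ B}).exists_le_maximal
        (a := A₀ ∩ B₀) ⟨A₀, B₀, hA₀, hB₀, hne₀, rfl⟩
    obtain ⟨⟨A, B, hA, hB, hne, rfl⟩, hmaxΔ⟩ := hΔmax
    set D := sSup (A ∩ B) with hD
    have hDne : D ≠ ⊥ := by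
      intro h
      obtain ⟨Y, hY⟩ := hint₀
      have hY' : Y ∈ A ∩ B := hΔmem hY
      exact (hA.1.1 hY'.1).2 (le_bot_iff.1 (h ▸ le_sSup hY'))
    -- a member of `A \ B` normalizing `D`
    have hfind : ∀ A' B', Maximal Good A' → Maximal Good B' → ¬ A' ⊆ B' → sSup (A' ∩ B') = D →
        ∃ Y ∈ A', Y ∉ B' ∧ Y ≤ Subgroup.normalizer (D : Set G) := by
      intro A' B' hA' hB' hsub hD'
      by_contra hno
      push Not at hno
      set S := sSup A' with hS
      have hDS : D ≤ S := hD' ▸ sSup_le_sSup Set.inter_subset_left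
      have hin : ∀ Y ∈ A', Y ≤ Subgroup.normalizer (D : Set G) → Y ≤ D := fun Y hY hYN =>
        hD' ▸ le_sSup ⟨hY, by_contra fun h => hno Y hY h hYN⟩
      set M := (Subgroup.normalizer (D : Set G)).subgroupOf S with hM
      have hMtop : M < ⊤ := by
        refine lt_top_iff_ne_top.2 fun h => hsub fun Y hY => ?_
        have hYN : Y ≤ Subgroup.normalizer (D : Set G) :=
          (le_sSup hY).trans (Subgroup.subgroupOf_eq_top.1 h)
        exact hclosed B' hB' Y (hA'.1.1 hY)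
          ((hin Y hY hYN).trans (hD' ▸ sSup_le_sSup Set.inter_subset_right))
      haveI := IsPGroup.isNilpotent hA'.1.2
      obtain ⟨⟨g, hgS⟩, hgN, hgM⟩ :=
        SetLike.exists_of_lt (Group.normalizerCondition_of_isNilpotent _ hMtop)
      have hgD : D.map (MulAut.conj g).toMonoidHom ≤ D := by
        conv_lhs => rw [← hD']
        rw [Subgroup.map_le_iff_le_comap, sSup_le_iff]
        intro Y hY
        rw [← Subgroup.map_le_iff_le_comap]
        have hYD : Y ≤ D := hD' ▸ le_sSup hY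
        have hYS : Y.map (MulAut.conj g).toMonoidHom ≤ S := by
          rintro _ ⟨y, hy, rfl⟩
          exact mul_mem (mul_mem hgS (hDS (hYD hy))) (inv_mem hgS)
        refine hin _ (hclosed A' hA' _ (hconj Y (hA'.1.1 hY.1) g) hYS) ?_
        rintro _ ⟨y, hy, rfl⟩
        exact (Subgroup.mem_normalizer_iff.1 hgN ⟨y, hDS (hYD hy)⟩).1
          (Subgroup.le_normalizer (hYD hy))
      have heq : D.map (MulAut.conj g).toMonoidHom = D := Subgroup.eq_of_le_of_card_ge hgD
        (Subgroup.card_map_of_injective (MulAut.conj g).injective).ge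
      refine hgM ?_
      show g ∈ Subgroup.normalizer (D : Set G)
      rw [Subgroup.mem_normalizer_iff]
      intro x
      constructor
      · exact fun hx => hgD ⟨x, hx, rfl⟩
      · intro hx
        rw [← heq] at hx
        obtain ⟨y, hy, he⟩ := hx
        simp only [MulEquiv.coe_toMonoidHom, MulAut.conj_apply] at he
        rwa [← mul_left_cancel (mul_right_cancel he)]
    have hABne : ¬ A ⊆ B := fun h => hne (Set.Subset.antisymm h (hA.2 hB.1 h))
    have hBAne : ¬ B ⊆ A := fun h => hne (Set.Subset.antisymm (hB.2 hA.1 h) h)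
    obtain ⟨Y, hYA, hYB, hYN⟩ := hfind A B hA hB hABne rfl
    obtain ⟨Z, hZB, hZA, hZN⟩ := hfind B A hB hA hBAne (by rw [Set.inter_comm])
    set N := Subgroup.normalizer (D : Set G) with hN
    by_cases htop : N = ⊤
    · -- quotient by `D`
      haveI : D.Normal := Subgroup.normalizer_eq_top_iff.1 htop
      set π := QuotientGroup.mk' D
      have hlt : Nat.card (G ⧸ D) ≤ n := by
        have h := D.card_eq_card_quotient_mul_card_subgroup
        have h1 : 1 < Nat.card D := (Subgroup.one_lt_card_iff_ne_bot _).2 hDne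
        have h2 : 0 < Nat.card (G ⧸ D) := Nat.card_pos
        nlinarith
      have hq := ih (G ⧸ D) hlt ((Subgroup.map π) '' Ω) (by
        rintro _ ⟨W, hW, rfl⟩ q
        obtain ⟨g, rfl⟩ := QuotientGroup.mk_surjective q
        refine ⟨_, hconj W hW g, ?_⟩
        rw [Subgroup.map_map, Subgroup.map_map]
        congr 1) (by
        rintro _ ⟨W, hW, rfl⟩ _ ⟨W', hW', rfl⟩
        rw [← Subgroup.map_sup]; exact (hpair W hW W' hW').map π)
      rw [sSup_image, ← (Subgroup.gc_map_comap π).l_sSup] at hq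
      refine hnot ((hq.comap_of_ker_isPGroup π ?_).to_le (Subgroup.le_comap_map _ _))
      rw [QuotientGroup.ker_mk']
      exact hA.1.2.to_le (sSup_le_sSup Set.inter_subset_left)
    · -- induction inside `N`
      have hlt : Nat.card N ≤ n := by
        have h := N.card_mul_index
        have h1 : N.index ≠ 1 := fun h => htop (Subgroup.index_eq_one.1 h)
        have h0 : N.index ≠ 0 := Subgroup.FiniteIndex.index_ne_zero
        have h2 : 0 < Nat.card N := Nat.card_pos
        have : Nat.card N * 2 ≤ Nat.card G := h ▸ Nat.mul_le_mul_left _ (by omega)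
        omega
      have hq := ih N hlt ((fun W : Subgroup G => W.subgroupOf N) '' {W | W ∈ Ω ∧ W ≤ N}) (by
        rintro _ ⟨W, hW, rfl⟩ g
        refine ⟨W.map (MulAut.conj (g : G)).toMonoidHom, ⟨hconj W hW.1 g, ?_⟩, ?_⟩
        · rintro _ ⟨w, hw, rfl⟩
          exact mul_mem (mul_mem g.2 (hW.2 hw)) (inv_mem g.2)
        · ext x
          constructor
          · rintro ⟨w, hw, he⟩
            exact ⟨⟨w, hW.2 hw⟩, hw, Subtype.ext he⟩
          · rintro ⟨w, hw, rfl⟩
            exact ⟨w, hw, rfl⟩) (by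
        rintro _ ⟨W, hW, rfl⟩ _ ⟨W', hW', rfl⟩
        rw [← Subgroup.subgroupOf_sup hW.2 hW'.2]
        exact (hpair W hW.1 W' hW'.1).comap_of_injective _ N.subtype_injective)
      have hR : Good {W | W ∈ Ω ∧ W ≤ N} := by
        refine ⟨fun W hW => hW.1, (hq.map N.subtype).to_le (sSup_le fun W hW => ?_)⟩
        rw [← Subgroup.map_subgroupOf_eq_of_le hW.2]
        exact Subgroup.map_mono (le_sSup ⟨W, hW, rfl⟩)
      obtain ⟨R, hRsub, hRm⟩ := hext _ hR
      have hΔN : A ∩ B ⊆ {W | W ∈ Ω ∧ W ≤ N} := fun W hW =>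
        ⟨hA.1.1 hW.1, (le_sSup hW : W ≤ D).trans Subgroup.le_normalizer⟩
      by_cases hRA : R = A
      · exact hZA (hRA ▸ hRsub ⟨hB.1.1 hZB, hZN⟩)
      · have hsub : A ∩ B ⊆ R ∩ A := fun W hW => ⟨hRsub (hΔN hW), hW.1⟩
        have := hmaxΔ (⟨R, A, hRm, hA, hRA, rfl⟩) hsub
        exact hYB (this ⟨hRsub ⟨hA.1.1 hYA, hYN⟩, hYA⟩).2

/-- **Baer–Suzuki**: conjugation-invariant families with pairwise `p`-group joins generate a `p`-group. -/
theorem baer_suzuki {p : ℕ} [Fact p.Prime] {G : Type*} [Group G] [Finite G] (Ω : Set (Subgroup G))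
    (hconj : ∀ Y ∈ Ω, ∀ g : G, Y.map (MulAut.conj g).toMonoidHom ∈ Ω)
    (hpair : ∀ Y ∈ Ω, ∀ Z ∈ Ω, IsPGroup p ↥(Y ⊔ Z)) : IsPGroup p ↥(sSup Ω) :=
  baer_suzuki_aux _ G le_rfl Ω hconj hpair

end CfsgLib.Inv
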