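import Cfsg.Agent.Inv.ZJFusion
import Cfsg.Agent.Fus.QdComplement
import Cfsg.Agent.Fus.QdSection
import Cfsg.Agent.Fus.FusionK
import Cfsg.Agent.Solv.ThompsonPre
import Cfsg.Agent.Solv.PLocalBasic
import Cfsg.Prelude.Def_EvenType
import Cfsg.Prelude.Def_Local

/-!
Consequences of the ZJ theorem for the centers of the two Thompson subgroups.
-/

set_option autoImplicit false
set_option linter.style.haveILetI false
set_option linter.unusedSectionVars false

open Cfsg
open scoped commutatorElement Pointwise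

namespace CfsgLib.Inv.ZJ

universe u

open CfsgLib.Glau

variable {G : Type*} [Group G] {p : ℕ} [hp : Fact p.Prime] {e : ℕ}

theorem centerThompsonOf_eq (P : Subgroup G) : centerThompsonOf p P = zJ p P := by
  have h : thompsonSubgroupOf p P = jOf p P := CfsgLib.Solv.thompsonSubgroupOf_eq p P
  rw [centerThompsonOf, zJ, h]

theorem thompsonSubgroupAOf_eq (P : Subgroup G) : thompsonSubgroupAOf P = jOf 0 P := by
  have hab : ∀ {H : Type _} [Group H] (A : Subgroup H), IsMulCommutative A ↔ Abel 0 A := fun A =>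
    ⟨fun h => ⟨h, fun a _ => pow_zero a⟩, fun h => h.1⟩
  refine le_antisymm ?_ (iSup₂_le fun A hA => ?_)
  · rw [thompsonSubgroupAOf, Subgroup.map_le_iff_le_comap]
    refine sSup_le fun A hA => Subgroup.map_le_iff_le_comap.1 (MaxA.le_jOf ⟨Subgroup.map_subtype_le A,
      ((hab A).1 hA.1).map, fun B hB hBe => ?_⟩)
    have h := hA.2 _ (hBe.comap P.subtype_injective).1
    rw [← Subgroup.card_map_of_injective P.subtype_injective (K := B.comap P.subtype),
      Subgroup.map_comap_eq_self (by rwa [P.range_subtype]),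
      ← Subgroup.card_map_of_injective P.subtype_injective (K := A)] at h
    exact h
  · rw [← Subgroup.map_comap_eq_self (show A ≤ P.subtype.range by rw [P.range_subtype]; exact hA.1)]
    refine Subgroup.map_mono (le_sSup ⟨(hA.2.1.comap P.subtype_injective).1, fun B hB => ?_⟩)
    rw [← Subgroup.card_map_of_injective P.subtype_injective (K := B),
      ← Subgroup.card_map_of_injective P.subtype_injective (K := A.comap P.subtype),
      Subgroup.map_comap_eq_self (show A ≤ P.subtype.range by rw [P.range_subtype]; exact hA.1)]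
    exact hA.2.2 _ (Subgroup.map_subtype_le B) ((hab B).1 hB).map

theorem centerThompsonAOf_eq (P : Subgroup G) : centerThompsonAOf P = zJ 0 P := by
  rw [centerThompsonAOf, zJ, thompsonSubgroupAOf_eq]

theorem omegaOne_normal {H : Subgroup G} (hH : H.Normal) : (omegaOne p H).Normal := omE_normal hH

theorem normalizer_le_omegaOne [Finite G] (H : Subgroup G) :
    Subgroup.normalizer (H : Set G) ≤ Subgroup.normalizer (omegaOne p H : Set G) := by
  intro g hg
  refine Subgroup.mem_normalizer_fintype fun x hx => ?_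
  have hle : (omegaOne p H).map (MulAut.conj g).toMonoidHom ≤ omegaOne p H := by
    rw [omegaOne, MonoidHom.map_closure]
    refine Subgroup.closure_mono ?_
    rintro _ ⟨y, ⟨hy, hye⟩, rfl⟩
    exact ⟨(Subgroup.mem_normalizer_iff.1 hg y).1 hy, by rw [← map_pow, hye, map_one]⟩
  exact hle ⟨x, hx, rfl⟩

variable [Finite G]

/-- `qd p` not involved gives stability. -/
theorem stable_of_not_involves (hp2 : p ≠ 2) (hq : ¬ Involves ↥(qd p) G) : IsNormalizerPStable p G := by
  by_contra h
  exact hq (CfsgLib.Dickson.involves_of_isSec (CfsgLib.Dickson.isSec_qd_of_not_stable hp2 h))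

/-- A group of odd order does not involve `qd p`. -/
theorem not_involves_of_odd (hodd : Odd (Nat.card G)) : ¬ Involves ↥(qd p) G := by
  rintro ⟨K, R, hR, ⟨f⟩⟩
  haveI := hR
  have hd : Nat.card ↥(qd p) ∣ Nat.card G := by
    rw [← Nat.card_congr f.toEquiv]
    exact (Subgroup.card_quotient_dvd_card _).trans (Subgroup.card_subgroup_dvd_card K)
  set z : ↥(qd p) := CfsgLib.Fus.Qd.mk (-1) 0 0 (-1) 0 0 (by ring) with hz
  have h2 : z ^ 2 = 1 := by
    rw [pow_two, hz, CfsgLib.Fus.Qd.mk_mul, ← CfsgLib.Fus.Qd.mk_one]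
    exact CfsgLib.Fus.Qd.mk_congr (by ring) (by ring) (by ring) (by ring) (by ring) (by ring)
  have h3 : z ^ Nat.card G = 1 := orderOf_dvd_iff_pow_eq_one.1 ((orderOf_dvd_natCard z).trans hd)
  obtain ⟨k, hk⟩ := hodd
  rw [hk, pow_succ, pow_mul, h2, one_pow, one_mul] at h3
  have h4 := congrArg (fun M : ↥(qd p) => M.1.1 0 0) h3
  simp [hz, CfsgLib.Fus.Qd.mk] at h4
  by_cases hp2 : p = 2
  · subst hp2
    set w : ↥(qd 2) := CfsgLib.Fus.Qd.mk 1 1 0 1 0 0 (by ring) with hw
    have h5 : orderOf w = 2 := by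
      refine orderOf_eq_prime ?_ ?_
      · rw [pow_two, hw, CfsgLib.Fus.Qd.mk_mul, ← CfsgLib.Fus.Qd.mk_one]
        exact CfsgLib.Fus.Qd.mk_congr (by first | rfl | simp | ring_nf <;> rfl) (by first | rfl | simp | ring_nf <;> rfl) (by first | rfl | simp | ring_nf <;> rfl) (by first | rfl | simp | ring_nf <;> rfl) (by first | rfl | simp | ring_nf <;> rfl) (by first | rfl | simp | ring_nf <;> rfl)
      · intro h6
        have h7 := congrArg (fun M : ↥(qd 2) => M.1.1 0 1) h6
        simp [hw, CfsgLib.Fus.Qd.mk] at h7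
    have h6 := (orderOf_dvd_natCard w).trans hd
    rw [h5] at h6
    omega
  · refine hp2 ((Nat.prime_dvd_prime_iff_eq hp.out Nat.prime_two).1 ((CharP.cast_eq_zero_iff (ZMod p) p 2).1 ?_))
    push_cast
    linear_combination -h4

/-- The normalizer of `zJ` controls strong fusion in a stable group, in the form of the definitions. -/
theorem controls_zJ (hp2 : p ≠ 2) (he : e = 0 ∨ e = p) (hst : IsNormalizerPStable p G) (P : Sylow p G)
    {D : Subgroup G} (hD : IsStronglyClosed D (P : Subgroup G)) (A : Set G) (hA : A ⊆ (P : Subgroup G)) :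
    ControlsStrongFusionOf (Subgroup.normalizer (zJ e D : Set G)) (P : Subgroup G) A := by
  refine ⟨hA, fun g hg => ?_⟩
  obtain ⟨x, hx, hxe⟩ := def_of_fus (fusion_zJ hp2 he G hst (P : Subgroup G) (syl_top P) D hD) A g trivial hA hg
  exact ⟨x, hx, fun a ha => (hxe a ha).symm⟩

theorem stronglyClosed_self (P : Subgroup G) : IsStronglyClosed P P := ⟨le_rfl, fun _ _ _ h => h⟩

/-- Characteristic, when normal, for the whole Sylow subgroup. -/
theorem zJ_characteristic (P : Sylow p G) (hn : (zJ e (P : Subgroup G)).Normal) :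
    (zJ e (P : Subgroup G)).Characteristic := by
  refine Subgroup.characteristic_iff_map_le.2 fun φ => ?_
  obtain ⟨g, hg⟩ := MulAction.exists_smul_eq G P (P.mapSurjective (f := φ.toMonoidHom) φ.surjective)
  have h : (P : Subgroup G).map (MulAut.conj g).toMonoidHom = (P : Subgroup G).map φ.toMonoidHom := by
    rw [← Sylow.coe_mapSurjective (f := φ.toMonoidHom) φ.surjective P, ← hg, Sylow.coe_subgroup_smul]
    rfl
  rw [map_zJ (f := φ.toMonoidHom) φ.injective, ← h, ← map_zJ (f := (MulAut.conj g).toMonoidHom) (MulAut.conj g).injective]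
  rintro _ ⟨z, hz, rfl⟩
  exact hn.conj_mem z hz g

/-- Quadratic `p`-elements suffice for stability on a normal `p`-subgroup. -/
theorem stableOn_of_pElements {V : Subgroup G} [V.Normal] (hV : IsPGroup p V)
    (h : ∀ a : G, (∃ k : ℕ, a ^ p ^ k = 1) → ⁅⁅V, Subgroup.zpowers a⁆, Subgroup.zpowers a⁆ = ⊥ →
      (QuotientGroup.mk a : G ⧸ Subgroup.centralizer (V : Set G)) ∈
        pCore p (G ⧸ Subgroup.centralizer (V : Set G))) : IsPStableOn p V := by
  intro a hq
  set k := (orderOf a).factorization p with hk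
  set m := orderOf a / p ^ k with hm
  have hmk : p ^ k * m = orderOf a := Nat.mul_div_cancel' (Nat.ordProj_dvd _ _)
  have hmc : Nat.Coprime m p := (Nat.coprime_ordCompl hp.out (orderOf_pos a).ne').symm
  have hquad : ∀ b ∈ Subgroup.zpowers a, ⁅⁅V, Subgroup.zpowers b⁆, Subgroup.zpowers b⁆ = ⊥ := fun b hb =>
    eq_bot_iff.2 (le_trans (Subgroup.commutator_mono (Subgroup.commutator_mono le_rfl (Subgroup.zpowers_le.2 hb))
      (Subgroup.zpowers_le.2 hb)) hq.le)
  have h1 : (QuotientGroup.mk (a ^ m) : G ⧸ Subgroup.centralizer (V : Set G)) ∈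
      pCore p (G ⧸ Subgroup.centralizer (V : Set G)) :=
    h _ ⟨k, by rw [← pow_mul, mul_comm, hmk, pow_orderOf_eq_one]⟩ (hquad _ (Subgroup.npow_mem_zpowers a m))
  have h2 : a ^ p ^ k ∈ Subgroup.centralizer (V : Set G) := by
    refine CfsgLib.Inv.kill_of_nilpotent hV ?_ (by rw [Subgroup.normalizer_eq_top]; trivial) (n := 2) ?_
    · rw [orderOf_pow_of_dvd (pow_ne_zero _ hp.out.ne_zero) (Nat.ordProj_dvd _ _)]
      exact hmc
    · exact hquad _ (Subgroup.npow_mem_zpowers a _)
  have hcop : Nat.Coprime m (p ^ k) := hmc.pow_right k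
  have hu := Int.isCoprime_iff_nat_coprime.2 (show Nat.Coprime (m : ℤ).natAbs ((p ^ k : ℕ) : ℤ).natAbs by simpa using hcop)
  obtain ⟨u, v, huv⟩ := hu
  have : a = (a ^ m) ^ u * (a ^ p ^ k) ^ v := by
    rw [← zpow_natCast a m, ← zpow_natCast a (p ^ k), ← zpow_mul, ← zpow_mul, ← zpow_add,
      show (m : ℤ) * u + ((p ^ k : ℕ) : ℤ) * v = 1 by linarith, zpow_one]
  rw [this, QuotientGroup.mk_mul, QuotientGroup.mk_zpow, QuotientGroup.mk_zpow, (QuotientGroup.eq_one_iff _).2 h2,
    one_zpow, mul_one]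
  exact Subgroup.zpow_mem _ h1 u

/-- In a constrained stable group the center of the Thompson subgroup is normal modulo the largest normal subgroup
of order prime to `p`. -/
theorem zJ_normal_quotient (hp2 : p ≠ 2) (he : e = 0 ∨ e = p) (hc : IsPConstrained p G) (hs : IsPStable p G)
    (P : Sylow p G) : ((zJ e (P : Subgroup G)).map (QuotientGroup.mk' (pPrimeCore p G))).Normal := by
  haveI := CfsgLib.Solv.pPrimeCore_normal G p
  set K := pPrimeCore p G with hK
  have hKc : ¬ p ∣ Nat.card K := CfsgLib.Solv.not_dvd_card_pPrimeCore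
  set π := QuotientGroup.mk' K with hπdef
  have hπ : Function.Surjective π := QuotientGroup.mk'_surjective K
  haveI := CfsgLib.Solv.pCore_normal (G ⧸ K) p
  set O := pCore p (G ⧸ K) with hO
  set T := pPrimePCore p G with hT
  have hTO : T.map π = O := Subgroup.map_comap_eq_self_of_surjective hπ _
  have hinj : Set.InjOn π ((P : Subgroup G) : Set G) := fun x hx y hy h => by
    have : x⁻¹ * y ∈ (P : Subgroup G) ⊓ K :=
      ⟨(P : Subgroup G).mul_mem ((P : Subgroup G).inv_mem hx) hy, QuotientGroup.eq.1 h⟩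
    rw [inf_eq_bot_of_card P.isPGroup' hKc, Subgroup.mem_bot, inv_mul_eq_one] at this
    exact this
  have hlift : ∀ X : Subgroup G, IsPGroup p X →
      Subgroup.normalizer (X.map π : Set (G ⧸ K)) ≤ (Subgroup.normalizer (X : Set G)).map π := fun X hX => by
    haveI := hX.isNilpotent
    refine CfsgLib.Solv.normalizer_map_mk'_le ?_ inferInstance
    obtain ⟨k, hk⟩ := hX.exists_card_eq
    rw [hk]
    exact (hp.out.coprime_iff_not_dvd.2 hKc).pow_left k
  -- constrained
  obtain ⟨T₁⟩ : Nonempty (Sylow p ↥T) := inferInstance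
  set X := (T₁ : Subgroup ↥T).map T.subtype with hX
  have hXp : IsPGroup p X := T₁.isPGroup'.map _
  have hXO : X.map π = O := by
    refine le_antisymm ((Subgroup.map_mono (Subgroup.map_subtype_le _)).trans hTO.le) ?_
    let ρ : ↥T →* ↥O := (π.comp T.subtype).codRestrict O fun t => t.2
    have hρ : Function.Surjective ρ := fun y => by
      obtain ⟨t, ht⟩ := hπ (y : G ⧸ K)
      exact ⟨⟨t, show π t ∈ O by rw [ht]; exact y.2⟩, Subtype.ext ht⟩
    have htop : (T₁ : Subgroup ↥T).map ρ = ⊤ := by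
      rw [← Sylow.coe_mapSurjective hρ T₁]
      exact ((T₁.mapSurjective hρ).is_maximal' (Q := ⊤)
        ((CfsgLib.Solv.pCore_isPGroup (G ⧸ K) p).of_equiv Subgroup.topEquiv.symm) le_top).symm
    intro y hy
    obtain ⟨t, ht, hte⟩ := htop.ge (Subgroup.mem_top (⟨y, hy⟩ : ↥O))
    exact ⟨t, ⟨t, ht, rfl⟩, congrArg Subtype.val hte⟩
  have hcO : Subgroup.centralizer (O : Set (G ⧸ K)) ≤ O := by
    intro y hy
    obtain ⟨n, hn, rfl⟩ := hlift X hXp (by
      rw [hXO]; exact Subgroup.centralizer_le_normalizer _ hy)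
    have hnX : n ∈ Subgroup.centralizer (X : Set G) := by
      intro x hx
      have h1 : ⁅x, n⁆ ∈ X ⊓ K := by
        refine ⟨?_, (QuotientGroup.eq_one_iff _).1 ?_⟩
        · rw [commutatorElement_def, show x * n * x⁻¹ * n⁻¹ = x * (n * x⁻¹ * n⁻¹) by group]
          exact X.mul_mem hx ((Subgroup.mem_normalizer_iff.1 hn _).1 (X.inv_mem hx))
        · show π ⁅x, n⁆ = 1
          rw [map_commutatorElement, commutatorElement_eq_one_iff_mul_comm]
          exact hy (π x) (hXO ▸ ⟨x, hx, rfl⟩)
      rw [inf_eq_bot_of_card hXp hKc, Subgroup.mem_bot, commutatorElement_eq_one_iff_mul_comm] at h1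
      exact h1
    exact hTO.le ⟨n, hc T₁ hnX, rfl⟩
  have hstab : ∀ (V : Subgroup (G ⧸ K)) [V.Normal], IsPGroup p V → IsPStableOn p V := by
    intro V _ hV
    refine stableOn_of_pElements hV fun a hapow hq => ?_
    obtain ⟨V₁⟩ : Nonempty (Sylow p ↥(V.comap π)) := inferInstance
    set U := (V₁ : Subgroup ↥(V.comap π)).map (V.comap π).subtype with hU
    have hUp : IsPGroup p U := V₁.isPGroup'.map _
    let ρ : ↥(V.comap π) →* ↥V := (π.comp (V.comap π).subtype).codRestrict V fun t => t.2
    have hρ : Function.Surjective ρ := fun y => by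
      obtain ⟨t, ht⟩ := hπ (y : G ⧸ K)
      exact ⟨⟨t, show π t ∈ V by rw [ht]; exact y.2⟩, Subtype.ext ht⟩
    have hUV : U.map π = V := by
      refine le_antisymm (by rintro _ ⟨_, ⟨t, -, rfl⟩, rfl⟩; exact t.2) fun y hy => ?_
      have htop : (V₁ : Subgroup ↥(V.comap π)).map ρ = ⊤ := by
        rw [← Sylow.coe_mapSurjective hρ V₁]
        exact ((V₁.mapSurjective hρ).is_maximal' (Q := ⊤) (hV.of_equiv Subgroup.topEquiv.symm) le_top).symm
      obtain ⟨t, ht, hte⟩ := htop.ge (Subgroup.mem_top (⟨y, hy⟩ : ↥V))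
      exact ⟨t, ⟨t, ht, rfl⟩, congrArg Subtype.val hte⟩
    set N := Subgroup.normalizer (U : Set G) with hN
    have hcov : ∀ y : G ⧸ K, ∃ n ∈ N, π n = y := fun y => hlift U hUp (by
      rw [hUV, Subgroup.normalizer_eq_top]; trivial)
    obtain ⟨g, hg, rfl⟩ := hcov a
    obtain ⟨k, hk⟩ := hapow
    set m := orderOf g / p ^ (orderOf g).factorization p with hm
    have hmc : Nat.Coprime m (p ^ k) := ((Nat.coprime_ordCompl hp.out (orderOf_pos g).ne').symm).pow_right k
    obtain ⟨j, hj⟩ := exists_pow_eq_self_of_coprime (x := π g) (n := m) (hmc.coprime_dvd_right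
      (orderOf_dvd_of_pow_eq_one hk))
    set g₁ := (g ^ m) ^ j with hg₁
    have hg₁N : g₁ ∈ N := pow_mem (pow_mem hg m) j
    have hg₁π : π g₁ = π g := by rw [hg₁, map_pow, map_pow, hj]
    have hg₁p : g₁ ^ p ^ (orderOf g).factorization p = 1 := by
      rw [hg₁, ← pow_mul, ← pow_mul, show m * (j * p ^ (orderOf g).factorization p) =
        (p ^ (orderOf g).factorization p * m) * j by ring, pow_mul,
        show p ^ (orderOf g).factorization p * m = orderOf g from Nat.mul_div_cancel' (Nat.ordProj_dvd _ _),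
        pow_orderOf_eq_one, one_pow]
    have hAp : IsPGroup p (Subgroup.zpowers g₁) := by
      refine IsPGroup.of_card_dvd_pow (n := (orderOf g).factorization p) ?_
      rw [Nat.card_zpowers]
      exact orderOf_dvd_of_pow_eq_one hg₁p
    have hUn : (K ⊔ U).Normal := by
      have he' : K ⊔ U = V.comap π := by
        rw [← hUV, Subgroup.comap_map_eq, QuotientGroup.ker_mk', sup_comm]
      rw [he']
      exact Subgroup.Normal.comap inferInstance π
    have h := hs.2.2 (Subgroup.zpowers g₁) U hAp hUp (fun a ha x hx =>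
      (Subgroup.mem_normalizer_iff.1 (Subgroup.zpowers_le.2 hg₁N ha) x).1 hx)
      (fun x hx => CfsgLib.Solv.le_pCore hV (hUV ▸ ⟨x, hx, rfl⟩ : π x ∈ V)) hUn (eq_bot_iff.2 (by
        refine le_of_le_of_eq (le_inf ?_ ?_) (inf_eq_bot_of_card hUp hKc)
        · have h1 : ⁅U, Subgroup.zpowers g₁⁆ ≤ U :=
            Subgroup.le_normalizer_iff_commutator_le_left.1 (Subgroup.zpowers_le.2 hg₁N)
          exact (Subgroup.commutator_mono h1 le_rfl).trans h1
        · rw [← QuotientGroup.ker_mk' K, ← Subgroup.map_eq_bot_iff, Subgroup.map_commutator,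
            Subgroup.map_commutator, MonoidHom.map_zpowers, hUV, ← hπdef, hg₁π]
          exact hq))
    haveI : ((Subgroup.centralizer (U : Set G)).subgroupOf N).Normal :=
      Subgroup.normal_subgroupOf_centralizer_normalizer _
    haveI := CfsgLib.Solv.pCore_normal (↥N ⧸ (Subgroup.centralizer (U : Set G)).subgroupOf N) p
    set C' := Subgroup.centralizer (V : Set (G ⧸ K)) with hC'
    have hker : (Subgroup.centralizer (U : Set G)).subgroupOf N ≤
        (((QuotientGroup.mk' C').comp π).comp N.subtype).ker := fun x hx =>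
      (QuotientGroup.eq_one_iff _).2 (fun v hv => by
        obtain ⟨u, hu, rfl⟩ := hUV.ge hv
        show π u * π x = π x * π u
        exact ((map_mul π u (x : G)).symm.trans (congrArg π (hx u hu))).trans (map_mul π (x : G) u))
    let σ := QuotientGroup.lift _ (((QuotientGroup.mk' C').comp π).comp N.subtype) hker
    have hσ : Function.Surjective σ := fun y => by
      obtain ⟨b, rfl⟩ := QuotientGroup.mk'_surjective C' y
      obtain ⟨n, hn, rfl⟩ := hcov b
      exact ⟨QuotientGroup.mk ⟨n, hn⟩, rfl⟩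
    haveI : ((pCore p (↥N ⧸ (Subgroup.centralizer (U : Set G)).subgroupOf N)).map σ).Normal :=
      (inferInstance : (pCore p _).Normal).map σ hσ
    rw [← hg₁π]
    exact CfsgLib.Solv.le_pCore ((CfsgLib.Solv.pCore_isPGroup _ p).map σ)
      ⟨_, h ⟨⟨g₁, hg₁N⟩, Subgroup.mem_zpowers g₁, rfl⟩, rfl⟩
  rw [map_zJ_injOn π hinj]
  have := zJ_normal hp2 he (P.mapSurjective hπ) (stronglyClosed_self _) hstab hcO
  rwa [Sylow.coe_mapSurjective] at this

/-- The normalizer of a normal image covers. -/
theorem sup_normalizer_eq_top {K X : Subgroup G} [K.Normal] (hX : IsPGroup p X) (hK : ¬ p ∣ Nat.card K)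
    (h : (X.map (QuotientGroup.mk' K)).Normal) : K ⊔ Subgroup.normalizer (X : Set G) = ⊤ := by
  haveI := hX.isNilpotent
  refine eq_top_iff.2 fun g _ => ?_
  obtain ⟨k, hk⟩ := hX.exists_card_eq
  obtain ⟨n, hn, hne⟩ := CfsgLib.Solv.normalizer_map_mk'_le (X := X) (M := K)
    (by rw [hk]; exact (hp.out.coprime_iff_not_dvd.2 hK).pow_left k) inferInstance
    (show QuotientGroup.mk' K g ∈ _ by rw [Subgroup.normalizer_eq_top_iff.2 h]; trivial)
  have h1 : g * n⁻¹ ∈ K := (QuotientGroup.eq_one_iff _).1 (show QuotientGroup.mk' K (g * n⁻¹) = 1 by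
    rw [map_mul, map_inv, hne, mul_inv_cancel])
  have := mul_mem (Subgroup.mem_sup_left h1 (T := Subgroup.normalizer (X : Set G))) (Subgroup.mem_sup_right hn)
  rwa [inv_mul_cancel_right] at this

end CfsgLib.Inv.ZJ
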