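import Cfsg.Agent.Fus.StronglyEmbedded
import Cfsg.Agent.Solv.Basic
import Mathlib.Tactic

/-!
Strongly p-embedded subgroups: criterion without a given Sylow subgroup.
-/

set_option autoImplicit false
set_option linter.style.haveILetI false

namespace CfsgLib.Inv

variable {G : Type*} [Group G] {p : ℕ}

theorem isPGroup_of_elements {H : Subgroup G} [Finite H]
    (h : ∀ x ∈ H, (orderOf x).Coprime p → x = 1) [hp : Fact p.Prime] : IsPGroup p H := by
  intro x
  refine ⟨(orderOf x).factorization p, Subtype.ext ?_⟩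
  rw [Subgroup.coe_pow, Subgroup.coe_one]
  refine h _ (pow_mem x.2 _) ?_
  have ho : orderOf x ≠ 0 := (orderOf_pos x).ne'
  rw [← Subgroup.coe_pow, Subgroup.orderOf_coe, orderOf_pow_of_dvd (pow_ne_zero _ hp.out.ne_zero)
    (Nat.ordProj_dvd _ _)]
  exact (Nat.coprime_ordCompl hp.out ho).symm

theorem exists_order_p [Finite G] [hp : Fact p.Prime] {H : Subgroup G} (h : p ∣ Nat.card H) :
    ∃ u ∈ H, orderOf u = p := by
  obtain ⟨u, hu⟩ := exists_prime_orderOf_dvd_card' (G := H) p h
  exact ⟨u, u.2, by rw [Subgroup.orderOf_coe]; exact hu⟩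

theorem pgroup_zpowers_of_order {u : G} (hu : orderOf u = p) :
    IsPGroup p ↥(Subgroup.zpowers u) :=
  IsPGroup.of_card (n := 1) (by rw [Nat.card_zpowers, hu, pow_one])

theorem spe_crit [Finite G] [hp : Fact p.Prime] {M : Subgroup G} (hM : M ≠ ⊤)
    (hpM : p ∣ Nat.card M)
    (h : ∀ u x : G, u ∈ M → u ≠ 1 → IsPGroup p ↥(Subgroup.zpowers u) → x⁻¹ * u * x ∈ M → x ∈ M) :
    Cfsg.IsStronglyPEmbedded p M := by
  obtain ⟨P₀⟩ : Nonempty (Sylow p M) := inferInstance
  set P : Subgroup G := (P₀ : Subgroup M).map M.subtype with hP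
  have hPM : P ≤ M := Subgroup.map_subtype_le _
  have hPp : IsPGroup p P := P₀.2.map _
  obtain ⟨R, hR⟩ := hPp.exists_le_sylow
  have hPR : P = R := by
    by_contra hne
    have hlt : P.subgroupOf (R : Subgroup G) < ⊤ := by
      refine lt_top_iff_ne_top.2 fun e => hne (le_antisymm hR ?_)
      exact Subgroup.subgroupOf_eq_top.1 e
    haveI := R.2.isNilpotent
    obtain ⟨n, hn, hnP⟩ := SetLike.exists_of_lt (Group.normalizerCondition_of_isNilpotent _ hlt)
    have hnn : (n : G) ∈ Subgroup.normalizer (P : Set G) := by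
      rw [Subgroup.mem_normalizer_iff]
      intro y
      constructor
      · intro hy
        have := (Subgroup.mem_normalizer_iff.1 hn ⟨y, hR hy⟩).1 hy
        exact this
      · intro hy
        have hy' : y ∈ (R : Subgroup G) := by
          have := mul_mem (mul_mem (inv_mem n.2) (hR hy)) n.2
          simpa [mul_assoc] using this
        exact (Subgroup.mem_normalizer_iff.1 hn ⟨y, hy'⟩).2 hy
    have hP1 : P ≠ ⊥ := by
      intro e
      have : (P₀ : Subgroup M) = ⊥ := (Subgroup.map_eq_bot_iff_of_injective _ M.subtype_injective).1 e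
      exact Sylow.ne_bot_of_dvd_card P₀ hpM this
    obtain ⟨⟨u, hu⟩, hu1⟩ := Subgroup.ne_bot_iff_exists_ne_one.1 hP1
    have hnM : (n : G) ∈ M := by
      refine h u n (hPM hu) (fun e => hu1 (Subtype.ext e))
        (CfsgLib.Fus.isPGroup_zpowers_of_mem hPp hu) ?_
      exact hPM ((Subgroup.mem_normalizer_iff''.1 hnn u).1 hu)
    -- P is a Sylow subgroup of M, so N_R(P) ∩ M = P
    have hQ : IsPGroup p ((R : Subgroup G).subgroupOf M) := R.2.comap_subtype
    have hle : (P₀ : Subgroup M) ≤ (R : Subgroup G).subgroupOf M := fun y hy =>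
      hR (Subgroup.mem_map.2 ⟨y, hy, rfl⟩)
    have heq := P₀.3 hQ hle
    refine hnP ?_
    show (n : G) ∈ P
    exact Subgroup.mem_map.2 ⟨⟨n, hnM⟩, heq ▸ n.2, rfl⟩
  exact CfsgLib.Fus.spe_of R (hPR ▸ hPM) (hpM.trans (Subgroup.card_subgroup_dvd_card M)) hM h

end CfsgLib.Inv
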