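import Cfsg.Prelude.Def_LocalEven
import Cfsg.Agent.Solv.CoprimeAction
import Cfsg.Agent.Inv.Spe

/-!
Groups of characteristic p: coprime elements acting nilpotently, p-reduced normal subgroups.
-/

set_option autoImplicit false
set_option linter.style.haveILetI false

namespace CfsgLib.Inv

open Cfsg

variable {G : Type*} [Group G] {p : ℕ}

theorem iterCommutator_mono {N N' A A' : Subgroup G} (hN : N ≤ N') (hA : A ≤ A') :
    ∀ n, iterCommutator N A n ≤ iterCommutator N' A' n
  | 0 => hN
  | n + 1 => Subgroup.commutator_mono (iterCommutator_mono hN hA n) hA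

/-- A `p'`-element acting nilpotently on a `p`-group centralizes it. -/
theorem kill_of_nilpotent [Finite G] [hp : Fact p.Prime] {Q : Subgroup G} (hQ : IsPGroup p Q) {x : G}
    (hx : (orderOf x).Coprime p) (hxQ : x ∈ Subgroup.normalizer (Q : Set G)) {n : ℕ}
    (hn : iterCommutator Q (Subgroup.zpowers x) n = ⊥) :
    x ∈ Subgroup.centralizer (Q : Set G) := by
  have hA : Subgroup.zpowers x ≤ Subgroup.normalizer (Q : Set G) := Subgroup.zpowers_le.2 hxQ
  obtain ⟨a, ha⟩ := IsPGroup.iff_card.1 hQ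
  have hcop : (Nat.card (Subgroup.zpowers x)).Coprime (Nat.card Q) := by
    rw [Nat.card_zpowers, ha]; exact hx.pow_right a
  have hs : Group.IsSolvable (Subgroup.zpowers x) ∨ Group.IsSolvable Q :=
    Or.inl inferInstance
  have key : ∀ m, iterCommutator Q (Subgroup.zpowers x) (m + 1) = ⁅Q, Subgroup.zpowers x⁆ := by
    intro m
    induction m with
    | zero => rfl
    | succ m ih =>
      show ⁅iterCommutator Q (Subgroup.zpowers x) (m + 1), Subgroup.zpowers x⁆ = _
      rw [ih]
      exact CfsgLib.Solv.commutator_commutator_right hA hcop hs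
  have hbot : ⁅Subgroup.zpowers x, Q⁆ = ⊥ := by
    rw [Subgroup.commutator_comm]
    cases n with
    | zero =>
      rw [show Q = ⊥ from hn, Subgroup.commutator_bot_left]
    | succ m => rw [← key m]; exact hn
  exact Subgroup.commutator_eq_bot_iff_le_centralizer.1 hbot (Subgroup.mem_zpowers x)

/-- A `p'`-element in `C(Q)` with `C(Q) ≤ Q` a `p`-group is trivial. -/
theorem eq_one_of_coprime_mem [Finite G] [hp : Fact p.Prime] {Q : Subgroup G} (hQ : IsPGroup p Q)
    {x : G} (hxQ : x ∈ Q) (hx : (orderOf x).Coprime p) : x = 1 := by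
  obtain ⟨k, hk⟩ := hQ ⟨x, hxQ⟩
  have h1 : x ^ p ^ k = 1 := by simpa using congrArg Subtype.val hk
  exact orderOf_eq_one_iff.1
    (Nat.eq_one_of_dvd_coprimes (hx.pow_right k) dvd_rfl (orderOf_dvd_of_pow_eq_one h1))

theorem charP_sub [Finite G] [hp : Fact p.Prime]
    (hchar : Subgroup.centralizer (pCore p G : Set G) ≤ pCore p G) {H K : Subgroup G} (hKH : K ≤ H)
    [hK : K.Normal] (hodd : ∀ x ∈ H, (orderOf x).Coprime p → x ∈ K) :
    Subgroup.centralizer (pCore p ↥H : Set ↥H) ≤ pCore p ↥H := by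
  haveI := CfsgLib.Solv.pCore_normal G p
  haveI := CfsgLib.Solv.pCore_normal H p
  have hQ := CfsgLib.Solv.pCore_isPGroup G p
  have hsub : (pCore p G ⊓ K).subgroupOf H ≤ pCore p ↥H := by
    haveI : ((pCore p G ⊓ K).subgroupOf H).Normal := Subgroup.normal_subgroupOf
    exact CfsgLib.Solv.le_pCore (IsPGroup.comap_subtype (hQ.to_le inf_le_left))
  refine CfsgLib.Solv.le_pCore (isPGroup_of_elements fun x hx hxo => ?_)
  rw [← Subgroup.orderOf_coe] at hxo
  have hxK := hodd x x.2 hxo
  have hxn : (x : G) ∈ Subgroup.normalizer (pCore p G : Set G) := by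
    rw [Subgroup.normalizer_eq_top]; exact Subgroup.mem_top _
  have h2 : iterCommutator (pCore p G) (Subgroup.zpowers (x : G)) 2 = ⊥ := by
    show ⁅⁅pCore p G, Subgroup.zpowers (x : G)⁆, Subgroup.zpowers (x : G)⁆ = ⊥
    rw [Subgroup.commutator_eq_bot_iff_le_centralizer, Subgroup.le_centralizer_iff,
      Subgroup.zpowers_le]
    have hle : ⁅pCore p G, Subgroup.zpowers (x : G)⁆ ≤ pCore p G ⊓ K :=
      le_inf (Subgroup.commutator_le_left _ _) ((Subgroup.commutator_mono le_rfl
        (Subgroup.zpowers_le.2 hxK)).trans (Subgroup.commutator_le_right _ _))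
    refine Subgroup.centralizer_le hle (Subgroup.mem_centralizer_iff.2 fun c hc => ?_)
    have hcH : c ∈ H := hKH (Subgroup.mem_inf.1 hc).2
    exact congrArg Subtype.val (Subgroup.mem_centralizer_iff.1 hx ⟨c, hcH⟩
      (hsub (show (⟨c, hcH⟩ : H) ∈ (pCore p G ⊓ K).subgroupOf H from hc)))
  exact Subtype.ext (eq_one_of_coprime_mem hQ (hchar (kill_of_nilpotent hQ hxo hxn h2)) hxo)

/-- Criterion for `p`-reducedness of a normal elementary abelian subgroup. -/
theorem reduced_iff [Finite G] [hp : Fact p.Prime] {V : Subgroup G} :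
    IsPReducedNormal p V ↔ V.Normal ∧ IsElementaryAbelian p V ∧
      ∀ N : Subgroup G, N.Normal → Subgroup.centralizer (V : Set G) ≤ N →
        (∀ x ∈ N, (orderOf x).Coprime p → x ∈ Subgroup.centralizer (V : Set G)) →
        N ≤ Subgroup.centralizer (V : Set G) := by
  constructor
  · rintro ⟨hn, he, hC, h⟩
    refine ⟨hn, he, fun N hN hCN hel => ?_⟩
    haveI := hN.map (QuotientGroup.mk' (Subgroup.centralizer (V : Set G)))
      (QuotientGroup.mk'_surjective _)
    have hp' : IsPGroup p (N.map (QuotientGroup.mk' (Subgroup.centralizer (V : Set G)))) := by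
      refine isPGroup_of_elements fun y hy hyo => ?_
      obtain ⟨x, hx, rfl⟩ := hy
      set a := (orderOf x).factorization p with ha
      have hxo : orderOf x ≠ 0 := (orderOf_pos x).ne'
      have h1 : x ^ p ^ a ∈ Subgroup.centralizer (V : Set G) := by
        refine hel _ (pow_mem hx _) ?_
        rw [orderOf_pow_of_dvd (pow_ne_zero _ hp.out.ne_zero) (Nat.ordProj_dvd _ _)]
        exact (Nat.coprime_ordCompl hp.out hxo).symm
      have h2 : (QuotientGroup.mk' (Subgroup.centralizer (V : Set G)) x) ^ p ^ a = 1 := by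
        rw [← map_pow, QuotientGroup.mk'_apply, QuotientGroup.eq_one_iff]; exact h1
      exact orderOf_eq_one_iff.1 (Nat.eq_one_of_dvd_coprimes (hyo.pow_right a) dvd_rfl
        (orderOf_dvd_of_pow_eq_one h2))
    have := CfsgLib.Solv.le_pCore hp'
    rw [h, le_bot_iff, Subgroup.map_eq_bot_iff, QuotientGroup.ker_mk'] at this
    exact this
  · rintro ⟨hn, he, h⟩
    haveI := hn
    refine ⟨hn, he, inferInstance, ?_⟩
    set π := QuotientGroup.mk' (Subgroup.centralizer (V : Set G)) with hπ
    haveI := CfsgLib.Solv.pCore_normal (G ⧸ Subgroup.centralizer (V : Set G)) p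
    have hle := h ((pCore p (G ⧸ Subgroup.centralizer (V : Set G))).comap π) inferInstance
      (fun x hx => by
        rw [Subgroup.mem_comap, hπ, QuotientGroup.mk'_apply, (QuotientGroup.eq_one_iff x).2 hx]
        exact one_mem _)
      (fun x hx hxo => by
        rw [← QuotientGroup.eq_one_iff]
        exact eq_one_of_coprime_mem (CfsgLib.Solv.pCore_isPGroup _ p) hx
          (hxo.coprime_dvd_left (orderOf_map_dvd π x)))
    rw [eq_bot_iff]
    intro y hy
    obtain ⟨x, rfl⟩ := QuotientGroup.mk'_surjective (Subgroup.centralizer (V : Set G)) y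
    exact Subgroup.mem_bot.2 ((QuotientGroup.eq_one_iff x).2 (hle hy))

theorem reduced_pgroup_le [Finite G] [hp : Fact p.Prime] {V P : Subgroup G}
    (hV : IsPReducedNormal p V) [hP : P.Normal] (hPp : IsPGroup p P) :
    P ≤ Subgroup.centralizer (V : Set G) := by
  obtain ⟨hn, he, h⟩ := reduced_iff.1 hV
  haveI := hn
  refine le_sup_left.trans (h (P ⊔ Subgroup.centralizer (V : Set G)) inferInstance le_sup_right
    fun x hx hxo => ?_)
  rw [← QuotientGroup.eq_one_iff]
  have hmem : (QuotientGroup.mk' (Subgroup.centralizer (V : Set G))) x ∈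
      P.map (QuotientGroup.mk' (Subgroup.centralizer (V : Set G))) := by
    have h1 := Subgroup.mem_map_of_mem (QuotientGroup.mk' (Subgroup.centralizer (V : Set G))) hx
    rw [Subgroup.map_sup, QuotientGroup.map_mk'_self, sup_bot_eq] at h1
    exact h1
  exact eq_one_of_coprime_mem (hPp.map _) hmem (hxo.coprime_dvd_left
    (orderOf_map_dvd (QuotientGroup.mk' (Subgroup.centralizer (V : Set G))) x))

theorem reduced_isPGroup [Finite G] {V : Subgroup G} (hV : IsPReducedNormal p V) : IsPGroup p V :=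
  fun x => ⟨1, Subtype.ext (by rw [pow_one]; exact hV.2.1.2 x x.2)⟩

theorem reduced_sup [Finite G] [hp : Fact p.Prime] {V W : Subgroup G}
    (hV : IsPReducedNormal p V) (hW : IsPReducedNormal p W) : IsPReducedNormal p (V ⊔ W) := by
  obtain ⟨hVn, hVe, hV'⟩ := reduced_iff.1 hV
  obtain ⟨hWn, hWe, hW'⟩ := reduced_iff.1 hW
  haveI := hVn
  haveI := hWn
  have hWV : W ≤ Subgroup.centralizer (V : Set G) := reduced_pgroup_le hV (reduced_isPGroup hW)
  have hcomm : ∀ a ∈ V ⊔ W, ∀ b ∈ V ⊔ W, a * b = b * a := by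
    have hVV : V ≤ Subgroup.centralizer (V : Set G) := fun a ha =>
      Subgroup.mem_centralizer_iff.2 fun b hb => congrArg Subtype.val
        (hVe.1.is_comm.comm (⟨b, hb⟩ : V) ⟨a, ha⟩)
    have hWW : W ≤ Subgroup.centralizer (W : Set G) := fun a ha =>
      Subgroup.mem_centralizer_iff.2 fun b hb => congrArg Subtype.val
        (hWe.1.is_comm.comm (⟨b, hb⟩ : W) ⟨a, ha⟩)
    have : V ⊔ W ≤ Subgroup.centralizer ((V ⊔ W : Subgroup G) : Set G) := by
      rw [Subgroup.le_centralizer_iff]
      refine sup_le (Subgroup.le_centralizer_iff.1 (sup_le hVV hWV))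
        (Subgroup.le_centralizer_iff.1 (sup_le (Subgroup.le_centralizer_iff.1 hWV) hWW))
    exact fun a ha b hb => (Subgroup.mem_centralizer_iff.1 (this ha) b hb).symm
  refine reduced_iff.2 ⟨inferInstance, ⟨⟨⟨fun a b => Subtype.ext (hcomm a a.2 b b.2)⟩⟩, ?_⟩, ?_⟩
  · intro a ha
    obtain ⟨v, hv, w, hw, rfl⟩ := Subgroup.mem_sup_of_normal_right.1 ha
    have hvw : Commute v w := hcomm v (Subgroup.mem_sup_left hv) w (Subgroup.mem_sup_right hw)
    rw [hvw.mul_pow, hVe.2 v hv, hWe.2 w hw, one_mul]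
  · intro N hN hCN hel
    have hle : ∀ U : Subgroup G, U ≤ V ⊔ W → U.Normal →
        (∀ M : Subgroup G, M.Normal → Subgroup.centralizer (U : Set G) ≤ M →
          (∀ x ∈ M, (orderOf x).Coprime p → x ∈ Subgroup.centralizer (U : Set G)) →
          M ≤ Subgroup.centralizer (U : Set G)) → N ≤ Subgroup.centralizer (U : Set G) := by
      intro U hU hUn hU'
      haveI := hN
      haveI := hUn
      refine le_sup_left.trans (hU' (N ⊔ Subgroup.centralizer (U : Set G)) inferInstance le_sup_right
        fun x hx hxo => ?_)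
      rw [← QuotientGroup.eq_one_iff]
      have h1 := Subgroup.mem_map_of_mem (QuotientGroup.mk' (Subgroup.centralizer (U : Set G))) hx
      rw [Subgroup.map_sup, QuotientGroup.map_mk'_self, sup_bot_eq] at h1
      obtain ⟨n, hn, hnx⟩ := h1
      set b := (orderOf n).factorization p
      have hno : orderOf n ≠ 0 := (orderOf_pos n).ne'
      have h2 : n ^ p ^ b ∈ Subgroup.centralizer (U : Set G) := by
        refine Subgroup.centralizer_le hU (hel _ (pow_mem hn _) ?_)
        rw [orderOf_pow_of_dvd (pow_ne_zero _ hp.out.ne_zero) (Nat.ordProj_dvd _ _)]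
        exact (Nat.coprime_ordCompl hp.out hno).symm
      have h3 : (QuotientGroup.mk' (Subgroup.centralizer (U : Set G)) x) ^ p ^ b = 1 := by
        rw [← hnx, ← map_pow, QuotientGroup.mk'_apply, QuotientGroup.eq_one_iff]; exact h2
      exact orderOf_eq_one_iff.1 (Nat.eq_one_of_dvd_coprimes
        ((hxo.coprime_dvd_left (orderOf_map_dvd (QuotientGroup.mk' (Subgroup.centralizer (U : Set G))) x)).pow_right b) dvd_rfl
        (orderOf_dvd_of_pow_eq_one h3))
    rw [Subgroup.le_centralizer_iff]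
    exact sup_le (Subgroup.le_centralizer_iff.1 (hle V le_sup_left hVn hV'))
      (Subgroup.le_centralizer_iff.1 (hle W le_sup_right hWn hW'))

theorem reduced_bot [Finite G] [hp : Fact p.Prime] : IsPReducedNormal p (⊥ : Subgroup G) := by
  refine reduced_iff.2 ⟨inferInstance, ⟨⟨⟨fun a b => Subsingleton.elim _ _⟩⟩,
    fun a ha => by rw [Subgroup.mem_bot.1 ha, one_pow]⟩, fun N _ _ _ x _ => ?_⟩
  exact Subgroup.mem_centralizer_iff.2 fun b hb => by rw [Subgroup.mem_bot.1 hb]; simp

theorem reduced_largest [Finite G] [hp : Fact p.Prime] :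
    ∃ Y : Subgroup G, IsPReducedNormal p Y ∧
      ∀ V : Subgroup G, IsPReducedNormal p V → V ≤ Y :=
  ⟨sSup {N : Subgroup G | N.Normal ∧ IsPReducedNormal p N},
    (CfsgLib.Solv.normal_and_prop_sSup (fun V : Subgroup G => IsPReducedNormal p V) reduced_bot
      fun _ _ _ _ hM hN => reduced_sup hM hN).2,
    fun _ hV => le_sSup ⟨hV.1, hV⟩⟩

end CfsgLib.Inv
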