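import Mathlib.GroupTheory.PGroup
import Mathlib.GroupTheory.Nilpotent
import Mathlib.GroupTheory.NoncommCoprod
import Mathlib.GroupTheory.Index
import Mathlib.GroupTheory.Commutator.Basic

/-!
Glauberman's replacement theorem: an abelian subgroup `A` of a `p`-group, `p` odd, which normalizes a class two
subgroup `B` with `[B, B] ≤ A` but is not normalized by `B`, can be replaced by one meeting `B` in more.
-/

set_option autoImplicit false
set_option linter.style.haveILetI false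
set_option linter.unusedSectionVars false

namespace CfsgLib.Inv.ZJ

open scoped commutatorElement Pointwise

variable {G : Type*} [Group G]

/-- An abelian subgroup with exponent dividing `e` (`e = 0`: no condition). -/
def Abel (e : ℕ) (A : Subgroup G) : Prop := IsMulCommutative A ∧ ∀ a ∈ A, a ^ e = 1

theorem Abel.comm {e : ℕ} {A : Subgroup G} (h : Abel e A) {a b : G} (ha : a ∈ A) (hb : b ∈ A) : a * b = b * a :=
  congrArg Subtype.val (h.1.is_comm.comm (⟨a, ha⟩ : A) ⟨b, hb⟩)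

theorem abel_of_commute {e : ℕ} {A : Subgroup G} (h : ∀ a ∈ A, ∀ b ∈ A, a * b = b * a)
    (he : ∀ a ∈ A, a ^ e = 1) : Abel e A :=
  ⟨⟨⟨fun a b => Subtype.ext (h a a.2 b b.2)⟩⟩, he⟩

/-- The order of the product of two commuting subgroups. -/
theorem card_sup_of_commute [Finite G] {H K : Subgroup G} (h : ∀ a ∈ H, ∀ b ∈ K, a * b = b * a) :
    Nat.card (H ⊔ K : Subgroup G) * Nat.card (H ⊓ K : Subgroup G) = Nat.card H * Nat.card K := by
  let φ : H × K →* G := H.subtype.noncommCoprod K.subtype fun a b => h a a.2 b b.2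
  have hφ : ∀ x : H × K, φ x = (x.1 : G) * x.2 := fun x => rfl
  have hr : φ.range = H ⊔ K := by
    refine le_antisymm ?_ (sup_le ?_ ?_)
    · rintro _ ⟨x, rfl⟩
      exact Subgroup.mul_mem_sup x.1.2 x.2.2
    · exact fun a ha => ⟨(⟨a, ha⟩, 1), by rw [hφ]; simp⟩
    · exact fun b hb => ⟨(1, ⟨b, hb⟩), by rw [hφ]; simp⟩
  let e : φ.ker ≃ (H ⊓ K : Subgroup G) :=
    { toFun := fun x => ⟨((x : H × K).1 : G), (x : H × K).1.2, by
        have h1 := MonoidHom.mem_ker.1 x.2
        rw [hφ, mul_eq_one_iff_eq_inv] at h1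
        rw [h1]; exact K.inv_mem (x : H × K).2.2⟩
      invFun := fun y => ⟨(⟨y, y.2.1⟩, ⟨(y : G)⁻¹, K.inv_mem y.2.2⟩), by
        rw [MonoidHom.mem_ker, hφ]; simp⟩
      left_inv := fun x => by
        have h1 := MonoidHom.mem_ker.1 x.2
        rw [hφ, mul_eq_one_iff_eq_inv] at h1
        refine Subtype.ext (Prod.ext rfl (Subtype.ext ?_))
        show (((x : H × K).1 : G))⁻¹ = _
        rw [h1, inv_inv]
      right_inv := fun y => rfl }
  rw [← hr, ← Subgroup.index_ker φ, ← Nat.card_congr e, mul_comm, Subgroup.card_mul_index, Nat.card_prod]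

variable [Finite G] {p : ℕ} [hp : Fact p.Prime]

/-- **Glauberman replacement.** -/
theorem replacement (hp2 : p ≠ 2) {e : ℕ} (he : e = 0 ∨ Odd e) {A B L : Subgroup G} (hL : IsPGroup p L)
    (hAL : A ≤ L) (hBL : B ≤ L) (hA : Abel e A) (hB2 : ⁅⁅B, B⁆, B⁆ = ⊥) (hBA : ⁅B, B⁆ ≤ A)
    (hAB : A ≤ Subgroup.normalizer (B : Set G)) (hBnA : ¬ B ≤ Subgroup.normalizer (A : Set G)) :
    ∃ A' : Subgroup G, Abel e A' ∧ Nat.card A' = Nat.card A ∧ A' ≤ A ⊔ B ∧
      A' ≤ Subgroup.normalClosure (A : Set G) ∧ A ⊓ B < A' ⊓ B ∧ A' ≤ Subgroup.normalizer (A : Set G) ∧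
      ∀ q : ℕ, Odd q → Nat.card {a : G // a ∈ A ∧ a ^ q = 1} ≤ Nat.card {a : G // a ∈ A' ∧ a ^ q = 1} := by
  have hN : ∀ g : G, (∀ a ∈ A, g * a * g⁻¹ ∈ A) → g ∈ Subgroup.normalizer (A : Set G) :=
    fun g hg => Subgroup.mem_normalizer_fintype hg
  set N := B ⊓ Subgroup.normalizer (A : Set G) with hNdef
  have hIN : A ⊓ B ≤ N := le_inf inf_le_right (inf_le_left.trans Subgroup.le_normalizer)
  have hAN : ∀ a ∈ A, ∀ n ∈ N, a * n * a⁻¹ ∈ N := fun a ha n hn =>
    ⟨(Subgroup.mem_normalizer_iff.1 (hAB ha) n).1 hn.1,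
      (Subgroup.normalizer (A : Set G)).mul_mem ((Subgroup.normalizer (A : Set G)).mul_mem (Subgroup.le_normalizer ha) hn.2) ((Subgroup.normalizer (A : Set G)).inv_mem (Subgroup.le_normalizer ha))⟩
  have hAnormN : A ≤ Subgroup.normalizer (N : Set G) := fun a ha =>
    Subgroup.mem_normalizer_fintype (hAN a ha)
  set H := N ⊔ A with hH
  have hHB : ∀ y ∈ H, y ∈ B → y ∈ N := by
    intro y hy hyB
    obtain ⟨a, ha, n, hn, rfl⟩ : ∃ a ∈ A, ∃ n ∈ N, a * n = y := by
      have h1 : (H : Set G) = (A : Set G) * (N : Set G) := by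
        rw [hH, sup_comm]
        exact Subgroup.coe_mul_of_left_le_normalizer_right A N hAnormN
      obtain ⟨a, ha, n, hn, e'⟩ := Set.mem_mul.1 ((by rw [← h1]; exact hy : y ∈ (A : Set G) * (N : Set G)))
      exact ⟨a, ha, n, hn, e'⟩
    have haB : a ∈ B := by
      have := mul_mem hyB (inv_mem hn.1)
      rwa [mul_inv_cancel_right] at this
    exact mul_mem (hIN ⟨ha, haB⟩) hn
  have hHL : H < A ⊔ B := by
    refine lt_of_le_of_ne (sup_le (inf_le_left.trans le_sup_right) le_sup_left) fun he' => hBnA fun b hb => ?_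
    exact (hHB b (he'.ge (Subgroup.mem_sup_right hb)) hb).2
  -- a suitable element of `B`
  obtain ⟨x, hxB, hxN, hxH⟩ : ∃ x ∈ B, x ∉ N ∧ x ∈ Subgroup.normalizer (H : Set G) := by
    set M := A ⊔ B with hM
    have hMp : IsPGroup p M := hL.to_le (sup_le hAL hBL)
    haveI := hMp.isNilpotent
    have hlt : H.subgroupOf M < ⊤ := lt_top_iff_ne_top.2 fun e' =>
      hHL.ne (le_antisymm hHL.le (Subgroup.subgroupOf_eq_top.1 e'))
    obtain ⟨⟨y, hyM⟩, hy, hyH⟩ := SetLike.exists_of_lt (Group.normalizerCondition_of_isNilpotent _ hlt)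
    rw [← Subgroup.subgroupOf_normalizer_eq hHL.le, Subgroup.mem_subgroupOf] at hy
    rw [Subgroup.mem_subgroupOf] at hyH
    obtain ⟨a, ha, b, hb, rfl⟩ : ∃ a ∈ A, ∃ b ∈ B, a * b = y := by
      have h1 : (M : Set G) = (A : Set G) * (B : Set G) :=
        Subgroup.coe_mul_of_left_le_normalizer_right A B hAB
      obtain ⟨a, ha, n, hn, e'⟩ := Set.mem_mul.1 ((by rw [← h1]; exact hyM : y ∈ (A : Set G) * (B : Set G)))
      exact ⟨a, ha, n, hn, e'⟩
    have haH : a ∈ H := Subgroup.mem_sup_right ha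
    refine ⟨b, hb, fun hbN => hyH (mul_mem haH (Subgroup.mem_sup_left hbN)), ?_⟩
    have := mul_mem (inv_mem (Subgroup.le_normalizer haH)) hy
    rwa [inv_mul_cancel_left] at this
  -- displacements
  obtain ⟨u, hu⟩ : ∃ u : G → G, ∀ a, u a = x * a * x⁻¹ * a⁻¹ := ⟨_, fun a => rfl⟩
  have huN : ∀ a ∈ A, u a ∈ N := fun a ha => by
    rw [hu]
    refine hHB _ (mul_mem ((Subgroup.mem_normalizer_iff.1 hxH a).1 (Subgroup.mem_sup_right ha))
      (inv_mem (Subgroup.mem_sup_right ha))) ?_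
    rw [show x * a * x⁻¹ * a⁻¹ = x * (a * x⁻¹ * a⁻¹) by group]
    exact mul_mem hxB ((Subgroup.mem_normalizer_iff.1 (hAB ha) _).1 (inv_mem hxB))
  have hBc : ∀ z ∈ ⁅B, B⁆, ∀ b ∈ B, z * b = b * z := fun z hz b hb => by
    have h1 := Subgroup.commutator_mem_commutator hz hb
    rw [hB2, Subgroup.mem_bot, commutatorElement_eq_one_iff_mul_comm] at h1
    exact h1
  obtain ⟨t, ht⟩ : ∃ t : G → G → G, ∀ a b, t a b = a * u b * a⁻¹ * (u b)⁻¹ := ⟨_, fun a b => rfl⟩
  have htI : ∀ a ∈ A, ∀ b ∈ A, t a b ∈ A ⊓ B := by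
    intro a ha b hb
    refine ⟨?_, ?_⟩
    · rw [ht, show a * u b * a⁻¹ * (u b)⁻¹ = a * (u b * a⁻¹ * (u b)⁻¹) by group]
      exact mul_mem ha ((Subgroup.mem_normalizer_iff.1 (huN b hb).2 _).1 (inv_mem ha))
    · rw [ht]
      exact mul_mem ((Subgroup.mem_normalizer_iff.1 (hAB ha) _).1 (huN b hb).1) (B.inv_mem (huN b hb).1)
  -- `A ⊓ B` commutes with all displacements
  have hIu : ∀ z ∈ A ⊓ B, ∀ a ∈ A, z * u a = u a * z := by
    intro z hz a ha
    have hz' : x * z * x⁻¹ * z⁻¹ ∈ ⁅B, B⁆ := Subgroup.commutator_mem_commutator hxB hz.2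
    set z' := x * z * x⁻¹ * z⁻¹ with hz'd
    have h1 : (x * a * x⁻¹) * (x * z * x⁻¹) = (x * z * x⁻¹) * (x * a * x⁻¹) := by
      rw [show (x * a * x⁻¹) * (x * z * x⁻¹) = x * (a * z) * x⁻¹ by group, hA.comm ha hz.1]; group
    rw [show x * z * x⁻¹ = z' * z by rw [hz'd]; group, show x * a * x⁻¹ = u a * a by rw [hu]; group] at h1
    have h2 : z' * (u a * a) = (u a * a) * z' := by
      rw [← mul_assoc, hBc z' hz' _ (huN a ha).1, mul_assoc, hA.comm (hBA hz') ha, mul_assoc]
    have h3 : z * (u a * a) = (u a * a) * z :=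
      mul_left_cancel (a := z') (by rw [← mul_assoc, ← h1, ← mul_assoc, ← h2, mul_assoc])
    rw [← mul_assoc, mul_assoc (u a), hA.comm ha hz.1, ← mul_assoc, mul_left_inj] at h3
    exact h3
  -- the key identity
  have hkey : ∀ a ∈ A, ∀ b ∈ A, x * t a b * x⁻¹ * (t a b)⁻¹ = ⁅u a, u b⁆ := by
    intro a ha b hb
    set β := x * u b * x⁻¹ * (u b)⁻¹ with hβd
    have hβ : β ∈ ⁅B, B⁆ := Subgroup.commutator_mem_commutator hxB (huN b hb).1
    have hβu : β * (u a * a) = (u a * a) * β := by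
      rw [← mul_assoc, hBc β hβ _ (huN a ha).1, mul_assoc, hA.comm (hBA hβ) ha, mul_assoc]
    have h1 : x * t a b * x⁻¹ = (u a * a) * (β * u b) * (u a * a)⁻¹ * (β * u b)⁻¹ := by
      rw [ht, hβd, hu a]; group
    have h2 : (u a * a) * (β * u b) * (u a * a)⁻¹ * (β * u b)⁻¹ =
        (u a * a) * u b * (u a * a)⁻¹ * (u b)⁻¹ := by
      have hconj : β * ((u a * a) * u b * (u a * a)⁻¹) = ((u a * a) * u b * (u a * a)⁻¹) * β := by
        refine hBc β hβ _ ?_
        rw [show (u a * a) * u b * (u a * a)⁻¹ = u a * (a * u b * a⁻¹) * (u a)⁻¹ by group]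
        exact mul_mem (mul_mem (huN a ha).1 ((Subgroup.mem_normalizer_iff.1 (hAB ha) _).1 (huN b hb).1))
          (inv_mem (huN a ha).1)
      calc (u a * a) * (β * u b) * (u a * a)⁻¹ * (β * u b)⁻¹
          = ((u a * a) * β) * u b * (u a * a)⁻¹ * (u b)⁻¹ * β⁻¹ := by group
        _ = (β * ((u a * a) * u b * (u a * a)⁻¹)) * (u b)⁻¹ * β⁻¹ := by rw [← hβu]; group
        _ = ((u a * a) * u b * (u a * a)⁻¹) * (β * (u b)⁻¹) * β⁻¹ := by rw [hconj]; group
        _ = ((u a * a) * u b * (u a * a)⁻¹) * ((u b)⁻¹ * β) * β⁻¹ := by rw [hBc β hβ _ (inv_mem (huN b hb).1)]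
        _ = _ := by group
    have h3 : (u a * a) * u b * (u a * a)⁻¹ * (u b)⁻¹ = u a * t a b * (u a)⁻¹ * ⁅u a, u b⁆ := by
      rw [commutatorElement_def, ht]; group
    have hI := htI a ha b hb
    rw [h1, h2, h3, ← hIu _ hI a ha, mul_inv_cancel_right]
    have hcc : ⁅u a, u b⁆ * (t a b)⁻¹ = (t a b)⁻¹ * ⁅u a, u b⁆ :=
      hBc _ (Subgroup.commutator_mem_commutator (huN a ha).1 (huN b hb).1) _ (inv_mem hI.2)
    rw [mul_assoc, hcc, mul_inv_cancel_left]
  have hsym : ∀ a ∈ A, ∀ b ∈ A, t a b = t b a * ⁅u b, u a⁆ := by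
    intro a ha b hb
    have h1 : (x * a * x⁻¹) * (x * b * x⁻¹) = (x * b * x⁻¹) * (x * a * x⁻¹) := by
      rw [show (x * a * x⁻¹) * (x * b * x⁻¹) = x * (a * b) * x⁻¹ by group, hA.comm ha hb]; group
    have h2 : u a * t a b * u b * (a * b) = u b * t b a * u a * (b * a) := by
      calc u a * t a b * u b * (a * b) = (x * a * x⁻¹) * (x * b * x⁻¹) := by rw [ht, hu b, hu a]; group
        _ = (x * b * x⁻¹) * (x * a * x⁻¹) := h1
        _ = _ := by rw [ht, hu b, hu a]; group
    rw [hA.comm hb ha, mul_left_inj, ← hIu _ (htI a ha b hb) a ha, ← hIu _ (htI b hb a ha) b hb, mul_assoc,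
      mul_assoc] at h2
    calc t a b = t a b * (u a * u b) * (u a * u b)⁻¹ := by group
      _ = t b a * (u b * u a) * (u a * u b)⁻¹ := by rw [h2]
      _ = t b a * ⁅u b, u a⁆ := by rw [commutatorElement_def]; group
  -- displacements commute
  have hcomm : ∀ a ∈ A, ∀ b ∈ A, u a * u b = u b * u a := by
    intro a ha b hb
    rw [← commutatorElement_eq_one_iff_mul_comm]
    set γ := ⁅u a, u b⁆ with hγd
    have hγ : γ ∈ ⁅B, B⁆ := Subgroup.commutator_mem_commutator (huN a ha).1 (huN b hb).1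
    set γ' := ⁅u b, u a⁆ with hγ'd
    have hγ' : γ' ∈ ⁅B, B⁆ := Subgroup.commutator_mem_commutator (huN b hb).1 (huN a ha).1
    have h1 : γ = γ' := by
      calc γ = x * t a b * x⁻¹ * (t a b)⁻¹ := (hkey a ha b hb).symm
        _ = x * (t b a * γ') * x⁻¹ * (t b a * γ')⁻¹ := by rw [hsym a ha b hb]
        _ = x * t b a * (γ' * x⁻¹) * γ'⁻¹ * (t b a)⁻¹ := by group
        _ = x * t b a * (x⁻¹ * γ') * γ'⁻¹ * (t b a)⁻¹ := by rw [hBc γ' hγ' _ (inv_mem hxB)]
        _ = x * t b a * x⁻¹ * (t b a)⁻¹ := by group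
        _ = γ' := hkey b hb a ha
    have h2 : γ ^ 2 = 1 := by
      rw [pow_two]; nth_rw 2 [h1]; rw [hγd, hγ'd, ← commutatorElement_inv (u a) (u b), mul_inv_cancel]
    obtain ⟨k, hk⟩ := hL ⟨γ, hAL (hBA hγ)⟩
    have hk' : γ ^ p ^ k = 1 := by simpa using congrArg Subtype.val hk
    refine orderOf_eq_one_iff.1 (Nat.eq_one_of_dvd_coprimes ?_ (orderOf_dvd_of_pow_eq_one h2)
      (orderOf_dvd_of_pow_eq_one hk'))
    exact ((Nat.coprime_primes Nat.prime_two hp.out).2 (Ne.symm hp2)).pow_right k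
  -- the kernel of `a ↦ u a` modulo `A ⊓ B`
  set I := A ⊓ B with hI
  set M := Subgroup.closure (u '' (A : Set G)) with hM
  have huM : ∀ a ∈ A, u a ∈ M := fun a ha => Subgroup.subset_closure ⟨a, ha, rfl⟩
  have hMN : M ≤ N := by
    rw [hM, Subgroup.closure_le]; rintro _ ⟨a, ha, rfl⟩; exact huN a ha
  have hMI : ∀ m ∈ M, ∀ z ∈ I, m * z = z * m := by
    intro m hm z hz
    have hle : M ≤ Subgroup.centralizer ({z} : Set G) := by
      rw [hM, Subgroup.closure_le]; rintro _ ⟨a, ha, rfl⟩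
      exact Subgroup.mem_centralizer_singleton_iff.2 (hIu z hz a ha).symm
    exact Subgroup.mem_centralizer_singleton_iff.1 (hle hm)
  have hMM : ∀ m ∈ M, ∀ m' ∈ M, m * m' = m' * m := by
    intro m hm m' hm'
    have hle : M ≤ Subgroup.centralizer (M : Set G) := by
      rw [hM, Subgroup.centralizer_closure, Subgroup.closure_le]
      rintro _ ⟨a, ha, rfl⟩
      exact Subgroup.mem_centralizer_iff.2 (by rintro _ ⟨b, hb, rfl⟩; exact hcomm b hb a ha)
    exact (Subgroup.mem_centralizer_iff.1 (hle hm') m hm)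
  set W := M ⊔ I with hW
  haveI hIW : (I.subgroupOf W).Normal := by
    refine ⟨fun z hz w => ?_⟩
    have hle : W ≤ Subgroup.centralizer (I : Set G) := sup_le
      (fun m hm => Subgroup.mem_centralizer_iff.2 fun z hz => (hMI m hm z hz).symm)
      (fun z hz => Subgroup.mem_centralizer_iff.2 fun z' hz' => hA.comm hz'.1 hz.1)
    have h1 : (z : G) * w = w * z := Subgroup.mem_centralizer_iff.1 (hle w.2) _ hz
    show (((w * z * w⁻¹ : W)) : G) ∈ I
    push_cast
    rw [← h1, mul_inv_cancel_right]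
    exact hz
  have hu_mul : ∀ a ∈ A, ∀ b ∈ A, u (a * b) = t a b * (u a * u b) := by
    intro a ha b hb
    rw [← mul_assoc, hIu _ (htI a ha b hb) a ha, ht, hu, hu, hu]; group
  let f : A →* W ⧸ I.subgroupOf W := MonoidHom.mk'
    (fun a => QuotientGroup.mk (⟨u a, Subgroup.mem_sup_left (huM a a.2)⟩ : W)) (fun a b => by
      rw [← QuotientGroup.mk_mul, QuotientGroup.eq]
      show (u ((a : G) * b))⁻¹ * (u a * u b) ∈ I
      rw [hu_mul a a.2 b b.2, mul_inv_rev, mul_assoc]
      have h1 : (u a * u b)⁻¹ * ((t a b)⁻¹ * (u a * u b)) = (t a b)⁻¹ := by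
        rw [inv_mul_eq_iff_eq_mul]
        exact (hMI _ (mul_mem (huM a a.2) (huM b b.2)) _ (inv_mem (htI a a.2 b b.2))).symm
      first
        | exact h1 ▸ inv_mem (htI a a.2 b b.2)
        | (rw [h1]; exact inv_mem (htI a a.2 b b.2)))
  have hf : Function.Surjective f := by
    have hle : M ≤ (f.range.comap (QuotientGroup.mk' (I.subgroupOf W))).map W.subtype := by
      rw [hM, Subgroup.closure_le]
      rintro _ ⟨a, ha, rfl⟩
      exact ⟨⟨u a, Subgroup.mem_sup_left (huM a ha)⟩, ⟨⟨a, ha⟩, rfl⟩, rfl⟩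
    have hle' : I ≤ (f.range.comap (QuotientGroup.mk' (I.subgroupOf W))).map W.subtype := fun z hz =>
      ⟨⟨z, Subgroup.mem_sup_right hz⟩, ⟨1, (map_one f).trans
        ((QuotientGroup.eq_one_iff (N := I.subgroupOf W) ⟨z, Subgroup.mem_sup_right hz⟩).2 hz).symm⟩, rfl⟩
    intro q
    obtain ⟨w, rfl⟩ := QuotientGroup.mk_surjective q
    obtain ⟨w', hw', e'⟩ := (sup_le hle hle') w.2
    rw [← (Subtype.ext e' : w' = w)]
    exact hw'
  set K := f.ker.map A.subtype with hK
  have hKA : K ≤ A := Subgroup.map_subtype_le _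
  have hKmem : ∀ a ∈ A, (a ∈ K ↔ u a ∈ I) := by
    intro a ha
    constructor
    · rintro ⟨b, hb, rfl⟩
      exact (QuotientGroup.eq_one_iff (N := I.subgroupOf W) _).1 (MonoidHom.mem_ker.1 hb)
    · intro h
      exact ⟨⟨a, ha⟩, MonoidHom.mem_ker.2 ((QuotientGroup.eq_one_iff (N := I.subgroupOf W) _).2 h), rfl⟩
  have hIK : I ≤ K := fun z hz => (hKmem z hz.1).2 (by
    rw [hu]
    exact ⟨hBA (Subgroup.commutator_mem_commutator hxB hz.2),
      B.mul_mem (B.mul_mem (B.mul_mem hxB hz.2) (B.inv_mem hxB)) (B.inv_mem hz.2)⟩)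
  have hKM : ∀ m ∈ M, ∀ k ∈ K, m * k = k * m := by
    intro m hm k hk
    have hka := hKA hk
    have huk := (hKmem k hka).1 hk
    have hle : M ≤ Subgroup.centralizer ({k} : Set G) := by
      rw [hM, Subgroup.closure_le]
      rintro _ ⟨b, hb, rfl⟩
      refine Subgroup.mem_centralizer_singleton_iff.2 ?_
      have h1 : t b k = 1 := by rw [ht, hA.comm hb huk.1]; group
      have h2 : ⁅u b, u k⁆ = 1 := commutatorElement_eq_one_iff_mul_comm.2 (hcomm b hb k hka)
      have h3 := hsym k hka b hb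
      rw [h1, h2, one_mul, ht, mul_inv_eq_one, mul_inv_eq_iff_eq_mul] at h3
      exact h3.symm
    exact Subgroup.mem_centralizer_singleton_iff.1 (hle hm)
  -- exponents
  have hexp' : ∀ e : ℕ, (e = 0 ∨ Odd e) → ∀ a ∈ A, a ^ e = 1 → u a ^ e = 1 := by
    intro e he a ha hae
    rcases he with rfl | he
    · exact pow_zero _
    have hI' := htI a ha a ha
    set τ := t a a with hτ
    have hτu : τ * u a = u a * τ := hIu τ hI' a ha
    have hτa : τ * a = a * τ := hA.comm hI'.1 ha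
    have hτn : ∀ n : ℕ, a ^ n * u a * (a ^ n)⁻¹ = τ ^ n * u a := by
      intro n
      induction n with
      | zero => simp
      | succ n ih =>
        rw [pow_succ', show a * a ^ n * u a * (a * a ^ n)⁻¹ = a * (a ^ n * u a * (a ^ n)⁻¹) * a⁻¹ by group, ih,
          show a * (τ ^ n * u a) * a⁻¹ = (a * τ ^ n * a⁻¹) * (a * u a * a⁻¹) by group, ← conj_pow,
          show a * τ * a⁻¹ = τ by rw [← hτa, mul_inv_cancel_right],
          show a * u a * a⁻¹ = τ * u a by rw [hτ, ht]; group, pow_succ, mul_assoc]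
    have hτe : τ ^ e = 1 := by
      have h1 := hτn e
      rw [hae, one_mul, inv_one, mul_one] at h1
      exact mul_eq_right.1 h1.symm
    have hmul : ∀ n : ℕ, (u a * a) ^ n = u a ^ n * a ^ n * τ ^ (n * (n - 1) / 2) := by
      intro n
      induction n with
      | zero => simp
      | succ n ih =>
        have hcu : Commute (τ ^ (n * (n - 1) / 2)) (u a) := (show Commute τ (u a) from hτu).pow_left _
        have hca : Commute (τ ^ (n * (n - 1) / 2)) a := (show Commute τ a from hτa).pow_left _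
        have harith : (n + 1) * (n + 1 - 1) / 2 = n + n * (n - 1) / 2 := by
          rcases n with _ | n
          · rfl
          rw [Nat.add_sub_cancel, Nat.add_sub_cancel,
            show (n + 1 + 1) * (n + 1) = 2 * (n + 1) + (n + 1) * n by ring, Nat.mul_add_div two_pos]
        have h1 : a ^ n * u a = τ ^ n * u a * a ^ n := by rw [← hτn n]; group
        have hcn : Commute (τ ^ n) (u a) := (show Commute τ (u a) from hτu).pow_left n
        have hcna : Commute (τ ^ n) (a ^ (n + 1)) := ((show Commute τ a from hτa).pow_left n).pow_right (n + 1)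
        calc (u a * a) ^ (n + 1) = u a ^ n * a ^ n * (τ ^ (n * (n - 1) / 2) * (u a * a)) := by
              rw [pow_succ, ih, mul_assoc]
          _ = u a ^ n * (a ^ n * u a) * a * τ ^ (n * (n - 1) / 2) := by
              rw [(hcu.mul_right hca).eq]; group
          _ = u a ^ n * (u a * τ ^ n) * a ^ n * a * τ ^ (n * (n - 1) / 2) := by
              rw [h1, hcn.eq]; group
          _ = u a ^ (n + 1) * (τ ^ n * a ^ (n + 1)) * τ ^ (n * (n - 1) / 2) := by
              rw [pow_succ (u a), pow_succ a]; group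
          _ = u a ^ (n + 1) * a ^ (n + 1) * τ ^ ((n + 1) * (n + 1 - 1) / 2) := by
              rw [hcna.eq, harith, pow_add]; group
    have h2 : (u a * a) ^ e = 1 := by
      rw [show u a * a = x * a * x⁻¹ by rw [hu]; group, conj_pow, hae]; simp
    obtain ⟨m, hm⟩ := he
    rw [hmul e, hae, mul_one,
      show e * (e - 1) / 2 = e * m by rw [Nat.mul_div_assoc _ ⟨m, by omega⟩]; congr 1; omega,
      pow_mul, hτe, one_pow, mul_one] at h2
    exact h2
  have hexp : ∀ a ∈ A, u a ^ e = 1 := fun a ha => hexp' e he a ha (hA.2 a ha)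
  have hcomMK : ∀ a ∈ M ⊔ K, ∀ b ∈ M ⊔ K, a * b = b * a := by
    have hle : M ⊔ K ≤ Subgroup.centralizer ((M ⊔ K : Subgroup G) : Set G) := by
      rw [Subgroup.le_centralizer_iff]
      refine sup_le ?_ ?_
      · intro m hm
        rw [Subgroup.mem_centralizer_iff]
        intro y hy
        have hle' : M ⊔ K ≤ Subgroup.centralizer ({m} : Set G) := sup_le
          (fun m' hm' => Subgroup.mem_centralizer_singleton_iff.2 (hMM m' hm' m hm))
          (fun k hk => Subgroup.mem_centralizer_singleton_iff.2 (hKM m hm k hk).symm)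
        exact Subgroup.mem_centralizer_singleton_iff.1 (hle' hy)
      · intro k hk
        rw [Subgroup.mem_centralizer_iff]
        intro y hy
        have hle' : M ⊔ K ≤ Subgroup.centralizer ({k} : Set G) := sup_le
          (fun m' hm' => Subgroup.mem_centralizer_singleton_iff.2 (hKM m' hm' k hk))
          (fun k' hk' => Subgroup.mem_centralizer_singleton_iff.2 (hA.comm (hKA hk') (hKA hk)))
        exact Subgroup.mem_centralizer_singleton_iff.1 (hle' hy)
    exact fun a ha b hb => (Subgroup.mem_centralizer_iff.1 (hle hb) a ha)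
  refine ⟨M ⊔ K, abel_of_commute hcomMK ?_, ?_, ?_, ?_, lt_of_le_of_ne ?_ ?_, ?_, ?_⟩
  · intro y hy
    rw [Subgroup.sup_eq_closure] at hy
    induction hy using Subgroup.closure_induction with
    | mem z hz =>
      rcases hz with hz | hz
      · induction (hz : z ∈ M) using Subgroup.closure_induction with
        | mem w hw => obtain ⟨a, ha, rfl⟩ := hw; exact hexp a ha
        | one => exact one_pow e
        | mul c d hc hd ihc ihd => rw [(show Commute c d from hMM c hc d hd).mul_pow, ihc, ihd, one_mul]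
        | inv c _ ih => rw [inv_pow, ih, inv_one]
      · exact hA.2 z (hKA hz)
    | one => exact one_pow e
    | mul c d hc hd ihc ihd =>
      rw [← Subgroup.sup_eq_closure] at hc hd
      rw [(show Commute c d from hcomMK c hc d hd).mul_pow, ihc, ihd, one_mul]
    | inv c _ ih => rw [inv_pow, ih, inv_one]
  · -- the order
    have hMK : M ⊓ K = M ⊓ I := le_antisymm
      (le_inf inf_le_left (le_inf (inf_le_right.trans hKA) (inf_le_left.trans (hMN.trans inf_le_left))))
      (inf_le_inf_left _ hIK)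
    have h1 := card_sup_of_commute (fun m hm k hk => hKM m hm k hk)
    have h2 := card_sup_of_commute (fun m hm z hz => hMI m hm z hz)
    rw [hMK] at h1
    rw [← hW] at h2
    have h3 : Nat.card A = Nat.card K * (I.subgroupOf W).index := by
      rw [hK, Subgroup.card_map_of_injective A.subtype_injective, ← Subgroup.card_mul_index f.ker,
        Subgroup.index_ker, MonoidHom.range_eq_top.2 hf, Subgroup.card_top, Subgroup.index]
    have h4 := Subgroup.card_mul_index (I.subgroupOf W)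
    rw [Nat.card_congr (Subgroup.subgroupOfEquivOfLe (le_sup_right : I ≤ W)).toEquiv] at h4
    refine Nat.eq_of_mul_eq_mul_right (Nat.card_pos (α := (M ⊓ I : Subgroup G))) ?_
    refine Nat.eq_of_mul_eq_mul_right (Nat.card_pos (α := I)) ?_
    rw [h1, h3, show Nat.card K * (I.subgroupOf W).index * Nat.card (M ⊓ I : Subgroup G) * Nat.card I =
      Nat.card K * ((Nat.card I * (I.subgroupOf W).index) * Nat.card (M ⊓ I : Subgroup G)) by ring, h4, h2]
    ring
  · exact sup_le ((hMN.trans inf_le_left).trans le_sup_right) (hKA.trans le_sup_left)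
  · refine sup_le ?_ (hKA.trans Subgroup.le_normalClosure)
    rw [hM, Subgroup.closure_le]
    rintro _ ⟨a, ha, rfl⟩
    have ha' : a ∈ Subgroup.normalClosure (A : Set G) := Subgroup.le_normalClosure ha
    rw [SetLike.mem_coe, hu]
    exact mul_mem (Subgroup.normalClosure_normal.conj_mem a ha' x) (inv_mem ha')
  · exact le_inf (hIK.trans le_sup_right) inf_le_right
  · intro heq
    refine hxN ⟨hxB, hN x fun a ha => ?_⟩
    have h1 : u a ∈ A ⊓ B := heq.ge ⟨Subgroup.mem_sup_left (huM a ha), (huN a ha).1⟩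
    have := mul_mem h1.1 ha
    rw [hu] at this
    simpa using this
  · exact sup_le (hMN.trans inf_le_right) (hKA.trans Subgroup.le_normalizer)
  · -- the elements of exponent dividing `q`
    intro q hq
    classical
    let A₁ : Set G := {a | a ∈ A ∧ a ^ q = 1}
    let cls : A₁ → W ⧸ I.subgroupOf W := fun a => f ⟨a, a.2.1⟩
    let s : A₁ → A₁ := fun a => Set.rangeSplitting cls ⟨cls a, a, rfl⟩
    have hs : ∀ a, cls (s a) = cls a := fun a => Set.apply_rangeSplitting cls ⟨cls a, a, rfl⟩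
    have hs' : ∀ a b, cls a = cls b → s a = s b := fun a b h => by
      show Set.rangeSplitting cls _ = Set.rangeSplitting cls _
      congr 1
      exact Subtype.ext h
    have hk : ∀ a : A₁, ((a : G) * ((s a : A₁) : G)⁻¹) ∈ K := fun a => by
      refine ⟨⟨a, a.2.1⟩ * ⟨(s a : G), (s a).2.1⟩⁻¹, MonoidHom.mem_ker.2 ?_, rfl⟩
      rw [map_mul, map_inv]
      exact mul_inv_eq_one.2 (hs a).symm
    have hkq : ∀ a : A₁, ((a : G) * ((s a : A₁) : G)⁻¹) ^ q = 1 := fun a => by
      rw [(show Commute (a : G) ((s a : A₁) : G)⁻¹ from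
        (show Commute (a : G) (s a : A₁) from hA.comm a.2.1 (s a).2.1).inv_right).mul_pow, a.2.2, inv_pow, (s a).2.2,
        inv_one, one_mul]
    let φ : A₁ → {a : G // a ∈ M ⊔ K ∧ a ^ q = 1} := fun a =>
      ⟨u (s a : A₁) * ((a : G) * ((s a : A₁) : G)⁻¹),
        mul_mem (Subgroup.mem_sup_left (huM _ (s a).2.1)) (Subgroup.mem_sup_right (hk a)), by
        rw [(show Commute (u (s a : A₁)) _ from hKM _ (huM _ (s a).2.1) _ (hk a)).mul_pow, hkq a,
          hexp' q (Or.inr hq) _ (s a).2.1 (s a).2.2, one_mul]⟩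
    refine Nat.card_le_card_of_injective φ fun a b h => ?_
    have h' : u (s a : A₁) * ((a : G) * ((s a : A₁) : G)⁻¹) = u (s b : A₁) * ((b : G) * ((s b : A₁) : G)⁻¹) :=
      congrArg Subtype.val h
    have h1 : (u (s a : A₁))⁻¹ * u (s b : A₁) =
        ((a : G) * ((s a : A₁) : G)⁻¹) * ((b : G) * ((s b : A₁) : G)⁻¹)⁻¹ := by
      rw [inv_mul_eq_iff_eq_mul, ← mul_assoc, h', mul_inv_cancel_right]
    have hM : (u (s a : A₁))⁻¹ * u (s b : A₁) ∈ M := M.mul_mem (M.inv_mem (huM _ (s a).2.1)) (huM _ (s b).2.1)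
    have hKmem' : ((a : G) * ((s a : A₁) : G)⁻¹) * ((b : G) * ((s b : A₁) : G)⁻¹)⁻¹ ∈ K :=
      K.mul_mem (hk a) (K.inv_mem (hk b))
    have hI' : (u (s a : A₁))⁻¹ * u (s b : A₁) ∈ I := by
      refine ⟨?_, (hMN hM).1⟩
      rw [h1]; exact hKA hKmem'
    have hcls : cls (s a) = cls (s b) :=
      (QuotientGroup.eq (s := I.subgroupOf W)).2 (show _ ∈ I from hI')
    have hss : s a = s b := hs' a b (by rw [← hs a, ← hs b, hcls])
    rw [hss] at h'
    exact Subtype.ext (mul_right_cancel (mul_left_cancel h'))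

end CfsgLib.Inv.ZJ
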