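import Cfsg.Prelude.Def_LocalStructure
import Cfsg.Agent.Inv.CharP2

/-!
Weakly closed subgroups of finite groups; the three subgroup lemma modulo an invariant subgroup.
-/

set_option autoImplicit false
set_option linter.style.haveILetI false

namespace CfsgLib.Inv

open Cfsg
open scoped commutatorElement Pointwise

variable {G : Type*} [Group G] {p : ℕ}

theorem three_subgroup_le {A B C N : Subgroup G} (hA : A ≤ Subgroup.normalizer (N : Set G))
    (hB : B ≤ Subgroup.normalizer (N : Set G)) (hC : C ≤ Subgroup.normalizer (N : Set G))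
    (h1 : ⁅⁅B, C⁆, A⁆ ≤ N) (h2 : ⁅⁅C, A⁆, B⁆ ≤ N) : ⁅⁅A, B⁆, C⁆ ≤ N := by
  set M := Subgroup.normalizer (N : Set G) with hM
  haveI : (N.subgroupOf M).Normal := Subgroup.normal_in_normalizer
  set π := QuotientGroup.mk' (N.subgroupOf M) with hπ
  have key : ∀ X Y Z : Subgroup G, X ≤ M → Y ≤ M → Z ≤ M →
      (⁅⁅X, Y⁆, Z⁆ ≤ N ↔
        ⁅⁅(X.subgroupOf M).map π, (Y.subgroupOf M).map π⁆, (Z.subgroupOf M).map π⁆ = ⊥) := by
    intro X Y Z hX hY hZ
    rw [← Subgroup.map_commutator, ← Subgroup.map_commutator, Subgroup.map_eq_bot_iff, hπ,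
      QuotientGroup.ker_mk']
    conv_lhs =>
      rw [← Subgroup.map_subgroupOf_eq_of_le hX, ← Subgroup.map_subgroupOf_eq_of_le hY,
        ← Subgroup.map_subgroupOf_eq_of_le hZ, ← Subgroup.map_commutator, ← Subgroup.map_commutator,
        Subgroup.map_le_iff_le_comap]
    rfl
  rw [key A B C hA hB hC]
  exact Subgroup.commutator_commutator_eq_bot_of_rotate ((key B C A hB hC hA).1 h1)
    ((key C A B hC hA hB).1 h2)

/-- A weakly closed subgroup is the only conjugate of itself in every `p`-subgroup containing it. -/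
theorem wc_any [Finite G] [hp : Fact p.Prime] {Q : Subgroup G} (h : IsWeaklyClosedSubgroup p Q)
    {R : Subgroup G} (hR : IsPGroup p R) (hQR : Q ≤ R) {g : G}
    (hg : Q.map (MulAut.conj g).toMonoidHom ≤ R) : Q.map (MulAut.conj g).toMonoidHom = Q := by
  obtain ⟨T, hQT, hT⟩ := h
  obtain ⟨T', hT'⟩ := hR.exists_le_sylow
  obtain ⟨x, hx⟩ := MulAction.exists_smul_eq G T' T
  have hmem : ∀ w : G, Q.map (MulAut.conj w).toMonoidHom ≤ R →
      Q.map (MulAut.conj (x * w)).toMonoidHom = Q := by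
    intro w hw
    refine hT (x * w) ?_
    rw [← hx, Sylow.coe_subgroup_smul, CfsgLib.Solv.conj_smul_eq_map, map_mul]
    intro y hy
    obtain ⟨q, hq, rfl⟩ := hy
    exact Subgroup.mem_map.2 ⟨MulAut.conj w q, hT' (hw ⟨q, hq, rfl⟩), rfl⟩
  have h1 := hmem 1 (by
    intro y hy
    obtain ⟨q, hq, rfl⟩ := hy
    simpa using hQR hq)
  rw [mul_one] at h1
  have h2 := hmem g hg
  have e : (Q.map (MulAut.conj g).toMonoidHom).map (MulAut.conj x).toMonoidHom =
      Q.map (MulAut.conj x).toMonoidHom := by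
    rw [h1, Subgroup.map_map]
    refine Eq.trans ?_ h2
    congr 1
    rw [map_mul]; rfl
  exact Subgroup.map_injective (MulAut.conj x).injective e

/-- A weakly closed subgroup is normal in every `p`-subgroup containing it. -/
theorem wc_le_normalizer [Finite G] [hp : Fact p.Prime] {Q : Subgroup G} (h : IsWeaklyClosedSubgroup p Q)
    {R : Subgroup G} (hR : IsPGroup p R) (hQR : Q ≤ R) : R ≤ Subgroup.normalizer (Q : Set G) := by
  intro r hr
  refine CfsgLib.Solv.mem_normalizer_of_conj_smul_eq ?_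
  rw [CfsgLib.Solv.conj_smul_eq_map]
  refine wc_any h hR hQR ?_
  rintro _ ⟨q, hq, rfl⟩
  exact mul_mem (mul_mem hr (hQR hq)) (inv_mem hr)

/-- Two conjugates of a weakly closed `Q` inside a common `p`-local overgroup are conjugate there. -/
theorem wc_conj_in [Finite G] [hp : Fact p.Prime] {Q : Subgroup G} (hQp : IsPGroup p Q)
    (h : IsWeaklyClosedSubgroup p Q) {K : Subgroup G} (hQK : Q ≤ K) {g : G}
    (hg : Q.map (MulAut.conj g).toMonoidHom ≤ K) :
    ∃ k ∈ K, Q.map (MulAut.conj g).toMonoidHom = Q.map (MulAut.conj k).toMonoidHom := by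
  obtain ⟨R, hR⟩ := (hQp.comap_subtype (K := K)).exists_le_sylow
  obtain ⟨R', hR'⟩ := ((hQp.map (MulAut.conj g).toMonoidHom).comap_subtype (K := K)).exists_le_sylow
  obtain ⟨k, hk⟩ := MulAction.exists_smul_eq K R R'
  refine ⟨k, k.2, ?_⟩
  have hRp : IsPGroup p ((R : Subgroup K).map K.subtype) := R.2.map _
  have hQR : Q ≤ (R : Subgroup K).map K.subtype := fun q hq =>
    Subgroup.mem_map.2 ⟨⟨q, hQK hq⟩, hR hq, rfl⟩
  have h2 : Q.map (MulAut.conj ((k : G)⁻¹ * g)).toMonoidHom ≤ (R : Subgroup K).map K.subtype := by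
    rintro _ ⟨q, hq, rfl⟩
    have hmem : (⟨g * q * g⁻¹, hg ⟨q, hq, rfl⟩⟩ : K) ∈ (R' : Subgroup K) := hR' ⟨q, hq, rfl⟩
    rw [← hk, Sylow.coe_subgroup_smul, CfsgLib.Solv.mem_conj_smul_iff] at hmem
    refine Subgroup.mem_map.2 ⟨_, hmem, ?_⟩
    simp [mul_assoc]
  have h3 := wc_any h hRp hQR h2
  conv_rhs => rw [← h3, Subgroup.map_map]
  congr 1
  ext q
  simp [mul_assoc]

theorem wc_of_normal_in [Finite G] [hp : Fact p.Prime] {Q : Subgroup G} (hQp : IsPGroup p Q)
    (h : ∀ g : G, ⁅Q, Q.map (MulAut.conj g).toMonoidHom⁆ ≤ Q ⊓ Q.map (MulAut.conj g).toMonoidHom →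
      Q.map (MulAut.conj g).toMonoidHom = Q) : IsWeaklyClosedSubgroup p Q := by
  have hmut : ∀ g : G, Q ≤ Subgroup.normalizer ((Q.map (MulAut.conj g).toMonoidHom : Subgroup G) : Set G) →
      Q.map (MulAut.conj g).toMonoidHom ≤ Subgroup.normalizer (Q : Set G) →
      Q.map (MulAut.conj g).toMonoidHom = Q := fun g h1 h2 =>
    h g (le_inf (Subgroup.le_normalizer_iff_commutator_le_left.1 h2)
      (Subgroup.le_normalizer_iff_commutator_le_right.1 h1))
  have hnorm : ∀ R : Subgroup G, IsPGroup p R → Q ≤ R → R ≤ Subgroup.normalizer (Q : Set G) := by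
    intro R hR hQR
    by_contra hne
    set N := Subgroup.normalizer (Q : Set G) ⊓ R with hN
    have hlt : N.subgroupOf R < ⊤ := lt_top_iff_ne_top.2 fun e =>
      hne ((Subgroup.subgroupOf_eq_top.1 e).trans inf_le_left)
    haveI := hR.isNilpotent
    obtain ⟨m, hm, hmN⟩ := SetLike.exists_of_lt (Group.normalizerCondition_of_isNilpotent _ hlt)
    have hQN : Q ≤ N := le_inf Subgroup.le_normalizer hQR
    have hconjN : ∀ x ∈ N, (m : G) * x * (m : G)⁻¹ ∈ N := fun x hx =>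
      (Subgroup.mem_normalizer_iff.1 hm ⟨x, (Subgroup.mem_inf.1 hx).2⟩).1 hx
    have hconjN' : ∀ x ∈ N, (m : G)⁻¹ * x * (m : G) ∈ N := fun x hx =>
      (Subgroup.mem_normalizer_iff''.1 hm ⟨x, (Subgroup.mem_inf.1 hx).2⟩).1 hx
    refine hmN (Subgroup.mem_inf.2 ⟨CfsgLib.Solv.mem_normalizer_of_conj_smul_eq ?_, m.2⟩)
    rw [CfsgLib.Solv.conj_smul_eq_map]
    refine hmut m ?_ ?_
    · rw [CfsgLib.Solv.le_normalizer_iff_forall_conj_mem]
      intro q hq y hy
      rw [CfsgLib.Solv.mem_map_conj_iff] at hy ⊢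
      have h1 := CfsgLib.Solv.le_normalizer_iff_forall_conj_mem.1
        (inf_le_left : N ≤ Subgroup.normalizer (Q : Set G)) _ (hconjN' q (hQN hq)) _ hy
      have e : (m : G)⁻¹ * (q * y * q⁻¹) * m =
          (m : G)⁻¹ * q * m * ((m : G)⁻¹ * y * m) * ((m : G)⁻¹ * q * m)⁻¹ := by group
      rw [e]; exact h1
    · rintro _ ⟨q, hq, rfl⟩
      exact (Subgroup.mem_inf.1 (hconjN q (hQN hq))).1
  obtain ⟨T, hT⟩ := hQp.exists_le_sylow
  refine ⟨T, hT, fun g hg => hmut g ?_ (hg.trans (hnorm T T.2 hT))⟩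
  intro q hq
  have h1 := hnorm ((T : Subgroup G).map (MulAut.conj g⁻¹).toMonoidHom) (T.2.map _) (fun y hy =>
    CfsgLib.Solv.mem_map_conj_iff.2 (by simpa using hg ⟨y, hy, rfl⟩))
  have h2 : g⁻¹ * q * g ∈ Subgroup.normalizer (Q : Set G) :=
    h1 (CfsgLib.Solv.mem_map_conj_iff.2 (by simpa [mul_assoc] using hT hq))
  have h3 := Subgroup.le_normalizer_map (MulAut.conj g).toMonoidHom (Subgroup.mem_map.2 ⟨_, h2, rfl⟩)
  simpa [mul_assoc] using h3

end CfsgLib.Inv
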