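import Cfsg.Agent.Fus.QdGroup
import Cfsg.Agent.Lie.Orders
import Cfsg.Agent.Solv.FittingBasic
import Cfsg.Prelude.Def_Transfer

/-!
Order and Sylow `p`-subgroups of `qd p`.
-/

set_option autoImplicit false

namespace CfsgLib.Inv.QdSylow

open CfsgLib.Fus.Qd

/-- A nonabelian group of order `p^3` and exponent `p` is extraspecial. -/
theorem extraspecial_of_cube {P : Type*} [Group P] [Finite P] {p : ℕ} [hp : Fact p.Prime]
    (hc : Nat.card P = p ^ 3) (hexp : ∀ x : P, x ^ p = 1) (hnc : ¬ ∀ x y : P, x * y = y * x) :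
    Cfsg.IsExtraspecial p P := by
  have hP : IsPGroup p P := IsPGroup.of_card hc
  haveI : Nontrivial P := Finite.one_lt_card_iff_nontrivial.1 (hc ▸ Nat.one_lt_pow (by norm_num) hp.out.one_lt)
  have hZ1 : Nontrivial (Subgroup.center P) := hP.center_nontrivial
  obtain ⟨k, hk3, hk⟩ := (Nat.dvd_prime_pow hp.out).1 (hc ▸ Subgroup.card_subgroup_dvd_card (Subgroup.center P))
  have hk0 : k ≠ 0 := by
    rintro rfl
    have := Finite.one_lt_card_iff_nontrivial.2 hZ1
    rw [hk, pow_zero] at this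
    omega
  have hq : Nat.card (P ⧸ Subgroup.center P) * p ^ k = p ^ 3 := by
    rw [← hk, ← Subgroup.card_eq_card_quotient_mul_card_subgroup, hc]
  have hk1 : k = 1 := by
    by_contra h1
    apply hnc
    haveI : IsCyclic (P ⧸ Subgroup.center P) := by
      rcases (show k = 2 ∨ k = 3 by omega) with rfl | rfl
      · refine isCyclic_of_prime_card (p := p) ?_
        exact Nat.eq_of_mul_eq_mul_right (pow_pos hp.out.pos 2) (hq.trans (by ring))
      · haveI : Subsingleton (P ⧸ Subgroup.center P) := (Nat.card_eq_one_iff_unique.1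
          (Nat.eq_of_mul_eq_mul_right (pow_pos hp.out.pos 3) (hq.trans (by ring)))).1
        infer_instance
    exact fun x y => commutative_of_cyclic_center_quotient (QuotientGroup.mk' (Subgroup.center P))
      (by rw [QuotientGroup.ker_mk']) x y
  subst hk1
  rw [pow_one] at hk hq
  have hQ : Nat.card (P ⧸ Subgroup.center P) = p ^ 2 :=
    Nat.eq_of_mul_eq_mul_right hp.out.pos (hq.trans (by ring))
  have hle : commutator P ≤ Subgroup.center P := by
    rw [commutator_def, Subgroup.commutator_le]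
    intro x _ y _
    rw [← QuotientGroup.eq_one_iff]
    have h := IsPGroup.commutative_of_card_eq_prime_sq hQ (QuotientGroup.mk x) (QuotientGroup.mk y)
    simp only [commutatorElement_def, QuotientGroup.mk_mul, QuotientGroup.mk_inv]
    rw [h]
    group
  have heq : commutator P = Subgroup.center P := by
    refine Subgroup.eq_of_le_of_card_ge hle ?_
    obtain ⟨j, -, hj⟩ := (Nat.dvd_prime_pow hp.out).1 (hc ▸ Subgroup.card_subgroup_dvd_card (commutator P))
    rw [hk, hj]
    rcases j with _ | j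
    · exfalso
      rw [pow_zero] at hj
      have hbot : commutator P = ⊥ := Subgroup.eq_bot_of_card_eq _ hj
      exact hnc fun x y => commutatorElement_eq_one_iff_mul_comm.1
        (Subgroup.mem_bot.1 (hbot.le (Subgroup.commutator_mem_commutator (Subgroup.mem_top x) (Subgroup.mem_top y))))
    · exact Nat.le_self_pow j.succ_ne_zero p
  exact ⟨⟨hP, le_antisymm
    (CfsgLib.Solv.frattini_le_of_elementary (p := p) _ hle fun x => by rw [hexp]; exact one_mem _)
    (heq ▸ CfsgLib.Solv.commutator_le_frattini hP), heq⟩, hk⟩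

variable {p : ℕ} [Fact p.Prime]

local notation "K" => ZMod p

/-- The coordinates of an element of `qd p`. -/
noncomputable def coords : Matrix.SpecialLinearGroup (Fin 2) K × K × K ≃ ↥(Cfsg.qd p) :=
  Equiv.ofBijective
    (fun t => mk (t.1.1 0 0) (t.1.1 0 1) (t.1.1 1 0) (t.1.1 1 1) t.2.1 t.2.2
      (by have h := t.1.2; rw [Matrix.det_fin_two] at h; exact h))
    ⟨fun s t h => by
      have e := fun i j => congrFun (congrFun (congrArg (fun M : ↥(Cfsg.qd p) => M.1.1) h) i) j
      refine Prod.ext (Subtype.ext ?_) (Prod.ext (by simpa [mk] using e 0 2) (by simpa [mk] using e 1 2))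
      ext i j
      fin_cases i <;> fin_cases j
      · simpa [mk] using e 0 0
      · simpa [mk] using e 0 1
      · simpa [mk] using e 1 0
      · simpa [mk] using e 1 1,
    fun M => by
      obtain ⟨a, b, c, d, x, y, h, rfl⟩ := eq_mk M
      refine ⟨(⟨!![a, b; c, d], by rw [Matrix.det_fin_two_of]; exact h⟩, x, y), ?_⟩
      exact mk_congr rfl rfl rfl rfl rfl rfl⟩

theorem card_qd : Nat.card ↥(Cfsg.qd p) = p ^ 3 * (p ^ 2 - 1) := by
  rw [← Nat.card_congr coords, Nat.card_prod, Nat.card_prod, Nat.card_zmod,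
    CfsgLib.Lie.Orders.card_SL_two (ZMod.card p)]
  ring

/-- The unitriangular subgroup. -/
def unitri : Subgroup ↥(Cfsg.qd p) where
  carrier := {M | ∃ b x y : K, M = mk 1 b 0 1 x y (by ring)}
  one_mem' := ⟨0, 0, 0, mk_one.symm⟩
  mul_mem' := by
    rintro _ _ ⟨b, x, y, rfl⟩ ⟨b', x', y', rfl⟩
    refine ⟨b' + b, x' + b * y' + x, y' + y, ?_⟩
    rw [mk_mul]
    exact mk_congr (by ring) (by ring) (by ring) (by ring) (by ring) (by ring)
  inv_mem' := by
    rintro _ ⟨b, x, y, rfl⟩
    refine ⟨-b, b * y - x, -y, inv_eq_of_mul_eq_one_right ?_⟩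
    rw [mk_mul, ← mk_one]
    exact mk_congr (by ring) (by ring) (by ring) (by ring) (by ring) (by ring)

theorem card_unitri : Nat.card ↥(unitri (p := p)) = p ^ 3 := by
  let f : K × K × K → ↥(unitri (p := p)) := fun t => ⟨mk 1 t.1 0 1 t.2.1 t.2.2 (by ring), _, _, _, rfl⟩
  have hf : Function.Bijective f := by
    refine ⟨fun v w h => ?_, fun M => ?_⟩
    · have e := fun i j => congrFun (congrFun (congrArg (fun M : ↥(unitri (p := p)) => M.1.1.1) h) i) j
      exact Prod.ext (by simpa [f, mk] using e 0 1)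
        (Prod.ext (by simpa [f, mk] using e 0 2) (by simpa [f, mk] using e 1 2))
    · obtain ⟨b, x, y, h⟩ := M.2
      exact ⟨(b, x, y), Subtype.ext h.symm⟩
  rw [← Nat.card_congr (Equiv.ofBijective f hf), Nat.card_prod, Nat.card_prod, Nat.card_zmod]
  ring

theorem unitri_pow_formula (b x y : K) (n : ℕ) :
    (mk 1 b 0 1 x y (by ring)) ^ n =
      mk (1 : K) (n * b) 0 1 (n * x + (n * (n - 1) / 2 : ℕ) * (b * y)) (n * y) (by ring) := by
  induction n with
  | zero => rw [pow_zero, ← mk_one]; exact mk_congr rfl (by simp) rfl rfl (by simp) (by simp)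
  | succ n ih =>
    rw [pow_succ, ih, mk_mul]
    have hT : (n + 1) * (n + 1 - 1) / 2 = n * (n - 1) / 2 + n := by
      rw [← Finset.sum_range_id, ← Finset.sum_range_id, Finset.sum_range_succ]
    rw [show (((n + 1) * (n + 1 - 1) / 2 : ℕ) : K) = (n * (n - 1) / 2 : ℕ) + (n : K) by
      rw [hT]; push_cast; ring]
    exact mk_congr (by ring) (by push_cast; ring) (by ring) (by ring) (by push_cast; ring) (by push_cast; ring)

theorem unitri_pow (hp2 : p ≠ 2) {M : ↥(Cfsg.qd p)} (hM : M ∈ unitri) : M ^ p = 1 := by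
  obtain ⟨b, x, y, rfl⟩ := hM
  have hp := (Fact.out : p.Prime)
  have hodd : p % 2 = 1 := hp.eq_two_or_odd.resolve_left hp2
  have hT : ((p * (p - 1) / 2 : ℕ) : K) = 0 := by
    rw [ZMod.natCast_eq_zero_iff, Nat.mul_div_assoc p (by omega)]
    exact dvd_mul_right _ _
  rw [unitri_pow_formula, ← mk_one]
  exact mk_congr rfl (by simp) rfl rfl (by rw [hT]; simp) (by simp)

theorem unitri_nc : ¬ ∀ x y : ↥(unitri (p := p)), x * y = y * x := by
  intro h
  have h1 := congrArg Subtype.val (h ⟨mk 1 1 0 1 0 0 (by ring), _, _, _, rfl⟩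
    ⟨mk 1 0 0 1 0 1 (by ring), _, _, _, rfl⟩)
  simp only [Subgroup.coe_mul, mk_mul] at h1
  have h2 := congrFun (congrFun (congrArg (fun M : ↥(Cfsg.qd p) => M.1.1) h1) 0) 2
  simp [mk] at h2

end CfsgLib.Inv.QdSylow
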