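import Cfsg.Prelude.Def_DStar
import Cfsg.Prelude.Def_PLocal
import Cfsg.Agent.Perm.MinClass
import Cfsg.Agent.Solv.Basic
import Mathlib.GroupTheory.Nilpotent
import Mathlib.Tactic.Group

/-!
The subgroup `D*` of a p-group and Thompson replacement for abelian subgroups of maximal order.
-/

set_option autoImplicit false

namespace CfsgLib.Inv

open Cfsg
open scoped commutatorElement

variable {S : Type*} [Group S]

theorem dStar_member_centralizes [Finite S] {p : ℕ} [Fact p.Prime] (hS : IsPGroup p S) {M : Subgroup S}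
    (hMn : M.Normal) (hMc : IsMulCommutative M) {A : Subgroup S} (hA : A ∈ dStarFamily S) :
    A ≤ Subgroup.centralizer (M : Set S) := by
  haveI := hS.isNilpotent
  have ind : ∀ i : ℕ, A ≤ Subgroup.centralizer ((M ⊓ Subgroup.upperCentralSeries S i : Subgroup S) : Set S) := by
    intro i
    induction i with
    | zero =>
      intro a _
      refine Subgroup.mem_centralizer_iff.2 fun m hm => ?_
      have : m = 1 := by simpa using (Subgroup.mem_inf.1 hm).2
      subst this; simp
    | succ i ih =>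
      intro a ha
      refine Subgroup.mem_centralizer_iff.2 fun x hx => ?_
      obtain ⟨hxM, hxZ⟩ := Subgroup.mem_inf.1 hx
      refine (hA.2 x ?_ a ha).symm
      set N := M ⊓ Subgroup.upperCentralSeries S i with hN
      set H := A ⊔ Subgroup.zpowers x with hH
      haveI : N.Normal := Subgroup.normal_inf_normal _ _
      have hHN : H ≤ Subgroup.centralizer (N : Set S) := sup_le ih (Subgroup.zpowers_le.2
        (Subgroup.mem_centralizer_iff.2 fun m hm =>
          congrArg Subtype.val (hMc.is_comm.comm (⟨m, (Subgroup.mem_inf.1 hm).1⟩ : M) ⟨x, hxM⟩)))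
      set f := QuotientGroup.mk' N with hf
      have hax : ∀ b ∈ A, f b * f x = f x * f b := by
        intro b _
        rw [← map_mul, ← map_mul, hf, QuotientGroup.mk'_apply, QuotientGroup.mk'_apply, QuotientGroup.eq]
        refine Subgroup.mem_inf.2 ⟨?_, ?_⟩
        · rw [show (b * x)⁻¹ * (x * b) = x⁻¹ * (b⁻¹ * x * b) by group]
          exact mul_mem (inv_mem hxM) (by simpa using hMn.conj_mem x hxM b⁻¹)
        · have h1 := (Subgroup.mem_upperCentralSeries_succ_iff.1 (inv_mem hxZ)) b⁻¹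
          rw [commutatorElement_def] at h1
          rwa [show (b * x)⁻¹ * (x * b) = x⁻¹ * b⁻¹ * x⁻¹⁻¹ * b⁻¹⁻¹ by group]
      have hab : ⁅H, H⁆ ≤ N := by
        rw [← QuotientGroup.ker_mk' N, ← Subgroup.map_eq_bot_iff, Subgroup.map_commutator,
          Subgroup.commutator_eq_bot_iff_le_centralizer, hH, Subgroup.map_sup, MonoidHom.map_zpowers]
        have e1 : ∀ b ∈ A, ∀ c ∈ A, f b * f c = f c * f b := fun b hb c hc => by
          rw [← map_mul, ← map_mul]
          exact congrArg f (congrArg Subtype.val (hA.1.is_comm.comm (⟨b, hb⟩ : A) ⟨c, hc⟩))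
        refine sup_le (Subgroup.le_centralizer_iff.1 (sup_le ?_ (Subgroup.zpowers_le.2 ?_)))
          (Subgroup.le_centralizer_iff.1 (sup_le ?_ (Subgroup.zpowers_le.2 ?_)))
        · rintro _ ⟨b, hb, rfl⟩
          refine Subgroup.mem_centralizer_iff.2 ?_
          rintro _ ⟨c, hc, rfl⟩
          exact e1 c hc b hb
        · refine Subgroup.mem_centralizer_iff.2 ?_
          rintro _ ⟨c, hc, rfl⟩
          exact hax c hc
        · rintro _ ⟨b, hb, rfl⟩
          refine Subgroup.mem_centralizer_iff.2 ?_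
          rintro _ ⟨j, rfl⟩
          exact ((show Commute (f x) (f b) from (hax b hb).symm).zpow_left j).eq
        · refine Subgroup.mem_centralizer_iff.2 ?_
          rintro _ ⟨j, rfl⟩
          exact ((Commute.refl (f x)).zpow_left j).eq
      rw [← le_bot_iff]
      refine (Subgroup.commutator_mono hab le_rfl).trans (le_bot_iff.2 ?_)
      rw [Subgroup.commutator_eq_bot_iff_le_centralizer]
      exact Subgroup.le_centralizer_iff.1 hHN
  have := ind (Group.nilpotencyClass S)
  rwa [upperCentralSeries_nilpotencyClass, inf_top_eq] at this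

theorem center_mem_dStarFamily : Subgroup.center S ∈ dStarFamily S :=
  ⟨inferInstance, fun x _ a ha => (Subgroup.mem_center_iff.1 ha x).symm⟩

theorem dStar_centralizer {x : S}
    (hx : ⁅⁅dStar S ⊔ Subgroup.zpowers x, dStar S ⊔ Subgroup.zpowers x⁆, dStar S ⊔ Subgroup.zpowers x⁆ = ⊥)
    {a : S} (ha : a ∈ dStar S) : a * x = x * a := by
  have hle : dStar S ≤ Subgroup.centralizer ({x} : Set S) := by
    refine sSup_le fun A hA b hb => Subgroup.mem_centralizer_singleton_iff.2 ?_
    refine hA.2 x (le_bot_iff.1 (le_trans ?_ hx.le)) b hb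
    have : A ⊔ Subgroup.zpowers x ≤ dStar S ⊔ Subgroup.zpowers x := sup_le_sup (le_sSup hA) le_rfl
    exact Subgroup.commutator_mono (Subgroup.commutator_mono this this) this
  exact Subgroup.mem_centralizer_singleton_iff.1 (hle ha)

theorem map_mem_dStarFamily {A : Subgroup S} (hA : A ∈ dStarFamily S) (e : S ≃* S) :
    A.map e.toMonoidHom ∈ dStarFamily S := by
  refine ⟨⟨⟨?_⟩⟩, fun x hx a ha => ?_⟩
  · rintro ⟨_, u, hu, rfl⟩ ⟨_, v, hv, rfl⟩
    refine Subtype.ext ?_
    show e u * e v = e v * e u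
    rw [← map_mul, ← map_mul]
    exact congrArg e (congrArg Subtype.val (hA.1.is_comm.comm (⟨u, hu⟩ : A) ⟨v, hv⟩))
  · obtain ⟨b, hb, rfl⟩ := ha
    have e1 : (A ⊔ Subgroup.zpowers (e.symm x)).map e.toMonoidHom =
        A.map e.toMonoidHom ⊔ Subgroup.zpowers x := by
      rw [Subgroup.map_sup, MonoidHom.map_zpowers]
      congr 2
      exact e.apply_symm_apply x
    rw [← e1, ← Subgroup.map_commutator, ← Subgroup.map_commutator] at hx
    have h := hA.2 (e.symm x) ((Subgroup.map_eq_bot_iff_of_injective _ e.injective).1 hx) b hb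
    have := congrArg e h
    rw [map_mul, map_mul, e.apply_symm_apply] at this
    exact this

theorem dStar_normal : (dStar S).Normal := by
  refine ⟨fun x hx g => ?_⟩
  have h : (dStar S).map (MulAut.conj g).toMonoidHom ≤ dStar S := by
    rw [dStar, (Subgroup.gc_map_comap _).l_sSup]
    exact iSup₂_le fun A hA => le_sSup (map_mem_dStarFamily hA (MulAut.conj g))
  exact h (Subgroup.mem_map.2 ⟨x, hx, rfl⟩)

theorem dStar_commutative [Finite S] {p : ℕ} [Fact p.Prime] (hS : IsPGroup p S) :
    IsMulCommutative (dStar S) := by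
  obtain ⟨M, hMn, hMc, hMe⟩ := CfsgLib.Perm.exists_self_centralizing_normal_abelian hS
  have hDM : dStar S ≤ M := sSup_le fun A hA => (dStar_member_centralizes hS hMn hMc hA).trans hMe.le
  exact ⟨⟨fun a b => Subtype.ext (by
    simpa using congrArg Subtype.val (hMc.is_comm.comm (⟨(a : S), hDM a.2⟩ : M) ⟨(b : S), hDM b.2⟩))⟩⟩

/-- Thompson replacement: an abelian subgroup of maximal order not normalized by the normal abelian
subgroup `D` can be replaced by one meeting `D` in more. -/
theorem replacement [Finite S] {p : ℕ} [Fact p.Prime] (hS : IsPGroup p S) {D : Subgroup S}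
    (hDn : D.Normal) (hDc : IsMulCommutative D) {A : Subgroup S} (hA : A ∈ maxAbelianSubgroups S)
    (hDA : ¬ D ≤ Subgroup.normalizer (A : Set S)) :
    ∃ A' ∈ maxAbelianSubgroups S, A' ≤ Subgroup.normalizer (A : Set S) ∧
      A' ≤ Subgroup.normalClosure (A : Set S) ∧ A ⊓ D < A' ⊓ D := by
  haveI := hDn
  obtain ⟨hAc, hAmax⟩ := hA
  set NA := Subgroup.normalizer (A : Set S) with hNA
  set N := D ⊓ NA with hN
  set H := D ⊔ A with hH
  set K := N ⊔ A with hK
  have hKH : K ≤ H := sup_le (inf_le_left.trans le_sup_left) le_sup_right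
  have hKN : K ≤ NA := sup_le inf_le_right Subgroup.le_normalizer
  have hne : K.subgroupOf H ≠ ⊤ := fun e => hDA
    ((le_sup_left : D ≤ H).trans ((Subgroup.subgroupOf_eq_top.1 e).trans hKN))
  haveI := (hS.to_subgroup H).isNilpotent
  obtain ⟨y, hy, hyK⟩ := SetLike.exists_of_lt
    (Group.normalizerCondition_of_isNilpotent (K.subgroupOf H) (lt_top_iff_ne_top.2 hne))
  obtain ⟨d, hd, a₀, ha₀, hda⟩ := Subgroup.mem_sup_of_normal_left.1 y.2
  have hdK : d ∉ K := fun h => hyK (show (y : S) ∈ K by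
    rw [← hda]; exact mul_mem h (Subgroup.mem_sup_right ha₀))
  have hdn : ∀ k ∈ K, d * k * d⁻¹ ∈ K := by
    intro k hk
    have h1 : a₀⁻¹ * k * a₀ ∈ K := mul_mem (mul_mem (inv_mem (Subgroup.mem_sup_right ha₀)) hk) (Subgroup.mem_sup_right ha₀)
    have h2 : (y : S) * (a₀⁻¹ * k * a₀) * (y : S)⁻¹ ∈ K :=
      (Subgroup.mem_normalizer_iff.1 hy ⟨_, hKH h1⟩).1 h1
    rw [← hda] at h2
    rwa [show d * a₀ * (a₀⁻¹ * k * a₀) * (d * a₀)⁻¹ = d * k * d⁻¹ by group] at h2
  have hdA : d ∉ NA := fun h => hdK (Subgroup.mem_sup_left (Subgroup.mem_inf.2 ⟨hd, h⟩))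
  let c : S → S := fun a => d * a * d⁻¹ * a⁻¹
  have hcD : ∀ a, c a ∈ D := fun a => by
    show d * a * d⁻¹ * a⁻¹ ∈ D
    rw [show d * a * d⁻¹ * a⁻¹ = d * (a * d⁻¹ * a⁻¹) by group]
    exact mul_mem hd (hDn.conj_mem _ (inv_mem hd) a)
  have hcN : ∀ a ∈ A, c a ∈ N := fun a ha => Subgroup.mem_inf.2 ⟨hcD a,
    hKN (mul_mem (hdn a (Subgroup.mem_sup_right ha)) (inv_mem (Subgroup.mem_sup_right ha)))⟩
  have hDcomm : ∀ u ∈ D, ∀ v ∈ D, Commute u v := fun u hu v hv =>
    congrArg Subtype.val (hDc.is_comm.comm (⟨u, hu⟩ : D) ⟨v, hv⟩)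
  have hAcomm : ∀ u ∈ A, ∀ v ∈ A, Commute u v := fun u hu v hv =>
    congrArg Subtype.val (hAc.is_comm.comm (⟨u, hu⟩ : A) ⟨v, hv⟩)
  set M := Subgroup.closure (c '' (A : Set S)) with hM
  have hMN : M ≤ N := (Subgroup.closure_le _).2 (by rintro _ ⟨a, ha, rfl⟩; exact hcN a ha)
  have hMD : M ≤ D := hMN.trans inf_le_left
  set C := A ⊓ Subgroup.centralizer (M : Set S) with hC
  have hADC : A ⊓ D ≤ C := fun u hu => Subgroup.mem_inf.2 ⟨(Subgroup.mem_inf.1 hu).1,
    Subgroup.mem_centralizer_iff.2 fun m hm => (hDcomm m (hMD hm) u (Subgroup.mem_inf.1 hu).2).eq⟩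
  set A' := M ⊔ C with hA'
  have hA'c : IsMulCommutative A' := by
    have hle : A' ≤ Subgroup.centralizer (A' : Set S) := by
      refine sup_le (Subgroup.le_centralizer_iff.1 (sup_le ?_ ?_)) (Subgroup.le_centralizer_iff.1 (sup_le ?_ ?_))
      · exact fun u hu => Subgroup.mem_centralizer_iff.2 fun v hv => (hDcomm v (hMD hv) u (hMD hu)).eq
      · exact inf_le_right
      · exact Subgroup.le_centralizer_iff.1 inf_le_right
      · exact fun u hu => Subgroup.mem_centralizer_iff.2 fun v hv =>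
          (hAcomm v (Subgroup.mem_inf.1 hv).1 u (Subgroup.mem_inf.1 hu).1).eq
    exact ⟨⟨fun u v => Subtype.ext (Subgroup.mem_centralizer_iff.1 (hle v.2) u u.2)⟩⟩
  have key : ∀ a ∈ A, ∀ b ∈ A, (c a)⁻¹ * c b ∈ A → a⁻¹ * b ∈ C := by
    intro a ha b hb hab
    set w := a⁻¹ * b with hw
    have hwA : w ∈ A := mul_mem (inv_mem ha) hb
    have hcw : c w ∈ A := by
      have e : c w = a⁻¹ * ((c a)⁻¹ * c b) * a := by simp only [c, hw]; group
      rw [e]; exact mul_mem (mul_mem (inv_mem ha) hab) ha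
    refine Subgroup.mem_inf.2 ⟨hwA, Subgroup.mem_centralizer_iff.2 fun m hm => ?_⟩
    have hle : M ≤ Subgroup.centralizer ({w} : Set S) := by
      refine (Subgroup.closure_le _).2 ?_
      rintro _ ⟨e, he, rfl⟩
      refine Subgroup.mem_centralizer_singleton_iff.2 ?_
      have h1 : Commute (d * e * d⁻¹) (d * w * d⁻¹) := by
        have := hAcomm e he w hwA
        exact (Commute.map this (MulAut.conj d).toMonoidHom)
      have h2 : Commute (d * e * d⁻¹) (c w) := by
        have e1 : d * e * d⁻¹ = c e * e := by simp only [c]; group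
        rw [e1]
        exact (hDcomm _ (hcD e) _ (hcD w)).mul_left (hAcomm e he _ hcw)
      have h3 : Commute (d * e * d⁻¹) w := by
        have e2 : w = (c w)⁻¹ * (d * w * d⁻¹) := by simp only [c]; group
        rw [e2]
        exact h2.inv_right.mul_right h1
      exact (h3.mul_left (hAcomm e he w hwA).inv_left).eq
    exact Subgroup.mem_centralizer_singleton_iff.1 (hle hm)
  have hcard : Nat.card A ≤ Nat.card A' := by
    let f : A ⧸ C.subgroupOf A → M ⧸ A.subgroupOf M := fun q =>
      ((⟨c (q.out : S), Subgroup.subset_closure ⟨_, q.out.2, rfl⟩⟩ : M) : M ⧸ A.subgroupOf M)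
    have hf : Function.Injective f := by
      intro q q' h
      have h1 := QuotientGroup.eq.1 h
      rw [Subgroup.mem_subgroupOf] at h1
      rw [← QuotientGroup.out_eq' q, ← QuotientGroup.out_eq' q', QuotientGroup.eq]
      exact key _ q.out.2 _ q'.out.2 h1
    have h1 := Nat.card_le_card_of_injective f hf
    have hA1 := CfsgLib.Solv.relIndex_mul_card (inf_le_left : C ≤ A)
    have hM1 := CfsgLib.Solv.relIndex_mul_card (inf_le_right : C ⊓ M ≤ M)
    have hM2 := CfsgLib.Solv.relIndex_mul_card (le_sup_right : C ≤ A')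
    rw [Subgroup.inf_relIndex_right] at hM1
    have hCM : A.relIndex M = C.relIndex M := by
      rw [← Subgroup.inf_relIndex_right A M, ← Subgroup.inf_relIndex_right C M]
      congr 1
      refine le_antisymm (fun u hu => ?_) (inf_le_inf_right M inf_le_left)
      exact Subgroup.mem_inf.2 ⟨hADC (Subgroup.mem_inf.2 ⟨(Subgroup.mem_inf.1 hu).1, hMD (Subgroup.mem_inf.1 hu).2⟩),
        (Subgroup.mem_inf.1 hu).2⟩
    have h3 : C.relIndex M ≤ C.relIndex A' :=
      Subgroup.relIndex_le_of_le_right le_sup_left Subgroup.index_ne_zero_of_finite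
    rw [← hA1, ← hM2]
    refine Nat.mul_le_mul_left _ (le_trans ?_ h3)
    rw [← hCM]
    exact h1
  refine ⟨A', ⟨hA'c, fun B hB => (hAmax B hB).trans hcard⟩, sup_le (hMN.trans inf_le_right)
    (inf_le_left.trans Subgroup.le_normalizer), sup_le ((Subgroup.closure_le _).2 ?_)
      (inf_le_left.trans Subgroup.subset_normalClosure), lt_of_le_of_ne
        (le_inf (hADC.trans le_sup_right) inf_le_right) fun e => hdA ?_⟩
  · rintro _ ⟨a, ha, rfl⟩
    exact mul_mem (Subgroup.normalClosure_normal.conj_mem a (Subgroup.subset_normalClosure ha) d)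
      (inv_mem (Subgroup.subset_normalClosure ha))
  · have hconj : A.map (MulAut.conj d).toMonoidHom ≤ A := by
      rintro _ ⟨a, ha, rfl⟩
      have h1 : c a ∈ A := by
        have h : c a ∈ A' ⊓ D := Subgroup.mem_inf.2 ⟨Subgroup.mem_sup_left (Subgroup.subset_closure ⟨a, ha, rfl⟩), hcD a⟩
        rw [← e] at h
        exact (Subgroup.mem_inf.1 h).1
      have := mul_mem h1 ha
      simpa [c] using this
    have e' : A.map (MulAut.conj d).toMonoidHom = A := Subgroup.eq_of_le_of_card_ge hconj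
      (by rw [Subgroup.card_map_of_injective (f := (MulAut.conj d).toMonoidHom) (MulAut.conj d).injective])
    rw [hNA, Subgroup.mem_normalizer_iff]
    intro z
    constructor
    · intro hz; rw [← e']; exact Subgroup.mem_map.2 ⟨z, hz, rfl⟩
    · intro hz
      rw [← e', CfsgLib.Solv.mem_map_conj_iff] at hz
      simpa [mul_assoc] using hz

end CfsgLib.Inv
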