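import Cfsg.Agent.Inv.ZJ
import Cfsg.Agent.Fus.FusionCore
import Cfsg.Agent.Fus.StableChief

/-!
In a normalizer `p`-stable group, `p` odd, the normalizer of the center of the Thompson subgroup of a strongly closed
subgroup of a Sylow subgroup controls strong fusion.
-/

set_option autoImplicit false
set_option linter.style.haveILetI false
set_option linter.unusedSectionVars false

open Cfsg
open scoped commutatorElement Pointwise

namespace CfsgLib.Inv.ZJ

open CfsgLib.Glau

universe u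

variable {p : ℕ} [hp : Fact p.Prime] {e : ℕ}

/-- Normalizer stability gives stability on normal `p`-subgroups. -/
theorem stableOn_of_normalizer {G : Type*} [Group G] [Finite G] (hst : IsNormalizerPStable p G) :
    ∀ (V : Subgroup G) [V.Normal], IsPGroup p V → IsPStableOn p V := by
  intro V _ hV a hq
  set N := Subgroup.normalizer (V : Set G) with hN
  have ha : a ∈ N := by rw [hN, Subgroup.normalizer_eq_top]; trivial
  haveI : ((Subgroup.centralizer (V : Set G)).subgroupOf N).Normal :=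
    Subgroup.normal_subgroupOf_centralizer_normalizer _
  haveI := CfsgLib.Solv.pCore_normal (↥N ⧸ (Subgroup.centralizer (V : Set G)).subgroupOf N) p
  have hρ : (Subgroup.centralizer (V : Set G)).subgroupOf N ≤
      ((QuotientGroup.mk' (Subgroup.centralizer (V : Set G))).comp N.subtype).ker := fun x hx =>
    (QuotientGroup.eq_one_iff _).2 hx
  let ρ := QuotientGroup.lift _ ((QuotientGroup.mk' (Subgroup.centralizer (V : Set G))).comp N.subtype) hρ
  have hsur : Function.Surjective ρ := by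
    intro y
    obtain ⟨g, rfl⟩ := QuotientGroup.mk'_surjective (Subgroup.centralizer (V : Set G)) y
    exact ⟨QuotientGroup.mk ⟨g, by rw [hN, Subgroup.normalizer_eq_top]; trivial⟩, rfl⟩
  haveI : ((pCore p (↥N ⧸ (Subgroup.centralizer (V : Set G)).subgroupOf N)).map ρ).Normal :=
    (inferInstance : (pCore p _).Normal).map ρ hsur
  exact CfsgLib.Solv.le_pCore ((CfsgLib.Solv.pCore_isPGroup _ p).map ρ) ⟨_, hst V hV a ha hq, rfl⟩

/-- Normalizer stability passes to the quotient by a normal `p`-subgroup centralized by the elements of order prime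
to `p`. -/
theorem stable_pquotient {G : Type*} [Group G] [Finite G] (hp2 : p ≠ 2) (hst : IsNormalizerPStable p G)
    (P : Subgroup G) [P.Normal] (hP : IsPGroup p P)
    (hcent : ∀ x : G, (orderOf x).Coprime p → x ∈ Subgroup.centralizer (P : Set G)) :
    IsNormalizerPStable p (G ⧸ P) := by
  classical
  intro Q hQ g hg hq
  set N := Subgroup.normalizer (Q : Set (G ⧸ P)) with hN
  let π := QuotientGroup.mk' P
  set H := N.comap π with hH
  let σ : ↥H →* ↥N := (π.comp H.subtype).codRestrict N fun x => x.2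
  have hσ : Function.Surjective σ := fun y => by
    obtain ⟨x, hx⟩ := QuotientGroup.mk'_surjective P (y : G ⧸ P)
    exact ⟨⟨x, show π x ∈ N by rw [show π x = y from hx]; exact y.2⟩, Subtype.ext hx⟩
  haveI : (Q.subgroupOf N).Normal := Subgroup.normal_in_normalizer
  set Q' := (Q.subgroupOf N).comap σ with hQ'
  haveI hQ'n : Q'.Normal := Subgroup.Normal.comap inferInstance σ
  have hσ1 : ∀ x : ↥H, σ x = 1 ↔ (x : G) ∈ P := fun x =>
    ⟨fun h => (QuotientGroup.eq_one_iff _).1 (congrArg Subtype.val h),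
      fun h => Subtype.ext ((QuotientGroup.eq_one_iff _).2 h)⟩
  have hQ'p : IsPGroup p Q' := hQ.comap_subtype.comap_of_ker_isPGroup σ (fun x => by
    obtain ⟨k, hk⟩ := hP ⟨((x : ↥H) : G), (hσ1 _).1 x.2⟩
    exact ⟨k, Subtype.ext (Subtype.ext (by simpa using congrArg Subtype.val hk))⟩)
  obtain ⟨g', hg'⟩ := hσ ⟨g, hg⟩
  have hsH := stable_of_injective hst H.subtype H.subtype_injective
  have hcH : ∀ k : ↥H, ∃ n : ℕ, ∀ x : ↥H, (x : G) ∈ P → x * (k ^ p ^ n) = k ^ p ^ n * x := by
    intro k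
    refine ⟨(orderOf (k : G)).factorization p, fun x hx => Subtype.ext ?_⟩
    simp only [Subgroup.coe_mul, Subgroup.coe_pow]
    refine hcent _ ?_ _ hx
    rw [orderOf_pow_of_dvd (pow_ne_zero _ hp.out.ne_zero) (Nat.ordProj_dvd _ _)]
    exact (Nat.coprime_ordCompl hp.out (orderOf_pos _).ne').symm
  have htriv : ∀ (n : ℕ) (U V : Subgroup ↥H), Nat.card U = n → IsChiefFactor U V → U ≤ Q' →
      ∀ u ∈ U, ⁅g', u⁆ ∈ V := by
    intro n
    induction n using Nat.strong_induction_on with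
    | _ n ih =>
    intro U V hn hc hUQ
    obtain ⟨hVU, hUn, hVn, hmin⟩ := hc
    haveI := hUn; haveI := hVn
    set PH := P.subgroupOf H with hPH
    haveI : PH.Normal := (inferInstance : P.Normal).subgroupOf H
    rcases hmin (V ⊔ (U ⊓ PH)) inferInstance le_sup_left (sup_le hVU.le inf_le_left) with he | he
    · have hV : g' ∈ stab V := fun U₁ V₁ h₁ hle => ih _ (hn ▸ lt_of_le_of_ne
        (Subgroup.card_le_of_le (hle.trans hVU.le)) fun h => absurd
          (Subgroup.eq_of_le_of_card_ge (hle.trans hVU.le) h.ge ▸ hle) hVU.not_ge) U₁ V₁ rfl h₁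
          ((hle.trans hVU.le).trans hUQ)
      refine CfsgLib.Dickson.chief_trivial_of_stable hp2 hsH ⟨hVU, hUn, hVn, hmin⟩ (hQ'p.to_le hUQ) hV
        fun u hu => he.le (Subgroup.mem_sup_right ⟨?_, ?_⟩)
      · exact (inferInstance : U.Normal).conj_mem _ (Subgroup.commutator_mem_commutator
          (Subgroup.mem_top g') hu |> fun h => (Subgroup.commutator_le_right (H₁ := ⊤) (H₂ := U)) h) 1 |>
          fun h => (Subgroup.commutator_le_right (H₁ := ⊤) (H₂ := U)) (Subgroup.commutator_mem_commutator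
            (Subgroup.mem_top g') (by simpa using h))
      · show ((⁅g', ⁅g', u⁆⁆ : ↥H) : G) ∈ P
        rw [← hσ1, map_commutatorElement, map_commutatorElement, hg']
        exact Subtype.ext (Subgroup.mem_bot.1 (quad_mem_of_le hq.le (hUQ hu : (σ u : G ⧸ P) ∈ Q)))
    · refine trivial_of_pgroup_on_chief (K := ⊤) ⟨hVU, hUn, hVn, hmin⟩ (hQ'p.to_le hUQ) (fun k _ => ?_) g'
        (Subgroup.mem_top _)
      obtain ⟨m, hm⟩ := hcH k
      refine ⟨m, fun u hu => ?_⟩
      obtain ⟨v, hv, w, hw, rfl⟩ := Subgroup.mem_sup_of_normal_left.1 (he.ge hu)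
      have hcom : ⁅k ^ p ^ m, w⁆ = 1 := commutatorElement_eq_one_iff_mul_comm.2 (hm w hw.2).symm
      rw [show ⁅k ^ p ^ m, v * w⁆ = ⁅k ^ p ^ m, v⁆ * (v * ⁅k ^ p ^ m, w⁆ * v⁻¹) by
        simp only [commutatorElement_def]; group, hcom, mul_one, mul_inv_cancel, mul_one]
      exact (Subgroup.commutator_le_right (H₁ := ⊤) (H₂ := V))
        (Subgroup.commutator_mem_commutator (Subgroup.mem_top _) hv)
  have hstab : g' ∈ stab Q' := fun U V hc hle => htriv _ U V rfl hc hle
  haveI := stab_normal Q'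
  haveI : ((stab Q').map σ).Normal := (stab_normal Q').map σ hσ
  refine mem_pCore_automizer ((stab Q').map σ) ?_ ⟨g', hstab, hg'⟩
  rintro _ ⟨k, hk, rfl⟩
  refine ⟨(orderOf k).factorization p, fun b hb => ?_⟩
  have hc := stab_coprime (p := p) (x := k ^ p ^ (orderOf k).factorization p) (by
    rw [orderOf_pow_of_dvd (pow_ne_zero _ hp.out.ne_zero) (Nat.ordProj_dvd _ _)]
    exact (Nat.coprime_ordCompl hp.out (orderOf_pos _).ne').symm) hQ'n hQ'p ((stab Q').pow_mem hk _)
  obtain ⟨b', hb'⟩ := hσ ⟨b, Subgroup.le_normalizer hb⟩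
  have h := congrArg (fun x => ((σ x : ↥N) : G ⧸ P)) (hc b' (show σ b' ∈ Q.subgroupOf N by rw [hb']; exact hb))
  simpa [hb'] using h

section Functor

variable {G : Type*} [Group G]

theorem map_zJ_injOn {H : Type*} [Group H] (f : G →* H) {D : Subgroup G} (hf : Set.InjOn f (D : Set G)) :
    (zJ e D).map f = zJ e (D.map f) := by
  have hψ : Function.Injective (f.comp D.subtype) := fun a b h => Subtype.ext (hf a.2 b.2 h)
  have h1 : (zJ e (⊤ : Subgroup D)).map D.subtype = zJ e D := by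
    rw [map_zJ D.subtype_injective, ← MonoidHom.range_eq_map, D.range_subtype]
  rw [← h1, Subgroup.map_map, map_zJ hψ]
  congr 1
  rw [← Subgroup.map_map, ← MonoidHom.range_eq_map, D.range_subtype]

theorem zJ_ne_bot [Finite G] (he : e = 0 ∨ e = p) {D : Subgroup G} (hD : IsPGroup p D) (hne : D ≠ ⊥) :
    zJ e D ≠ ⊥ := by
  intro hb
  obtain ⟨A, hA⟩ := exists_maxA e D
  obtain ⟨x, hx, hxo⟩ := CfsgLib.Solv.exists_orderOf_eq hD hne
  have hxe : x ^ e = 1 := by
    rcases he with rfl | rfl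
    · exact pow_zero x
    · rw [← hxo]; exact pow_orderOf_eq_one x
  have hJ : jOf e D ≠ ⊥ := by
    intro hJ
    have hA0 : A = ⊥ := le_bot_iff.1 (hJ ▸ hA.le_jOf)
    have h : x ∈ A := hA.mem hx hxe fun a ha => by
      rw [hA0, Subgroup.mem_bot] at ha
      rw [ha, mul_one, one_mul]
    rw [hA0, Subgroup.mem_bot] at h
    rw [h, orderOf_one] at hxo
    exact hp.out.ne_one hxo.symm
  haveI : Nontrivial (jOf e D) := (Subgroup.nontrivial_iff_ne_bot _).2 hJ
  haveI : Nontrivial (Subgroup.center (jOf e D)) := (hD.to_le (jOf_le D)).center_nontrivial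
  obtain ⟨⟨z, hz⟩, hz1⟩ := exists_ne (1 : Subgroup.center (jOf e D))
  have hmem : (z : G) ∈ zJ e D := ⟨z.2, fun w hw => congrArg Subtype.val (Subgroup.mem_center_iff.1 hz ⟨w, hw⟩)⟩
  rw [hb, Subgroup.mem_bot] at hmem
  exact hz1 (Subtype.ext (Subtype.ext hmem))

/-- The elements of `Q` conjugate into `D`. -/
def dOf (D Q : Subgroup G) : Subgroup G := Subgroup.closure {x | x ∈ Q ∧ ∃ g : G, g * x * g⁻¹ ∈ D}

open Classical in
/-- The part of `Q` belonging to the strongly closed subgroup `D`, or `Q` itself. -/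
noncomputable def sel (D Q : Subgroup G) : Subgroup G := if dOf D Q = ⊥ then Q else dOf D Q

theorem sel_le (D Q : Subgroup G) : sel D Q ≤ Q := by
  rw [sel]
  split_ifs
  · exact le_rfl
  · exact (Subgroup.closure_le Q).2 fun _ h => h.1

theorem dOf_cj (D Q : Subgroup G) (g : G) :
    (dOf D Q).map (MulAut.conj g).toMonoidHom = dOf D (Q.map (MulAut.conj g).toMonoidHom) := by
  rw [dOf, MonoidHom.map_closure]
  congr 1
  ext y
  constructor
  · rintro ⟨x, ⟨hx, k, hk⟩, rfl⟩
    refine ⟨⟨x, hx, rfl⟩, k * g⁻¹, ?_⟩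
    simpa [MulAut.conj_apply, mul_assoc] using hk
  · rintro ⟨⟨x, hx, rfl⟩, k, hk⟩
    refine ⟨x, ⟨hx, k * g, ?_⟩, rfl⟩
    simpa [MulAut.conj_apply, mul_assoc] using hk

theorem sel_cj (D Q : Subgroup G) (g : G) :
    (sel D Q).map (MulAut.conj g).toMonoidHom = sel D (Q.map (MulAut.conj g).toMonoidHom) := by
  rw [sel, sel, ← dOf_cj, Subgroup.map_eq_bot_iff_of_injective _ (MulAut.conj g).injective, apply_ite (Subgroup.map _)]

theorem sel_eq {D S : Subgroup G} (hD : IsStronglyClosed D S) (hne : D = ⊥ → S = ⊥) : sel D S = D := by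
  have hd : dOf D S = D := le_antisymm ((Subgroup.closure_le D).2 fun x ⟨hx, g, hg⟩ => by
    have h := hD.2 _ hg g⁻¹ (by simpa [mul_assoc] using hx)
    simpa [mul_assoc] using h) fun x hx => Subgroup.subset_closure ⟨hD.1 hx, 1, by simpa using hx⟩
  rw [sel, hd]
  split_ifs with h
  · rw [h, hne h]
  · rfl

theorem sel_closed [Finite G] {D S H T : Subgroup G} (hS : Syl p S ⊤) (hD : IsStronglyClosed D S) (hT : T ≤ H)
    (hTp : IsPGroup p T) : IsStronglyClosed ((sel D T).subgroupOf H) (T.subgroupOf H) := by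
  obtain ⟨g, -, hg⟩ := hS.exists_conj_le (le_top : T ≤ ⊤) hTp
  refine ⟨fun x hx => sel_le D T hx, ?_⟩
  intro x hx h hhx
  rw [Subgroup.mem_subgroupOf] at hx hhx ⊢
  rw [sel] at hx ⊢
  split_ifs at hx ⊢
  · exact hhx
  have hmem : ∀ y ∈ dOf D T, ∃ k : G, k * y * k⁻¹ ∈ D := by
    intro y hy
    suffices hle : dOf D T ≤ D.comap (MulAut.conj g).toMonoidHom from ⟨g, hle hy⟩
    refine (Subgroup.closure_le _).2 fun z ⟨hz, k, hk⟩ => ?_
    show g * z * g⁻¹ ∈ D
    have h1 := hD.2 _ hk (g * k⁻¹) (by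
      rw [show g * k⁻¹ * (k * z * k⁻¹) * (g * k⁻¹)⁻¹ = g * z * g⁻¹ by group]
      exact hg ⟨z, hz, rfl⟩)
    rwa [show g * k⁻¹ * (k * z * k⁻¹) * (g * k⁻¹)⁻¹ = g * z * g⁻¹ by group] at h1
  obtain ⟨k, hk⟩ := hmem _ hx
  refine Subgroup.subset_closure ⟨hhx, k * (h : G)⁻¹, ?_⟩
  simpa [mul_assoc] using hk

/-- The conjugacy functor of the center of the Thompson subgroup of the part in `D`. -/
noncomputable def wOf (e : ℕ) (D Q : Subgroup G) : Subgroup G := zJ e (sel D Q)

theorem wOf_conjugacy [Finite G] (he : e = 0 ∨ e = p) (D : Subgroup G) : IsConjugacyFunctor p (wOf e D) := by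
  intro Q hQ
  refine ⟨(zJ_le _).trans (sel_le D Q), fun hne => zJ_ne_bot he (hQ.to_le (sel_le D Q)) ?_, fun g => ?_⟩
  · rw [sel]; split_ifs with h
    · exact hne
    · exact h
  · rw [wOf, wOf, ← sel_cj, map_zJ (MulAut.conj g).injective]

end Functor

set_option maxHeartbeats 1000000 in
/-- The normalizer of the center of the Thompson subgroup of a strongly closed subgroup controls strong fusion in a
normalizer stable group. -/
theorem fusion_zJ (hp2 : p ≠ 2) (he : e = 0 ∨ e = p) :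
    ∀ (Γ : Type u) [Group Γ] [Finite Γ], IsNormalizerPStable p Γ → ∀ S : Subgroup Γ, Syl p S ⊤ →
      ∀ D : Subgroup Γ, IsStronglyClosed D S → Fus S ⊤ (Subgroup.normalizer (zJ e D : Set Γ)) := by
  suffices key : ∀ (n : ℕ) (Γ : Type u) [Group Γ] [Finite Γ], IsNormalizerPStable p Γ → Nat.card Γ = n →
      ∀ S : Subgroup Γ, Syl p S ⊤ → ∀ D : Subgroup Γ, IsStronglyClosed D S →
        Fus S ⊤ (Subgroup.normalizer (zJ e D : Set Γ)) from
    fun Γ _ _ hst S hS D hD => key _ Γ hst rfl S hS D hD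
  intro n
  induction n using Nat.strong_induction_on with
  | _ n ih =>
  intro Γ _ _ hst hn S hS D hD
  subst hn
  set WS := zJ e D with hWS
  set N := Subgroup.normalizer (WS : Set Γ) with hN
  -- a normal `D` is harmless
  by_cases hDn : D.Normal
  · intro B _ g _ _
    refine ⟨g, ?_, fun b _ => rfl⟩
    exact normalizer_le_zJ D (by rw [Subgroup.normalizer_eq_top]; trivial)
  have hDne : D ≠ ⊥ := fun h => hDn (h ▸ inferInstance)
  have hsub : ∀ (H T : Subgroup Γ), H ≠ ⊤ → Syl p T H →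
      Fus T H (H ⊓ Subgroup.normalizer (wOf e D T : Set Γ)) := by
    intro H T hne hT
    have hlt : Nat.card H < Nat.card Γ :=
      lt_of_le_of_ne (Nat.card_le_card_of_injective _ H.subtype_injective) fun he' =>
        hne (Subgroup.eq_top_of_card_eq _ he')
    have h := Fus.of_hom H.subtype_injective (ih _ hlt ↥H (stable_of_injective hst H.subtype H.subtype_injective) rfl
      _ hT.subgroupOf _ (sel_closed hS hD hT.le hT.pg))
    rw [← top_inf_eq (Subgroup.normalizer _), map_inf_normalizer H.subtype_injective, map_zJ H.subtype_injective,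
      ← MonoidHom.range_eq_map, H.range_subtype, Subgroup.map_subgroupOf_eq_of_le hT.le,
      Subgroup.map_subgroupOf_eq_of_le ((sel_le D T).trans hT.le)] at h
    exact h
  have hWc := wOf_conjugacy (p := p) he D
  have hWSe : wOf e D S = WS := by rw [wOf, sel_eq hD fun h => absurd h hDne]
  have hSD : S ≤ Subgroup.normalizer (D : Set Γ) := fun s hs => Subgroup.mem_normalizer_fintype fun d hd =>
    hD.2 d hd s (S.mul_mem (S.mul_mem hs (hD.1 hd)) (S.inv_mem hs))
  have hSN : S ≤ N := hSD.trans (normalizer_le_zJ D)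
  have hWSS : WS ≤ S := (zJ_le D).trans hD.1
  by_cases hK : pPrimeCore p Γ ≠ ⊥
  · haveI := CfsgLib.Solv.pPrimeCore_normal Γ p
    set K := pPrimeCore p Γ with hKdef
    have hKc : ¬ p ∣ Nat.card K := CfsgLib.Solv.not_dvd_card_pPrimeCore
    let π := QuotientGroup.mk' K
    have hπ : Function.Surjective π := QuotientGroup.mk'_surjective K
    have hlt : Nat.card (Γ ⧸ K) < Nat.card Γ := by
      rw [← K.index_eq_card, ← K.card_mul_index]
      exact lt_mul_left K.index_ne_zero_of_finite.bot_lt ((Subgroup.one_lt_card_iff_ne_bot K).2 hK)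
    have hinj : Set.InjOn π (S : Set Γ) := fun x hx y hy he' => by
      have : x⁻¹ * y ∈ S ⊓ K := ⟨S.mul_mem (S.inv_mem hx) hy, QuotientGroup.eq.1 he'⟩
      rw [inf_eq_bot_of_card hS.pg hKc, Subgroup.mem_bot, inv_mul_eq_one] at this
      exact this
    have hSb := hS.map π
    rw [Subgroup.map_top_of_surjective π hπ] at hSb
    have hDb : IsStronglyClosed (D.map π) (S.map π) := by
      refine ⟨Subgroup.map_mono hD.1, ?_⟩
      rintro _ ⟨x, hx, rfl⟩ y hy
      obtain ⟨g, rfl⟩ := hπ y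
      obtain ⟨s, hs, hse⟩ := hy
      have h1 : Subgroup.zpowers (g * x * g⁻¹) ≤ S ⊔ K := by
        rw [Subgroup.zpowers_le]
        have h2 : s⁻¹ * (g * x * g⁻¹) ∈ K := (QuotientGroup.eq_one_iff _).1 (show π (s⁻¹ * (g * x * g⁻¹)) = 1 by
          rw [map_mul, map_mul, map_mul, map_inv, map_inv, hse, inv_mul_cancel])
        have := mul_mem (Subgroup.mem_sup_left hs (T := K)) (Subgroup.mem_sup_right h2 (S := S))
        rwa [mul_inv_cancel_left] at this
      obtain ⟨w, hw, hwle⟩ := (syl_sup hS.pg hKc).exists_conj_le h1 (by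
        refine (hS.pg.to_le (Subgroup.zpowers_le.2 (hD.1 hx))).map (MulAut.conj g).toMonoidHom |> fun h => ?_
        rw [MonoidHom.map_zpowers] at h
        exact h)
      have hw' : w * (g * x * g⁻¹) * w⁻¹ ∈ S := hwle ⟨_, Subgroup.mem_zpowers _, rfl⟩
      obtain ⟨t, ht, k, hk, rfl⟩ := Subgroup.mem_sup_of_normal_right.1 hw
      have hk' : k * (g * x * g⁻¹) * k⁻¹ ∈ S := by
        have := S.mul_mem (S.mul_mem (S.inv_mem ht) hw') ht
        simpa [mul_assoc] using this
      have h3 := hD.2 x hx (k * g) (by simpa [mul_assoc] using hk')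
      refine ⟨_, h3, ?_⟩
      have hk1 : π k = 1 := (QuotientGroup.eq_one_iff k).2 hk
      simp [map_mul, hk1]
    have hb := ih _ hlt (Γ ⧸ K) (stable_quotient hst K hKc) rfl _ hSb _ hDb
    rw [← map_zJ_injOn π (hinj.mono hD.1), ← hWS] at hb
    refine fus_of_quotient hS.pg hKc hSN (hb.mono ?_)
    rw [← map_top_normalizer hπ, Subgroup.map_le_iff_le_comap, Subgroup.comap_map_eq, QuotientGroup.ker_mk']
    intro m hm
    set X := WS ⊔ K with hX
    have hX' : (WS.map π).comap π = X := by rw [Subgroup.comap_map_eq, QuotientGroup.ker_mk']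
    have hm' : cj m X = X := mem_normalizer_iff_cj.1 (hX' ▸ hm)
    obtain ⟨x, hx, hxle⟩ := (syl_sup (hS.pg.to_le hWSS) hKc).exists_conj_le
      ((cj_mono m le_sup_left).trans hm'.le) (isPGroup_cj m (hS.pg.to_le hWSS))
    rw [← cj_mul] at hxle
    have h1 : x * m ∈ N := mem_normalizer_iff_cj.2 (Subgroup.eq_of_le_of_card_ge hxle (card_cj (x * m) WS).ge)
    have h2 : x ∈ N ⊔ K := sup_le_sup_right (hWSS.trans hSN) K hx
    have := mul_mem (inv_mem h2) (Subgroup.mem_sup_left h1 (T := K))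
    rw [inv_mul_cancel_left] at this
    rwa [Subgroup.comap_map_eq, QuotientGroup.ker_mk']
  rw [not_not] at hK
  haveI := CfsgLib.Solv.pCore_normal Γ p
  set P := pCore p Γ with hPdef
  have hPp : IsPGroup p ↥P := CfsgLib.Solv.pCore_isPGroup Γ p
  by_cases hP : P = ⊥
  · have h := (fus_global hWc hS fun T hT0 hT => hsub _ _ (fun htop => hT0 ?_) ((hT.2 0).syl hS))
    · rw [hWSe] at h
      exact h.mono inf_le_right
    rw [top_inf_eq, Subgroup.normalizer_eq_top_iff] at htop
    exact eq_bot_iff.2 (hP ▸ CfsgLib.Solv.le_pCore (hN := htop) (hS.pg.to_le hT.1))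
  have hPN : (⊤ : Subgroup Γ) ≤ Subgroup.normalizer (P : Set Γ) :=
    (Subgroup.normalizer_eq_top_iff.2 inferInstance).ge
  have hPS : P ≤ S := hS.normal_le le_top hPp hPN
  set C := Subgroup.centralizer (P : Set Γ) with hCdef
  haveI : C.Normal := Subgroup.normalizer_eq_top_iff.1 (eq_top_iff.2
    (hPN.trans (normalizer_le_centralizer_normalizer P)))
  by_cases hCP : C ≤ P
  · have hn : WS.Normal := zJ_normal hp2 he
      ⟨S, hS.pg, fun {Q} hQ hle => (hS.eq_of_le hle le_top hQ)⟩ hD (stableOn_of_normalizer hst) hCP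
    intro B _ g _ _
    refine ⟨g, ?_, fun b _ => rfl⟩
    rw [hN, Subgroup.normalizer_eq_top_iff.2 hn]; trivial
  by_cases hM : C ⊔ S ≠ ⊤
  · set M := C ⊔ S with hMdef
    set R := S ⊓ (P ⊔ C) with hR
    have hRn : Subgroup.normalizer (R : Set Γ) ≠ ⊤ := by
      intro htop
      have hRP : R ≤ P := CfsgLib.Solv.le_pCore (hN := Subgroup.normalizer_eq_top_iff.1 htop)
        (hS.pg.to_le inf_le_left)
      have hRc : ∀ r ∈ S ⊓ C, ∀ c ∈ C, r * c = c * r := fun r hr c hc =>
        hc r (hRP ⟨hr.1, Subgroup.mem_sup_right hr.2⟩)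
      exact hCP (CfsgLib.Glau.le_of_central_sylow hK hS hRc ((inf_le_inf_left S le_sup_right).trans hRP))
    have hSR : S ≤ Subgroup.normalizer (R : Set Γ) := fun s hs => mem_normalizer_iff_cj.2 (by
      rw [hR, cj_inf, cj_eq_of_mem hs, mem_normalizer_iff_cj.1 (by
        rw [Subgroup.normalizer_eq_top_iff.2 inferInstance]; trivial : s ∈ Subgroup.normalizer ((P ⊔ C : Subgroup Γ) : Set Γ))])
    have hfM := (hsub M S hM (hS.mono le_sup_right le_top)).mono (inf_le_right.trans (by rw [hWSe]) : _ ≤ N)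
    have hfR := (hsub _ S hRn (hS.mono hSR le_top)).mono (inf_le_right.trans (by rw [hWSe]) : _ ≤ N)
    intro B hB g _ hgB
    obtain ⟨n, hn, k, hk, hg⟩ := frattini hS (N := P ⊔ C)
      (Subgroup.normalizer_eq_top_iff.2 inferInstance).ge (Subgroup.mem_top g)
    obtain ⟨v, hv, c, hc, rfl⟩ := Subgroup.mem_sup_of_normal_left.1 hn.2
    have hvR : v ∈ Subgroup.normalizer (R : Set Γ) := hSR (hPS hv)
    set k' := v * k with hk'
    have hk'R : k' ∈ Subgroup.normalizer (R : Set Γ) := mul_mem hvR hk.2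
    set c' := k'⁻¹ * g with hc'
    have hc'C : c' ∈ C := by
      rw [hc', hg, hk', show (v * k)⁻¹ * (v * c * k) = k⁻¹ * c * k⁻¹⁻¹ by group]
      exact (inferInstance : C.Normal).conj_mem c hc k⁻¹
    have hB1 : cj c' B ≤ M ⊓ Subgroup.normalizer (R : Set Γ) := by
      refine le_inf ((cj_mono c' (hB.trans le_sup_right)).trans (cj_eq_of_mem (Subgroup.mem_sup_left hc'C)).le) ?_
      rw [hc', cj_mul]
      exact (cj_mono _ (hgB.trans hSR)).trans (cj_eq_of_mem (inv_mem hk'R)).le
    obtain ⟨m, hm, hmle⟩ := (hS.mono (le_inf le_sup_right hSR) le_top).exists_conj_le hB1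
      (isPGroup_cj c' (hS.pg.to_le hB))
    rw [← cj_mul] at hmle
    obtain ⟨x₁, hx₁, he₁⟩ := hfM B hB (m * c') (M.mul_mem hm.1 (Subgroup.mem_sup_left hc'C)) hmle
    obtain ⟨x₂, hx₂, he₂⟩ := hfR (cj (m * c') B) hmle (k' * m⁻¹) (mul_mem hk'R (inv_mem hm.2)) (by
      rw [← cj_mul, show k' * m⁻¹ * (m * c') = g by rw [hc']; group]; exact hgB)
    refine ⟨x₂ * x₁, N.mul_mem hx₂ hx₁, fun b hb => ?_⟩
    rw [show x₂ * x₁ * b * (x₂ * x₁)⁻¹ = x₂ * (x₁ * b * x₁⁻¹) * x₂⁻¹ by group, he₁ b hb, he₂ _ (conj_mem_cj hb),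
      hc']
    group
  rw [not_not] at hM
  -- elements of order prime to `p` centralize `P`
  have hcent : ∀ x : Γ, (orderOf x).Coprime p → x ∈ C := by
    intro x hx
    have hq : IsPGroup p (Γ ⧸ C) := by
      have h1 : (S.map (QuotientGroup.mk' C)) = ⊤ := by
        rw [← Subgroup.map_top_of_surjective _ (QuotientGroup.mk'_surjective C), ← hM, Subgroup.map_sup,
          (Subgroup.map_eq_bot_iff _).2 (QuotientGroup.ker_mk' C).ge, bot_sup_eq]
      exact (h1 ▸ hS.pg.map _ : IsPGroup p (⊤ : Subgroup (Γ ⧸ C))).of_equiv Subgroup.topEquiv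
    obtain ⟨k, hk⟩ := hq (x : Γ ⧸ C)
    obtain ⟨j, hj⟩ := exists_pow_eq_self_of_coprime ((hx.symm.pow_left k))
    rw [← hj]
    exact C.pow_mem ((QuotientGroup.eq_one_iff _).1 hk) j
  let π := QuotientGroup.mk' P
  have hπ : Function.Surjective π := QuotientGroup.mk'_surjective P
  by_cases hDP : D ≤ P
  · exact absurd ⟨fun d hd g => hD.2 d hd g (hPS ((inferInstance : P.Normal).conj_mem d (hDP hd) g))⟩ hDn
  have hlt : Nat.card (Γ ⧸ P) < Nat.card Γ := by
    rw [← P.index_eq_card, ← P.card_mul_index]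
    exact lt_mul_left P.index_ne_zero_of_finite.bot_lt ((Subgroup.one_lt_card_iff_ne_bot P).2 hP)
  have hSb := hS.map π
  rw [Subgroup.map_top_of_surjective π hπ] at hSb
  have hDb : IsStronglyClosed (D.map π) (S.map π) := by
    refine ⟨Subgroup.map_mono hD.1, ?_⟩
    rintro _ ⟨x, hx, rfl⟩ y hy
    obtain ⟨g, rfl⟩ := hπ y
    obtain ⟨s, hs, hse⟩ := hy
    have h2 : s⁻¹ * (g * x * g⁻¹) ∈ P := (QuotientGroup.eq_one_iff _).1 (show π (s⁻¹ * (g * x * g⁻¹)) = 1 by
      rw [map_mul, map_mul, map_mul, map_inv, map_inv, hse, inv_mul_cancel])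
    have h3 := S.mul_mem hs (hPS h2)
    rw [mul_inv_cancel_left] at h3
    exact ⟨_, hD.2 x hx g h3, by rw [map_mul, map_mul, map_inv]⟩
  have hb := ih _ hlt (Γ ⧸ P) (stable_pquotient hp2 hst P hPp hcent) rfl _ hSb _ hDb
  set Y := zJ e (D.map π) with hY
  set M := (Subgroup.normalizer (Y : Set (Γ ⧸ P))).comap π with hMdef
  have hSM : S ≤ M := fun s hs => normalizer_le_zJ (D.map π) (Subgroup.le_normalizer_map π ⟨s, hSD hs, rfl⟩)
  have hMtop : M ≠ ⊤ := by
    intro htop
    have hYn : Y.Normal := Subgroup.normalizer_eq_top_iff.1 (by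
      rw [← Subgroup.map_comap_eq_self_of_surjective hπ (Subgroup.normalizer _), ← hMdef, htop,
        Subgroup.map_top_of_surjective π hπ])
    refine zJ_ne_bot (p := p) he ((hS.pg.to_le hD.1).map π) (fun h => hDP ?_) ?_
    · rwa [Subgroup.map_eq_bot_iff, QuotientGroup.ker_mk'] at h
    · have hYP : Y.comap π ≤ P := CfsgLib.Solv.le_pCore (hN := hYn.comap π) (hS.pg.to_le (by
        refine (Subgroup.comap_mono (zJ_le (D.map π))).trans ?_
        rw [Subgroup.comap_map_eq, QuotientGroup.ker_mk']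
        exact sup_le hD.1 hPS))
      show Y = ⊥
      rw [← Subgroup.map_comap_eq_self_of_surjective hπ Y, Subgroup.map_eq_bot_iff, QuotientGroup.ker_mk']
      exact hYP
  have hfus : Fus S ⊤ M := fus_of_pquotient hS hPS hSM hcent (by
    rw [hMdef, Subgroup.map_comap_eq_self_of_surjective hπ]; exact hb)
  intro B hB g hg hgB
  obtain ⟨x, hx, hxe⟩ := hfus B hB g hg hgB
  obtain ⟨y, hy, hye⟩ := hsub M S hMtop (hS.mono hSM le_top) B hB x hx (by
    rintro _ ⟨b, hb, rfl⟩
    show x * b * x⁻¹ ∈ S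
    rw [hxe b hb]; exact hgB (conj_mem_cj hb))
  have hyN := hy.2
  rw [hWSe] at hyN
  exact ⟨y, hyN, fun b hb => (hye b hb).trans (hxe b hb)⟩

end CfsgLib.Inv.ZJ
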