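import Cfsg.Agent.Inv.Transfer
import Cfsg.Agent.Solv.Basic
import Mathlib.GroupTheory.SpecificGroups.Cyclic
import Mathlib.GroupTheory.Sylow

/-!
Prime-index normal subgroups of a maximal subgroup that are extremely closed in it.
-/

set_option autoImplicit false
set_option linter.style.haveILetI false

namespace CfsgLib.Inv

variable {G : Type*} [Group G]

open scoped Pointwise

theorem card_quotient_prime_of_coatom [Finite G] {K : Subgroup G} [K.Normal] (hK : IsCoatom K) :
    (Nat.card (G ⧸ K)).Prime := by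
  haveI : Nontrivial (G ⧸ K) := QuotientGroup.nontrivial_iff.2 hK.1
  obtain ⟨q, hq, hqd⟩ := Nat.exists_prime_and_dvd (Finite.one_lt_card (α := G ⧸ K)).ne'
  haveI := Fact.mk hq
  obtain ⟨x, hx⟩ := exists_prime_orderOf_dvd_card' (G := G ⧸ K) q hqd
  have hle : K ≤ (Subgroup.zpowers x).comap (QuotientGroup.mk' K) := fun k hk => by
    rw [Subgroup.mem_comap, QuotientGroup.mk'_apply, (QuotientGroup.eq_one_iff k).2 hk]; exact one_mem _
  rcases hle.eq_or_lt with h | h
  · exfalso
    obtain ⟨a, rfl⟩ := QuotientGroup.mk'_surjective K x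
    have : a ∈ K := h ▸ Subgroup.mem_zpowers (QuotientGroup.mk' K a)
    rw [QuotientGroup.mk'_apply, (QuotientGroup.eq_one_iff a).2 this, orderOf_one] at hx
    exact hq.ne_one hx.symm
  · have htop : Subgroup.zpowers x = ⊤ := by
      rw [← Subgroup.map_comap_eq_self_of_surjective (QuotientGroup.mk'_surjective K) (Subgroup.zpowers x),
        hK.2 _ h, Subgroup.map_top_of_surjective _ (QuotientGroup.mk'_surjective K)]
    rw [← Subgroup.card_top (G := G ⧸ K), ← htop, Nat.card_zpowers, hx]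
    exact hq

theorem inf_normalClosure_eq [Finite G] {H M : Subgroup G} (hmax : IsCoatom M) (hHM : H ≤ M)
    (hn : (H.subgroupOf M).Normal) (hq : (H.relIndex M).Prime)
    (hcl : ∀ g : G, (H ⊔ H.map (MulAut.conj g).toMonoidHom) ⊓ M = H) :
    Subgroup.normalClosure (H : Set G) ⊓ M = H := by
  by_cases hHn : H.Normal
  · haveI := hHn
    rw [Subgroup.normalClosure_eq_self, inf_eq_left.2 hHM]
  set N := Subgroup.normalClosure (H : Set G) with hN
  have hHN : H ≤ N := Subgroup.subset_normalClosure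
  refine le_antisymm ?_ (le_inf hHN hHM)
  by_contra hle
  set q := H.relIndex M with hqdef
  haveI := Fact.mk hq
  haveI := hn
  have hMN : M ≤ Subgroup.normalizer (H : Set G) := (Subgroup.normal_subgroupOf_iff_le_normalizer hHM).1 hn
  have hNM : Subgroup.normalizer (H : Set G) = M := by
    rcases hMN.eq_or_lt with h | h
    · exact h.symm
    · exact absurd (Subgroup.normalizer_eq_top_iff.1 (hmax.2 _ h)) hHn
  obtain ⟨y₀, hy₀, hy₀H⟩ := SetLike.not_le_iff_exists.1 hle
  have hgenM : ∀ x ∈ M, x ∉ H → H ⊔ Subgroup.zpowers x = M := by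
    intro x hx hxH
    set K := H ⊔ Subgroup.zpowers x with hK
    have hKM : K ≤ M := sup_le hHM (Subgroup.zpowers_le.2 hx)
    have hHK : H ≤ K := le_sup_left
    have hd : K.relIndex M ∣ q := Subgroup.relIndex_dvd_of_le_left M hHK
    rcases (Nat.dvd_prime hq).1 hd with h | h
    · exact le_antisymm hKM (Subgroup.relIndex_eq_one.1 h)
    · exfalso
      have h1 := CfsgLib.Solv.relIndex_mul_card hKM
      have h2 := CfsgLib.Solv.relIndex_mul_card hHM
      rw [h] at h1
      have : H = K := Subgroup.eq_of_le_of_card_ge hHK (le_of_eq (Nat.eq_of_mul_eq_mul_right hq.pos (h1.trans h2.symm)))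
      exact hxH (this ▸ Subgroup.mem_sup_right (Subgroup.mem_zpowers x))
  have hMle : M ≤ N := by
    rw [← hgenM y₀ (Subgroup.mem_inf.1 hy₀).2 hy₀H]
    exact sup_le hHN (Subgroup.zpowers_le.2 (Subgroup.mem_inf.1 hy₀).1)
  have hTI : ∀ x ∈ M, x ∉ H → ∀ g : G, g⁻¹ * x * g ∈ M → g ∈ M := by
    intro x hx hxH g hgx
    set J := H ⊔ H.map (MulAut.conj g).toMonoidHom with hJ
    have hxJ : x ∈ Subgroup.normalizer (J : Set G) := by
      rw [← hNM] at hx hgx
      refine (Subgroup.mem_normalizer_iff.2 fun y => ?_)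
      have h1 : H.map (MulAut.conj x).toMonoidHom = H := by
        ext z
        rw [CfsgLib.Solv.mem_map_conj_iff]
        exact (Subgroup.mem_normalizer_iff''.1 hx z).symm
      have h2 : (H.map (MulAut.conj g).toMonoidHom).map (MulAut.conj x).toMonoidHom =
          H.map (MulAut.conj g).toMonoidHom := by
        ext z
        simp only [CfsgLib.Solv.mem_map_conj_iff]
        have := Subgroup.mem_normalizer_iff''.1 hgx (g⁻¹ * z * g)
        rw [this]
        simp [mul_assoc]
      have h3 : J.map (MulAut.conj x).toMonoidHom = J := by rw [hJ, Subgroup.map_sup, h1, h2]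
      constructor
      · intro hy; rw [← h3]; exact Subgroup.mem_map.2 ⟨y, hy, rfl⟩
      · intro hy
        rw [← h3, CfsgLib.Solv.mem_map_conj_iff] at hy
        simpa [mul_assoc] using hy
    have hHJ : H ≤ Subgroup.normalizer (J : Set G) := le_sup_left.trans Subgroup.le_normalizer
    have hMJ : M ≤ Subgroup.normalizer (J : Set G) := by
      rw [← hgenM x hx hxH]; exact sup_le hHJ (Subgroup.zpowers_le.2 hxJ)
    rcases hMJ.eq_or_lt with h | h
    · have hJM : J ≤ M := Subgroup.le_normalizer.trans h.ge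
      have hJH : J = H := by rw [← hcl g, inf_eq_left.2 hJM]
      have hgH : H.map (MulAut.conj g).toMonoidHom = H := Subgroup.eq_of_le_of_card_ge
        (le_sup_right.trans hJH.le) (by
          rw [Subgroup.card_map_of_injective (f := (MulAut.conj g).toMonoidHom) (MulAut.conj g).injective])
      rw [← hNM, Subgroup.mem_normalizer_iff]
      intro y
      constructor
      · intro hy; rw [← hgH]; exact Subgroup.mem_map.2 ⟨y, hy, rfl⟩
      · intro hy
        rw [← hgH, CfsgLib.Solv.mem_map_conj_iff] at hy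
        simpa [mul_assoc] using hy
    · exfalso
      haveI : J.Normal := Subgroup.normalizer_eq_top_iff.1 (hmax.2 _ h)
      have hNJ : N ≤ J := Subgroup.normalClosure_le_normal (SetLike.coe_subset_coe.2 le_sup_left)
      exact hy₀H ((hcl g).le (Subgroup.mem_inf.2 ⟨hNJ (Subgroup.mem_inf.1 hy₀).1, (Subgroup.mem_inf.1 hy₀).2⟩))
  -- transfer
  have hqcard : Nat.card (M ⧸ H.subgroupOf M) = q := rfl
  haveI : IsCyclic (M ⧸ H.subgroupOf M) := isCyclic_of_prime_card hqcard
  letI : CommGroup (M ⧸ H.subgroupOf M) := IsCyclic.commGroup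
  set φ : M →* M ⧸ H.subgroupOf M := QuotientGroup.mk' _ with hφ
  have hφ1 : ∀ (a : M), φ a = 1 ↔ (a : G) ∈ H := fun a => QuotientGroup.eq_one_iff a
  have hctrl : ∀ (y : G) (hy : y ∈ M) (k : ℕ) (g₀ : G) (h : g₀⁻¹ * y ^ k * g₀ ∈ M),
      φ ⟨_, h⟩ = φ ⟨y, hy⟩ ^ k := by
    intro y hy k g₀ h
    rw [← map_pow]
    by_cases hk : y ^ k ∈ H
    · rw [(hφ1 (⟨y, hy⟩ ^ k)).2 (by simpa using hk), hφ1]
      by_contra hz
      have h1 := hTI _ h hz g₀⁻¹ (by
        rw [inv_inv, show g₀ * (g₀⁻¹ * y ^ k * g₀) * g₀⁻¹ = y ^ k by group]; exact hHM hk)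
      have hg : g₀ ∈ M := by simpa using inv_mem h1
      refine hz ?_
      rw [← hNM] at hg
      exact (Subgroup.mem_normalizer_iff''.1 hg _).1 hk
    · have hg := hTI _ (pow_mem hy k) hk g₀ h
      have e : (⟨g₀⁻¹ * y ^ k * g₀, h⟩ : M) = (⟨g₀, hg⟩ : M)⁻¹ * ⟨y, hy⟩ ^ k * ⟨g₀, hg⟩ := Subtype.ext (by simp)
      rw [e, map_mul, map_mul, map_inv, mul_comm _ (φ ⟨g₀, hg⟩), mul_inv_cancel_left]
  set V := MonoidHom.transfer φ with hV
  have hVeq : ∀ (y : G) (hy : y ∈ M), V y = φ ⟨y, hy⟩ ^ M.index := fun y hy =>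
    transfer_eq_pow_of_ctrl M φ hy (hctrl y hy)
  have hker : N ≤ V.ker := Subgroup.normalClosure_le_normal fun h hh => by
    rw [SetLike.mem_coe, MonoidHom.mem_ker, hVeq h (hHM hh), (hφ1 ⟨h, hHM hh⟩).2 hh, one_pow]
  -- q does not divide the index of M
  obtain ⟨Q⟩ : Nonempty (Sylow q M) := inferInstance
  have hQH : ¬ (Q : Subgroup M) ≤ H.subgroupOf M := fun h =>
    Q.not_dvd_index (dvd_trans dvd_rfl (Subgroup.index_dvd_of_le h))
  obtain ⟨x, hxQ, hxH⟩ := SetLike.not_le_iff_exists.1 hQH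
  have hnorm : Subgroup.normalizer (((Q : Subgroup M).map M.subtype : Subgroup G) : Set G) ≤ M := by
    intro n hn
    refine hTI x x.2 hxH n ?_
    exact Subgroup.map_subtype_le _ ((Subgroup.mem_normalizer_iff''.1 hn _).1 (Subgroup.mem_map.2 ⟨x, hxQ, rfl⟩))
  have hndvd : ¬ q ∣ M.index := by
    obtain ⟨R, hR⟩ := (Q.2.map M.subtype).exists_le_sylow
    set P := (Q : Subgroup M).map M.subtype with hP
    have hPR : P = R := by
      by_contra hne
      haveI := R.2.isNilpotent
      obtain ⟨n, hn', hnP⟩ := SetLike.exists_of_lt (Group.normalizerCondition_of_isNilpotent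
        (P.subgroupOf (R : Subgroup G))
        (lt_top_iff_ne_top.2 fun e => hne (le_antisymm hR (Subgroup.subgroupOf_eq_top.1 e))))
      have hnn : (n : G) ∈ Subgroup.normalizer (P : Set G) := by
        rw [Subgroup.mem_normalizer_iff]
        intro y
        constructor
        · intro hy; exact (Subgroup.mem_normalizer_iff.1 hn' ⟨y, hR hy⟩).1 hy
        · intro hy
          have hy' : y ∈ (R : Subgroup G) := by
            have := mul_mem (mul_mem (inv_mem n.2) (hR hy)) n.2
            simpa [mul_assoc] using this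
          exact (Subgroup.mem_normalizer_iff.1 hn' ⟨y, hy'⟩).2 hy
      have hle' : (Q : Subgroup M) ≤ (R : Subgroup G).subgroupOf M := fun y hy =>
        hR (Subgroup.mem_map.2 ⟨y, hy, rfl⟩)
      have heq := Q.3 R.2.comap_subtype hle'
      exact hnP (Subgroup.mem_map.2 ⟨⟨n, hnorm hnn⟩, heq ▸ n.2, rfl⟩)
    intro hd
    refine R.not_dvd_index (hd.trans ?_)
    exact Subgroup.index_dvd_of_le (hPR ▸ Subgroup.map_subtype_le _)
  have h1 : V (x : G) = 1 := hker (hMle x.2)
  rw [hVeq _ x.2] at h1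
  refine hxH ((hφ1 x).1 (orderOf_eq_one_iff.1 ?_))
  rcases (Nat.dvd_prime hq).1 (hqcard ▸ orderOf_dvd_natCard (φ x)) with h | h
  · exact h
  · exact absurd (h ▸ orderOf_dvd_of_pow_eq_one h1) hndvd

end CfsgLib.Inv
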