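import Cfsg.Prelude.Def_CaseTheorems
import Cfsg.Agent.Inv.Dihedral
import Mathlib.GroupTheory.SpecificGroups.Quaternion
import Mathlib.GroupTheory.SpecificGroups.Cyclic
import Mathlib.GroupTheory.Frattini
import Mathlib.GroupTheory.Nilpotent
import Mathlib.GroupTheory.IndexNormal
import Mathlib.Tactic

/-! Quasi-dihedral (semidihedral) 2-groups. -/

set_option autoImplicit false
set_option linter.style.haveILetI false

open scoped commutatorElement

namespace CfsgLib.Inv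

/-- Generators of a quasi-dihedral group of order `2 ^ (d + 4)`; `x` has order `2 ^ (d + 3)` and
`k = 2 ^ (d + 2) - 1`. -/
structure QDData (S : Type*) [Group S] (d : ℕ) where
  x : S
  y : S
  card_eq : Nat.card S = 2 ^ (d + 4)
  order_x : orderOf x = 2 ^ (d + 3)
  order_y : orderOf y = 2
  rel : y * x * y⁻¹ = x ^ ((2 : ℤ) ^ (d + 2) - 1)

namespace QDData

variable {S : Type*} [Group S] {d : ℕ}

theorem of_qd (hS : Cfsg.IsQuasiDihedral S) : ∃ d, Nonempty (QDData S d) := by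
  obtain ⟨n, hn, hc, x, y, hx, hy, hr⟩ := hS
  obtain ⟨d, rfl⟩ : ∃ d, n = d + 3 := ⟨n - 3, by omega⟩
  refine ⟨d, ⟨⟨x, y, by rw [hc], hx, hy, ?_⟩⟩⟩
  rw [hr, show d + 3 - 1 = d + 2 by omega, ← zpow_natCast]
  congr 1
  rw [Nat.cast_sub Nat.one_le_two_pow]
  push_cast
  ring

variable (D : QDData S d)

/-- The exponent of the action of `y`. -/
def k (_D : QDData S d) : ℤ := (2 : ℤ) ^ (d + 2) - 1

theorem zpow_x_eq_one {i : ℤ} : D.x ^ i = 1 ↔ (2 : ℤ) ^ (d + 3) ∣ i := by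
  rw [← orderOf_dvd_iff_zpow_eq_one, D.order_x]
  push_cast
  rfl

theorem zpow_x_eq {i j : ℤ} : D.x ^ i = D.x ^ j ↔ (2 : ℤ) ^ (d + 3) ∣ i - j := by
  rw [← D.zpow_x_eq_one, zpow_sub, mul_inv_eq_one]

theorem y_mul_zpow (i : ℤ) : D.y * D.x ^ i = D.x ^ (D.k * i) * D.y := by
  have h : D.y * D.x ^ i * D.y⁻¹ = D.x ^ (D.k * i) := by
    rw [← conj_zpow, D.rel, ← zpow_mul]; rfl
  rw [← h]; group

theorem out_mul_out (i j : ℤ) : D.x ^ i * D.y * (D.x ^ j * D.y) = D.x ^ (i + D.k * j) := by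
  calc D.x ^ i * D.y * (D.x ^ j * D.y) = D.x ^ i * (D.y * D.x ^ j) * D.y := by group
    _ = D.x ^ i * D.x ^ (D.k * j) * (D.y * D.y) := by rw [D.y_mul_zpow]; group
    _ = D.x ^ (i + D.k * j) := by rw [invol_mul_self D.order_y, mul_one, ← zpow_add]

theorem out_mul_pow (i j : ℤ) : D.x ^ i * D.y * D.x ^ j = D.x ^ (i + D.k * j) * D.y := by
  rw [mul_assoc, D.y_mul_zpow, ← mul_assoc, ← zpow_add]

theorem kk_modEq : (2 : ℤ) ^ (d + 3) ∣ D.k * D.k - 1 := by
  refine ⟨(2 : ℤ) ^ (d + 1) - 1, ?_⟩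
  simp only [k, show d + 3 = (d + 1) + 2 by ring, show d + 2 = (d + 1) + 1 by ring, pow_add]
  ring

theorem inv_out (i : ℤ) : (D.x ^ i * D.y)⁻¹ = D.x ^ (-(D.k * i)) * D.y := by
  refine inv_eq_of_mul_eq_one_right ?_
  rw [D.out_mul_out, D.zpow_x_eq_one]
  obtain ⟨c, hc⟩ := D.kk_modEq
  exact ⟨-(c * i), by linear_combination (-i) * hc⟩

theorem y_not_mem : D.y ∉ Subgroup.zpowers D.x := by
  rintro ⟨i, hi⟩
  have hi' : D.x ^ i = D.y := hi
  have h := D.rel
  rw [← hi', ← zpow_neg, ← zpow_add_one, ← zpow_add] at h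
  have h2 : D.x ^ (1 : ℤ) = D.x ^ ((2 : ℤ) ^ (d + 2) - 1) := by
    rw [← h]; congr 1; ring
  rw [D.zpow_x_eq] at h2
  obtain ⟨c, hc⟩ := h2
  rw [pow_succ (2 : ℤ) (d + 2), pow_succ (2 : ℤ) (d + 1)] at hc
  have hc' : 2 * (1 - (2 : ℤ) ^ (d + 1) * (1 + 2 * c)) = 0 := by linear_combination hc
  have hp : (2 : ℤ) ∣ (2 : ℤ) ^ (d + 1) * (1 + 2 * c) := Dvd.dvd.mul_right (dvd_pow_self 2 (by omega)) _
  omega

theorem out_not_mem (i : ℤ) : D.x ^ i * D.y ∉ Subgroup.zpowers D.x := fun h => D.y_not_mem (by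
  simpa using mul_mem (inv_mem (Subgroup.zpow_mem_zpowers D.x i)) h)

theorem index_zpowers_x [Finite S] : (Subgroup.zpowers D.x).index = 2 := by
  have h := (Subgroup.zpowers D.x).card_mul_index
  rw [Nat.card_zpowers, D.order_x, D.card_eq, show d + 4 = (d + 3) + 1 by ring, pow_succ] at h
  exact Nat.eq_of_mul_eq_mul_left (by positivity) h

theorem cases [Finite S] (g : S) : (∃ i : ℤ, g = D.x ^ i) ∨ ∃ i : ℤ, g = D.x ^ i * D.y := by
  by_cases hg : g ∈ Subgroup.zpowers D.x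
  · obtain ⟨i, rfl⟩ := hg; exact .inl ⟨i, rfl⟩
  · right
    have h : g * D.y⁻¹ ∈ Subgroup.zpowers D.x := by
      rw [Subgroup.mul_mem_iff_of_index_two D.index_zpowers_x, inv_mem_iff]
      exact iff_of_false hg D.y_not_mem
    obtain ⟨i, hi⟩ := h
    exact ⟨i, by show g = D.x ^ i * D.y; rw [show D.x ^ i = g * D.y⁻¹ from hi, inv_mul_cancel_right]⟩

theorem out_sq (i : ℤ) : (D.x ^ i * D.y) ^ 2 = D.x ^ (i * (2 : ℤ) ^ (d + 2)) := by
  rw [pow_two, D.out_mul_out]
  congr 1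
  simp only [k]; ring

theorem out_sq_even {i : ℤ} (hi : Even i) : orderOf (D.x ^ i * D.y) = 2 := by
  refine invol_iff.2 ⟨fun h => D.out_not_mem i (h ▸ one_mem _), ?_⟩
  rw [← pow_two, D.out_sq, D.zpow_x_eq_one]
  obtain ⟨j, rfl⟩ := hi
  exact ⟨j, by ring⟩

theorem out_order_odd {i : ℤ} (hi : Odd i) : orderOf (D.x ^ i * D.y) = 4 := by
  haveI : Fact (Nat.Prime 2) := ⟨Nat.prime_two⟩
  rw [show (4 : ℕ) = 2 ^ (1 + 1) by rfl]
  refine orderOf_eq_prime_pow ?_ ?_
  · rw [pow_one, D.out_sq, D.zpow_x_eq_one]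
    rintro ⟨c, hc⟩
    rw [pow_succ (2 : ℤ) (d + 2), mul_comm i, mul_assoc] at hc
    have := mul_left_cancel₀ (by positivity) hc
    obtain ⟨l, hl⟩ := hi
    omega
  · rw [pow_succ 2 1, pow_mul, pow_one, D.out_sq, ← zpow_natCast, ← zpow_mul, D.zpow_x_eq_one]
    exact ⟨i, by push_cast; ring⟩

theorem two_sub_k : (1 : ℤ) - D.k = 2 * (1 - (2 : ℤ) ^ (d + 1)) := by
  simp only [k, pow_succ]; ring

theorem conj_out (i j : ℤ) :
    D.x ^ j * (D.x ^ i * D.y) * (D.x ^ j)⁻¹ = D.x ^ (i + j * (1 - D.k)) * D.y := by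
  rw [← mul_assoc, ← zpow_add, ← zpow_neg, D.out_mul_pow]
  congr 2; ring

theorem odd_inverse : ∃ u : ℤ, (2 : ℤ) ^ (d + 2) ∣ (1 - (2 : ℤ) ^ (d + 1)) * u - 1 :=
  ⟨1 + (2 : ℤ) ^ (d + 1), -(2 : ℤ) ^ d, by rw [show d + 2 = d + 1 + 1 by ring, pow_succ, pow_succ]; ring⟩

/-- Outside elements of equal parity are conjugate by a power of `x`. -/
theorem isConj_out {i j : ℤ} (h : Even (i - j)) :
    ∃ l : ℤ, D.x ^ l * (D.x ^ i * D.y) * (D.x ^ l)⁻¹ = D.x ^ j * D.y := by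
  obtain ⟨t, ht⟩ := h
  obtain ⟨u, c, hc⟩ := odd_inverse (d := d)
  refine ⟨-(t * u), ?_⟩
  rw [D.conj_out, mul_left_inj, D.zpow_x_eq, D.two_sub_k]
  refine ⟨-(t * c), ?_⟩
  rw [pow_succ (2 : ℤ) (d + 2)]
  linear_combination ht - 2 * t * hc

theorem zpow_order_two {i : ℤ} (h : orderOf (D.x ^ i) = 2) : D.x ^ i = D.x ^ ((2 : ℤ) ^ (d + 2)) := by
  obtain ⟨hne, hsq⟩ := invol_iff.1 h
  rw [← zpow_add, D.zpow_x_eq_one] at hsq
  rw [Ne, D.zpow_x_eq_one] at hne
  rw [D.zpow_x_eq]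
  obtain ⟨c, hc⟩ := hsq
  rw [pow_succ (2 : ℤ) (d + 2)] at hc hne ⊢
  have hc' : i = 2 ^ (d + 2) * c := by linarith
  subst hc'
  rcases Int.even_or_odd c with ⟨e, rfl⟩ | ⟨e, rfl⟩
  · exact absurd ⟨e, by ring⟩ hne
  · exact ⟨e, by ring⟩

/-- The central involution. -/
def z : S := D.x ^ ((2 : ℤ) ^ (d + 2))

theorem z_order : orderOf D.z = 2 := by
  refine invol_iff.2 ⟨?_, ?_⟩
  · rw [z, Ne, D.zpow_x_eq_one, pow_succ (2 : ℤ) (d + 2)]
    rintro ⟨c, hc⟩
    have h : (2 : ℤ) ^ (d + 2) * (2 * c - 1) = 0 := by linarith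
    rcases mul_eq_zero.1 h with h | h
    · exact absurd h (by positivity)
    · omega
  · rw [z, ← zpow_add, D.zpow_x_eq_one]; exact ⟨1, by ring⟩

theorem y_commute_pow {i : ℤ} : D.y * D.x ^ i = D.x ^ i * D.y ↔ (2 : ℤ) ^ (d + 2) ∣ i := by
  rw [D.y_mul_zpow, mul_left_inj, D.zpow_x_eq, pow_succ (2 : ℤ) (d + 2)]
  obtain ⟨u, c, hc⟩ := odd_inverse (d := d)
  constructor
  · rintro ⟨e, he⟩
    have he' : (1 - (2 : ℤ) ^ (d + 1)) * i = -((2 : ℤ) ^ (d + 2)) * e := by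
      have : D.k * i - i = -2 * ((1 - (2 : ℤ) ^ (d + 1)) * i) := by linear_combination (-i) * D.two_sub_k
      rw [this] at he
      linarith
    exact ⟨-e * u - c * i, by linear_combination u * he' - i * hc⟩
  · rintro ⟨e, rfl⟩
    refine ⟨-(e * (1 - (2 : ℤ) ^ (d + 1))), ?_⟩
    linear_combination (-(2 : ℤ) ^ (d + 2) * e) * D.two_sub_k

theorem z_central [Finite S] : D.z ∈ Subgroup.center S := by
  rw [Subgroup.mem_center_iff]
  intro g
  rcases D.cases g with ⟨i, rfl⟩ | ⟨i, rfl⟩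
  · rw [z, ← zpow_add, ← zpow_add, add_comm]
  · have h : D.y * D.z = D.z * D.y := D.y_commute_pow.2 (dvd_refl _)
    rw [mul_assoc, h, ← mul_assoc, ← mul_assoc, z, ← zpow_add, ← zpow_add, add_comm]

theorem mem_commute_out {i : ℤ} {g : S} [Finite S] :
    g * (D.x ^ i * D.y) = (D.x ^ i * D.y) * g ↔
      g = 1 ∨ g = D.z ∨ g = D.x ^ i * D.y ∨ g = D.z * (D.x ^ i * D.y) := by
  constructor
  · intro h
    have key : ∀ l : ℤ, D.x ^ l * (D.x ^ i * D.y) = D.x ^ i * D.y * D.x ^ l →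
        D.x ^ l = 1 ∨ D.x ^ l = D.z := by
      intro l hl
      rw [← mul_assoc, ← zpow_add, mul_assoc, D.y_mul_zpow, ← mul_assoc, ← zpow_add,
        mul_left_inj, D.zpow_x_eq] at hl
      have h2 : D.y * D.x ^ l = D.x ^ l * D.y := by
        rw [D.y_mul_zpow, mul_left_inj, D.zpow_x_eq]
        obtain ⟨c, hc⟩ := hl
        exact ⟨-c, by linear_combination -hc⟩
      obtain ⟨e, rfl⟩ := D.y_commute_pow.1 h2
      rcases Int.even_or_odd e with ⟨f, rfl⟩ | ⟨f, rfl⟩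
      · exact .inl (D.zpow_x_eq_one.2 ⟨f, by rw [pow_succ (2 : ℤ) (d + 2)]; ring⟩)
      · exact .inr (D.zpow_x_eq.2 ⟨f, by rw [pow_succ (2 : ℤ) (d + 2)]; ring⟩)
    rcases D.cases g with ⟨l, rfl⟩ | ⟨l, rfl⟩
    · rcases key l h with e | e
      · exact .inl e
      · exact .inr (.inl e)
    · have e : D.x ^ l * D.y = D.x ^ (l - i) * (D.x ^ i * D.y) := by
        rw [← mul_assoc, ← zpow_add, sub_add_cancel]
      rw [e] at h ⊢
      have h' : D.x ^ (l - i) * (D.x ^ i * D.y) = D.x ^ i * D.y * D.x ^ (l - i) :=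
        mul_right_cancel (b := D.x ^ i * D.y) (by rw [h]; group)
      rcases key (l - i) h' with e' | e'
      · exact .inr (.inr (.inl (by rw [e', one_mul])))
      · exact .inr (.inr (.inr (by rw [e'])))
  · have hz := Subgroup.mem_center_iff.1 D.z_central
    rintro (rfl | rfl | rfl | rfl)
    · simp
    · exact (hz _).symm
    · rfl
    · rw [mul_assoc, ← mul_assoc (D.x ^ i * D.y) D.z, hz (D.x ^ i * D.y)]; simp only [mul_assoc]

theorem cases_order [Finite S] {t : S} (ht : orderOf t = 2) :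
    t = D.z ∨ ∃ i : ℤ, Even i ∧ t = D.x ^ i * D.y := by
  rcases D.cases t with ⟨i, rfl⟩ | ⟨i, rfl⟩
  · exact .inl (D.zpow_order_two ht)
  · rcases Int.even_or_odd i with h | h
    · exact .inr ⟨i, h, rfl⟩
    · rw [D.out_order_odd h] at ht; omega

/-- The element of order four in `⟨x⟩`. -/
def w : S := D.x ^ ((2 : ℤ) ^ (d + 1))

theorem w_sq : D.w * D.w = D.z := by rw [w, z, ← zpow_add]; congr 1; ring

theorem w_order : orderOf D.w = 4 := by
  haveI : Fact (Nat.Prime 2) := ⟨Nat.prime_two⟩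
  rw [show (4 : ℕ) = 2 ^ (1 + 1) by rfl]
  refine orderOf_eq_prime_pow ?_ ?_
  · rw [pow_one, pow_two, w_sq]; exact invol_ne_one D.z_order
  · rw [pow_succ 2 1, pow_mul, pow_one, pow_two D.w, w_sq, pow_two]; exact invol_mul_self D.z_order

theorem zpow_order_four {i : ℤ} (h : orderOf (D.x ^ i) = 4) :
    D.x ^ i = D.w ∨ D.x ^ i = D.w⁻¹ := by
  have h2 : orderOf (D.x ^ (i + i)) = 2 := by
    rw [zpow_add, ← pow_two, orderOf_pow' _ (by norm_num), h]; rfl
  have h3 := D.zpow_order_two h2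
  rw [D.zpow_x_eq] at h3
  obtain ⟨c, hc⟩ := h3
  rw [pow_succ (2 : ℤ) (d + 2)] at hc
  rw [w, ← zpow_neg, D.zpow_x_eq, D.zpow_x_eq, pow_succ (2 : ℤ) (d + 2)]
  rw [pow_succ (2 : ℤ) (d + 1)] at hc ⊢
  have hi : i = (2 : ℤ) ^ (d + 1) * (1 + 2 * c) := by linarith
  subst hi
  rcases Int.even_or_odd c with ⟨e, rfl⟩ | ⟨e, rfl⟩
  · exact .inl ⟨e, by ring⟩
  · exact .inr ⟨e + 1, by ring⟩

/-- A subgroup meeting `S ∖ ⟨x⟩` has twice the order of its intersection with `⟨x⟩`. -/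
theorem card_eq_two_mul [Finite S] {H : Subgroup S} {i : ℤ} (h : D.x ^ i * D.y ∈ H) :
    Nat.card H = 2 * Nat.card (H ⊓ Subgroup.zpowers D.x : Subgroup S) := by
  have h1 := Subgroup.card_mul_index ((H ⊓ Subgroup.zpowers D.x).subgroupOf H)
  rw [Nat.card_congr (Subgroup.subgroupOfEquivOfLe inf_le_left).toEquiv] at h1
  have h2 : ((H ⊓ Subgroup.zpowers D.x).subgroupOf H).index = 2 := by
    change (H ⊓ Subgroup.zpowers D.x).relIndex H = 2
    rw [inf_comm, Subgroup.inf_relIndex_right]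
    haveI := Subgroup.normal_of_index_eq_two D.index_zpowers_x
    have h3 := Subgroup.relIndex_dvd_index_of_normal (Subgroup.zpowers D.x) H
    rw [D.index_zpowers_x] at h3
    rcases (Nat.dvd_prime Nat.prime_two).1 h3 with e | e
    · exact absurd (Subgroup.relIndex_eq_one.1 e h) (D.out_not_mem i)
    · exact e
  rw [h2] at h1
  omega

theorem even_of_mem_zpowers {i : ℤ} (h : D.x ^ i ∈ Subgroup.zpowers (D.x ^ (2 : ℤ))) : Even i := by
  obtain ⟨j, hj⟩ := h
  have hj' : (D.x ^ (2 : ℤ)) ^ j = D.x ^ i := hj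
  rw [← zpow_mul, D.zpow_x_eq, pow_succ (2 : ℤ) (d + 2)] at hj'
  obtain ⟨c, hc⟩ := hj'
  exact ⟨j - 2 ^ (d + 2) * c, by linarith⟩

theorem mem_sq_iff {i : ℤ} : D.x ^ i ∈ Subgroup.zpowers (D.x ^ (2 : ℤ)) ↔ Even i := by
  refine ⟨D.even_of_mem_zpowers, ?_⟩
  rintro ⟨j, rfl⟩
  exact ⟨j, by show (D.x ^ (2 : ℤ)) ^ j = _; rw [← zpow_mul]; congr 1; ring⟩

theorem card_zpow_sub {e : ℕ} (he : e ≤ d + 3) :
    Nat.card (Subgroup.zpowers (D.x ^ ((2 : ℤ) ^ e))) = 2 ^ (d + 3 - e) := by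
  rw [Nat.card_zpowers, show ((2 : ℤ) ^ e) = ((2 ^ e : ℕ) : ℤ) by push_cast; rfl, zpow_natCast,
    orderOf_pow' _ (by positivity), D.order_x, Nat.gcd_eq_right (pow_dvd_pow 2 he),
    Nat.pow_div he (by norm_num)]

/-- The maximal subgroup `⟨x², x^e y⟩`, as a set. -/
def outSub (e : ℤ) : Subgroup S :=
  Subgroup.zpowers (D.x ^ (2 : ℤ)) ⊔ Subgroup.zpowers (D.x ^ e * D.y)

theorem mem_outSub_pow (e : ℤ) {i : ℤ} (hi : Even i) : D.x ^ i ∈ D.outSub e :=
  Subgroup.mem_sup_left (D.mem_sq_iff.2 hi)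

theorem mem_outSub_out (e : ℤ) {i : ℤ} (hi : Even (i - e)) : D.x ^ i * D.y ∈ D.outSub e := by
  have h : D.x ^ i * D.y = D.x ^ (i - e) * (D.x ^ e * D.y) := by
    rw [← mul_assoc, ← zpow_add, sub_add_cancel]
  rw [h]
  exact mul_mem (D.mem_outSub_pow e hi) (Subgroup.mem_sup_right (Subgroup.mem_zpowers _))

theorem k_odd : Odd D.k := ⟨(2 : ℤ) ^ (d + 1) - 1, by simp only [k, pow_succ]; ring⟩

theorem mem_outSub_iff [Finite S] (e : ℤ) {g : S} :
    g ∈ D.outSub e ↔ (∃ i : ℤ, Even i ∧ g = D.x ^ i) ∨ ∃ i : ℤ, Even (i - e) ∧ g = D.x ^ i * D.y := by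
  refine ⟨fun hg => ?_, ?_⟩
  · let T : Subgroup S :=
      { carrier := {g | (∃ i : ℤ, Even i ∧ g = D.x ^ i) ∨ ∃ i : ℤ, Even (i - e) ∧ g = D.x ^ i * D.y}
        one_mem' := .inl ⟨0, by simp, by simp⟩
        mul_mem' := by
          obtain ⟨q, hq⟩ := D.k_odd
          rintro a b (⟨i, hi, rfl⟩ | ⟨i, hi, rfl⟩) (⟨j, hj, rfl⟩ | ⟨j, hj, rfl⟩)
          · exact .inl ⟨i + j, hi.add hj, (zpow_add _ _ _).symm⟩
          · exact .inr ⟨i + j, by
              obtain ⟨a, rfl⟩ := hi; obtain ⟨b, hb⟩ := hj; exact ⟨a + b, by linarith⟩,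
              by rw [← mul_assoc, zpow_add]⟩
          · exact .inr ⟨i + D.k * j, by
              obtain ⟨a, ha⟩ := hi; obtain ⟨b, rfl⟩ := hj; exact ⟨a + D.k * b, by linarith⟩,
              D.out_mul_pow i j⟩
          · exact .inl ⟨i + D.k * j, by
              obtain ⟨a, ha⟩ := hi; obtain ⟨b, hb⟩ := hj
              exact ⟨a + D.k * b + (q + 1) * e, by rw [hq] at *; linear_combination ha + (2 * q + 1) * hb⟩,
              D.out_mul_out i j⟩
        inv_mem' := by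
          obtain ⟨q, hq⟩ := D.k_odd
          rintro a (⟨i, hi, rfl⟩ | ⟨i, hi, rfl⟩)
          · exact .inl ⟨-i, hi.neg, (zpow_neg _ _).symm⟩
          · exact .inr ⟨-(D.k * i), by
              obtain ⟨a, ha⟩ := hi
              exact ⟨-a - i * q - e, by rw [hq]; linear_combination (-1 : ℤ) * ha⟩, D.inv_out i⟩ }
    refine (sup_le ?_ ?_ : D.outSub e ≤ T) hg
    · rw [Subgroup.zpowers_le]; exact .inl ⟨2, even_two, rfl⟩
    · rw [Subgroup.zpowers_le]; exact .inr ⟨e, by simp, rfl⟩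
  · rintro (⟨i, hi, rfl⟩ | ⟨i, hi, rfl⟩)
    · exact D.mem_outSub_pow e hi
    · exact D.mem_outSub_out e hi

theorem card_outSub [Finite S] (e : ℤ) : Nat.card (D.outSub e) = 2 ^ (d + 3) := by
  rw [D.card_eq_two_mul (D.mem_outSub_out e (i := e) (by simp))]
  have h : D.outSub e ⊓ Subgroup.zpowers D.x = Subgroup.zpowers (D.x ^ (2 : ℤ)) := by
    refine le_antisymm ?_ (le_inf le_sup_left (by
      rw [Subgroup.zpowers_le]; exact Subgroup.zpow_mem_zpowers _ _))
    rintro g ⟨hg, i, rfl⟩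
    rcases (D.mem_outSub_iff e).1 hg with ⟨j, hj, he⟩ | ⟨j, -, he⟩
    · show D.x ^ i ∈ _
      rw [show D.x ^ i = D.x ^ j from he]; exact D.mem_sq_iff.2 hj
    · exact absurd (show D.x ^ j * D.y ∈ Subgroup.zpowers D.x from he ▸ Subgroup.zpow_mem_zpowers D.x i)
        (D.out_not_mem j)
  have h2 := D.card_zpow_sub (e := 1) (by omega)
  rw [h, show (2 : ℤ) = 2 ^ 1 by norm_num, h2, show d + 3 - 1 = d + 2 by omega, pow_succ' 2 (d + 2)]

theorem index_outSub [Finite S] (e : ℤ) : (D.outSub e).index = 2 := by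
  have h := (D.outSub e).card_mul_index
  rw [D.card_outSub, D.card_eq, pow_succ 2 (d + 3)] at h
  exact Nat.eq_of_mul_eq_mul_left (by positivity) h

theorem coatom_of_index_two [Finite S] {M : Subgroup S} (h : M.index = 2) : IsCoatom M := by
  refine ⟨fun he => by rw [he, Subgroup.index_top] at h; omega, fun K hK => ?_⟩
  have hd := Subgroup.index_dvd_of_le hK.le
  rw [h] at hd
  rcases (Nat.dvd_prime Nat.prime_two).1 hd with e | e
  · exact Subgroup.index_eq_one.1 e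
  · exact absurd (Subgroup.eq_of_le_of_card_ge hK.le (le_of_eq (Nat.eq_of_mul_eq_mul_right
      (Nat.two_pos) ((e ▸ K.card_mul_index).trans (h ▸ M.card_mul_index).symm)))) hK.ne

include D in
theorem isPGroup : IsPGroup 2 S := IsPGroup.of_card D.card_eq

include D in
theorem sq_mem_coatom [Finite S] {M : Subgroup S} (hM : IsCoatom M) : M.index = 2 := by
  haveI : Fact (Nat.Prime 2) := ⟨Nat.prime_two⟩
  haveI := IsPGroup.isNilpotent D.isPGroup
  haveI hn : M.Normal := Subgroup.NormalizerCondition.normal_of_coatom M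
    Group.normalizerCondition_of_isNilpotent hM
  obtain ⟨j, hj⟩ := D.isPGroup.index M
  haveI : Nontrivial (S ⧸ M) := QuotientGroup.nontrivial_iff.2 hM.1
  have hj0 : j ≠ 0 := by
    rintro rfl
    exact hM.1 (Subgroup.index_eq_one.1 (by rw [hj, pow_zero]))
  obtain ⟨q, hq⟩ := exists_prime_orderOf_dvd_card' (G := S ⧸ M) 2
    (by rw [← Subgroup.index_eq_card, hj]; exact dvd_pow_self 2 hj0)
  have hlt : M < (Subgroup.zpowers q).comap (QuotientGroup.mk' M) := by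
    refine lt_of_le_of_ne (fun g hg => ?_) fun h => ?_
    · show (g : S ⧸ M) ∈ Subgroup.zpowers q
      rw [(QuotientGroup.eq_one_iff g).2 hg]; exact one_mem _
    · obtain ⟨g, rfl⟩ := QuotientGroup.mk_surjective q
      have : g ∈ M := by rw [h]; exact Subgroup.mem_zpowers _
      rw [(QuotientGroup.eq_one_iff g).2 this, orderOf_one] at hq
      omega
  have htop := congrArg (Subgroup.map (QuotientGroup.mk' M)) (hM.2 _ hlt)
  rw [Subgroup.map_comap_eq_self_of_surjective (QuotientGroup.mk'_surjective M),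
    Subgroup.map_top_of_surjective _ (QuotientGroup.mk'_surjective M)] at htop
  rw [Subgroup.index_eq_card, ← Subgroup.card_top, ← htop, Nat.card_zpowers, hq]

theorem coatom_cases [Finite S] {M : Subgroup S} (hM : IsCoatom M) :
    M = Subgroup.zpowers D.x ∨ M = D.outSub 1 ∨ M = D.outSub 0 := by
  have hi := D.sq_mem_coatom hM
  have hx2 : D.x ^ (2 : ℤ) ∈ M := by
    rw [zpow_two]; exact Subgroup.mul_self_mem_of_index_two hi _
  have hcard : Nat.card M = 2 ^ (d + 3) := by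
    have h := M.card_mul_index
    rw [hi, D.card_eq, pow_succ 2 (d + 3)] at h
    omega
  by_cases hx : D.x ∈ M
  · left
    exact (Subgroup.eq_of_le_of_card_ge (Subgroup.zpowers_le.2 hx)
      (by rw [hcard, Nat.card_zpowers, D.order_x])).symm
  · right
    have hout : ∀ e : ℤ, D.x ^ e * D.y ∈ M → M = D.outSub e := fun e he =>
      (Subgroup.eq_of_le_of_card_ge (sup_le (Subgroup.zpowers_le.2 hx2) (Subgroup.zpowers_le.2 he))
        (by rw [hcard, ← D.card_outSub e]; rfl)).symm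
    by_cases hy : D.y ∈ M
    · exact .inr (hout 0 (by simpa using hy))
    · refine .inl (hout 1 ?_)
      rw [zpow_one, Subgroup.mul_mem_iff_of_index_two hi]
      exact iff_of_false hx hy

theorem closure_invol [Finite S] :
    Subgroup.closure {g : S | orderOf g = 2} = D.outSub 0 := by
  refine le_antisymm ((Subgroup.closure_le _).2 fun g hg => ?_) (sup_le ?_ ?_)
  · rcases D.cases_order hg with rfl | ⟨i, hi, rfl⟩
    · exact D.mem_outSub_pow 0 ((even_two).pow_of_ne_zero (by omega))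
    · exact D.mem_outSub_out 0 (by simpa using hi)
  · rw [Subgroup.zpowers_le]
    have h : D.x ^ (2 : ℤ) = (D.x ^ (2 : ℤ) * D.y) * (D.x ^ (0 : ℤ) * D.y) := by
      rw [D.out_mul_out]; simp
    rw [h]
    exact mul_mem (Subgroup.subset_closure (D.out_sq_even even_two))
      (Subgroup.subset_closure (D.out_sq_even (by simp)))
  · rw [Subgroup.zpowers_le]
    exact Subgroup.subset_closure (D.out_sq_even (by simp))

theorem sq_mem_commutator [Finite S] : D.x ^ (2 : ℤ) ∈ commutator S := by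
  have h : ⁅D.x, D.y⁆ = D.x ^ (1 - D.k) := by
    rw [commutatorElement_def]
    calc D.x * D.y * D.x⁻¹ * D.y⁻¹ = D.x * (D.y * D.x * D.y⁻¹)⁻¹ := by group
      _ = _ := by
        rw [D.rel, ← zpow_neg, ← zpow_one_add]
        rfl
  have hm : D.x ^ (1 - D.k) ∈ commutator S :=
    h ▸ Subgroup.commutator_mem_commutator (Subgroup.mem_top _) (Subgroup.mem_top _)
  obtain ⟨u, c, hc⟩ := odd_inverse (d := d)
  have e : D.x ^ (2 : ℤ) = (D.x ^ (1 - D.k)) ^ u := by
    rw [← zpow_mul, D.zpow_x_eq, D.two_sub_k, pow_succ (2 : ℤ) (d + 2)]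
    exact ⟨-c, by linear_combination -2 * hc⟩
  rw [e]; exact zpow_mem hm u

theorem commutator_eq [Finite S] : commutator S = Subgroup.zpowers (D.x ^ (2 : ℤ)) := by
  refine le_antisymm ?_ (Subgroup.zpowers_le.2 D.sq_mem_commutator)
  haveI : (Subgroup.zpowers D.x).Normal := Subgroup.normal_of_index_eq_two D.index_zpowers_x
  rw [commutator_def, Subgroup.commutator_le]
  intro a _ b _
  have hkey : ∀ i : ℤ, ∀ g : S, ∃ e : ℤ, g * D.x ^ i * g⁻¹ = D.x ^ e ∧ Even (e - i) := by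
    intro i g
    obtain ⟨q, hq⟩ := D.k_odd
    rcases D.cases g with ⟨l, rfl⟩ | ⟨l, rfl⟩
    · exact ⟨i, by group, by simp⟩
    · refine ⟨D.k * i, ?_, ⟨q * i, by rw [hq]; ring⟩⟩
      rw [D.out_mul_pow, mul_assoc]
      calc D.x ^ (l + D.k * i) * (D.y * (D.x ^ l * D.y)⁻¹) = D.x ^ (l + D.k * i) * (D.y * (D.y⁻¹ * (D.x ^ l)⁻¹)) := by
            rw [mul_inv_rev]
        _ = D.x ^ (D.k * i) := by rw [mul_inv_cancel_left, ← zpow_neg, ← zpow_add]; congr 1; ring
  obtain ⟨q, hq⟩ := D.k_odd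
  rw [commutatorElement_def]
  rcases D.cases b with ⟨j, rfl⟩ | ⟨j, rfl⟩
  · obtain ⟨e, he, hev⟩ := hkey j a
    rw [he, ← zpow_neg, ← zpow_add]
    exact D.mem_sq_iff.2 (by rwa [← sub_eq_add_neg])
  · rcases D.cases a with ⟨i, rfl⟩ | ⟨i, rfl⟩
    · rw [← mul_assoc (D.x ^ i), ← zpow_add, ← zpow_neg, D.out_mul_pow, D.inv_out, D.out_mul_out]
      refine D.mem_sq_iff.2 ?_
      obtain ⟨c, hc⟩ := D.kk_modEq
      rw [hq]
      exact ⟨-(2 * q * q + 2 * q) * j - i * q, by ring⟩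
    · rw [D.out_mul_out, D.inv_out, D.inv_out, mul_assoc, D.out_mul_out, ← zpow_add]
      refine D.mem_sq_iff.2 ?_
      rw [hq]
      exact ⟨-q * (i + (2 * q + 1) * j), by ring⟩

theorem normal_cases [Finite S] (N : Subgroup S) [N.Normal] :
    N ≤ Subgroup.zpowers D.x ∨ ∃ e : ℤ, D.outSub e ≤ N := by
  by_cases h : N ≤ Subgroup.zpowers D.x
  · exact .inl h
  right
  obtain ⟨g, hgN, hg⟩ := SetLike.not_le_iff_exists.1 h
  rcases D.cases g with ⟨i, rfl⟩ | ⟨i, rfl⟩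
  · exact absurd (Subgroup.zpow_mem_zpowers D.x i) hg
  refine ⟨i, sup_le ?_ (Subgroup.zpowers_le.2 hgN)⟩
  rw [Subgroup.zpowers_le]
  have h1 : D.x * (D.x ^ i * D.y) * D.x⁻¹ * (D.x ^ i * D.y)⁻¹ ∈ N :=
    mul_mem (Subgroup.Normal.conj_mem ‹_› _ hgN D.x) (inv_mem hgN)
  have h2 : D.x * (D.x ^ i * D.y) * D.x⁻¹ = D.x ^ (i + (1 : ℤ) * (1 - D.k)) * D.y := by
    rw [← D.conj_out, zpow_one]
  rw [h2] at h1
  have h3 : D.x ^ (1 - D.k) ∈ N := by
    have e : D.x ^ (i + 1 * (1 - D.k)) * D.y * (D.x ^ i * D.y)⁻¹ = D.x ^ (1 - D.k) := by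
      rw [one_mul]; group
    rwa [e] at h1
  obtain ⟨u, c, hc⟩ := odd_inverse (d := d)
  have e : D.x ^ (2 : ℤ) = (D.x ^ (1 - D.k)) ^ u := by
    rw [← zpow_mul, D.zpow_x_eq, D.two_sub_k, pow_succ (2 : ℤ) (d + 2)]
    exact ⟨-c, by linear_combination -2 * hc⟩
  rw [e]; exact zpow_mem h3 u

theorem zmod_cast_zpow {m : ℕ} (hm : m = 2 ^ (d + 2)) (a : ℤ) :
    (D.x ^ (2 : ℤ)) ^ (((a : ZMod m)).cast : ℤ) = D.x ^ (2 * a) := by
  subst hm
  rw [← zpow_mul, D.zpow_x_eq, ZMod.coe_intCast]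
  refine ⟨-(a / ((2 ^ (d + 2) : ℕ) : ℤ)), ?_⟩
  have h := Int.emod_def a ((2 ^ (d + 2) : ℕ) : ℤ)
  push_cast at h ⊢
  rw [pow_succ (2 : ℤ) (d + 2)]
  linear_combination 2 * h

/-- The quaternion maximal subgroup. -/
theorem quaternion_equiv [Finite S] :
    Nonempty (D.outSub 1 ≃* QuaternionGroup (2 ^ (d + 1))) := by
  set m := 2 ^ (d + 1)
  have hm : 2 * m = 2 ^ (d + 2) := by rw [pow_succ' 2 (d + 1)]
  haveI : NeZero m := ⟨by positivity⟩
  let f : QuaternionGroup m → S := fun q => match q with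
    | .a i => (D.x ^ (2 : ℤ)) ^ (i.cast : ℤ)
    | .xa i => (D.x ^ (1 : ℤ) * D.y) * (D.x ^ (2 : ℤ)) ^ (i.cast : ℤ)
  have fa : ∀ a : ℤ, f (.a (a : ZMod (2 * m))) = D.x ^ (2 * a) := fun a => D.zmod_cast_zpow hm a
  have fxa : ∀ a : ℤ, f (.xa (a : ZMod (2 * m))) = D.x ^ (1 + D.k * (2 * a)) * D.y := fun a => by
    show (D.x ^ (1 : ℤ) * D.y) * _ = _
    rw [D.zmod_cast_zpow hm a, D.out_mul_pow]
  obtain ⟨c, hc⟩ := D.kk_modEq
  have hmul : ∀ p q, f (p * q) = f p * f q := by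
    rintro (i | i) (j | j) <;>
      obtain ⟨i, rfl⟩ := ZMod.intCast_surjective i <;>
      obtain ⟨j, rfl⟩ := ZMod.intCast_surjective j
    · rw [QuaternionGroup.a_mul_a, ← Int.cast_add, fa, fa, fa, ← zpow_add]; congr 1; ring
    · rw [QuaternionGroup.a_mul_xa, ← Int.cast_sub, fa, fxa, fxa, ← mul_assoc (D.x ^ (2 * i)), ← zpow_add,
        mul_left_inj, D.zpow_x_eq]
      refine ⟨-i, ?_⟩
      simp only [k]
      rw [pow_succ (2 : ℤ) (d + 2)]
      ring
    · rw [QuaternionGroup.xa_mul_a, ← Int.cast_add, fa, fxa, fxa, D.out_mul_pow, mul_left_inj]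
      congr 1; ring
    · rw [QuaternionGroup.xa_mul_xa, show (m : ZMod (2 * m)) = ((m : ℤ) : ZMod (2 * m)) from
        (Int.cast_natCast m).symm, ← Int.cast_add, ← Int.cast_sub, fxa, fxa, fa, D.out_mul_out,
        D.zpow_x_eq]
      refine ⟨-i - 2 * j * c, ?_⟩
      simp only [k, m] at hc ⊢
      push_cast
      rw [pow_succ (2 : ℤ) (d + 2), pow_succ (2 : ℤ) (d + 1)] at hc ⊢
      linear_combination (-2 * j) * hc
  let φ : QuaternionGroup m →* S := MonoidHom.mk' f hmul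
  have hinj : Function.Injective φ := by
    rw [injective_iff_map_eq_one]
    rintro (i | i) h <;> obtain ⟨i, rfl⟩ := ZMod.intCast_surjective i
    · have h' : D.x ^ (2 * i) = 1 := (fa i).symm.trans h
      rw [D.zpow_x_eq_one, pow_succ' (2 : ℤ) (d + 2), mul_dvd_mul_iff_left (by norm_num)] at h'
      rw [QuaternionGroup.one_def]
      congr 1
      rw [ZMod.intCast_zmod_eq_zero_iff_dvd, hm]
      push_cast; exact h'
    · exact absurd (show D.x ^ (1 + D.k * (2 * i)) * D.y ∈ Subgroup.zpowers D.x by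
        rw [(fxa i).symm.trans h]; exact one_mem _) (D.out_not_mem _)
  have hr : φ.range = D.outSub 1 := by
    refine Subgroup.eq_of_le_of_card_ge ?_ ?_
    · rintro _ ⟨q, rfl⟩
      rcases q with i | i <;> obtain ⟨i, rfl⟩ := ZMod.intCast_surjective i
      · rw [show φ (.a (i : ZMod (2 * m))) = f (.a (i : ZMod (2 * m))) from rfl, fa]; exact D.mem_outSub_pow 1 (even_two_mul i)
      · rw [show φ (.xa (i : ZMod (2 * m))) = f (.xa (i : ZMod (2 * m))) from rfl, fxa]; exact D.mem_outSub_out 1 ⟨D.k * i, by ring⟩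
    · rw [D.card_outSub, Nat.card_congr (MonoidHom.ofInjective hinj).toEquiv.symm,
        Nat.card_eq_fintype_card, QuaternionGroup.card, pow_succ' 2 (d + 2), ← hm]
      omega
  exact ⟨((MonoidHom.ofInjective hinj).trans (MulEquiv.subgroupCongr hr)).symm⟩

theorem dihedral_equiv' [Finite S] :
    Nonempty (D.outSub 0 ≃* DihedralGroup (2 ^ (d + 2))) := by
  have h2 : orderOf (D.x ^ (2 : ℤ) * D.y) = 2 := D.out_sq_even even_two
  have hp : orderOf ((D.x ^ (2 : ℤ) * D.y) * D.y) = 2 ^ (d + 2) := by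
    rw [mul_assoc, invol_mul_self D.order_y, mul_one, ← Nat.card_zpowers,
      show (2 : ℤ) = 2 ^ 1 by norm_num, D.card_zpow_sub (by omega)]
    congr 1
  have hc : Subgroup.closure ({D.x ^ (2 : ℤ) * D.y, D.y} : Set S) = D.outSub 0 := by
    refine le_antisymm ((Subgroup.closure_le _).2 ?_) (sup_le ?_ ?_)
    · rintro g (rfl | rfl)
      · exact D.mem_outSub_out 0 (by simp)
      · simpa using D.mem_outSub_out 0 (i := 0) (by simp)
    · rw [Subgroup.zpowers_le]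
      have hm : D.x ^ (2 : ℤ) * D.y * D.y ∈ Subgroup.closure ({D.x ^ (2 : ℤ) * D.y, D.y} : Set S) :=
        mul_mem (Subgroup.subset_closure (by simp)) (Subgroup.subset_closure (by simp))
      rwa [mul_assoc, invol_mul_self D.order_y, mul_one] at hm
    · rw [Subgroup.zpowers_le, zpow_zero, one_mul]
      exact Subgroup.subset_closure (by simp)
  obtain ⟨e⟩ := CfsgLib.Inv.dihedral_equiv h2 D.order_y
  rw [hp] at e
  exact ⟨(MulEquiv.subgroupCongr hc).symm.trans e⟩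

end QDData

end CfsgLib.Inv

namespace CfsgLib.Inv.QDData

variable {S : Type*} [Group S] {d : ℕ} (D : QDData S d)

theorem centralizer_out [Finite S] (i : ℤ) :
    Nat.card (Subgroup.centralizer ({D.x ^ i * D.y} : Set S)) ≤ 4 := by
  classical
  haveI := Fintype.ofFinite S
  set t := D.x ^ i * D.y
  have hsub : (Subgroup.centralizer ({t} : Set S) : Set S) ⊆ ↑({1, D.z, t, D.z * t} : Finset S) := by
    intro g hg
    have := D.mem_commute_out.1 (Subgroup.mem_centralizer_singleton_iff.1 hg)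
    simpa using this
  rw [← SetLike.coe_sort_coe, Nat.card_coe_set_eq]
  refine (Set.ncard_le_ncard hsub).trans ?_
  rw [Set.ncard_coe_finset]
  exact Finset.card_le_four

theorem klein_eq [Finite S] {T : Subgroup S} (hT : IsKleinFour T) :
    ∃ i : ℤ, Even i ∧ T = Subgroup.centralizer ({D.x ^ i * D.y} : Set S) := by
  obtain ⟨t, htT, ht1, htz⟩ : ∃ t ∈ T, t ≠ 1 ∧ t ≠ D.z := by
    by_contra h
    push Not at h
    have hle : T ≤ Subgroup.zpowers D.z := fun t ht => by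
      by_cases h1 : t = 1
      · rw [h1]; exact one_mem _
      · rw [h t ht h1]; exact Subgroup.mem_zpowers _
    have := Nat.le_of_dvd (by rw [Nat.card_zpowers, D.z_order]; omega) (Subgroup.card_dvd_of_le hle)
    rw [hT.card_four, Nat.card_zpowers, D.z_order] at this
    omega
  have hsq : t * t = 1 := congrArg Subtype.val (@IsKleinFour.mul_self _ _ hT ⟨t, htT⟩)
  obtain ⟨i, hi, rfl⟩ := (D.cases_order (invol_iff.2 ⟨ht1, hsq⟩)).resolve_left htz
  refine ⟨i, hi, Subgroup.eq_of_le_of_card_ge (fun g hg => ?_) ((D.centralizer_out i).trans hT.card_four.ge)⟩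
  rw [Subgroup.mem_centralizer_singleton_iff]
  exact congrArg Subtype.val
    ((@IsKleinFour.isMulCommutative _ _ hT).is_comm.comm (⟨g, hg⟩ : T) ⟨_, htT⟩)

theorem pow_mem_iff_dvd {e : ℕ} (he : e ≤ d + 3) {l : ℤ} :
    D.x ^ l ∈ Subgroup.zpowers (D.x ^ ((2 : ℤ) ^ e)) ↔ (2 : ℤ) ^ e ∣ l := by
  constructor
  · rintro ⟨j, hj⟩
    have hj' : (D.x ^ ((2 : ℤ) ^ e)) ^ j = D.x ^ l := hj
    rw [← zpow_mul, D.zpow_x_eq] at hj'
    have h2 := dvd_trans (pow_dvd_pow (2 : ℤ) he) hj'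
    simpa using dvd_sub (dvd_mul_right ((2 : ℤ) ^ e) j) h2
  · rintro ⟨j, rfl⟩
    exact ⟨j, by show (D.x ^ ((2 : ℤ) ^ e)) ^ j = _; rw [← zpow_mul]⟩

theorem dvd_mul_odd {e : ℕ} (he : e ≤ d + 1) {l : ℤ} :
    (2 : ℤ) ^ (e + 1) ∣ l * (1 - D.k) ↔ (2 : ℤ) ^ e ∣ l := by
  rw [D.two_sub_k, pow_succ]
  obtain ⟨u, c, hc⟩ := odd_inverse (d := d)
  constructor
  · rintro ⟨a, ha⟩
    have ha' : l * (1 - (2 : ℤ) ^ (d + 1)) = 2 ^ e * a := by linarith
    obtain ⟨b, hb⟩ := pow_dvd_pow (2 : ℤ) (show e ≤ d + 2 by omega)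
    exact ⟨a * u - b * c * l, by rw [hb] at hc; linear_combination u * ha' - l * hc⟩
  · rintro ⟨a, rfl⟩
    exact ⟨a * (1 - 2 ^ (d + 1)), by ring⟩

include D in
theorem card_normalizer_klein [Finite S] {T : Subgroup S} (hT : IsKleinFour T) :
    Nat.card (Subgroup.normalizer (T : Set S)) = 8 := by
  obtain ⟨i, hi, rfl⟩ := D.klein_eq hT
  set t := D.x ^ i * D.y with ht
  set N := Subgroup.normalizer (Subgroup.centralizer ({t} : Set S) : Set S)
  have htT : t ∈ Subgroup.centralizer ({t} : Set S) := Subgroup.mem_centralizer_singleton_iff.2 rfl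
  have htN : t ∈ N := Subgroup.le_normalizer htT
  rw [D.card_eq_two_mul htN]
  have h : N ⊓ Subgroup.zpowers D.x = Subgroup.zpowers (D.x ^ ((2 : ℤ) ^ (d + 1))) := by
    apply le_antisymm
    · rintro g ⟨hg, l, rfl⟩
      show D.x ^ l ∈ _
      rw [D.pow_mem_iff_dvd (by omega)]
      have hm := (Subgroup.mem_normalizer_iff.1 hg t).1 htT
      have hm' : D.x ^ l * t * (D.x ^ l)⁻¹ ∈ Subgroup.centralizer ({t} : Set S) := hm
      rw [Subgroup.mem_centralizer_singleton_iff, ht, D.conj_out, D.mem_commute_out] at hm'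
      rw [← D.dvd_mul_odd (le_refl _)]
      rcases hm' with e | e | e | e
      · exact absurd (e ▸ one_mem _) (D.out_not_mem _)
      · exact absurd (show D.x ^ (i + l * (1 - D.k)) * D.y ∈ Subgroup.zpowers D.x by
          rw [e]; exact Subgroup.zpow_mem_zpowers _ _) (D.out_not_mem _)
      · rw [mul_left_inj, D.zpow_x_eq] at e
        obtain ⟨a, ha⟩ := e
        exact ⟨2 * a, by rw [pow_succ (2 : ℤ) (d + 2)] at ha; linarith⟩
      · rw [z, ← mul_assoc, ← zpow_add, mul_left_inj, D.zpow_x_eq] at e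
        obtain ⟨a, ha⟩ := e
        exact ⟨2 * a + 1, by rw [pow_succ (2 : ℤ) (d + 2)] at ha; linarith⟩
    · rw [Subgroup.zpowers_le]
      refine ⟨?_, Subgroup.zpow_mem_zpowers _ _⟩
      show D.x ^ ((2 : ℤ) ^ (d + 1)) ∈ N
      set g := D.x ^ ((2 : ℤ) ^ (d + 1)) with hg
      have hconj : g * t * g⁻¹ = D.z * t := by
        rw [hg, ht, D.conj_out, z, ← mul_assoc, ← zpow_add, mul_left_inj, D.zpow_x_eq, D.two_sub_k,
          pow_succ (2 : ℤ) (d + 2), pow_succ (2 : ℤ) (d + 1), pow_succ (2 : ℤ) d]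
        exact ⟨-(2 : ℤ) ^ (d) * 1, by ring⟩
      have hz := Subgroup.mem_center_iff.1 D.z_central
      rw [Subgroup.mem_normalizer_iff]
      intro a
      rw [Subgroup.mem_centralizer_singleton_iff, Subgroup.mem_centralizer_singleton_iff]
      have hzt : g * a * g⁻¹ * (D.z * t) = (D.z * t) * (g * a * g⁻¹) ↔ g * a * g⁻¹ * t = t * (g * a * g⁻¹) := by
        rw [← mul_assoc, hz (g * a * g⁻¹), mul_assoc D.z, mul_assoc D.z, mul_right_inj]
      rw [← hzt, ← hconj]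
      constructor
      · intro e
        calc g * a * g⁻¹ * (g * t * g⁻¹) = g * (a * t) * g⁻¹ := by group
          _ = _ := by rw [e]; group
      · intro e
        calc a * t = g⁻¹ * (g * a * g⁻¹ * (g * t * g⁻¹)) * g := by group
          _ = _ := by rw [e]; group
  rw [h, D.card_zpow_sub (by omega), show d + 3 - (d + 1) = 2 by omega]
  norm_num

theorem quaternion_gens [Finite S] {Q : Subgroup S} (e : Q ≃* QuaternionGroup 2) :
    ∃ i : ℤ, Odd i ∧ D.x ^ i * D.y ∈ Q ∧ D.w ∈ Q ∧ Nat.card Q = 8 ∧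
      Q ⊓ Subgroup.zpowers D.x = Subgroup.zpowers D.w := by
  classical
  have hcard : Nat.card Q = 8 := by
    rw [Nat.card_congr e.toEquiv, Nat.card_eq_fintype_card, QuaternionGroup.card]
  have huniq : ∀ a b : S, a ∈ Q → b ∈ Q → orderOf a = 2 → orderOf b = 2 → a = b := by
    intro a b ha hb h1 h2
    have h1' : orderOf (e ⟨a, ha⟩) = 2 := by rw [MulEquiv.orderOf_eq, Subgroup.orderOf_mk, h1]
    have h2' : orderOf (e ⟨b, hb⟩) = 2 := by rw [MulEquiv.orderOf_eq, Subgroup.orderOf_mk, h2]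
    have key : ∀ q₁ q₂ : QuaternionGroup 2, q₁ * q₁ = 1 → q₁ ≠ 1 → q₂ * q₂ = 1 → q₂ ≠ 1 → q₁ = q₂ := by
      decide +kernel
    exact congrArg Subtype.val (e.injective (key _ _ (invol_mul_self h1') (invol_ne_one h1')
      (invol_mul_self h2') (invol_ne_one h2')))
  obtain ⟨i, hi⟩ : ∃ i : ℤ, D.x ^ i * D.y ∈ Q := by
    by_contra h
    push Not at h
    have hle : Q ≤ Subgroup.zpowers D.x := fun g hg => by
      rcases D.cases g with ⟨l, rfl⟩ | ⟨l, rfl⟩
      · exact Subgroup.zpow_mem_zpowers _ _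
      · exact absurd hg (h l)
    have hq := (QuaternionGroup.xa 0 : QuaternionGroup 2)
    have hcomm : ∀ p q : QuaternionGroup 2, p * q = q * p := by
      intro p q
      obtain ⟨a, ha⟩ := hle (e.symm p).2
      obtain ⟨b, hb⟩ := hle (e.symm q).2
      apply e.symm.injective
      rw [map_mul, map_mul]
      apply Subtype.ext
      have ha' : D.x ^ a = (e.symm p : S) := ha
      have hb' : D.x ^ b = (e.symm q : S) := hb
      show (e.symm p : S) * e.symm q = e.symm q * e.symm p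
      rw [← ha', ← hb', ← zpow_add, ← zpow_add, add_comm]
    exact absurd (hcomm (.a 1) (.xa 0)) (by decide +kernel)
  have hint : Nat.card (Q ⊓ Subgroup.zpowers D.x : Subgroup S) = 4 := by
    have := D.card_eq_two_mul hi
    omega
  haveI : IsCyclic (Q ⊓ Subgroup.zpowers D.x : Subgroup S) :=
    isCyclic_of_injective (Subgroup.inclusion inf_le_right) (Subgroup.inclusion_injective _)
  obtain ⟨g, hg⟩ := IsCyclic.exists_ofOrder_eq_natCard (α := (Q ⊓ Subgroup.zpowers D.x : Subgroup S))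
  rw [hint] at hg
  obtain ⟨l, hl⟩ := g.2.2
  have hl' : D.x ^ l = (g : S) := hl
  have hwQ : D.w ∈ Q := by
    rcases D.zpow_order_four (i := l) (by rw [hl', Subgroup.orderOf_coe, hg]) with h | h
    · rw [← h, hl']; exact g.2.1
    · rw [← inv_inv D.w, ← h, hl']; exact inv_mem g.2.1
  have hiodd : Odd i := by
    rcases Int.even_or_odd i with h | h
    · exfalso
      have h1 := huniq _ D.z hi (D.w_sq ▸ mul_mem hwQ hwQ) (D.out_sq_even h) D.z_order
      exact D.out_not_mem i (h1 ▸ Subgroup.zpow_mem_zpowers D.x _)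
    · exact h
  refine ⟨i, hiodd, hi, hwQ, hcard, (Subgroup.eq_of_le_of_card_ge ?_ ?_).symm⟩
  · exact le_inf (Subgroup.zpowers_le.2 hwQ) (Subgroup.zpowers_le.2 (Subgroup.zpow_mem_zpowers _ _))
  · rw [hint, Nat.card_zpowers, D.w_order]

theorem quaternion_eq [Finite S] {Q : Subgroup S} (e : Q ≃* QuaternionGroup 2) :
    ∃ i : ℤ, Odd i ∧ Q = Subgroup.zpowers D.w ⊔ Subgroup.zpowers (D.x ^ i * D.y) := by
  obtain ⟨i, hi, htQ, hwQ, hcard, -⟩ := D.quaternion_gens e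
  refine ⟨i, hi, (Subgroup.eq_of_le_of_card_ge (sup_le (Subgroup.zpowers_le.2 hwQ)
    (Subgroup.zpowers_le.2 htQ)) ?_).symm⟩
  rw [hcard, D.card_eq_two_mul (Subgroup.mem_sup_right (Subgroup.mem_zpowers _))]
  have := Subgroup.card_dvd_of_le (show Subgroup.zpowers D.w ≤
    (Subgroup.zpowers D.w ⊔ Subgroup.zpowers (D.x ^ i * D.y)) ⊓ Subgroup.zpowers D.x from
      le_inf le_sup_left (Subgroup.zpowers_le.2 (Subgroup.zpow_mem_zpowers _ _)))
  rw [Nat.card_zpowers, D.w_order] at this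
  have := Nat.le_of_dvd Nat.card_pos this
  omega

theorem centralizer_quaternion [Finite S] {Q : Subgroup S} (e : Q ≃* QuaternionGroup 2) {g : S}
    (hg : g ∈ Subgroup.centralizer (Q : Set S)) : g = 1 ∨ g = D.z := by
  obtain ⟨i, -, htQ, hwQ, -, -⟩ := D.quaternion_gens e
  have h1 := (Subgroup.mem_centralizer_iff.1 hg _ htQ).symm
  have h2 := (Subgroup.mem_centralizer_iff.1 hg _ hwQ).symm
  have hno : ∀ j : ℤ, D.x ^ j * D.y * D.w ≠ D.w * (D.x ^ j * D.y) := by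
    intro j h
    rw [w, D.out_mul_pow, ← mul_assoc, ← zpow_add, mul_left_inj, D.zpow_x_eq,
      pow_succ (2 : ℤ) (d + 2), pow_succ (2 : ℤ) (d + 1)] at h
    obtain ⟨c, hc⟩ := h
    simp only [k] at hc
    rw [pow_succ (2 : ℤ) (d + 1)] at hc
    have hz : (2 : ℤ) ^ (d + 1) * (2 ^ (d + 1) * 2 - 2 - 4 * c) = 0 := by linear_combination hc
    rcases mul_eq_zero.1 hz with h | h
    · exact absurd h (by positivity)
    · rw [pow_succ (2 : ℤ) d] at h; omega
  rcases D.mem_commute_out.1 h1 with h | h | h | h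
  · exact .inl h
  · exact .inr h
  · exact absurd (h ▸ h2) (hno i)
  · exfalso
    rw [h, z, ← mul_assoc, ← zpow_add] at h2
    exact hno _ h2

include D in
theorem card_normalizer_quaternion [Finite S] {Q : Subgroup S} (e : Q ≃* QuaternionGroup 2) :
    Nat.card (Subgroup.normalizer (Q : Set S)) = 16 := by
  obtain ⟨i, -, htQ, hwQ, -, hQx⟩ := D.quaternion_gens e
  obtain ⟨i', -, hQeq⟩ := D.quaternion_eq e
  set N := Subgroup.normalizer (Q : Set S)
  rw [D.card_eq_two_mul (Subgroup.le_normalizer htQ : D.x ^ i * D.y ∈ N)]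
  have hmem : ∀ m : ℤ, D.x ^ m * D.y ∈ Q ↔ (2 : ℤ) ^ (d + 1) ∣ m - i := by
    intro m
    have hiff : D.x ^ m * D.y ∈ Q ↔ D.x ^ (m - i) ∈ Q := by
      rw [show D.x ^ m * D.y = D.x ^ (m - i) * (D.x ^ i * D.y) by
        rw [← mul_assoc, ← zpow_add, sub_add_cancel], Subgroup.mul_mem_cancel_right Q htQ]
    rw [hiff, ← D.pow_mem_iff_dvd (e := d + 1) (by omega)]
    exact ⟨fun h => hQx.le ⟨h, Subgroup.zpow_mem_zpowers _ _⟩, fun h => (hQx.ge h).1⟩
  have hwN : ∀ g : S, g * D.w * g⁻¹ ∈ Q := by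
    intro g
    rcases D.cases g with ⟨l, rfl⟩ | ⟨l, rfl⟩
    · rw [w, ← zpow_neg, ← zpow_add, ← zpow_add, add_neg_cancel_comm]; exact hwQ
    · rw [w, D.out_mul_pow, D.inv_out, D.out_mul_out]
      refine (hQx.ge ((D.pow_mem_iff_dvd (by omega)).2 ?_)).1
      obtain ⟨c, hc⟩ := D.kk_modEq
      refine ⟨D.k - 4 * c * l, ?_⟩
      rw [pow_succ (2 : ℤ) (d + 2), pow_succ (2 : ℤ) (d + 1)] at hc
      linear_combination (-l) * hc
  have h : N ⊓ Subgroup.zpowers D.x = Subgroup.zpowers (D.x ^ ((2 : ℤ) ^ d)) := by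
    apply le_antisymm
    · rintro g ⟨hg, l, rfl⟩
      show D.x ^ l ∈ _
      rw [D.pow_mem_iff_dvd (by omega)]
      have hm := (Subgroup.mem_normalizer_iff.1 hg _).1 htQ
      have hm' : D.x ^ l * (D.x ^ i * D.y) * (D.x ^ l)⁻¹ ∈ Q := hm
      rw [D.conj_out, hmem, show i + l * (1 - D.k) - i = l * (1 - D.k) by ring, D.dvd_mul_odd (by omega)] at hm'
      exact hm'
    · rw [Subgroup.zpowers_le]
      refine ⟨?_, Subgroup.zpow_mem_zpowers _ _⟩
      show D.x ^ ((2 : ℤ) ^ d) ∈ N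
      set g := D.x ^ ((2 : ℤ) ^ d) with hg
      have hle : Q.map (MulAut.conj g).toMonoidHom ≤ Q := by
        conv_lhs => rw [hQeq]
        rw [Subgroup.map_sup, MonoidHom.map_zpowers, MonoidHom.map_zpowers]
        refine sup_le (Subgroup.zpowers_le.2 (hwN g)) (Subgroup.zpowers_le.2 ?_)
        have hi' : D.x ^ i' * D.y ∈ Q := by
          rw [hQeq]; exact Subgroup.mem_sup_right (Subgroup.mem_zpowers _)
        show g * (D.x ^ i' * D.y) * g⁻¹ ∈ Q
        rw [hg, D.conj_out, hmem,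
          show i' + 2 ^ d * (1 - D.k) - i = (i' - i) + 2 ^ d * (1 - D.k) by ring]
        exact dvd_add ((hmem i').1 hi') ((D.dvd_mul_odd (by omega)).2 (dvd_refl _))
      have heq : Q.map (MulAut.conj g).toMonoidHom = Q := Subgroup.eq_of_le_of_card_ge hle
        (Subgroup.card_map_of_injective (MulAut.conj g).injective).ge
      rw [Subgroup.mem_normalizer_iff]
      intro a
      constructor
      · exact fun ha => hle ⟨a, ha, rfl⟩
      · intro ha
        rw [← heq] at ha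
        obtain ⟨b, hb, he⟩ := ha
        simp only [MulEquiv.coe_toMonoidHom, MulAut.conj_apply] at he
        rwa [← mul_left_cancel (mul_right_cancel he)]
  rw [h, D.card_zpow_sub (by omega), show d + 3 - d = 3 by omega]
  norm_num

include D in
theorem card_center [Finite S] : Nat.card (Subgroup.center S) = 2 := by
  have h : Subgroup.center S = Subgroup.zpowers D.z := by
    refine le_antisymm (fun g hg => ?_) (Subgroup.zpowers_le.2 D.z_central)
    have h1 := (Subgroup.mem_center_iff.1 hg (D.x ^ (0 : ℤ) * D.y)).symm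
    have h2 := (Subgroup.mem_center_iff.1 hg D.x).symm
    have hnc : ∀ j : ℤ, D.x ^ j * D.y * D.x ≠ D.x * (D.x ^ j * D.y) := by
      intro j h
      have h0 : D.x ^ j * D.y * D.x ^ (1 : ℤ) = D.x ^ (1 : ℤ) * (D.x ^ j * D.y) := by simpa using h
      rw [D.out_mul_pow, ← mul_assoc, ← zpow_add, mul_left_inj, D.zpow_x_eq] at h0
      obtain ⟨c, hc⟩ := h0
      simp only [k] at hc
      rw [pow_succ (2 : ℤ) (d + 2), pow_succ (2 : ℤ) (d + 1), pow_succ (2 : ℤ) d] at hc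
      have h2' : (2 : ℤ) * ((2 : ℤ) ^ d * (2 - 4 * c) - 1) = 0 := by linear_combination hc
      have : (2 : ℤ) ^ d * (2 - 4 * c) = 2 * (2 ^ d * (1 - 2 * c)) := by ring
      omega
    rcases D.mem_commute_out.1 h1 with h | h | h | h
    · rw [h]; exact one_mem _
    · rw [h]; exact Subgroup.mem_zpowers _
    · exact absurd (h ▸ h2) (hnc 0)
    · rw [h, z, ← mul_assoc, ← zpow_add] at h2
      exact absurd h2 (hnc _)
  rw [h, Nat.card_zpowers, D.z_order]

theorem frattini_eq [Finite S] : frattini S = Subgroup.zpowers (D.x ^ (2 : ℤ)) := by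
  refine le_antisymm ?_ (Subgroup.zpowers_le.2 ?_)
  · intro g hg
    have h1 := frattini_le_coatom (coatom_of_index_two D.index_zpowers_x) hg
    obtain ⟨i, rfl⟩ := h1
    have h2 := frattini_le_coatom (coatom_of_index_two (D.index_outSub 0)) hg
    rcases (D.mem_outSub_iff 0).1 h2 with ⟨j, hj, he⟩ | ⟨j, -, he⟩
    · show D.x ^ i ∈ _
      rw [show D.x ^ i = D.x ^ j from he]; exact D.mem_sq_iff.2 hj
    · exact absurd (show D.x ^ j * D.y ∈ Subgroup.zpowers D.x from he ▸ Subgroup.zpow_mem_zpowers D.x i)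
        (D.out_not_mem j)
  · simp only [frattini, Order.radical, Subgroup.mem_iInf]
    intro M hM
    rw [zpow_two]
    exact Subgroup.mul_self_mem_of_index_two (D.sq_mem_coatom hM) _

end CfsgLib.Inv.QDData
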