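import Cfsg.Agent.Inv.CharPLocal
import Cfsg.Agent.Inv.WeakClosed
import Cfsg.Agent.Inv.Spe
import Cfsg.Agent.S2844
import Cfsg.Agent.Perm.MinClass
import Mathlib.Tactic

/-! Weakly closed and large subgroups: the centralizer of `O_p` of an overgroup. -/

set_option autoImplicit false
set_option linter.style.haveILetI false

namespace CfsgLib.Inv

open Cfsg
open scoped commutatorElement

variable {G : Type*} [Group G] [Finite G] {p : ℕ} [hp : Fact p.Prime]

theorem le_pCoreOf {X M : Subgroup G} (hXM : X ≤ M) (hX : IsPGroup p X)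
    (hn : M ≤ Subgroup.normalizer (X : Set G)) : X ≤ pCoreOf p M := by
  haveI : (X.subgroupOf M).Normal := (Subgroup.normal_subgroupOf_iff_le_normalizer hXM).2 hn
  intro x hx
  exact Subgroup.mem_map.2 ⟨⟨x, hXM hx⟩,
    CfsgLib.Solv.le_pCore (G := ↥M) (N := X.subgroupOf M) hX.comap_subtype hx, rfl⟩

theorem le_normalizer_pCoreOf (M : Subgroup G) : M ≤ Subgroup.normalizer (pCoreOf p M : Set G) := by
  haveI := CfsgLib.Solv.pCore_normal ↥M p
  refine le_trans ?_ (Subgroup.le_normalizer_map M.subtype)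
  rw [Subgroup.normalizer_eq_top, ← MonoidHom.range_eq_map, Subgroup.range_subtype]

theorem pCoreOf_pgroup (M : Subgroup G) : IsPGroup p (pCoreOf p M) :=
  (CfsgLib.Solv.pCore_isPGroup ↥M p).map _

theorem pCoreOf_le_self (M : Subgroup G) : pCoreOf p M ≤ M := Subgroup.map_subtype_le _

/-- Two-step stability: a `p'`-element centralizes. -/
theorem kill_two {W B : Subgroup G} (hW : IsPGroup p W) {x : G} (hx : (orderOf x).Coprime p)
    (hxW : x ∈ Subgroup.normalizer (W : Set G)) (h1 : ∀ w ∈ W, ∀ i : ℤ, ⁅w, x ^ i⁆ ∈ B)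
    (h2 : ∀ b ∈ B, b * x = x * b) : x ∈ Subgroup.centralizer (W : Set G) := by
  refine kill_of_nilpotent hW hx hxW (n := 2) ?_
  show ⁅⁅W, Subgroup.zpowers x⁆, Subgroup.zpowers x⁆ = ⊥
  have hB : ⁅W, Subgroup.zpowers x⁆ ≤ B := by
    rw [Subgroup.commutator_le]
    rintro w hw _ ⟨i, rfl⟩
    exact h1 w hw i
  rw [eq_bot_iff]
  refine (Subgroup.commutator_mono hB le_rfl).trans ?_
  rw [Subgroup.commutator_le]
  rintro b hb _ ⟨i, rfl⟩
  rw [Subgroup.mem_bot, commutatorElement_eq_one_iff_mul_comm]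
  exact ((show Commute b x from h2 b hb).zpow_right i).eq

theorem eq_one_of_centralizer_pCore {K : Subgroup G}
    (hK : Subgroup.centralizer (pCore p ↥K : Set ↥K) ≤ pCore p ↥K) {x : G} (hxK : x ∈ K)
    (hx : (orderOf x).Coprime p) (hxR : x ∈ Subgroup.centralizer (pCoreOf p K : Set G)) : x = 1 := by
  refine eq_one_of_coprime_mem (pCoreOf_pgroup (p := p) K) ?_ hx
  refine Subgroup.mem_map.2 ⟨⟨x, hxK⟩, hK (Subgroup.mem_centralizer_iff.2 fun r hr => Subtype.ext ?_), rfl⟩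
  exact Subgroup.mem_centralizer_iff.1 hxR r (Subgroup.mem_map.2 ⟨r, hr, rfl⟩)

/-- Inside a `p`-characteristic `K ≥ M ≥ Q`, `C_K(O_p(M))` is a `p`-group normalizing `Q`. -/
theorem wc_kill_in {Q K M : Subgroup G} (hQp : IsPGroup p Q) (hwc : IsWeaklyClosedSubgroup p Q)
    (hCQ : Subgroup.centralizer (Q : Set G) ≤ Q)
    (hK : Subgroup.centralizer (pCore p ↥K : Set ↥K) ≤ pCore p ↥K) (hQM : Q ≤ M) (hMK : M ≤ K) :
    K ⊓ Subgroup.centralizer (pCoreOf p M : Set G) ≤ Subgroup.normalizer (Q : Set G) ∧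
      IsPGroup p ↥(K ⊓ Subgroup.centralizer (pCoreOf p M : Set G)) := by
  set R := pCoreOf p K with hR
  set W := pCoreOf p M with hW
  have hKR : K ≤ Subgroup.normalizer (R : Set G) := le_normalizer_pCoreOf K
  have hRQ : R ≤ Subgroup.normalizer (Q : Set G) :=
    le_sup_left.trans (wc_le_normalizer hwc
      ((pCoreOf_pgroup (p := p) K).to_sup_of_normal_left' hQp ((hQM.trans hMK).trans hKR)) le_sup_right)
  set B := R ⊓ Q with hB
  have hBW : B ≤ W := by
    refine le_trans (le_inf inf_le_left (inf_le_right.trans hQM)) (le_pCoreOf (X := R ⊓ M) inf_le_right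
      ((pCoreOf_pgroup K).to_le inf_le_left) ?_)
    exact CfsgLib.Solv.le_normalizer_inf_of_le (hMK.trans hKR) Subgroup.le_normalizer
  have hRB : ∀ r ∈ R, ∀ b ∈ B, r * b * r⁻¹ ∈ B := fun r hr b hb => by
    obtain ⟨h1, h2⟩ := Subgroup.mem_inf.1 hb
    exact Subgroup.mem_inf.2 ⟨mul_mem (mul_mem hr h1) (inv_mem hr), (Subgroup.mem_normalizer_iff.1 (hRQ hr) b).1 h2⟩
  have hQB : ∀ q ∈ Q, ∀ b ∈ B, q * b * q⁻¹ ∈ B := fun q hq b hb => by
    obtain ⟨h1, h2⟩ := Subgroup.mem_inf.1 hb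
    exact Subgroup.mem_inf.2 ⟨(Subgroup.mem_normalizer_iff.1 (hKR (hMK (hQM hq))) b).1 h1,
      mul_mem (mul_mem hq h2) (inv_mem hq)⟩
  have hRq : ∀ r ∈ R, ∀ q ∈ Q, ⁅r, q⁆ ∈ B := fun r hr q hq => by
    refine Subgroup.mem_inf.2 ⟨?_, ?_⟩
    · have := mul_mem hr ((Subgroup.mem_normalizer_iff.1 (hKR (hMK (hQM hq))) _).1 (inv_mem hr))
      simpa [commutatorElement_def, mul_assoc] using this
    · have := mul_mem ((Subgroup.mem_normalizer_iff.1 (hRQ hr) q).1 hq) (inv_mem hq)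
      simpa [commutatorElement_def] using this
  let A : Subgroup G :=
    { carrier := {k | k ∈ K ∧ (∀ b ∈ B, k * b * k⁻¹ = b) ∧ ∀ r ∈ R, ⁅r, k⁆ ∈ B}
      mul_mem' := fun {k l} hk hl => ⟨mul_mem hk.1 hl.1, fun b hb => by
          rw [show k * l * b * (k * l)⁻¹ = k * (l * b * l⁻¹) * k⁻¹ by group, hl.2.1 b hb, hk.2.1 b hb],
        fun r hr => by
          rw [show ⁅r, k * l⁆ = ⁅r, k⁆ * (k * ⁅r, l⁆ * k⁻¹) by simp only [commutatorElement_def]; group,
            hk.2.1 _ (hl.2.2 r hr)]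
          exact mul_mem (hk.2.2 r hr) (hl.2.2 r hr)⟩
      one_mem' := ⟨one_mem _, fun b _ => by simp, fun r _ => by simp⟩
      inv_mem' := fun {k} hk => ⟨inv_mem hk.1, fun b hb => by
          conv_lhs => rw [← hk.2.1 b hb]
          group,
        fun r hr => by
          have h := hk.2.1 _ (inv_mem (hk.2.2 r hr))
          rw [show ⁅r, k⁻¹⁆ = k⁻¹ * ⁅r, k⁆⁻¹ * k by simp only [commutatorElement_def]; group,
            show k⁻¹ * ⁅r, k⁆⁻¹ * k = ⁅r, k⁆⁻¹ by
              calc k⁻¹ * ⁅r, k⁆⁻¹ * k = k⁻¹ * (k * ⁅r, k⁆⁻¹ * k⁻¹) * k := by rw [h]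
                _ = _ := by group]
          exact inv_mem (hk.2.2 r hr)⟩ }
  have hAp : IsPGroup p A := isPGroup_of_elements fun k hk hko =>
    eq_one_of_centralizer_pCore hK hk.1 hko (kill_two (pCoreOf_pgroup K) hko (hKR hk.1)
      (fun r hr i => ((zpow_mem hk i : k ^ i ∈ A)).2.2 r hr)
      (fun b hb => ((mul_inv_eq_iff_eq_mul).1 (hk.2.1 b hb)).symm))
  have hQA : Q ≤ Subgroup.normalizer (A : Set G) := by
    rw [CfsgLib.Solv.le_normalizer_iff_forall_conj_mem]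
    intro q hq k hk
    have hqK := hMK (hQM hq)
    refine ⟨mul_mem (mul_mem hqK hk.1) (inv_mem hqK), fun b hb => ?_, fun r hr => ?_⟩
    · have hb' := hQB q⁻¹ (inv_mem hq) b hb
      rw [inv_inv] at hb'
      calc q * k * q⁻¹ * b * (q * k * q⁻¹)⁻¹ = q * (k * (q⁻¹ * b * q) * k⁻¹) * q⁻¹ := by group
        _ = b := by rw [hk.2.1 _ hb']; group
    · have hr' := (Subgroup.mem_normalizer_iff.1 (hKR (inv_mem hqK)) r).1 hr
      rw [inv_inv] at hr'
      rw [show ⁅r, q * k * q⁻¹⁆ = q * ⁅q⁻¹ * r * q, k⁆ * q⁻¹ by simp only [commutatorElement_def]; group]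
      exact hQB q hq _ (hk.2.2 _ hr')
  have hN : K ⊓ Subgroup.centralizer (W : Set G) ≤ Subgroup.normalizer (Q : Set G) := by
    intro x hx
    obtain ⟨hxK, hxW⟩ := Subgroup.mem_inf.1 hx
    have hxB : ∀ b ∈ B, x * b * x⁻¹ = b := fun b hb => by
      rw [← Subgroup.mem_centralizer_iff.1 hxW b (hBW hb), mul_inv_cancel_right]
    refine CfsgLib.Solv.mem_normalizer_of_conj_smul_eq ?_
    rw [CfsgLib.Solv.conj_smul_eq_map]
    refine wc_any hwc (hQp.to_sup_of_normal_right' hAp hQA) le_sup_left ?_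
    rintro _ ⟨q, hq, rfl⟩
    have hqK := hMK (hQM hq)
    have hy : q⁻¹ * (x * q * x⁻¹) ∈ A := by
      refine ⟨mul_mem (inv_mem hqK) (mul_mem (mul_mem hxK hqK) (inv_mem hxK)), fun b hb => ?_, fun r hr => ?_⟩
      · have hxB' : x⁻¹ * b * x = b := by
          conv_lhs => rw [← hxB b hb]
          group
        calc q⁻¹ * (x * q * x⁻¹) * b * (q⁻¹ * (x * q * x⁻¹))⁻¹
            = q⁻¹ * (x * (q * (x⁻¹ * b * x) * q⁻¹) * x⁻¹) * q := by group
          _ = b := by rw [hxB', hxB _ (hQB q hq b hb)]; group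
      · have hr' := (Subgroup.mem_normalizer_iff.1 (hKR (inv_mem hxK)) r).1 hr
        rw [inv_inv] at hr'
        have e1 : ⁅r, x * q * x⁻¹⁆ ∈ B := by
          rw [show ⁅r, x * q * x⁻¹⁆ = x * ⁅x⁻¹ * r * x, q⁆ * x⁻¹ by simp only [commutatorElement_def]; group,
            hxB _ (hRq _ hr' q hq)]
          exact hRq _ hr' q hq
        rw [show ⁅r, q⁻¹ * (x * q * x⁻¹)⁆ = ⁅r, q⁻¹⁆ * (q⁻¹ * ⁅r, x * q * x⁻¹⁆ * q⁻¹⁻¹) by
          simp only [commutatorElement_def]; group]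
        exact mul_mem (hRq r hr _ (inv_mem hq)) (hQB _ (inv_mem hq) _ e1)
    have := mul_mem (Subgroup.mem_sup_left (T := A) hq) (Subgroup.mem_sup_right (S := Q) hy)
    simpa [mul_assoc] using this
  refine ⟨hN, isPGroup_of_elements fun x hx hxo => ?_⟩
  obtain ⟨hxK, hxW⟩ := Subgroup.mem_inf.1 hx
  have hE : Q ⊓ (M ⊓ Subgroup.centralizer (W : Set G)) ≤ W := by
    have hMC : M ≤ Subgroup.normalizer ((M ⊓ Subgroup.centralizer (W : Set G) : Subgroup G) : Set G) := by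
      rw [CfsgLib.Solv.le_normalizer_iff_forall_conj_mem]
      intro m hm c hc
      obtain ⟨hcM, hcW⟩ := Subgroup.mem_inf.1 hc
      refine Subgroup.mem_inf.2 ⟨mul_mem (mul_mem hm hcM) (inv_mem hm), Subgroup.mem_centralizer_iff.2 fun w hw => ?_⟩
      have hw' := (Subgroup.mem_normalizer_iff.1 (le_normalizer_pCoreOf (p := p) M (inv_mem hm)) w).1 hw
      rw [inv_inv] at hw'
      have h1 := Subgroup.mem_centralizer_iff.1 hcW _ hw'
      calc w * (m * c * m⁻¹) = m * (m⁻¹ * w * m * c) * m⁻¹ := by group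
        _ = m * (c * (m⁻¹ * w * m)) * m⁻¹ := by rw [h1]
        _ = _ := by group
    refine (le_pCoreOf inf_le_right (hQp.to_le inf_le_left) ?_).trans (pCoreOf_le inf_le_left hMC)
    exact CfsgLib.Solv.le_normalizer_inf_of_le ((inf_le_inf_right _ hMK).trans hN) Subgroup.le_normalizer
  refine eq_one_of_coprime_mem hQp (hCQ ?_) hxo
  refine kill_two (B := W) hQp hxo (hN hx) (fun q hq i => hE ?_) (fun b hb => Subgroup.mem_centralizer_iff.1 hxW b hb)
  have hxi := zpow_mem hx i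
  obtain ⟨-, hxiW⟩ := Subgroup.mem_inf.1 hxi
  have h1 : ⁅q, x ^ i⁆ ∈ Q := by
    have := mul_mem hq ((Subgroup.mem_normalizer_iff.1 (hN hxi) _).1 (inv_mem hq))
    simpa [commutatorElement_def, mul_assoc] using this
  refine Subgroup.mem_inf.2 ⟨h1, Subgroup.mem_inf.2 ⟨hQM h1, ?_⟩⟩
  rw [commutatorElement_def]
  refine mul_mem (Subgroup.mem_centralizer_iff.2 fun w hw => ?_) (inv_mem hxiW)
  have hw' := (Subgroup.mem_normalizer_iff.1 (le_normalizer_pCoreOf (p := p) M (inv_mem (hQM hq))) w).1 hw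
  rw [inv_inv] at hw'
  have h2 := Subgroup.mem_centralizer_iff.1 hxiW _ hw'
  calc w * (q * x ^ i * q⁻¹) = q * (q⁻¹ * w * q * x ^ i) * q⁻¹ := by group
    _ = q * (x ^ i * (q⁻¹ * w * q)) * q⁻¹ := by rw [h2]
    _ = _ := by group

theorem comm_mem_right {N : Subgroup G} {a b : G} (hb : b ∈ N) (ha : a ∈ Subgroup.normalizer (N : Set G)) :
    ⁅a, b⁆ ∈ N := by
  rw [commutatorElement_def]
  exact mul_mem ((Subgroup.mem_normalizer_iff.1 ha b).1 hb) (inv_mem hb)

theorem comm_mem_left {N : Subgroup G} {a b : G} (ha : a ∈ N) (hb : b ∈ Subgroup.normalizer (N : Set G)) :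
    ⁅a, b⁆ ∈ N := by
  rw [show ⁅a, b⁆ = a * (b * a⁻¹ * b⁻¹) by simp only [commutatorElement_def]; group]
  exact mul_mem ha ((Subgroup.mem_normalizer_iff.1 hb _).1 (inv_mem ha))

/-- The structure of `C(O_p(L))` for `L ≥ Q` when it lies in a subgroup of characteristic `p`. -/
theorem wc_centralizer_main {Q K L : Subgroup G} (hQp : IsPGroup p Q) (hwc : IsWeaklyClosedSubgroup p Q)
    (hCQ : Subgroup.centralizer (Q : Set G) ≤ Q)
    (hK : Subgroup.centralizer (pCore p ↥K : Set ↥K) ≤ pCore p ↥K) (hQL : Q ≤ L) (hQK : Q ≤ K)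
    (hDK : Subgroup.centralizer (pCoreOf p L : Set G) ≤ K) :
    ⁅Q, Subgroup.centralizer (pCoreOf p L : Set G)⁆ ≤ Q ⊓ pCoreOf p L ∧
      IsPGroup p ↥(Subgroup.centralizer (pCoreOf p L : Set G)) ∧
      Subgroup.centralizer (pCore p ↥L : Set ↥L) ≤ pCore p ↥L ∧
      L ⊓ Subgroup.centralizer (pCoreOf p L : Set G) ≤ pCoreOf p L := by
  set P := pCoreOf p L with hP
  set D := Subgroup.centralizer (P : Set G) with hD
  have hLD : L ≤ Subgroup.normalizer (D : Set G) := by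
    rw [CfsgLib.Solv.le_normalizer_iff_forall_conj_mem]
    intro m hm c hc
    refine Subgroup.mem_centralizer_iff.2 fun w hw => ?_
    have hw' := (Subgroup.mem_normalizer_iff.1 (le_normalizer_pCoreOf (p := p) L (inv_mem hm)) w).1 hw
    rw [inv_inv] at hw'
    have h1 := Subgroup.mem_centralizer_iff.1 hc _ hw'
    calc w * (m * c * m⁻¹) = m * (m⁻¹ * w * m * c) * m⁻¹ := by group
      _ = m * (c * (m⁻¹ * w * m)) * m⁻¹ := by rw [h1]
      _ = _ := by group
  set C := L ⊓ D with hCdef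
  have hLC : L ≤ Subgroup.normalizer (C : Set G) :=
    CfsgLib.Solv.le_normalizer_inf_of_le Subgroup.le_normalizer hLD
  have hCp : IsPGroup p C := by
    refine isPGroup_of_elements fun c hc hco => ?_
    set M := Q ⊔ C with hM
    have hCW : c ∈ Subgroup.centralizer (pCoreOf p M : Set G) := by
      have hcM : c ∈ M := Subgroup.mem_sup_right hc
      have hMC : M ≤ Subgroup.normalizer (C : Set G) := sup_le (hQL.trans hLC) Subgroup.le_normalizer
      refine kill_two (B := pCoreOf p M ⊓ C) (pCoreOf_pgroup M) hco (le_normalizer_pCoreOf M hcM)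
        (fun w hw i => Subgroup.mem_inf.2 ⟨comm_mem_left hw (le_normalizer_pCoreOf M (zpow_mem hcM i)),
          comm_mem_right (zpow_mem hc i) (hMC (pCoreOf_le_self M hw))⟩) fun b hb => ?_
      have h1 : b ∈ pCoreOf p C := le_pCoreOf inf_le_right ((pCoreOf_pgroup M).to_le inf_le_left)
        (CfsgLib.Solv.le_normalizer_inf_of_le ((show C ≤ M from le_sup_right).trans (le_normalizer_pCoreOf M))
          Subgroup.le_normalizer) hb
      exact Subgroup.mem_centralizer_iff.1 (Subgroup.mem_inf.1 hc).2 b (pCoreOf_le inf_le_left hLC h1)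
    have hMK : M ≤ K := sup_le hQK (inf_le_right.trans hDK)
    exact eq_one_of_coprime_mem (wc_kill_in hQp hwc hCQ hK le_sup_left hMK).2
      (Subgroup.mem_inf.2 ⟨hMK (Subgroup.mem_sup_right hc), hCW⟩) hco
  have hCP : C ≤ P := le_pCoreOf inf_le_left hCp hLC
  have hchar : Subgroup.centralizer (pCore p ↥L : Set ↥L) ≤ pCore p ↥L := by
    intro x hx
    have h1 : (x : G) ∈ C := Subgroup.mem_inf.2 ⟨x.2, Subgroup.mem_centralizer_iff.2 (by
      rintro _ ⟨w, hw, rfl⟩; exact congrArg Subtype.val (Subgroup.mem_centralizer_iff.1 hx w hw))⟩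
    obtain ⟨w, hw, hwe⟩ := hCP h1
    exact Subtype.ext hwe ▸ hw
  set M := Q ⊔ D with hM
  have hMK : M ≤ K := sup_le hQK hDK
  have hMD : M ≤ Subgroup.normalizer (D : Set G) := sup_le (hQL.trans hLD) Subgroup.le_normalizer
  set W := pCoreOf p M with hW
  set O := W ⊓ D with hO
  have hMO : M ≤ Subgroup.normalizer (O : Set G) :=
    CfsgLib.Solv.le_normalizer_inf_of_le (le_normalizer_pCoreOf M) hMD
  set B := Q ⊓ D with hBdef
  have hBP : B ≤ P := (le_inf (inf_le_left.trans hQL) inf_le_right).trans hCP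
  have hWQ : W ≤ Subgroup.normalizer (Q : Set G) := le_sup_left.trans (wc_le_normalizer hwc
      ((pCoreOf_pgroup (p := p) M).to_sup_of_normal_left' hQp
        (le_sup_left.trans (le_normalizer_pCoreOf M))) le_sup_right)
  have hDB : ∀ d ∈ D, ∀ b ∈ B, d * b * d⁻¹ = b := fun d hd b hb => by
    rw [← Subgroup.mem_centralizer_iff.1 hd b (hBP hb), mul_inv_cancel_right]
  let A : Subgroup G :=
    { carrier := {k | k ∈ D ∧ ∀ o ∈ O, ⁅o, k⁆ ∈ B}
      mul_mem' := fun {k l} hk hl => ⟨mul_mem hk.1 hl.1, fun o ho => by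
          rw [show ⁅o, k * l⁆ = ⁅o, k⁆ * (k * ⁅o, l⁆ * k⁻¹) by simp only [commutatorElement_def]; group,
            hDB k hk.1 _ (hl.2 o ho)]
          exact mul_mem (hk.2 o ho) (hl.2 o ho)⟩
      one_mem' := ⟨one_mem _, fun o _ => by simp⟩
      inv_mem' := fun {k} hk => ⟨inv_mem hk.1, fun o ho => by
          rw [show ⁅o, k⁻¹⁆ = k⁻¹ * ⁅o, k⁆⁻¹ * k⁻¹⁻¹ by simp only [commutatorElement_def]; group,
            hDB _ (inv_mem hk.1) _ (inv_mem (hk.2 o ho))]
          exact inv_mem (hk.2 o ho)⟩ }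
  have hAp : IsPGroup p A := isPGroup_of_elements fun k hk hko => by
    have hkM : k ∈ M := Subgroup.mem_sup_right hk.1
    have h1 : k ∈ Subgroup.centralizer (O : Set G) :=
      kill_two ((pCoreOf_pgroup M).to_le inf_le_left) hko (hMO hkM)
        (fun o ho i => (zpow_mem hk i : k ^ i ∈ A).2 o ho)
        (fun b hb => Subgroup.mem_centralizer_iff.1 hk.1 b (hBP hb))
    have h2 : k ∈ Subgroup.centralizer (W : Set G) :=
      kill_two (B := O) (pCoreOf_pgroup M) hko (le_normalizer_pCoreOf M hkM)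
        (fun w hw i => Subgroup.mem_inf.2 ⟨comm_mem_left hw (le_normalizer_pCoreOf M (zpow_mem hkM i)),
          comm_mem_right (zpow_mem hk.1 i) (hMD (pCoreOf_le_self M hw))⟩)
        (fun b hb => Subgroup.mem_centralizer_iff.1 h1 b hb)
    exact eq_one_of_coprime_mem (wc_kill_in hQp hwc hCQ hK le_sup_left hMK).2
      (Subgroup.mem_inf.2 ⟨hMK hkM, h2⟩) hko
  have hOq : ∀ o ∈ O, ∀ q ∈ Q, ⁅o, q⁆ ∈ B := fun o ho q hq =>
    Subgroup.mem_inf.2 ⟨comm_mem_right hq (hWQ (Subgroup.mem_inf.1 ho).1),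
      comm_mem_left (Subgroup.mem_inf.1 ho).2 (hLD (hQL hq))⟩
  have hQB : ∀ q ∈ Q, ∀ b ∈ B, q * b * q⁻¹ ∈ B := fun q hq b hb =>
    Subgroup.mem_inf.2 ⟨mul_mem (mul_mem hq (Subgroup.mem_inf.1 hb).1) (inv_mem hq),
      (Subgroup.mem_normalizer_iff.1 (hLD (hQL hq)) b).1 (Subgroup.mem_inf.1 hb).2⟩
  have hQA : Q ≤ Subgroup.normalizer (A : Set G) := by
    rw [CfsgLib.Solv.le_normalizer_iff_forall_conj_mem]
    intro q hq k hk
    refine ⟨(Subgroup.mem_normalizer_iff.1 (hLD (hQL hq)) k).1 hk.1, fun o ho => ?_⟩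
    have ho' := (Subgroup.mem_normalizer_iff.1 (hMO (Subgroup.mem_sup_left (inv_mem hq))) o).1 ho
    rw [inv_inv] at ho'
    rw [show ⁅o, q * k * q⁻¹⁆ = q * ⁅q⁻¹ * o * q, k⁆ * q⁻¹ by simp only [commutatorElement_def]; group]
    exact hQB q hq _ (hk.2 _ ho')
  have hDQ : D ≤ Subgroup.normalizer (Q : Set G) := by
    intro d hd
    refine CfsgLib.Solv.mem_normalizer_of_conj_smul_eq ?_
    rw [CfsgLib.Solv.conj_smul_eq_map]
    refine wc_any hwc (hQp.to_sup_of_normal_right' hAp hQA) le_sup_left ?_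
    rintro _ ⟨q, hq, rfl⟩
    have hy : q⁻¹ * (d * q * d⁻¹) ∈ A := by
      refine ⟨?_, fun o ho => ?_⟩
      · have := mul_mem ((Subgroup.mem_normalizer_iff.1 (hLD (hQL (inv_mem hq))) d).1 hd) (inv_mem hd)
        simpa [mul_assoc] using this
      · have ho' := (Subgroup.mem_normalizer_iff.1 (hMO (Subgroup.mem_sup_right (inv_mem hd))) o).1 ho
        rw [inv_inv] at ho'
        have e1 : ⁅o, d * q * d⁻¹⁆ ∈ B := by
          rw [show ⁅o, d * q * d⁻¹⁆ = d * ⁅d⁻¹ * o * d, q⁆ * d⁻¹ by simp only [commutatorElement_def]; group,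
            hDB d hd _ (hOq _ ho' q hq)]
          exact hOq _ ho' q hq
        rw [show ⁅o, q⁻¹ * (d * q * d⁻¹)⁆ = ⁅o, q⁻¹⁆ * (q⁻¹ * ⁅o, d * q * d⁻¹⁆ * q⁻¹⁻¹) by
          simp only [commutatorElement_def]; group]
        exact mul_mem (hOq o ho _ (inv_mem hq)) (hQB _ (inv_mem hq) _ e1)
    have := mul_mem (Subgroup.mem_sup_left (T := A) hq) (Subgroup.mem_sup_right (S := Q) hy)
    simpa [mul_assoc] using this
  have hQD : ∀ q ∈ Q, ∀ d ∈ D, ⁅q, d⁆ ∈ B := fun q hq d hd =>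
    Subgroup.mem_inf.2 ⟨comm_mem_left hq (hDQ hd), comm_mem_right hd (hLD (hQL hq))⟩
  refine ⟨?_, isPGroup_of_elements fun x hx hxo => ?_, hchar, hCP⟩
  · rw [Subgroup.commutator_le]
    intro q hq d hd
    exact Subgroup.mem_inf.2 ⟨(Subgroup.mem_inf.1 (hQD q hq d hd)).1, hBP (hQD q hq d hd)⟩
  · refine eq_one_of_coprime_mem hQp (hCQ ?_) hxo
    exact kill_two hQp hxo (hDQ hx) (fun q hq i => hQD q hq _ (zpow_mem hx i))
      fun b hb => Subgroup.mem_centralizer_iff.1 hx b (hBP hb)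

theorem large_wc {Q : Subgroup G} (hQp : IsPGroup p Q) (hQ1 : Q ≠ ⊥) (hL : IsLarge Q) :
    IsWeaklyClosedSubgroup p Q := by
  obtain ⟨S, hS⟩ := hQp.exists_le_sylow
  refine ⟨S, hS, fun g hg => ?_⟩
  by_contra hne
  have hgN : g ∉ Subgroup.normalizer (Q : Set G) := fun h => hne (by
    rw [← CfsgLib.Solv.conj_smul_eq_map]; exact CfsgLib.Solv.conj_smul_eq_self_of_mem_normalizer h)
  have h0 := ((Cfsg.Agent.S2844.result Q hQp hQ1 hL _ rfl).1 g hgN).1
  haveI : Nontrivial ↥(S : Subgroup G) :=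
    (Subgroup.nontrivial_iff_ne_bot _).2 fun e => hQ1 (le_bot_iff.1 (hS.trans e.le))
  haveI := S.2.center_nontrivial
  obtain ⟨⟨z, hzc⟩, hz1⟩ := exists_ne (1 : Subgroup.center ↥(S : Subgroup G))
  have hzm : ∀ X : Subgroup G, X ≤ (S : Subgroup G) → (z : G) ∈ Subgroup.centralizer (X : Set G) := fun X hX =>
    Subgroup.mem_centralizer_iff.2 fun s hs => congrArg Subtype.val (Subgroup.mem_center_iff.1 hzc ⟨s, hX hs⟩)
  have hmem := Subgroup.mem_inf.2 ⟨hzm Q hS, hzm _ hg⟩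
  rw [h0, Subgroup.mem_bot] at hmem
  exact hz1 (Subtype.ext (Subtype.ext hmem))

theorem large_conj {Q : Subgroup G} (hL : IsLarge Q) (g : G) :
    IsLarge (Q.map (MulAut.conj g).toMonoidHom) := by
  have hc : ∀ x : G, x ∈ Subgroup.centralizer ((Q.map (MulAut.conj g).toMonoidHom : Subgroup G) : Set G) →
      g⁻¹ * x * g ∈ Subgroup.centralizer (Q : Set G) := fun x hx => Subgroup.mem_centralizer_iff.2 fun q hq => by
    have h1 := Subgroup.mem_centralizer_iff.1 hx (g * q * g⁻¹) ⟨q, hq, by simp⟩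
    calc q * (g⁻¹ * x * g) = g⁻¹ * (g * q * g⁻¹ * x) * g := by group
      _ = g⁻¹ * (x * (g * q * g⁻¹)) * g := by rw [h1]
      _ = _ := by group
  refine ⟨fun x hx => Subgroup.mem_map.2 ⟨_, hL.1 (hc x hx), by simp [mul_assoc]⟩, fun U hU hU1 n hn => ?_⟩
  set U' := U.map (MulAut.conj g⁻¹).toMonoidHom with hU'
  have hU'c : U' ≤ Subgroup.centralizer (Q : Set G) := by
    rintro _ ⟨u, hu, rfl⟩; simpa using hc u (hU hu)
  have hU'1 : U' ≠ ⊥ := fun h => hU1 ((Subgroup.map_eq_bot_iff_of_injective _ (MulAut.conj g⁻¹).injective).1 h)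
  have hn' : g⁻¹ * n * g ∈ Subgroup.normalizer (U' : Set G) := by
    have h := Subgroup.le_normalizer_map (MulAut.conj g⁻¹).toMonoidHom (Subgroup.mem_map_of_mem _ hn)
    have e : (MulAut.conj g⁻¹).toMonoidHom n = g⁻¹ * n * g := by simp
    rwa [e] at h
  have h2 := hL.2 U' hU'c hU'1 hn'
  have h := Subgroup.le_normalizer_map (MulAut.conj g).toMonoidHom (Subgroup.mem_map_of_mem _ h2)
  have e : (MulAut.conj g).toMonoidHom (g⁻¹ * n * g) = n := by simp [mul_assoc]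
  rwa [e] at h

/-- A nontrivial `p`-group normalized by a large `Q` has its centralizer in some `C(y) ≤ N(Q)` of characteristic `p`. -/
theorem large_y {Q Y : Subgroup G} (hQp : IsPGroup p Q) (hL : IsLarge Q) (hY : IsPGroup p Y) (hY1 : Y ≠ ⊥)
    (hQY : Q ≤ Subgroup.normalizer (Y : Set G)) :
    ∃ y : G, y ≠ 1 ∧ y ∈ Y ⊓ Subgroup.centralizer (Q : Set G) ∧
      Subgroup.centralizer ({y} : Set G) ≤ Subgroup.normalizer (Q : Set G) ∧
      Subgroup.centralizer (pCore p ↥(Subgroup.centralizer ({y} : Set G)) : Set ↥(Subgroup.centralizer ({y} : Set G))) ≤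
        pCore p ↥(Subgroup.centralizer ({y} : Set G)) := by
  have hX : IsPGroup p ↥(Y ⊔ Q) := hY.to_sup_of_normal_left' hQp hQY
  haveI : Nontrivial ↥(Y.subgroupOf (Y ⊔ Q)) := by
    rw [Subgroup.nontrivial_iff_ne_bot]
    intro h
    rw [Subgroup.subgroupOf_eq_bot, disjoint_iff, inf_eq_left.2 le_sup_left] at h
    exact hY1 h
  haveI : (Y.subgroupOf (Y ⊔ Q)).Normal :=
    (Subgroup.normal_subgroupOf_iff_le_normalizer le_sup_left).2 (sup_le Subgroup.le_normalizer hQY)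
  have h0 := CfsgLib.Perm.inf_center_ne_bot hX (Y.subgroupOf (Y ⊔ Q)) ((Subgroup.nontrivial_iff_ne_bot _).1 inferInstance)
  obtain ⟨⟨⟨y, hyX⟩, hy⟩, hy1⟩ := Subgroup.ne_bot_iff_exists_ne_one.1 h0
  obtain ⟨hyY, hyc⟩ := Subgroup.mem_inf.1 hy
  have hy1' : y ≠ 1 := fun h => hy1 (Subtype.ext (Subtype.ext h))
  have hyQ : y ∈ Subgroup.centralizer (Q : Set G) := Subgroup.mem_centralizer_iff.2 fun q hq =>
    congrArg Subtype.val (Subgroup.mem_center_iff.1 hyc ⟨q, Subgroup.mem_sup_right hq⟩)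
  have hN : Subgroup.centralizer ({y} : Set G) ≤ Subgroup.normalizer (Q : Set G) :=
    (centralizer_singleton_le_normalizer y).trans
      (hL.2 _ (Subgroup.zpowers_le.2 hyQ) (Subgroup.zpowers_ne_bot.2 hy1'))
  refine ⟨y, hy1', Subgroup.mem_inf.2 ⟨hyY, hyQ⟩, hN, ?_⟩
  have hQC : Q ≤ Subgroup.centralizer ({y} : Set G) := fun q hq =>
    Subgroup.mem_centralizer_singleton_iff.2 (Subgroup.mem_centralizer_iff.1 hyQ q hq)
  have hle := le_pCoreOf (p := p) hQC hQp hN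
  intro x hx
  have h1 : (x : G) ∈ Subgroup.centralizer (Q : Set G) := Subgroup.mem_centralizer_iff.2 fun q hq => by
    obtain ⟨w, hw, rfl⟩ := hle hq
    exact congrArg Subtype.val (Subgroup.mem_centralizer_iff.1 hx w hw)
  obtain ⟨w, hw, hwe⟩ := hle (hL.1 h1)
  exact Subtype.ext hwe ▸ hw

/-- Overgroups of a large subgroup. -/
theorem large_overgroup {Q L : Subgroup G} (hQp : IsPGroup p Q) (hQ1 : Q ≠ ⊥) (hL : IsLarge Q) (hQL : Q ≤ L)
    (hO : pCore p ↥L ≠ ⊥) :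
    IsPGroup p ↥(Subgroup.centralizer (pCoreOf p L : Set G)) ∧
      Subgroup.centralizer (pCore p ↥L : Set ↥L) ≤ pCore p ↥L ∧
      L ⊓ Subgroup.centralizer (pCoreOf p L : Set G) ≤ pCoreOf p L := by
  have hP1 : pCoreOf p L ≠ ⊥ := fun h =>
    hO ((Subgroup.map_eq_bot_iff_of_injective _ L.subtype_injective).1 h)
  obtain ⟨y, -, hy, -, hK⟩ := large_y hQp hL (pCoreOf_pgroup L) hP1 (hQL.trans (le_normalizer_pCoreOf L))
  obtain ⟨hyP, hyQ⟩ := Subgroup.mem_inf.1 hy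
  exact (wc_centralizer_main hQp (large_wc hQp hQ1 hL) hL.1 hK hQL
    (fun q hq => Subgroup.mem_centralizer_singleton_iff.2 (Subgroup.mem_centralizer_iff.1 hyQ q hq))
    (fun d hd => Subgroup.mem_centralizer_singleton_iff.2 (Subgroup.mem_centralizer_iff.1 hd y hyP).symm)).2

end CfsgLib.Inv
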