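import Cfsg.Agent.Inv.FrakM
import Cfsg.Agent.Inv.LargeSub
import Cfsg.Agent.Inv.PClosed
import Cfsg.Agent.S2845

/-! Consequences of asymmetry of `Y_M`: `O_p(M)` is weakly closed. -/

set_option autoImplicit false
set_option linter.style.haveILetI false

namespace CfsgLib.Inv.AsymWeak

open Cfsg

variable {G : Type*} [Group G] [Finite G] {p : ℕ} [hp : Fact p.Prime]

/-- Standing facts for `M ∈ 𝔐_G(S)` in a group with a large subgroup. -/
structure Std (p : ℕ) (S : Sylow p G) (M : Subgroup G) : Prop where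
  sM : (S : Subgroup G) ≤ M
  mem : IsInFrakM p M
  par : ∀ R : Subgroup G, IsParabolic p R → pCore p ↥R ≠ ⊥ →
    Subgroup.centralizer ((pCoreOf p R : Subgroup G) : Set G) ≤ pCoreOf p R

theorem std_of_large {S : Sylow p G} {Q M : Subgroup G} (hQp : IsPGroup p Q) (hQ1 : Q ≠ ⊥)
    (hQ : IsLarge Q) (hSM : (S : Subgroup G) ≤ M) (hM : IsInFrakM p M) : Std p S M :=
  ⟨hSM, hM, (Cfsg.Agent.S2845.result Q hQp hQ1 hQ).2.1⟩

variable {S : Sylow p G} {M : Subgroup G}

theorem Std.y_le_o (h : Std p S M) : largestPReducedOf p M ≤ pCoreOf p M :=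
  (largestPReducedOf_facts M).1

theorem Std.o_le_cent (h : Std p S M) :
    pCoreOf p M ≤ Subgroup.centralizer (largestPReducedOf p M : Set G) :=
  (largestPReducedOf_facts M).2.1

theorem Std.y_ne_bot (h : Std p S M) : largestPReducedOf p M ≠ ⊥ :=
  FM.largest_ne_bot S h.sM h.mem.1

/-- A parabolic overgroup of `M` with a nontrivial `p`-core lies in `M†`. -/
theorem Std.le_dagger (h : Std p S M) {X V : Subgroup G} (hMX : M ≤ X) (hVX : V ≤ X) (hV1 : V ≠ ⊥)
    (hVp : IsPGroup p V) (hn : X ≤ Subgroup.normalizer (V : Set G)) :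
    X ≤ M ⊔ Subgroup.centralizer (largestPReducedOf p M : Set G) := by
  have hne : pCore p ↥X ≠ ⊥ := by
    intro e
    refine hV1 (le_bot_iff.1 ((le_pCoreOf hVX hVp hn).trans (le_of_eq ?_)))
    show (pCore p ↥X).map X.subtype = ⊥
    rw [e, Subgroup.map_bot]
  have hX : X ∈ charPSubgroups p G := ⟨hne, h.par X ⟨S, h.sM.trans hMX⟩ hne⟩
  obtain ⟨Z, hZ, hZmax⟩ := Set.exists_max_image {Z : Subgroup G | Z ∈ charPSubgroups p G ∧ X ≤ Z}
    (fun Z => Nat.card Z) (Set.toFinite _) ⟨X, hX, le_rfl⟩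
  have hmax : Z ∈ maxCharPSubgroups p G := ⟨hZ.1, fun L hL hle =>
    (Subgroup.eq_of_le_of_card_ge hle (hZmax L ⟨hL, hZ.2.trans hle⟩)).symm⟩
  exact hZ.2.trans (le_of_eq (h.mem.2.2.1 Z hmax (hMX.trans hZ.2)))

theorem Std.dagger_eq (h : Std p S M) :
    Subgroup.normalizer (largestPReducedOf p M : Set G) =
      M ⊔ Subgroup.centralizer (largestPReducedOf p M : Set G) :=
  le_antisymm (h.le_dagger (largestPReducedOf_normal M) Subgroup.le_normalizer h.y_ne_bot
    ((pCoreOf_pgroup M).to_le h.y_le_o) le_rfl)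
    (sup_le (largestPReducedOf_normal M) (Subgroup.centralizer_le_normalizer _))

theorem Std.o_ne_bot (h : Std p S M) : pCoreOf p M ≠ ⊥ := fun e =>
  h.y_ne_bot (le_bot_iff.1 (h.y_le_o.trans e.le))

theorem Std.normalizer_o_le (h : Std p S M) :
    Subgroup.normalizer (pCoreOf p M : Set G) ≤
      Subgroup.normalizer (largestPReducedOf p M : Set G) :=
  (h.le_dagger (le_normalizer_pCoreOf M) Subgroup.le_normalizer h.o_ne_bot (pCoreOf_pgroup M) le_rfl).trans
    h.dagger_eq.ge

theorem Std.sylow_inf_cent (h : Std p S M) :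
    (S : Subgroup G) ⊓ Subgroup.centralizer (largestPReducedOf p M : Set G) ≤ pCoreOf p M := by
  set C := Subgroup.centralizer (largestPReducedOf p M : Set G) with hC
  have hMC : M ≤ Subgroup.normalizer (C : Set G) := FM.centralizer_normal_in (FM.red_largest M).2.1
  have hN : ((M ⊓ C).subgroupOf M).Normal := (Subgroup.normal_subgroupOf_iff_le_normalizer inf_le_left).2 (by
    rw [CfsgLib.Solv.le_normalizer_iff_forall_conj_mem]
    exact fun m hm x hx => Subgroup.mem_inf.2 ⟨mul_mem (mul_mem hm (Subgroup.mem_inf.1 hx).1) (inv_mem hm),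
      (Subgroup.mem_normalizer_iff.1 (hMC hm) x).1 (Subgroup.mem_inf.1 hx).2⟩)
  let e := Subgroup.subgroupOfEquivOfLe (inf_le_left : M ⊓ C ≤ M)
  have hcl : Cfsg.IsPClosed p ↥((M ⊓ C).subgroupOf M) := fun P => by
    have hcl0 : Cfsg.IsPClosed p ↥(M ⊓ C) := h.mem.2.2.2.2.1
    have h1 := (hcl0 (P.mapSurjective (f := e.toMonoidHom) e.surjective)).comap e.toMonoidHom
    rwa [show ((P.mapSurjective (f := e.toMonoidHom) e.surjective : Sylow p ↥(M ⊓ C)) : Subgroup ↥(M ⊓ C)) =
        (P : Subgroup _).map e.toMonoidHom from Sylow.coe_mapSurjective _ P,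
      Subgroup.comap_map_eq_self_of_injective e.injective] at h1
  intro x hx
  have hxM : x ∈ M := h.sM (Subgroup.mem_inf.1 hx).1
  set X := ((S : Subgroup G) ⊓ C).subgroupOf M with hX
  have hXp : IsPGroup p X := (S.isPGroup'.to_le inf_le_left).comap_of_injective _ M.subtype_injective
  obtain ⟨R, hR⟩ := (hXp.comap_of_injective ((M ⊓ C).subgroupOf M).subtype (Subgroup.subtype_injective _)).exists_le_sylow
  have hxN : (⟨x, hxM⟩ : M) ∈ (M ⊓ C).subgroupOf M :=
    Subgroup.mem_subgroupOf.2 (Subgroup.mem_inf.2 ⟨hxM, (Subgroup.mem_inf.1 hx).2⟩)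
  exact ⟨⟨x, hxM⟩, (CfsgLib.Inv.pClosed_iff_le _).1 hcl R
    ⟨⟨_, hxN⟩, hR (show (⟨x, hxM⟩ : M) ∈ X from hx), rfl⟩, rfl⟩

/-- `O_p(M)` is the only Sylow subgroup of `C_G(Y_M)` containing it. -/
theorem Std.cent_max (h : Std p S M) {X : Subgroup G} (hX : IsPGroup p X) (hOX : pCoreOf p M ≤ X)
    (hXC : X ≤ Subgroup.centralizer (largestPReducedOf p M : Set G)) : X ≤ pCoreOf p M := by
  set Y := largestPReducedOf p M with hY
  set N := Subgroup.normalizer (Y : Set G) with hN
  have hXN : X ≤ N := hXC.trans (Subgroup.centralizer_le_normalizer _)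
  have hSN : (S : Subgroup G) ≤ N := h.sM.trans (largestPReducedOf_normal M)
  obtain ⟨T, hT⟩ := (hX.comap_subtype (K := N)).exists_le_sylow
  obtain ⟨k, hk⟩ := MulAction.exists_smul_eq N T (S.subtype hSN)
  have hCn : N ≤ Subgroup.normalizer (Subgroup.centralizer (Y : Set G) : Set G) :=
    FM.centralizer_normal_in le_rfl
  have hle : X.map (MulAut.conj (k : G)).toMonoidHom ≤ pCoreOf p M := by
    refine le_trans (fun y hy => ?_) h.sylow_inf_cent
    obtain ⟨x, hx, rfl⟩ := hy
    refine Subgroup.mem_inf.2 ⟨?_, (Subgroup.mem_normalizer_iff.1 (hCn k.2) x).1 (hXC hx)⟩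
    have hm : k * ⟨x, hXN hx⟩ * k⁻¹ ∈ ((S.subtype hSN : Sylow p N) : Subgroup N) := by
      rw [← hk, Sylow.coe_subgroup_smul, CfsgLib.Solv.mem_conj_smul_iff]
      simpa [mul_assoc] using hT (show (⟨x, hXN hx⟩ : N) ∈ X.comap N.subtype from hx)
    exact hm
  exact (Subgroup.eq_of_le_of_card_ge hOX (le_of_eq_of_le
    (Subgroup.card_map_of_injective (MulAut.conj (k : G)).injective).symm (Subgroup.card_le_of_le hle))).ge

/-- The key lemma. -/
theorem Std.normalizer_le (h : Std p S M) (hasym : ¬ IsSymmetricIn (largestPReducedOf p M))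
    {R : Subgroup G} (hR : IsPGroup p R) (hOR : pCoreOf p M ≤ R)
    (hRN : R ≤ Subgroup.normalizer (pCoreOf p M : Set G)) :
    Subgroup.normalizer (R : Set G) ≤ Subgroup.normalizer (pCoreOf p M : Set G) := by
  intro n hn
  set Y := largestPReducedOf p M with hY
  set O := pCoreOf p M with hO
  set C := Subgroup.centralizer (Y : Set G) with hC
  have hRY : R ≤ Subgroup.normalizer (Y : Set G) := hRN.trans h.normalizer_o_le
  have hRC : R ⊓ C ≤ O := h.cent_max (hR.to_le inf_le_left) (le_inf hOR h.o_le_cent) inf_le_right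
  have hstep : ∀ s : G, s ∈ M ∨ s = n ∨ s = n⁻¹ → ∀ o ∈ O, s * o * s⁻¹ ∈ R := by
    rintro s (hs | rfl | rfl) o ho
    · exact hOR ((Subgroup.mem_normalizer_iff.1 (le_normalizer_pCoreOf M hs) o).1 ho)
    · exact (Subgroup.mem_normalizer_iff.1 hn o).1 (hOR ho)
    · simpa using (Subgroup.mem_normalizer_iff.1 (inv_mem hn) o).1 (hOR ho)
  have hinv : ∀ s : G, s ∈ M ∨ s = n ∨ s = n⁻¹ → (s⁻¹ ∈ M ∨ s⁻¹ = n ∨ s⁻¹ = n⁻¹) := by
    rintro s (hs | rfl | rfl)
    · exact Or.inl (inv_mem hs)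
    · exact Or.inr (Or.inr rfl)
    · exact Or.inr (Or.inl (inv_inv n))
  have key : ∀ (k : ℕ) (ws : List G), ws.length = k → (∀ w ∈ ws, w ∈ M ∨ w = n ∨ w = n⁻¹) →
      ∀ y ∈ Y, ws.prod * y * (ws.prod)⁻¹ ∈ O := by
    intro k
    induction k with
    | zero =>
      intro ws hws _ y hy
      obtain rfl := List.length_eq_zero_iff.1 hws
      simpa using h.y_le_o hy
    | succ k ih =>
      have half : ∀ ws : List G, ws.length = k + 1 → (∀ w ∈ ws, w ∈ M ∨ w = n ∨ w = n⁻¹) →
          ∀ y ∈ Y, ws.prod * y * (ws.prod)⁻¹ ∈ R := by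
        intro ws hlen hws y hy
        obtain ⟨s, ws', rfl⟩ : ∃ s ws', ws = s :: ws' := by
          cases ws with
          | nil => simp at hlen
          | cons s ws' => exact ⟨s, ws', rfl⟩
        have h1 := ih ws' (by simpa using hlen) (fun w hw => hws w (List.mem_cons_of_mem _ hw)) y hy
        have h2 := hstep s (hws s (List.mem_cons_self ..)) _ h1
        simpa [mul_assoc] using h2
      intro ws hlen hws
      set g := ws.prod with hg
      set Y' := Y.map (MulAut.conj g).toMonoidHom with hY'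
      have hY'R : Y' ≤ R := by
        rintro _ ⟨y, hy, rfl⟩
        exact half ws hlen hws y hy
      have hginv : ∀ y ∈ Y, g⁻¹ * y * g ∈ R := by
        intro y hy
        have h1 := half (ws.map fun x => x⁻¹).reverse (by simpa using hlen) (fun w hw => by
          rw [List.mem_reverse, List.mem_map] at hw
          obtain ⟨x, hx, rfl⟩ := hw
          exact hinv x (hws x hx)) y hy
        rw [← List.prod_inv_reverse, inv_inv] at h1
        exact h1
      have h2 : Y ≤ Subgroup.normalizer (Y' : Set G) := by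
        rw [CfsgLib.Solv.le_normalizer_iff_forall_conj_mem]
        rintro y hy _ ⟨x, hx, rfl⟩
        refine ⟨_, (Subgroup.mem_normalizer_iff.1 (hRY (hginv y hy)) x).1 hx, ?_⟩
        simp [mul_assoc]
      have hcom : ⁅Y, Y'⁆ = ⊥ := by
        by_contra hne
        refine hasym ⟨g, hne, le_inf (CfsgLib.Solv.commutator_le_of_le_normalizer (hY'R.trans hRY)) ?_⟩
        rw [Subgroup.commutator_comm]
        exact CfsgLib.Solv.commutator_le_of_le_normalizer h2
      intro y hy
      have hmem : g * y * g⁻¹ ∈ Y' := ⟨y, hy, rfl⟩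
      refine hRC (Subgroup.mem_inf.2 ⟨hY'R hmem, Subgroup.mem_centralizer_iff.2 fun z hz => ?_⟩)
      exact (Subgroup.mem_centralizer_iff.1 (Subgroup.commutator_eq_bot_iff_le_centralizer.1 hcom hz) _ hmem).symm
  set L := Subgroup.closure ((M : Set G) ∪ {n}) with hL
  have hLY : ∀ l ∈ L, ∀ y ∈ Y, l * y * l⁻¹ ∈ O := by
    intro l hl y hy
    have hl' : l ∈ Submonoid.closure (((M : Set G) ∪ {n}) ∪ ((M : Set G) ∪ {n})⁻¹) := by
      rw [← Subgroup.closure_toSubmonoid, ← hL]
      exact hl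
    obtain ⟨ws, hws, rfl⟩ := Submonoid.exists_list_of_mem_closure hl'
    refine key ws.length ws rfl (fun w hw => ?_) y hy
    rcases hws w hw with h1 | h1
    · rcases h1 with h2 | h2
      · exact Or.inl h2
      · exact Or.inr (Or.inl h2)
    · rcases h1 with h2 | h2
      · exact Or.inl (by simpa using M.inv_mem h2)
      · exact Or.inr (Or.inr (inv_eq_iff_eq_inv.1 h2))
  set V := Subgroup.closure {x : G | ∃ l ∈ L, ∃ y ∈ Y, x = l * y * l⁻¹} with hV
  have hVO : V ≤ O := (Subgroup.closure_le _).2 (by rintro _ ⟨l, hl, y, hy, rfl⟩; exact hLY l hl y hy)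
  have hML : M ≤ L := fun m hm => Subgroup.subset_closure (Or.inl hm)
  have hV1 : V ≠ ⊥ := fun e => h.y_ne_bot (le_bot_iff.1 fun y hy => e ▸ (show y ∈ V from
    Subgroup.subset_closure ⟨1, one_mem _, y, hy, by simp⟩))
  have hLV : L ≤ Subgroup.normalizer (V : Set G) := by
    rw [CfsgLib.Solv.le_normalizer_iff_forall_conj_mem]
    intro l hl x hx
    have hle : V ≤ V.comap (MulAut.conj l).toMonoidHom := (Subgroup.closure_le _).2 (by
      rintro _ ⟨l', hl', y, hy, rfl⟩
      exact Subgroup.subset_closure ⟨l * l', mul_mem hl hl', y, hy, by simp [mul_assoc]⟩)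
    exact hle hx
  have hLd := h.le_dagger hML (hVO.trans ((pCoreOf_le_self M).trans hML)) hV1 ((pCoreOf_pgroup M).to_le hVO) hLV
  have hnY : n ∈ Subgroup.normalizer (Y : Set G) := h.dagger_eq.ge (hLd (Subgroup.subset_closure (Or.inr rfl)))
  have hnC := FM.centralizer_normal_in (Y := Y) le_rfl hnY
  have hmap : O.map (MulAut.conj n).toMonoidHom ≤ O := by
    rintro _ ⟨o, ho, rfl⟩
    exact hRC (Subgroup.mem_inf.2 ⟨(Subgroup.mem_normalizer_iff.1 hn o).1 (hOR ho),
      (Subgroup.mem_normalizer_iff.1 hnC o).1 (h.o_le_cent ho)⟩)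
  exact Subgroup.mem_normalizer_iff_map_conj_eq.2 (Subgroup.eq_of_le_of_card_ge hmap
    (Subgroup.card_map_of_injective (MulAut.conj n).injective).ge)

/-- Every `p`-group containing `O_p(M)` normalizes it. -/
theorem Std.pgroup_le (h : Std p S M) (hasym : ¬ IsSymmetricIn (largestPReducedOf p M))
    {T : Subgroup G} (hT : IsPGroup p T) (hOT : pCoreOf p M ≤ T) :
    T ≤ Subgroup.normalizer (pCoreOf p M : Set G) := by
  set R := T ⊓ Subgroup.normalizer (pCoreOf p M : Set G) with hR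
  by_contra hne
  have hlt : R.subgroupOf T < ⊤ := lt_top_iff_ne_top.2 fun e =>
    hne ((Subgroup.subgroupOf_eq_top.1 e).trans inf_le_right)
  haveI := hT.isNilpotent
  obtain ⟨m, hm, hmR⟩ := SetLike.exists_of_lt (Group.normalizerCondition_of_isNilpotent _ hlt)
  refine hmR (Subgroup.mem_subgroupOf.2 (Subgroup.mem_inf.2 ⟨m.2, ?_⟩))
  refine h.normalizer_le hasym (hT.to_le (inf_le_left : R ≤ T)) (le_inf hOT Subgroup.le_normalizer) inf_le_right ?_
  refine Subgroup.mem_normalizer_fintype fun x hx => ?_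
  exact (Subgroup.mem_normalizer_iff.1 hm ⟨x, (Subgroup.mem_inf.1 hx).1⟩).1 hx

/-- `O_p(M)` is weakly closed in `G`. -/
theorem Std.weakly_closed (h : Std p S M) (hasym : ¬ IsSymmetricIn (largestPReducedOf p M)) :
    IsWeaklyClosedSubgroup p (pCoreOf p M) := by
  have hOS := FM.pCoreOf_le_sylow S h.sM
  set O := pCoreOf p M with hO
  set N := Subgroup.normalizer (O : Set G) with hN
  refine ⟨S, hOS, fun g hg => ?_⟩
  set T := (S : Subgroup G).map (MulAut.conj g⁻¹).toMonoidHom with hT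
  have hOT : O ≤ T := fun o ho => ⟨g * o * g⁻¹, hg ⟨o, ho, rfl⟩, by simp [mul_assoc]⟩
  have hTN : T ≤ N := h.pgroup_le hasym (S.isPGroup'.map _) hOT
  have hSN : (S : Subgroup G) ≤ N := h.pgroup_le hasym S.isPGroup' hOS
  have hTN' : ((g⁻¹ • S : Sylow p G) : Subgroup G) ≤ N := by
    rw [Sylow.coe_subgroup_smul, CfsgLib.Solv.conj_smul_eq_map]; exact hTN
  obtain ⟨k, hk⟩ := MulAction.exists_smul_eq N ((g⁻¹ • S).subtype hTN') (S.subtype hSN)
  rw [Sylow.smul_subtype] at hk
  have hk' : ((k : G) * g⁻¹) • S = S := by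
    rw [mul_smul]
    exact Sylow.subtype_injective hk
  have h1 : (k : G) * g⁻¹ ∈ N :=
    h.normalizer_le hasym S.isPGroup' hOS hSN (Sylow.smul_eq_iff_mem_normalizer.1 hk')
  have hgN : g ∈ N := by
    have := mul_mem (inv_mem h1) k.2
    simpa [mul_assoc] using this
  rw [← CfsgLib.Solv.conj_smul_eq_map]
  exact CfsgLib.Solv.conj_smul_eq_self_of_mem_normalizer hgN

end CfsgLib.Inv.AsymWeak
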