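import Cfsg.Agent.Solv.FittingBasic
import Mathlib.GroupTheory.SpecificGroups.Cyclic
import Mathlib.Tactic

/-!
Automorphisms of order prime to `p` of a `p`-group, `p` below all primes of the order: cyclic groups, and a small
element moved by an automorphism that fixes all its proper invariant subgroups.
-/

set_option autoImplicit false
set_option linter.style.haveILetI false

namespace CfsgLib.Inv.AutPrime

open scoped commutatorElement

variable {U : Type*} [Group U] [Finite U] {p : ℕ} [hp : Fact p.Prime]

/-- An automorphism of a cyclic `p`-group whose order has only prime divisors above `p` is trivial. -/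
theorem cyclic_eq_one (hU : IsPGroup p U) (hc : IsCyclic U) (α : MulAut U)
    (hα : ∀ q : ℕ, q.Prime → q ∣ orderOf α → p < q) : α = 1 := by
  rw [← orderOf_eq_one_iff]
  by_contra h1
  obtain ⟨q, hq, hqd⟩ := Nat.exists_prime_and_dvd h1
  have hd : q ∣ Nat.totient (Nat.card U) :=
    IsCyclic.card_mulAut (G := U) ▸ hqd.trans (orderOf_dvd_natCard α)
  obtain ⟨k, hk⟩ := IsPGroup.iff_card.1 hU
  rw [hk] at hd
  rcases Nat.eq_zero_or_pos k with rfl | hk0
  · rw [pow_zero, Nat.totient_one] at hd
    exact hq.one_lt.ne' (Nat.dvd_one.1 hd)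
  rw [Nat.totient_prime_pow hp.out hk0] at hd
  have hlt := hα q hq hqd
  rcases hq.dvd_mul.1 hd with h | h
  · exact (Nat.prime_dvd_prime_iff_eq hq hp.out).1 (hq.dvd_of_dvd_pow h) ▸ hlt |>.false
  · have := Nat.le_of_dvd (by have := hp.out.two_le; omega) h
    omega

omit [Finite U] hp in
theorem pow_apply_of_fixed (α : MulAut U) {x c : U} (h : α x = x * c) (hc : α c = c) (n : ℕ) :
    (α ^ n) x = x * c ^ n := by
  induction n with
  | zero => simp
  | succ n ih => rw [pow_succ', MulAut.mul_apply, ih, map_mul, map_pow, h, hc, pow_succ', mul_assoc]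

omit [Finite U] hp in
theorem fix_of_displacement_fixed (hU : IsPGroup p U) (α : MulAut U) (hcop : (orderOf α).Coprime p)
    {x c : U} (h : α x = x * c) (hc : α c = c) : c = 1 := by
  have hn := pow_apply_of_fixed α h hc (orderOf α)
  rw [pow_orderOf_eq_one, MulAut.one_apply] at hn
  obtain ⟨k, hk⟩ := hU c
  have h1 : orderOf c ∣ orderOf α := orderOf_dvd_of_pow_eq_one (mul_left_cancel (hn.symm.trans (mul_one x).symm))
  have h2 : orderOf c ∣ p ^ k := orderOf_dvd_of_pow_eq_one hk
  exact orderOf_eq_one_iff.1 (Nat.dvd_one.1 ((hcop.pow_right k).gcd_eq_one ▸ Nat.dvd_gcd h1 h2))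

/-- An automorphism fixing every proper invariant subgroup moves a small element, unless trivial. -/
theorem exists_small_moved (hU : IsPGroup p U) (α : MulAut U) (hcop : (orderOf α).Coprime p)
    (hmin : ∀ W : Subgroup U, (∀ x ∈ W, α x ∈ W) → W ≠ ⊤ → ∀ x ∈ W, α x = x) (hα : α ≠ 1) :
    ∃ b : U, α b ≠ b ∧ (b ^ p = 1 ∨ (p = 2 ∧ b ^ 4 = 1)) := by
  haveI : Nontrivial U := by
    by_contra h
    rw [not_nontrivial_iff_subsingleton] at h
    exact hα (MulEquiv.ext fun x => Subsingleton.elim _ _)
  let Φ := frattini U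
  have hΦt : Φ ≠ ⊤ := by
    intro h
    obtain ⟨M, hM⟩ : ∃ M : Subgroup U, IsCoatom M := by
      rcases eq_top_or_exists_le_coatom (⊥ : Subgroup U) with h' | ⟨M, hM, -⟩
      · exact absurd h' bot_ne_top
      · exact ⟨M, hM⟩
    exact hM.1 (top_le_iff.1 (h ▸ frattini_le_coatom hM))
  have hΦinv : ∀ x ∈ Φ, α x ∈ Φ := fun x hx => by
    have := Subgroup.Characteristic.fixed (H := Φ) (inferInstance) α
    rw [← this] at hx
    exact hx
  have hΦfix : ∀ x ∈ Φ, α x = x := hmin Φ hΦinv hΦt
  let d : U → U := fun x => x⁻¹ * α x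
  have hdΦ : ∀ x : U, ∀ f ∈ Φ, d x * f = f * d x := by
    intro x f hf
    have h1 := hΦfix _ (Subgroup.Normal.conj_mem inferInstance f hf x)
    rw [map_mul, map_mul, map_inv, hΦfix f hf] at h1
    calc x⁻¹ * α x * f = x⁻¹ * (α x * f * (α x)⁻¹) * α x := by group
      _ = x⁻¹ * (x * f * x⁻¹) * α x := by rw [h1]
      _ = f * (x⁻¹ * α x) := by group
  let W := Subgroup.closure (Set.range d)
  have hWinv : ∀ x ∈ W, α x ∈ W := fun x hx => by
    induction hx using Subgroup.closure_induction with
    | mem y hy =>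
      obtain ⟨z, rfl⟩ := hy
      exact Subgroup.subset_closure ⟨α z, by simp [d]⟩
    | one => exact (map_one α).symm ▸ one_mem _
    | mul a b _ _ ha hb => exact (map_mul α a b).symm ▸ mul_mem ha hb
    | inv a _ ha => exact (map_inv α a).symm ▸ inv_mem ha
  by_cases hW : W = ⊤
  · have hcen : Φ ≤ Subgroup.center U := fun f hf => Subgroup.mem_center_iff.2 fun g => by
      have hg : g ∈ W := hW ▸ Subgroup.mem_top g
      induction hg using Subgroup.closure_induction with
      | mem y hy => obtain ⟨z, rfl⟩ := hy; exact hdΦ z f hf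
      | one => simp
      | mul a b _ _ ha hb => rw [mul_assoc, hb, ← mul_assoc, ha, mul_assoc]
      | inv a _ ha => exact ((show Commute a f from ha).inv_left).eq
    have hsmall : ∀ x : U, (d x) ^ p = 1 ∨ (p = 2 ∧ (d x) ^ 4 = 1) := by
      intro x
      have hxy : α x = x * d x := by simp [d]
      have hc : ⁅d x, x⁆ ∈ Φ := CfsgLib.Solv.commutator_le_frattini hU
        (Subgroup.commutator_mem_commutator (Subgroup.mem_top _) (Subgroup.mem_top _))
      have hC : ∀ g : U, Commute ⁅d x, x⁆ g := fun g => ((Subgroup.mem_center_iff.1 (hcen hc) g)).symm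
      have hpow : (α x) ^ p = x ^ p := by
        rw [← map_pow]; exact hΦfix _ (CfsgLib.Solv.pow_mem_frattini hU x)
      have hcp : ⁅d x, x⁆ ^ p = 1 := by
        have h1 : ∀ n : ℕ, d x ^ n * x * (d x ^ n)⁻¹ = ⁅d x, x⁆ ^ n * x := by
          intro n
          induction n with
          | zero => simp
          | succ n ih =>
            rw [pow_succ, pow_succ, show d x ^ n * d x * x * (d x ^ n * d x)⁻¹ =
              d x ^ n * (⁅d x, x⁆ * x) * (d x ^ n)⁻¹ by rw [commutatorElement_def]; group]
            calc d x ^ n * (⁅d x, x⁆ * x) * (d x ^ n)⁻¹ = d x ^ n * ⁅d x, x⁆ * (d x ^ n)⁻¹ * (d x ^ n * x * (d x ^ n)⁻¹) := by group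
              _ = ⁅d x, x⁆ * (⁅d x, x⁆ ^ n * x) := by rw [ih, ← (hC (d x ^ n)).eq, mul_inv_cancel_right]
              _ = _ := by rw [← mul_assoc, ← pow_succ', ← pow_succ]
        have h2 := h1 p
        rw [← Subgroup.mem_center_iff.1 (hcen (CfsgLib.Solv.pow_mem_frattini hU (d x))) x, mul_inv_cancel_right] at h2
        exact mul_eq_right.1 h2.symm
      have hmul : ∀ n : ℕ, (x * d x) ^ n = x ^ n * (d x) ^ n * ⁅d x, x⁆ ^ (n * (n - 1) / 2) := by
        intro n
        induction n with
        | zero => simp
        | succ n ih =>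
          have hsw : ∀ m : ℕ, d x ^ m * x = x * d x ^ m * ⁅d x, x⁆ ^ m := by
            intro m
            induction m with
            | zero => simp
            | succ m ihm =>
              have hb : d x * x = x * d x * ⁅d x, x⁆ := by
                calc d x * x = ⁅d x, x⁆ * (x * d x) := by rw [commutatorElement_def]; group
                  _ = _ := (hC (x * d x)).eq
              calc d x ^ (m + 1) * x = d x * (d x ^ m * x) := by rw [pow_succ', mul_assoc]
                _ = d x * x * d x ^ m * ⁅d x, x⁆ ^ m := by rw [ihm]; simp only [mul_assoc]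
                _ = x * d x * (⁅d x, x⁆ * d x ^ m) * ⁅d x, x⁆ ^ m := by rw [hb]; simp only [mul_assoc]
                _ = x * (d x * d x ^ m) * (⁅d x, x⁆ * ⁅d x, x⁆ ^ m) := by rw [(hC _).eq]; simp only [mul_assoc]
                _ = _ := by rw [← pow_succ', ← pow_succ']
          have hT : (n + 1) * (n + 1 - 1) / 2 = n + n * (n - 1) / 2 := by
            rw [← Finset.sum_range_id, ← Finset.sum_range_id, Finset.sum_range_succ, add_comm]
          rw [pow_succ, ih, hT, pow_add ⁅d x, x⁆]
          set c := ⁅d x, x⁆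
          calc x ^ n * d x ^ n * c ^ (n * (n - 1) / 2) * (x * d x)
              = x ^ n * (d x ^ n * x) * d x * c ^ (n * (n - 1) / 2) := by
                rw [mul_assoc _ (c ^ _), ((hC (x * d x)).pow_left _).eq]; simp only [mul_assoc]
            _ = x ^ n * x * d x ^ n * (c ^ n * d x) * c ^ (n * (n - 1) / 2) := by rw [hsw]; simp only [mul_assoc]
            _ = _ := by rw [((hC (d x)).pow_left n).eq]; simp only [mul_assoc, pow_add, pow_succ]
      have hmain : (d x) ^ p * ⁅d x, x⁆ ^ (p * (p - 1) / 2) = 1 := by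
        rw [← hxy] at *
        have := hmul p
        rw [hpow, mul_assoc] at this
        exact mul_eq_left.1 this.symm
      rcases hp.out.eq_two_or_odd with rfl | hodd
      · right
        refine ⟨rfl, ?_⟩
        norm_num at hmain
        rw [show (4 : ℕ) = 2 * 2 from rfl, pow_mul, eq_inv_of_mul_eq_one_left hmain, inv_pow, hcp, inv_one]
      · left
        rwa [Nat.mul_div_assoc p (by omega : 2 ∣ p - 1), pow_mul, hcp, one_pow, mul_one] at hmain
    by_contra hno
    push Not at hno
    apply hα
    ext x
    have hfix : α (d x) = d x := by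
      by_contra h
      rcases hsmall x with h' | ⟨h1, h'⟩
      · exact (hno _ h).1 h'
      · exact (hno _ h).2 h1 h'
    have := fix_of_displacement_fixed hU α hcop (show α x = x * d x by simp [d]) hfix
    rw [MulAut.one_apply]
    calc α x = x * d x := by simp [d]
      _ = x := by rw [this, mul_one]
  · exfalso
    apply hα
    ext x
    have := fix_of_displacement_fixed hU α hcop (show α x = x * d x by simp [d])
      (hmin W hWinv hW _ (Subgroup.subset_closure ⟨x, rfl⟩))
    rw [MulAut.one_apply]
    calc α x = x * d x := by simp [d]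
      _ = x := by rw [this, mul_one]

end CfsgLib.Inv.AutPrime
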