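import Cfsg.Agent.Inv.Count
import Mathlib.GroupTheory.Index
import Mathlib.GroupTheory.GroupAction.Quotient
import Mathlib.GroupTheory.Subgroup.Center
import Mathlib.GroupTheory.IndexNormal
import Mathlib.Data.Finite.Perm
import Mathlib.Tactic

/-! The Brauer–Fowler counting bound. -/

set_option autoImplicit false
set_option linter.style.haveILetI false

namespace CfsgLib.Inv

variable {G : Type*} [Group G]

/-- The stabilizer of the pair `{x, x⁻¹}`. -/
def pairStab (x : G) : Subgroup G where
  carrier := {g | g * x * g⁻¹ = x ∨ g * x * g⁻¹ = x⁻¹}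
  one_mem' := Or.inl (by group)
  mul_mem' {a b} ha hb := by
    have e : a * b * x * (a * b)⁻¹ = a * (b * x * b⁻¹) * a⁻¹ := by group
    show a * b * x * (a * b)⁻¹ = x ∨ a * b * x * (a * b)⁻¹ = x⁻¹
    rw [e]
    rcases hb with hb | hb <;> rw [hb] <;> rcases ha with ha | ha
    · exact .inl ha
    · exact .inr ha
    · exact .inr (by rw [← conj_inv, ha])
    · exact .inl (by rw [← conj_inv, ha, inv_inv])
  inv_mem' {a} ha := by
    show a⁻¹ * x * a⁻¹⁻¹ = x ∨ a⁻¹ * x * a⁻¹⁻¹ = x⁻¹
    rcases ha with ha | ha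
    · left; nth_rw 1 [← ha]; group
    · right
      have ha' : a * x⁻¹ * a⁻¹ = x := by rw [← conj_inv, ha, inv_inv]
      nth_rw 1 [← ha']; group

theorem card_pairStab [Finite G] {x u : G} (hu : u * x * u⁻¹ = x⁻¹) (hx : x⁻¹ ≠ x) :
    Nat.card (pairStab x) = 2 * Nat.card (Subgroup.centralizer ({x} : Set G)) := by
  classical
  haveI := Fintype.ofFinite G
  rw [two_mul]
  conv_rhs => rw [← card_conj_eq (x := x) (y := x) (g₀ := 1) (by group)]
              rhs; rw [card_conj_eq (x := x) (y := x) (g₀ := 1) (by group), ← card_conj_eq hu]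
  simp only [Nat.card_eq_fintype_card, ← Fintype.card_sum]
  refine Fintype.card_congr
    { toFun := fun g => if h : (g : G) * x * (g : G)⁻¹ = x then .inl ⟨g, h⟩
        else .inr ⟨g, g.2.resolve_left h⟩
      invFun := fun s => s.elim (fun g : {g : G // g * x * g⁻¹ = x} => ⟨g.1, .inl g.2⟩)
        fun g : {g : G // g * x * g⁻¹ = x⁻¹} => ⟨g.1, .inr g.2⟩
      left_inv := fun g => by by_cases h : (g : G) * x * (g : G)⁻¹ = x <;> simp [h]
      right_inv := fun s => by
        rcases s with ⟨g, hg⟩ | ⟨g, hg⟩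
        · simp [hg]
        · simp [hg, hx] }

theorem centralizer_ne_top_of_invol (hZ : Odd (Nat.card (Subgroup.center G))) {t : G}
    (ht : orderOf t = 2) : Subgroup.centralizer ({t} : Set G) ≠ ⊤ := by
  intro h
  have htZ : t ∈ Subgroup.center G := Subgroup.mem_center_iff.2 fun g =>
    (Subgroup.mem_centralizer_singleton_iff.1 (h.symm ▸ Subgroup.mem_top g))
  have hd : 2 ∣ Nat.card (Subgroup.center G) := by
    rw [← ht, ← Subgroup.orderOf_mk t htZ]; exact orderOf_dvd_natCard _
  exact Nat.not_even_iff_odd.2 hZ (even_iff_two_dvd.2 hd)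

/-- Brauer–Fowler: a proper subgroup of index `2`, or of small index in terms of the number of
involutions. -/
theorem brauer_fowler [Finite G] (heven : Even (Nat.card G))
    (hZ : Odd (Nat.card (Subgroup.center G))) :
    ∃ H : Subgroup G, H ≠ ⊤ ∧ (H.index = 2 ∨
      2 * H.index * (Nat.card {t : G // orderOf t = 2} * Nat.card {t : G // orderOf t = 2} +
        Nat.card {t : G // orderOf t = 2}) + Nat.card G ≤
          Nat.card G * (Nat.card G + Nat.card {t : G // orderOf t = 2})) := by
  classical
  haveI := Fintype.ofFinite G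
  by_cases h2 : ∃ H : Subgroup G, H ≠ ⊤ ∧ H.index = 2
  · obtain ⟨H, hH, hi⟩ := h2; exact ⟨H, hH, .inl hi⟩
  push Not at h2
  haveI : Fact (Nat.Prime 2) := ⟨Nat.prime_two⟩
  obtain ⟨t₀, ht₀⟩ := exists_prime_orderOf_dvd_card' 2 (even_iff_two_dvd.1 heven)
  obtain ⟨H, ⟨hH, hmin⟩⟩ : ∃ H : Subgroup G, H ≠ ⊤ ∧ ∀ K : Subgroup G, K ≠ ⊤ → H.index ≤ K.index := by
    obtain ⟨H, hH, hm⟩ := Finset.exists_min_image (Finset.univ.filter fun K : Subgroup G => K ≠ ⊤)
      (fun K => K.index) ⟨_, Finset.mem_filter.2 ⟨Finset.mem_univ _, centralizer_ne_top_of_invol hZ ht₀⟩⟩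
    exact ⟨H, (Finset.mem_filter.1 hH).2, fun K hK => hm K (Finset.mem_filter.2 ⟨Finset.mem_univ _, hK⟩)⟩
  refine ⟨H, hH, .inr ?_⟩
  set i := H.index
  set n := Nat.card {t : G // orderOf t = 2} with hn
  set g := Nat.card G with hg
  let β : G → ℕ := fun x =>
    Nat.card {p : G × G // orderOf p.1 = 2 ∧ orderOf p.2 = 2 ∧ p.1 * p.2 = x}
  have hsum : n * n = ∑ x, β x := by
    rw [hn, ← Nat.card_prod]
    simp only [β, Nat.card_eq_fintype_card, ← Fintype.card_sigma]
    refine Fintype.card_congr
      { toFun := fun p => ⟨p.1.1 * p.2.1, (p.1.1, p.2.1), p.1.2, p.2.2, rfl⟩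
        invFun := fun s => (⟨s.2.1.1, s.2.2.1⟩, ⟨s.2.1.2, s.2.2.2.1⟩)
        left_inv := fun _ => rfl
        right_inv := ?_ }
    rintro ⟨x, ⟨u, v⟩, hu, hv, rfl⟩
    rfl
  have hone : β 1 = n := by
    refine Nat.card_congr
      { toFun := fun p => ⟨p.1.1, p.2.1⟩
        invFun := fun t => ⟨(t.1, t.1), t.2, t.2, invol_mul_self t.2⟩
        left_inv := fun p => Subtype.ext (Prod.ext rfl
          (by rw [second_eq p.2.1 p.2.2.2, mul_one]))
        right_inv := fun _ => rfl }
  have key : ∀ x : G, 2 * i * β x + (if orderOf x = 2 then 4 * i else 0) ≤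
      (if x = 1 then 2 * i * n else g + if orderOf x = 2 then g else 0) := by
    intro x
    by_cases hx1 : x = 1
    · subst hx1; simp [hone]
    rw [if_neg hx1]
    have hle : β x ≤ Nat.card (Subgroup.centralizer ({x} : Set G)) := card_pairs_le x
    have hcg := (Subgroup.centralizer ({x} : Set G)).card_mul_index
    by_cases hx2 : orderOf x = 2
    · rw [if_pos hx2, if_pos hx2]
      have hd : β x + 2 ≤ Nat.card (Subgroup.centralizer ({x} : Set G)) := by
        have h1 := card_pairs_invol hx2
        have h3 : Nat.card {t : G // orderOf t = 2 ∧ Commute t x} <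
            Nat.card (Subgroup.centralizer ({x} : Set G)) := by
          rw [Nat.card_eq_fintype_card, Nat.card_eq_fintype_card]
          refine Fintype.card_lt_of_injective_of_notMem
            (fun t : {t : G // orderOf t = 2 ∧ Commute t x} =>
              (⟨t.1, Subgroup.mem_centralizer_singleton_iff.2 t.2.2.eq⟩ :
                Subgroup.centralizer ({x} : Set G)))
            (fun a b h => Subtype.ext
              (congrArg (fun y : Subgroup.centralizer ({x} : Set G) => (y : G)) h)) (b := 1) ?_
          rintro ⟨t, ht⟩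
          exact invol_ne_one t.2.1
            (congrArg (fun y : Subgroup.centralizer ({x} : Set G) => (y : G)) ht)
        simp only [β] at *
        omega
      have hm := hmin _ (centralizer_ne_top_of_invol hZ hx2)
      have := Nat.mul_le_mul hd hm
      rw [hcg] at this
      nlinarith
    · rw [if_neg hx2, if_neg hx2]
      rcases Nat.eq_zero_or_pos (β x) with h0 | hpos
      · rw [h0]; simp
      · obtain ⟨⟨⟨u, v⟩, hu, hv, huv⟩⟩ := (Nat.card_pos_iff.1 hpos).1
        have hinv := inverts_of_pair hu hv huv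
        have hxi : x⁻¹ ≠ x := fun h => hx2 (invol_iff.2 ⟨hx1, by nth_rw 1 [← h]; exact inv_mul_cancel x⟩)
        have hK := card_pairStab hinv hxi
        have hKg := (pairStab x).card_mul_index
        rw [hK] at hKg
        have hci : (Subgroup.centralizer ({x} : Set G)).index = 2 * (pairStab x).index := by
          refine Nat.eq_of_mul_eq_mul_left (Nat.card_pos (α := Subgroup.centralizer ({x} : Set G))) ?_
          rw [hcg, ← hKg]; ring
        have hKtop : pairStab x ≠ ⊤ := fun h => by
          rw [h, Subgroup.index_top] at hci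
          exact h2 _ (fun hC => by rw [hC, Subgroup.index_top] at hci; omega) hci
        have hm := hmin _ hKtop
        have h3 := Nat.mul_le_mul hle (Nat.mul_le_mul_left 2 hm)
        rw [← hci, hcg] at h3
        nlinarith
  have h := Finset.sum_le_sum (s := Finset.univ) fun x _ => key x
  rw [Finset.sum_add_distrib, ← Finset.mul_sum, ← hsum] at h
  have hinvcard : (Finset.univ.filter fun x : G => orderOf x = 2).card = n := by
    rw [hn, Nat.card_eq_fintype_card, Fintype.card_subtype]
  rw [← Finset.sum_filter, Finset.sum_const, hinvcard, smul_eq_mul] at h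
  rw [Finset.sum_ite, Finset.sum_const, Finset.sum_add_distrib, Finset.sum_const] at h
  have h1card : (Finset.univ.filter fun x : G => x = 1).card = 1 := by
    rw [Finset.card_eq_one]; exact ⟨1, by ext; simp⟩
  have hnecard : (Finset.univ.filter fun x : G => ¬x = 1).card + 1 = g := by
    rw [Finset.filter_ne', Finset.card_erase_of_mem (Finset.mem_univ _), Finset.card_univ, hg,
      Nat.card_eq_fintype_card]
    have := Fintype.card_pos (α := G)
    omega
  have hle2 : (∑ x ∈ Finset.univ.filter (fun x : G => ¬x = 1), if orderOf x = 2 then g else 0) ≤ n * g := by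
    refine (Finset.sum_le_univ_sum_of_nonneg fun _ => Nat.zero_le _).trans ?_
    rw [← Finset.sum_filter, Finset.sum_const, hinvcard, smul_eq_mul]
  rw [h1card] at h
  simp only [smul_eq_mul, one_mul] at h
  generalize (Finset.univ.filter fun x : G => ¬x = 1).card = a at h hnecard
  generalize (∑ x ∈ Finset.univ.filter (fun x : G => ¬x = 1), if orderOf x = 2 then g else 0) = b
    at h hle2
  nlinarith [congrArg (g * ·) hnecard]

end CfsgLib.Inv

namespace CfsgLib.Inv

variable {G : Type*} [Group G]

theorem index_centralizer_le [Finite G] {t : G} (ht : orderOf t = 2) :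
    (Subgroup.centralizer ({t} : Set G)).index ≤ Nat.card {t : G // orderOf t = 2} := by
  rw [Subgroup.index_eq_card]
  refine Nat.card_le_card_of_injective
    (fun q => ⟨q.out * t * q.out⁻¹, invol_conj ht _⟩) ?_
  intro a b h
  have h' : a.out * t * a.out⁻¹ = b.out * t * b.out⁻¹ :=
    congrArg (fun y : {t : G // orderOf t = 2} => (y : G)) h
  rw [← a.out_eq', ← b.out_eq', QuotientGroup.eq, Subgroup.mem_centralizer_singleton_iff]
  calc a.out⁻¹ * b.out * t = a.out⁻¹ * (b.out * t * b.out⁻¹) * b.out := by group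
    _ = t * (a.out⁻¹ * b.out) := by rw [← h']; group

theorem index_lt_sq [Finite G] {t : G} (ht : orderOf t = 2) {i : ℕ}
    (h : 2 * i * (Nat.card {t : G // orderOf t = 2} * Nat.card {t : G // orderOf t = 2} +
        Nat.card {t : G // orderOf t = 2}) + Nat.card G ≤
          Nat.card G * (Nat.card G + Nat.card {t : G // orderOf t = 2})) :
    i < Nat.card (Subgroup.centralizer ({t} : Set G)) ^ 2 := by
  set n := Nat.card {t : G // orderOf t = 2}
  set c := Nat.card (Subgroup.centralizer ({t} : Set G))
  set g := Nat.card G with hg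
  have hn : g ≤ c * n := by
    rw [hg, ← (Subgroup.centralizer ({t} : Set G)).card_mul_index]
    exact Nat.mul_le_mul_left _ (index_centralizer_le ht)
  have hng : n ≤ g := Nat.card_le_card_of_injective (fun t => t.1) Subtype.val_injective
  have hg0 : 0 < g := Nat.card_pos
  by_contra hlt
  push Not at hlt
  have h1 : g * g ≤ (c * n) * (c * n) := Nat.mul_le_mul hn hn
  have h2 : c ^ 2 * (n * n) ≤ i * (n * n) := Nat.mul_le_mul_right _ hlt
  nlinarith

theorem bf_centre_odd_lt_cube [Finite G] (heven : Even (Nat.card G)) (hgt : 2 < Nat.card G)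
    (hZ : Odd (Nat.card (Subgroup.center G))) :
    ∃ H : Subgroup G, H ≠ ⊤ ∧ Nat.card G < Nat.card H ^ 3 := by
  haveI : Fact (Nat.Prime 2) := ⟨Nat.prime_two⟩
  obtain ⟨t, ht⟩ := exists_prime_orderOf_dvd_card' 2 (even_iff_two_dvd.1 heven)
  obtain ⟨H, hH, h | h⟩ := brauer_fowler heven hZ
  · refine ⟨H, hH, ?_⟩
    have e := H.card_mul_index
    rw [h] at e
    have h2 : 2 ≤ Nat.card H := by omega
    calc Nat.card G = Nat.card H * 2 := e.symm
      _ < Nat.card H * (Nat.card H * Nat.card H) :=
          Nat.mul_lt_mul_of_pos_left (by nlinarith) (by omega)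
      _ = Nat.card H ^ 3 := by ring
  · by_cases hc : Nat.card G < Nat.card (Subgroup.centralizer ({t} : Set G)) ^ 3
    · exact ⟨_, centralizer_ne_top_of_invol hZ ht, hc⟩
    refine ⟨H, hH, ?_⟩
    push Not at hc
    have hi := index_lt_sq ht h
    set c := Nat.card (Subgroup.centralizer ({t} : Set G))
    set i := H.index
    have h6 : i ^ 3 < (c ^ 3) ^ 2 :=
      calc i ^ 3 < (c ^ 2) ^ 3 := Nat.pow_lt_pow_left hi (by omega)
        _ = (c ^ 3) ^ 2 := by ring
    have h7 : i ^ 3 < Nat.card G ^ 2 := h6.trans_le (Nat.pow_le_pow_left hc 2)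
    by_contra hlt
    push Not at hlt
    have h8 : (Nat.card H * i) ^ 3 = Nat.card G ^ 3 := by rw [H.card_mul_index]
    have h9 : Nat.card H ^ 3 * i ^ 3 ≤ Nat.card G * i ^ 3 := Nat.mul_le_mul_right _ hlt
    have h10 : Nat.card G * i ^ 3 < Nat.card G * Nat.card G ^ 2 :=
      Nat.mul_lt_mul_of_pos_left h7 (by omega)
    rw [mul_pow] at h8
    have : Nat.card G * Nat.card G ^ 2 = Nat.card G ^ 3 := by ring
    omega

end CfsgLib.Inv

namespace CfsgLib.Inv

variable {G : Type*} [Group G]

theorem simple_card_dvd_factorial [Finite G] [IsSimpleGroup G] {H : Subgroup G} (hH : H ≠ ⊤) :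
    Nat.card G ∣ H.index.factorial := by
  have hcore : H.normalCore = ⊥ := (H.normalCore_normal.eq_bot_or_eq_top).resolve_right
    fun h => hH (top_le_iff.1 (h ▸ H.normalCore_le))
  have hinj : Function.Injective (MulAction.toPermHom G (G ⧸ H)) := by
    rw [← MonoidHom.ker_eq_bot_iff, ← Subgroup.normalCore_eq_ker, hcore]
  have := Subgroup.card_dvd_of_injective _ hinj
  rwa [Nat.card_perm, ← Subgroup.index_eq_card] at this

theorem simple_center_eq_bot [IsSimpleGroup G] (h : ¬ ∀ a b : G, a * b = b * a) :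
    Subgroup.center G = ⊥ :=
  ((inferInstance : (Subgroup.center G).Normal).eq_bot_or_eq_top).resolve_right fun htop =>
    h fun a b => (Subgroup.mem_center_iff.1 (htop.symm ▸ Subgroup.mem_top b) a)

theorem simple_comm_card_prime [Finite G] [IsSimpleGroup G] (h : ∀ a b : G, a * b = b * a) :
    (Nat.card G).Prime := by
  letI : CommGroup G := { (inferInstance : Group G) with mul_comm := h }
  haveI : IsSimpleGroup G := ‹_›
  exact IsSimpleGroup.prime_card

theorem simple_no_index_two [Finite G] [IsSimpleGroup G] (hgt : 2 < Nat.card G) (H : Subgroup G) :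
    H.index ≠ 2 := fun hi => by
  haveI := Subgroup.normal_of_index_eq_two hi
  rcases (inferInstance : H.Normal).eq_bot_or_eq_top with h | h
  · rw [h, Subgroup.index_bot] at hi; omega
  · rw [h, Subgroup.index_top] at hi; omega

end CfsgLib.Inv
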