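import Cfsg.Prelude.Def_BaumannBlocks
import Cfsg.Agent.Solv.Basic
import Cfsg.Agent.Solv.CoprimeAction
import Mathlib.GroupTheory.GroupAction.Basic
import Mathlib.GroupTheory.GroupAction.Quotient
import Mathlib.Tactic

/-!
The Chermak-Delgado lattice and centrally large subgroups.
-/

set_option autoImplicit false
set_option linter.style.haveILetI false

namespace CfsgLib.Inv.CD

open Cfsg
open scoped Pointwise

variable {P : Type*} [Group P] [Finite P]

theorem prod_ineq (A B : Subgroup P) :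
    Nat.card A * Nat.card B ≤ Nat.card ↥(A ⊔ B) * Nat.card ↥(A ⊓ B) := by
  have h1 := CfsgLib.Solv.relIndex_mul_card (le_sup_left : A ≤ A ⊔ B)
  have h2 := CfsgLib.Solv.relIndex_mul_card (inf_le_right : A ⊓ B ≤ B)
  rw [Subgroup.inf_relIndex_right] at h2
  have h3 : A.relIndex B ≤ A.relIndex (A ⊔ B) :=
    Subgroup.relIndex_le_of_le_right le_sup_right Subgroup.index_ne_zero_of_finite
  rw [← h1, ← h2]
  calc Nat.card A * (Nat.card ↥(A ⊓ B) * A.relIndex B)
      ≤ Nat.card A * (Nat.card ↥(A ⊓ B) * A.relIndex (A ⊔ B)) := by gcongr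
    _ = _ := by ring

theorem set_eq_mul_of_card {A B : Subgroup P}
    (h : Nat.card A * Nat.card B = Nat.card ↥(A ⊔ B) * Nat.card ↥(A ⊓ B)) :
    ((A ⊔ B : Subgroup P) : Set P) = (A : Set P) * (B : Set P) := by
  set J := A ⊔ B with hJ
  refine Set.Subset.antisymm (fun x hx => ?_) ?_
  · have h1 := CfsgLib.Solv.relIndex_mul_card (le_sup_left : A ≤ J)
    have h2 := CfsgLib.Solv.relIndex_mul_card (inf_le_right : A ⊓ B ≤ B)
    rw [Subgroup.inf_relIndex_right] at h2
    have hri : A.relIndex B = A.relIndex J := by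
      rw [← h1, ← h2] at h
      refine mul_left_cancel₀ (mul_pos (Nat.card_pos (α := A)) (Nat.card_pos (α := ↥(A ⊓ B)))).ne' ?_
      linarith
    have hst : MulAction.stabilizer (B.subgroupOf J) ((1 : J) : J ⧸ A.subgroupOf J) =
        (A.subgroupOf J).subgroupOf (B.subgroupOf J) := by
      ext b
      rw [MulAction.mem_stabilizer_iff, Subgroup.mem_subgroupOf]
      show ((b : J) * 1 : J) = ((1 : J) : J ⧸ A.subgroupOf J) ↔ _
      rw [mul_one, QuotientGroup.eq, mul_one, inv_mem_iff]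
    have horb : MulAction.orbit (B.subgroupOf J) ((1 : J) : J ⧸ A.subgroupOf J) = Set.univ := by
      refine Set.eq_univ_iff_ncard _ |>.2 ?_
      rw [← MulAction.index_stabilizer, hst, ← Subgroup.index_eq_card]
      show (A.subgroupOf J).relIndex (B.subgroupOf J) = A.relIndex J
      rw [Subgroup.relIndex_subgroupOf le_sup_right, hri]
    obtain ⟨⟨b, hb⟩, hbe⟩ : (((⟨x, hx⟩ : J)⁻¹ : J) : J ⧸ A.subgroupOf J) ∈
        MulAction.orbit (B.subgroupOf J) ((1 : J) : J ⧸ A.subgroupOf J) := horb ▸ trivial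
    have hbe' : ((b * 1 : J) : J ⧸ A.subgroupOf J) = (((⟨x, hx⟩ : J)⁻¹ : J) : J ⧸ A.subgroupOf J) := hbe
    rw [mul_one, QuotientGroup.eq, Subgroup.mem_subgroupOf] at hbe'
    simp only [Subgroup.coe_mul, Subgroup.coe_inv] at hbe'
    exact ⟨((b : P)⁻¹ * x⁻¹)⁻¹, inv_mem hbe', (b : P)⁻¹, inv_mem hb, by group⟩
  · rintro _ ⟨a, ha, b, hb, rfl⟩
    exact mul_mem (Subgroup.mem_sup_left ha) (Subgroup.mem_sup_right hb)

theorem centralizer_sup (A B : Subgroup P) :
    Subgroup.centralizer ((A ⊔ B : Subgroup P) : Set P) =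
      Subgroup.centralizer (A : Set P) ⊓ Subgroup.centralizer (B : Set P) := by
  refine le_antisymm (le_inf (Subgroup.centralizer_le (SetLike.coe_subset_coe.2 le_sup_left))
    (Subgroup.centralizer_le (SetLike.coe_subset_coe.2 le_sup_right))) ?_
  rw [Subgroup.le_centralizer_iff]
  exact sup_le (Subgroup.le_centralizer_iff.1 inf_le_left) (Subgroup.le_centralizer_iff.1 inf_le_right)

theorem sup_centralizer_le (A B : Subgroup P) :
    Subgroup.centralizer (A : Set P) ⊔ Subgroup.centralizer (B : Set P) ≤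
      Subgroup.centralizer ((A ⊓ B : Subgroup P) : Set P) :=
  sup_le (Subgroup.centralizer_le (SetLike.coe_subset_coe.2 inf_le_left))
    (Subgroup.centralizer_le (SetLike.coe_subset_coe.2 inf_le_right))

theorem le_centralizer_centralizer (A : Subgroup P) :
    A ≤ Subgroup.centralizer ((Subgroup.centralizer (A : Set P) : Subgroup P) : Set P) :=
  Subgroup.le_centralizer_iff.1 le_rfl

/-- The measure. -/
noncomputable abbrev meas (R : Subgroup P) : ℕ :=
  Nat.card ↥R * Nat.card ↥(Subgroup.centralizer (R : Set P))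

theorem meas_le (R : Subgroup P) : meas R ≤ maxCentralizerProduct P :=
  le_csSup (Set.finite_range fun R : Subgroup P => meas R).bddAbove ⟨R, rfl⟩

theorem exists_large : ∃ R : Subgroup P, IsCentralizerLarge R :=
  Nat.sSup_mem (s := {k : ℕ | ∃ R : Subgroup P, meas R = k}) ⟨_, ⊥, rfl⟩
    (Set.finite_range fun R : Subgroup P => meas R).bddAbove

theorem large_of_le {R : Subgroup P} (h : maxCentralizerProduct P ≤ meas R) : IsCentralizerLarge R :=
  le_antisymm (meas_le R) h

/-- The lattice property. -/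
theorem lattice {Q R : Subgroup P} (hQ : IsCentralizerLarge Q) (hR : IsCentralizerLarge R) :
    IsCentralizerLarge (Q ⊔ R) ∧ IsCentralizerLarge (Q ⊓ R) ∧
      Nat.card Q * Nat.card R = Nat.card ↥(Q ⊔ R) * Nat.card ↥(Q ⊓ R) ∧
      Subgroup.centralizer ((Q ⊓ R : Subgroup P) : Set P) =
        Subgroup.centralizer (Q : Set P) ⊔ Subgroup.centralizer (R : Set P) ∧
      Nat.card (Subgroup.centralizer (Q : Set P)) * Nat.card (Subgroup.centralizer (R : Set P)) =
        Nat.card ↥(Subgroup.centralizer (Q : Set P) ⊔ Subgroup.centralizer (R : Set P)) *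
          Nat.card ↥(Subgroup.centralizer (Q : Set P) ⊓ Subgroup.centralizer (R : Set P)) := by
  set f := maxCentralizerProduct P with hf
  set CQ := Subgroup.centralizer (Q : Set P) with hCQ
  set CR := Subgroup.centralizer (R : Set P) with hCR
  have hfpos : 0 < f := lt_of_lt_of_eq (mul_pos Nat.card_pos Nat.card_pos) hQ
  have ha := prod_ineq Q R
  have hc := prod_ineq CQ CR
  have hle : Nat.card ↥(CQ ⊔ CR) ≤ Nat.card ↥(Subgroup.centralizer ((Q ⊓ R : Subgroup P) : Set P)) :=
    Nat.le_of_dvd Nat.card_pos (Subgroup.card_dvd_of_le (sup_centralizer_le Q R))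
  rw [← centralizer_sup] at hc
  set a := Nat.card Q * Nat.card R
  set a' := Nat.card ↥(Q ⊔ R) * Nat.card ↥(Q ⊓ R) with ha'
  set b := Nat.card CQ * Nat.card CR with hb
  set b' := Nat.card ↥(CQ ⊔ CR) * Nat.card ↥(Subgroup.centralizer ((Q ⊔ R : Subgroup P) : Set P)) with hb'
  set b'' := Nat.card ↥(Subgroup.centralizer ((Q ⊓ R : Subgroup P) : Set P)) *
    Nat.card ↥(Subgroup.centralizer ((Q ⊔ R : Subgroup P) : Set P)) with hb''
  have e1 : a * b = f * f := by
    conv_rhs => rw [← show meas Q = f from hQ]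
    rw [show meas Q * meas Q = meas Q * meas R by rw [show meas R = f from hR, show meas Q = f from hQ]]
    simp only [meas, a, hb]; ring
  have e2 : a' * b'' = meas (Q ⊔ R) * meas (Q ⊓ R) := by simp only [meas, ha', hb'']; ring
  have hb2 : b' ≤ b'' := Nat.mul_le_mul_right _ hle
  have h2 : f * f ≤ a' * b'' := e1 ▸ Nat.mul_le_mul ha (hc.trans hb2)
  have hJ := meas_le (Q ⊔ R)
  have hI := meas_le (Q ⊓ R)
  rw [e2] at h2
  have hJf : f ≤ meas (Q ⊔ R) :=
    Nat.le_of_mul_le_mul_right (h2.trans (Nat.mul_le_mul_left _ hI)) hfpos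
  have hIf : f ≤ meas (Q ⊓ R) :=
    Nat.le_of_mul_le_mul_left (h2.trans (Nat.mul_le_mul_right _ hJ)) hfpos
  have e3 : a' * b'' = f * f := by rw [e2, le_antisymm hJ hJf, le_antisymm hI hIf]
  have hbpos : 0 < b := mul_pos Nat.card_pos Nat.card_pos
  have ha'pos : 0 < a' := mul_pos Nat.card_pos Nat.card_pos
  have eb : b = b'' := le_antisymm (hc.trans hb2)
    (Nat.le_of_mul_le_mul_left (show a' * b'' ≤ a' * b by rw [e3, ← e1]; exact Nat.mul_le_mul_right _ ha) ha'pos)
  have ea : a = a' := Nat.eq_of_mul_eq_mul_right hbpos (e1.trans (by rw [← e3, eb]))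
  have eb' : b' = b'' := le_antisymm hb2 (eb ▸ hc)
  refine ⟨large_of_le hJf, large_of_le hIf, ea, ?_, ?_⟩
  · exact (Subgroup.eq_of_le_of_card_ge (sup_centralizer_le Q R)
      (le_of_eq (Nat.eq_of_mul_eq_mul_right Nat.card_pos eb').symm)).symm
  · rw [← centralizer_sup]; exact eb.trans eb'.symm

theorem centralizer_large {Q : Subgroup P} (hQ : IsCentralizerLarge Q) :
    IsCentralizerLarge (Subgroup.centralizer (Q : Set P)) ∧
      Q = Subgroup.centralizer ((Subgroup.centralizer (Q : Set P) : Subgroup P) : Set P) := by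
  have hle := le_centralizer_centralizer Q
  have h1 : meas Q ≤ meas (Subgroup.centralizer (Q : Set P)) := by
    simp only [meas]
    rw [mul_comm]
    exact Nat.mul_le_mul_left _ (Nat.le_of_dvd Nat.card_pos (Subgroup.card_dvd_of_le hle))
  have h2 : IsCentralizerLarge (Subgroup.centralizer (Q : Set P)) := large_of_le ((le_of_eq hQ.symm).trans h1)
  refine ⟨h2, Subgroup.eq_of_le_of_card_ge hle (le_of_eq ?_)⟩
  have e : meas (Subgroup.centralizer (Q : Set P)) = meas Q := (show _ = _ from h2).trans hQ.symm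
  simp only [meas] at e
  rw [mul_comm (Nat.card Q)] at e
  exact Nat.eq_of_mul_eq_mul_left Nat.card_pos e

theorem card_center_eq (R : Subgroup P) :
    Nat.card ↥(Subgroup.center ↥R) = Nat.card ↥(R ⊓ Subgroup.centralizer (R : Set P)) := by
  have e : (Subgroup.center ↥R).map R.subtype = R ⊓ Subgroup.centralizer (R : Set P) := by
    ext x
    constructor
    · rintro ⟨z, hz, rfl⟩
      exact Subgroup.mem_inf.2 ⟨z.2, Subgroup.mem_centralizer_iff.2 fun r hr =>
        congrArg Subtype.val (Subgroup.mem_center_iff.1 hz ⟨r, hr⟩)⟩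
    · intro hx
      obtain ⟨h1, h2⟩ := Subgroup.mem_inf.1 hx
      exact Subgroup.mem_map.2 ⟨⟨x, h1⟩, Subgroup.mem_center_iff.2 fun r =>
        Subtype.ext (Subgroup.mem_centralizer_iff.1 h2 r r.2), rfl⟩
  rw [← e, Subgroup.card_map_of_injective R.subtype_injective]

theorem central_le_meas (R : Subgroup P) :
    Nat.card R * Nat.card ↥(Subgroup.center ↥R) ≤ meas R := by
  rw [card_center_eq]
  exact Nat.mul_le_mul_left _ (Nat.le_of_dvd Nat.card_pos (Subgroup.card_dvd_of_le inf_le_right))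

theorem central_eq_meas {R : Subgroup P} (h : Subgroup.centralizer (R : Set P) ≤ R) :
    Nat.card R * Nat.card ↥(Subgroup.center ↥R) = meas R := by
  rw [card_center_eq, inf_eq_right.2 h]

theorem maxCentral_eq : maxCentralProduct P = maxCentralizerProduct P := by
  refine le_antisymm (csSup_le ⟨_, ⊥, rfl⟩ ?_) ?_
  · rintro _ ⟨R, rfl⟩
    exact (central_le_meas R).trans (meas_le R)
  · obtain ⟨R, hR⟩ := exists_large (P := P)
    obtain ⟨hC, hRR⟩ := centralizer_large hR
    have hJ := (lattice hR hC).1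
    set J := R ⊔ Subgroup.centralizer (R : Set P) with hJdef
    have hle : Subgroup.centralizer (J : Set P) ≤ J := by
      rw [hJdef, centralizer_sup]; exact inf_le_left.trans le_sup_right
    rw [← (show meas J = maxCentralizerProduct P from hJ), ← central_eq_meas hle]
    exact le_csSup (Set.finite_range fun R : Subgroup P => Nat.card R * Nat.card ↥(Subgroup.center ↥R)).bddAbove
      ⟨J, rfl⟩

theorem cl_iff {Q : Subgroup P} :
    IsCentrallyLarge Q ↔ IsCentralizerLarge Q ∧ Subgroup.centralizer (Q : Set P) ≤ Q := by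
  constructor
  · intro h
    have h1 := central_le_meas Q
    rw [show Nat.card Q * Nat.card ↥(Subgroup.center ↥Q) = maxCentralProduct P from h, maxCentral_eq] at h1
    have hQ := large_of_le h1
    refine ⟨hQ, ?_⟩
    have e : Nat.card Q * Nat.card ↥(Subgroup.center ↥Q) = meas Q :=
      (show _ = _ from h).trans (maxCentral_eq.trans hQ.symm)
    rw [card_center_eq] at e
    have := Subgroup.eq_of_le_of_card_ge (inf_le_right : Q ⊓ Subgroup.centralizer (Q : Set P) ≤ _)
      (le_of_eq (Nat.eq_of_mul_eq_mul_left Nat.card_pos e).symm)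
    exact this.ge.trans inf_le_left
  · rintro ⟨hQ, hle⟩
    exact (central_eq_meas hle).trans (hQ.trans maxCentral_eq.symm)

theorem cl_sup {Q R : Subgroup P} (hQ : IsCentrallyLarge Q) (hR : IsCentrallyLarge R) :
    IsCentrallyLarge (Q ⊔ R) ∧ ((Q ⊔ R : Subgroup P) : Set P) = (Q : Set P) * (R : Set P) := by
  obtain ⟨hQ1, hQ2⟩ := cl_iff.1 hQ
  obtain ⟨hR1, -⟩ := cl_iff.1 hR
  obtain ⟨hJ, -, he, -, -⟩ := lattice hQ1 hR1
  refine ⟨cl_iff.2 ⟨hJ, ?_⟩, set_eq_mul_of_card he⟩
  rw [centralizer_sup]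
  exact inf_le_left.trans (hQ2.trans le_sup_left)

theorem cl_sSup {F : Set (Subgroup P)} (hne : F.Nonempty) (h : ∀ R ∈ F, IsCentrallyLarge R) :
    IsCentrallyLarge (sSup F) := by
  obtain ⟨R₀, hR₀⟩ := hne
  obtain ⟨M, ⟨hM, hMle⟩, hmax⟩ := Set.exists_max_image {M : Subgroup P | IsCentrallyLarge M ∧ M ≤ sSup F}
    (fun M => Nat.card M) (Set.toFinite _) ⟨R₀, h R₀ hR₀, le_sSup hR₀⟩
  have e : sSup F = M := by
    refine le_antisymm (sSup_le fun R hR => ?_) hMle
    have := hmax (M ⊔ R) ⟨(cl_sup hM (h R hR)).1, sup_le hMle (le_sSup hR)⟩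
    exact le_sup_right.trans (Subgroup.eq_of_le_of_card_ge le_sup_left this).ge
  rw [e]; exact hM

theorem exists_cl : ∃ Q : Subgroup P, IsCentrallyLarge Q :=
  Nat.sSup_mem (s := {k : ℕ | ∃ R : Subgroup P, Nat.card R * Nat.card ↥(Subgroup.center ↥R) = k}) ⟨_, ⊥, rfl⟩
    (Set.finite_range fun R : Subgroup P => Nat.card R * Nat.card ↥(Subgroup.center ↥R)).bddAbove

theorem exists_minimal : ∃ Q : Subgroup P, IsMinimalCentrallyLarge Q := by
  obtain ⟨Q₀, hQ₀⟩ := exists_cl (P := P)
  obtain ⟨Q, hQ, hmin⟩ := Set.exists_min_image {Q : Subgroup P | IsCentrallyLarge Q} (fun Q => Nat.card Q)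
    (Set.toFinite _) ⟨Q₀, hQ₀⟩
  exact ⟨Q, hQ, fun R hle hR => Subgroup.eq_of_le_of_card_ge hle (hmin R hR)⟩

/-- A centrally large subgroup contains every element centralizing a subgroup that contains its centre. -/
theorem centralizer_le_cl {Q X : Subgroup P} (hQ : IsCentrallyLarge Q) (hX : Subgroup.centralizer (Q : Set P) ≤ X) :
    Subgroup.centralizer (X : Set P) ≤ Q := by
  obtain ⟨hQ1, -⟩ := cl_iff.1 hQ
  set Y := Q ⊔ Subgroup.centralizer (X : Set P) with hY
  have hCY : Subgroup.centralizer (Q : Set P) ≤ Subgroup.centralizer (Y : Set P) := by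
    rw [hY, centralizer_sup]
    exact le_inf le_rfl (hX.trans (le_centralizer_centralizer X))
  have h1 : meas Y ≤ meas Q := (meas_le Y).trans hQ1.ge
  have h2 : Nat.card (Subgroup.centralizer (Q : Set P)) ≤ Nat.card (Subgroup.centralizer (Y : Set P)) :=
    Nat.le_of_dvd Nat.card_pos (Subgroup.card_dvd_of_le hCY)
  have h3 : Nat.card Y ≤ Nat.card Q :=
    Nat.le_of_mul_le_mul_right (le_trans (Nat.mul_le_mul_left _ h2) h1) Nat.card_pos
  exact le_sup_right.trans (Subgroup.eq_of_le_of_card_ge le_sup_left h3).ge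

theorem centralizer_maxAbelian {A : Subgroup P} (hA : A ∈ maxAbelianSubgroups P) :
    Subgroup.centralizer (A : Set P) = A := by
  obtain ⟨hAc, hAm⟩ := hA
  have hAA : A ≤ Subgroup.centralizer (A : Set P) := fun a ha => Subgroup.mem_centralizer_iff.2 fun b hb =>
    congrArg Subtype.val (hAc.is_comm.comm (⟨b, hb⟩ : A) ⟨a, ha⟩)
  refine le_antisymm (fun x hx => ?_) hAA
  set B := A ⊔ Subgroup.zpowers x with hB
  have hle : B ≤ Subgroup.centralizer (B : Set P) := by
    rw [hB, centralizer_sup]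
    refine sup_le (le_inf hAA ?_) (Subgroup.zpowers_le.2 (Subgroup.mem_inf.2 ⟨hx, ?_⟩))
    · exact Subgroup.le_centralizer_iff.1 (Subgroup.zpowers_le.2 hx)
    · exact Subgroup.le_centralizer (Subgroup.zpowers x) (Subgroup.mem_zpowers x)
  have hBc : IsMulCommutative B := ⟨⟨fun u v => Subtype.ext (Subgroup.mem_centralizer_iff.1 (hle v.2) u u.2)⟩⟩
  exact (Subgroup.eq_of_le_of_card_ge le_sup_left (hAm B hBc)).ge (Subgroup.mem_sup_right (Subgroup.mem_zpowers x))

/-- Joining a centrally large subgroup with an abelian subgroup of maximal order. -/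
theorem cl_sup_maxAbelian {Q A : Subgroup P} (hQ : IsCentrallyLarge Q) (hA : A ∈ maxAbelianSubgroups P) :
    IsCentrallyLarge (Q ⊔ A) ∧ ((Q ⊔ A : Subgroup P) : Set P) = (Q : Set P) * (A : Set P) ∧
      (Subgroup.centralizer (Q : Set P) ⊔ (Q ⊓ A)) ∈ maxAbelianSubgroups P := by
  obtain ⟨hQ1, hQ2⟩ := cl_iff.1 hQ
  set Z := Subgroup.centralizer (Q : Set P) with hZ
  set I := Q ⊓ A with hI
  set B := Z ⊔ I with hB
  have hIc : I ≤ Subgroup.centralizer (I : Set P) := fun u hu => Subgroup.mem_centralizer_iff.2 fun v hv =>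
    congrArg Subtype.val (hA.1.is_comm.comm (⟨v, (Subgroup.mem_inf.1 hv).2⟩ : A) ⟨u, (Subgroup.mem_inf.1 hu).2⟩)
  have hBle : B ≤ Subgroup.centralizer (B : Set P) := by
    rw [hB, centralizer_sup]
    refine sup_le (le_inf (Subgroup.centralizer_le (SetLike.coe_subset_coe.2 hQ2)) (Subgroup.centralizer_le (SetLike.coe_subset_coe.2 inf_le_left)))
      (le_inf (inf_le_left.trans (le_centralizer_centralizer Q)) hIc)
  have hBc : IsMulCommutative B := ⟨⟨fun u v => Subtype.ext (Subgroup.mem_centralizer_iff.1 (hBle v.2) u u.2)⟩⟩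
  have hBA : Nat.card B ≤ Nat.card A := hA.2 B hBc
  have hCJ : Subgroup.centralizer ((Q ⊔ A : Subgroup P) : Set P) = Z ⊓ A := by
    rw [centralizer_sup, centralizer_maxAbelian hA]
  have hZI : Z ⊓ I = Z ⊓ A := by
    rw [hI, ← inf_assoc, inf_eq_left.2 hQ2]
  have h1 := prod_ineq Z I
  rw [← hB, hZI] at h1
  have h2 := prod_ineq Q A
  rw [← hI] at h2
  set J := Q ⊔ A
  have hmeas : meas J = Nat.card J * Nat.card ↥(Z ⊓ A) := by simp only [meas, hCJ]
  have hJle := meas_le J
  rw [hmeas, ← (show Nat.card Q * Nat.card Z = maxCentralizerProduct P from hQ1)] at hJle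
  have c1 : Nat.card Q * Nat.card Z * Nat.card I ≤ Nat.card J * Nat.card ↥(Z ⊓ A) * Nat.card I := by
    calc Nat.card Q * Nat.card Z * Nat.card I = Nat.card Q * (Nat.card Z * Nat.card I) := by ring
      _ ≤ Nat.card Q * (Nat.card B * Nat.card ↥(Z ⊓ A)) := Nat.mul_le_mul_left _ h1
      _ ≤ Nat.card Q * (Nat.card A * Nat.card ↥(Z ⊓ A)) := by gcongr
      _ = (Nat.card Q * Nat.card A) * Nat.card ↥(Z ⊓ A) := by ring
      _ ≤ (Nat.card J * Nat.card I) * Nat.card ↥(Z ⊓ A) := Nat.mul_le_mul_right _ h2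
      _ = _ := by ring
  have hJ : IsCentralizerLarge J := large_of_le (by
    rw [hmeas, ← (show Nat.card Q * Nat.card Z = maxCentralizerProduct P from hQ1)]
    exact Nat.le_of_mul_le_mul_right c1 Nat.card_pos)
  have eJ : Nat.card J * Nat.card ↥(Z ⊓ A) = Nat.card Q * Nat.card Z :=
    le_antisymm hJle (Nat.le_of_mul_le_mul_right c1 Nat.card_pos)
  have hZIpos : 0 < Nat.card ↥(Z ⊓ A) := Nat.card_pos
  have hQpos : 0 < Nat.card Q := Nat.card_pos
  have eQA : Nat.card Q * Nat.card A = Nat.card J * Nat.card I := by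
    refine le_antisymm h2 ?_
    refine Nat.le_of_mul_le_mul_right ?_ hZIpos
    calc Nat.card J * Nat.card I * Nat.card ↥(Z ⊓ A) = Nat.card J * Nat.card ↥(Z ⊓ A) * Nat.card I := by ring
      _ = Nat.card Q * (Nat.card Z * Nat.card I) := by rw [eJ]; ring
      _ ≤ Nat.card Q * (Nat.card B * Nat.card ↥(Z ⊓ A)) := Nat.mul_le_mul_left _ h1
      _ ≤ Nat.card Q * (Nat.card A * Nat.card ↥(Z ⊓ A)) := by gcongr
      _ = _ := by ring
  have eB : Nat.card A ≤ Nat.card B := by
    refine Nat.le_of_mul_le_mul_left ?_ (mul_pos hQpos hZIpos)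
    calc Nat.card Q * Nat.card ↥(Z ⊓ A) * Nat.card A = Nat.card J * Nat.card ↥(Z ⊓ A) * Nat.card I := by
          rw [mul_right_comm, eQA]; ring
      _ = Nat.card Q * (Nat.card Z * Nat.card I) := by rw [eJ]; ring
      _ ≤ Nat.card Q * (Nat.card B * Nat.card ↥(Z ⊓ A)) := Nat.mul_le_mul_left _ h1
      _ = _ := by ring
  refine ⟨cl_iff.2 ⟨hJ, ?_⟩, set_eq_mul_of_card eQA, ⟨hBc, fun X hX => (hA.2 X hX).trans eB⟩⟩
  rw [hCJ]; exact inf_le_right.trans le_sup_right

end CfsgLib.Inv.CD
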