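import Cfsg.Agent.Inv.Dihedral
import Mathlib.GroupTheory.Index
import Mathlib.GroupTheory.GroupAction.ConjAct
import Mathlib.Tactic

/-! Counting pairs of involutions with a given product. -/

set_option autoImplicit false

namespace CfsgLib.Inv

variable {G : Type*} [Group G]

theorem inverts_of_pair {u v x : G} (hu : orderOf u = 2) (hv : orderOf v = 2) (h : u * v = x) :
    u * x * u⁻¹ = x⁻¹ := by
  rw [← h]; exact pair_conj hu hv

theorem inv_pair_sq {t x : G} (ht : orderOf t = 2) (h : t * x * t⁻¹ = x⁻¹) :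
    (t * x) * (t * x) = 1 := by
  rw [invol_inv ht] at h
  calc (t * x) * (t * x) = (t * x * t) * x := by group
    _ = 1 := by rw [h, inv_mul_cancel]

theorem second_eq {t : G} {p : G × G} (h1 : orderOf p.1 = 2) (h : p.1 * p.2 = t) :
    p.2 = p.1 * t := by
  rw [← h, ← mul_assoc, invol_mul_self h1, one_mul]

/-- `u ↦ (u, u x)` identifies inverting involutions with involution pairs of product `x`. -/
def pairEquiv (x : G) : {p : G × G // orderOf p.1 = 2 ∧ orderOf p.2 = 2 ∧ p.1 * p.2 = x} ≃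
    {t : G // orderOf t = 2 ∧ t * x * t⁻¹ = x⁻¹ ∧ t ≠ x} where
  toFun p := ⟨p.1.1, p.2.1, inverts_of_pair p.2.1 p.2.2.1 p.2.2.2, by
    obtain ⟨⟨u, v⟩, hu, hv, huv⟩ := p
    intro h
    dsimp at h huv
    subst h
    exact invol_ne_one hv (mul_eq_left.1 huv)⟩
  invFun t := ⟨(t.1, t.1 * x), t.2.1, invol_iff.2 ⟨fun h => t.2.2.2 (by
      rw [← invol_inv t.2.1]; exact (eq_inv_of_mul_eq_one_right h).symm), inv_pair_sq t.2.1 t.2.2.1⟩,
    by rw [← mul_assoc, invol_mul_self t.2.1, one_mul]⟩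
  left_inv p := Subtype.ext (Prod.ext rfl (second_eq p.2.1 p.2.2.2).symm)
  right_inv _ := rfl

theorem card_conj_eq {x y g₀ : G} (h : g₀ * x * g₀⁻¹ = y) :
    Nat.card {g : G // g * x * g⁻¹ = y} = Nat.card (Subgroup.centralizer ({x} : Set G)) := by
  subst h
  refine Nat.card_congr
    { toFun := fun g => ⟨g₀⁻¹ * g, Subgroup.mem_centralizer_singleton_iff.2 ?_⟩
      invFun := fun c => ⟨g₀ * c, ?_⟩
      left_inv := fun g => Subtype.ext (by simp)
      right_inv := fun c => Subtype.ext (by simp) }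
  · calc g₀⁻¹ * g * x = g₀⁻¹ * ((g : G) * x * (g : G)⁻¹) * g := by group
      _ = x * (g₀⁻¹ * g) := by rw [g.2]; group
  · calc g₀ * c * x * (g₀ * c)⁻¹ = g₀ * ((c : G) * x) * (c : G)⁻¹ * g₀⁻¹ := by group
      _ = g₀ * x * g₀⁻¹ := by rw [Subgroup.mem_centralizer_singleton_iff.1 c.2]; group

theorem card_pairs_le [Finite G] (x : G) :
    Nat.card {p : G × G // orderOf p.1 = 2 ∧ orderOf p.2 = 2 ∧ p.1 * p.2 = x} ≤
      Nat.card (Subgroup.centralizer ({x} : Set G)) := by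
  rw [Nat.card_congr (pairEquiv x)]
  rcases isEmpty_or_nonempty {t : G // orderOf t = 2 ∧ t * x * t⁻¹ = x⁻¹ ∧ t ≠ x} with h | ⟨⟨t⟩⟩
  · simp
  · rw [← card_conj_eq t.2.2.1]
    exact Nat.card_le_card_of_injective (fun s => (⟨s.1, s.2.2.1⟩ : {g : G // g * x * g⁻¹ = x⁻¹}))
      fun a b h => Subtype.ext (congrArg (fun g : {g : G // g * x * g⁻¹ = x⁻¹} => (g : G)) h)

theorem commute_of_invol_inverts {t x : G} (hx : orderOf x = 2) :
    t * x * t⁻¹ = x⁻¹ ↔ Commute t x := by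
  rw [invol_inv hx, mul_inv_eq_iff_eq_mul]; rfl

theorem card_pairs_invol [Finite G] {x : G} (hx : orderOf x = 2) :
    Nat.card {p : G × G // orderOf p.1 = 2 ∧ orderOf p.2 = 2 ∧ p.1 * p.2 = x} + 1 =
      Nat.card {t : G // orderOf t = 2 ∧ Commute t x} := by
  classical
  rw [Nat.card_congr (pairEquiv x)]
  let e : Option {t : G // orderOf t = 2 ∧ t * x * t⁻¹ = x⁻¹ ∧ t ≠ x} ≃
      {t : G // orderOf t = 2 ∧ Commute t x} :=
    { toFun := fun o => o.elim ⟨x, hx, Commute.refl x⟩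
        fun t => ⟨t.1, t.2.1, (commute_of_invol_inverts hx).1 t.2.2.1⟩
      invFun := fun t => if h : t.1 = x then none
        else some ⟨t.1, t.2.1, (commute_of_invol_inverts hx).2 t.2.2, h⟩
      left_inv := by rintro (_ | ⟨t, h1, h2, h3⟩) <;> simp_all
      right_inv := by rintro ⟨t, ht⟩; by_cases h : t = x <;> simp [h] }
  rw [← Nat.card_congr e, Finite.card_option]

end CfsgLib.Inv
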