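import Cfsg.Prelude.Def_CaseTheorems
import Cfsg.Agent.Lie.DicksonPGL
import Cfsg.Agent.Lie.DicksonCor

/-!
Fusion on an extraspecial group of order `p³` and exponent `p`: torus elements in `N(P)` and the bound
on `p` from the finite subgroups of `PGL₂(p)` of order prime to `p`.
-/

set_option autoImplicit false
set_option linter.unusedSectionVars false
set_option linter.style.haveILetI false

namespace CfsgLib.Inv.CubeFusion

open Matrix CfsgLib.Lie.ProjLine
open scoped LinearAlgebra.Projectivization commutatorElement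

section PGL

variable {p : ℕ} [hp : Fact p.Prime]

theorem comm_case {X : Finset (Pt (ZMod p))} (hX : 3 ≤ X.card) {m : ℕ} (hm : 3 ≤ m)
    (g : Pt (ZMod p) → Matrix.ProjGenLinGroup (Fin 2) (ZMod p))
    (hfix : ∀ x ∈ X, g x • x = x) (hord : ∀ x ∈ X, orderOf (g x) = m)
    (hc : ∀ x ∈ X, ∀ y ∈ X, g x * g y = g y * g x) : False := by
  obtain ⟨a, b, c, ha, hb, hc', hab, hac, hbc⟩ := Finset.two_lt_card_iff.1 hX
  have hne : g a ≠ 1 := fun e => by
    have := hord a ha
    rw [e, orderOf_one] at this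
    omega
  obtain ⟨z, hz, hgz⟩ : ∃ z ∈ X, g a • z ≠ z := by
    by_contra h
    push Not at h
    exact hne (PGL_eq_one hab hac hbc (h a ha) (h b hb) (h c hc'))
  have hk := hc a ha z hz
  have hgka : g a • (g z • a) = g z • a := by rw [← mul_smul, hk, mul_smul, hfix a ha]
  have hgkka : g a • (g z • g z • a) = g z • g z • a := by
    rw [← mul_smul (g a), hk, mul_smul, hgka]
  have h2 : g z • g z • a = a := by
    by_contra h
    by_cases h1 : g z • a = a
    · exact h (by rw [h1, h1])
    exact hne (PGL_eq_one (Ne.symm h1) (Ne.symm h) (fun e => h1 (smul_left_cancel _ e).symm)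
      (hfix a ha) hgka hgkka)
  have hkgz : g z • (g a • z) = g a • z := by rw [← mul_smul, ← hk, mul_smul, hfix z hz]
  have hza : z ≠ a := fun e => hgz (by rw [e]; exact hfix a ha)
  have hgza : g a • z ≠ a := fun e => hza (smul_left_cancel _ (e.trans (hfix a ha).symm))
  have hsq : g z ^ 2 = 1 := by
    refine PGL_eq_one (Ne.symm hgz) hza hgza ?_ ?_ ?_
    · rw [pow_two, mul_smul, hfix z hz, hfix z hz]
    · rw [pow_two, mul_smul, hkgz, hkgz]
    · rw [pow_two, mul_smul, h2]
  have := Nat.le_of_dvd (by norm_num) (orderOf_dvd_of_pow_eq_one hsq)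
  rw [hord z hz] at this
  omega

theorem no_action (H : Subgroup (Matrix.ProjGenLinGroup (Fin 2) (ZMod p)))
    (hcop : ∀ g ∈ H, g ^ p = 1 → g = 1) (m : ℕ) (X : Finset (Pt (ZMod p))) (hX : 3 ≤ X.card)
    (hm : 6 ≤ m ∨ (m = 4 ∧ 12 < X.card))
    (hfix : ∀ x ∈ X, ∃ g ∈ H, g • x = x ∧ orderOf g = m) : False := by
  classical
  choose g hgH hgfix hgord using hfix
  let f : Pt (ZMod p) → ↥H := fun x => if h : x ∈ X then ⟨g x h, hgH x h⟩ else 1
  have hf1 : ∀ x ∈ X, (f x : Matrix.ProjGenLinGroup (Fin 2) (ZMod p)) • x = x := fun x hx => by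
    simp only [f, dif_pos hx]
    exact hgfix x hx
  have hf2 : ∀ x ∈ X, orderOf (f x) = m := fun x hx => by
    simp only [f, dif_pos hx]
    rw [← hgord x hx, ← Subgroup.orderOf_coe]
  have hm3 : 3 ≤ m := by omega
  haveI : Finite (Matrix.ProjGenLinGroup (Fin 2) (ZMod p)) :=
    Finite.of_surjective _ Matrix.ProjGenLinGroup.mk_surjective
  have hcomm : (∀ x ∈ X, ∀ y ∈ X, f x * f y = f y * f x) → False := fun h =>
    comm_case hX hm3 (fun x => (f x : Matrix.ProjGenLinGroup (Fin 2) (ZMod p))) hf1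
      (fun x hx => by rw [Subgroup.orderOf_coe]; exact hf2 x hx)
      (fun x hx y hy => congrArg Subtype.val (h x hx y hy))
  have hsmall : ∀ {K : Type} [Group K] (e : ↥H ≃* K) (k : ℕ), 0 < k → (∀ x : K, x ^ 2 = 1 ∨ x ^ 3 = 1 ∨ x ^ k = 1) →
      k < m → False := by
    intro K _ e k hk0 hk hkm
    obtain ⟨x, hx⟩ : ∃ x, x ∈ X := Finset.card_pos.1 (by omega)
    have hxm : orderOf (e (f x)) = m := by rw [MulEquiv.orderOf_eq]; exact hf2 x hx
    rcases hk (e (f x)) with h | h | h <;>
      have := Nat.le_of_dvd (by omega) (orderOf_dvd_of_pow_eq_one h) <;>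
      rw [hxm] at this <;> omega
  cases CfsgLib.Lie.DicksonPGL.dickson p H.subtype H.subtype_injective with
  | borel y hy u hu hup => exact hu (Subtype.ext (hcop u u.2 (congrArg Subtype.val hup)))
  | cyclic hc hk =>
    obtain ⟨r, hr⟩ := IsCyclic.exists_generator (α := ↥H)
    refine hcomm fun x _ y _ => ?_
    obtain ⟨i, hi⟩ := Subgroup.mem_zpowers_iff.1 (hr (f x))
    obtain ⟨j, hj⟩ := Subgroup.mem_zpowers_iff.1 (hr (f y))
    rw [← hi, ← hj, ← _root_.zpow_add, ← _root_.zpow_add, add_comm]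
  | dihedral k hk hok e =>
    obtain ⟨e⟩ := e
    have hr : ∀ x ∈ X, ∃ i, e (f x) = DihedralGroup.r i := by
      intro x hx
      have h := hf2 x hx
      rw [← MulEquiv.orderOf_eq e] at h
      rcases hv : e (f x) with i | i
      · exact ⟨i, rfl⟩
      · rw [hv, DihedralGroup.orderOf_sr] at h
        omega
    refine hcomm fun x hx y hy => e.injective ?_
    obtain ⟨i, hi⟩ := hr x hx
    obtain ⟨j, hj⟩ := hr y hy
    rw [map_mul, map_mul, hi, hj, DihedralGroup.r_mul_r, DihedralGroup.r_mul_r, add_comm]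
  | alt4 hp2 e =>
    exact hsmall e.some 3 (by norm_num) (by decide +kernel) (by omega)
  | sym4 hp2 e =>
    obtain ⟨e⟩ := e
    rcases hm with h6 | ⟨h4, h12⟩
    · exact hsmall e 4 (by norm_num) (by decide +kernel) (by omega)
    · have hcard : ((Finset.univ : Finset (Equiv.Perm (Fin 4))).filter fun x => x ^ 4 = 1 ∧ x ^ 2 ≠ 1).card = 6 := by
        decide +kernel
      have himg : X.image (fun x => e (f x)) ⊆
          (Finset.univ : Finset (Equiv.Perm (Fin 4))).filter fun x => x ^ 4 = 1 ∧ x ^ 2 ≠ 1 := by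
        intro s hs
        obtain ⟨x, hx, rfl⟩ := Finset.mem_image.1 hs
        have h := hf2 x hx
        rw [← MulEquiv.orderOf_eq e, h4] at h
        refine Finset.mem_filter.2 ⟨Finset.mem_univ _, orderOf_dvd_iff_pow_eq_one.1 (dvd_of_eq h), fun e2 => ?_⟩
        have := Nat.le_of_dvd (by norm_num) (orderOf_dvd_of_pow_eq_one e2)
        omega
      have hle := Finset.card_le_mul_card_image (f := fun x => e (f x)) X 2 (fun s hs => by
        by_contra hlt
        obtain ⟨a, b, c, ha, hb, hc, hab, hac, hbc⟩ := Finset.two_lt_card_iff.1 (not_le.1 hlt)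
        rw [Finset.mem_filter] at ha hb hc
        have hab' : f a = f b := e.injective (ha.2.trans hb.2.symm)
        have hac' : f a = f c := e.injective (ha.2.trans hc.2.symm)
        have h1 := PGL_eq_one (g := (f a : Matrix.ProjGenLinGroup (Fin 2) (ZMod p))) hab hac hbc
          (hf1 a ha.1) (by rw [hab']; exact hf1 b hb.1) (by rw [hac']; exact hf1 c hc.1)
        have hh := hf2 a ha.1
        rw [← Subgroup.orderOf_coe, h1, orderOf_one] at hh
        omega)
      have := (Finset.card_le_card himg).trans hcard.le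
      omega
  | alt5 hp2 e =>
    refine hsmall e.some 5 (by norm_num) (by decide +kernel) ?_
    rcases hm with h6 | ⟨h4, h12⟩
    · omega
    · -- no element of order 4
      exfalso
      obtain ⟨x, hx⟩ : ∃ x, x ∈ X := Finset.card_pos.1 (by omega)
      have h := hf2 x hx
      rw [← MulEquiv.orderOf_eq e.some, h4] at h
      have hA : ∀ y : alternatingGroup (Fin 5), y ^ 4 = 1 → y ^ 2 = 1 := by decide +kernel
      have := Nat.le_of_dvd (by norm_num) (orderOf_dvd_of_pow_eq_one (hA _ (orderOf_dvd_iff_pow_eq_one.1 (dvd_of_eq h))))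
      omega
  | subfield K₀ i₁ i₂ r hr h3 κ k hrange e =>
    letI := i₁
    letI := i₂
    haveI : CharP K₀ p := (κ.charP_iff κ.injective p).2 inferInstance
    obtain ⟨d, -, hd⟩ := FiniteField.card K₀ p
    have hdvd : p ∣ Fintype.card K₀ := hd ▸ dvd_pow_self p d.ne_zero
    have hpH : p ∣ Nat.card ↥H := by
      rcases e with ⟨⟨e⟩⟩ | ⟨⟨e⟩⟩
      · have h := CfsgLib.Lie.DicksonCor.card_PSL K₀
        rw [← Nat.card_congr e.toEquiv] at h
        have h2 : p ∣ Nat.gcd 2 (Fintype.card K₀ - 1) * Nat.card ↥H := h ▸ hdvd.mul_right _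
        refine (hp.out.dvd_mul.1 h2).resolve_left fun h' => ?_
        have h'' : p ∣ Fintype.card K₀ - 1 := h'.trans (Nat.gcd_dvd_right _ _)
        exact hp.out.one_lt.not_ge (Nat.le_of_dvd one_pos ((Nat.dvd_add_right h'').1
          (by rwa [Nat.sub_add_cancel (by omega : 1 ≤ Fintype.card K₀)])))
      · rw [Nat.card_congr e.toEquiv, CfsgLib.Lie.DicksonCor.card_PGL]
        exact hdvd.mul_right _
    obtain ⟨u, hu⟩ := exists_prime_orderOf_dvd_card' p hpH
    have hup : u ^ p = 1 := orderOf_dvd_iff_pow_eq_one.1 (dvd_of_eq hu)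
    have h1 : u = 1 := Subtype.ext (hcop u u.2 (congrArg Subtype.val hup))
    rw [h1, orderOf_one] at hu
    exact hp.out.ne_one hu.symm

end PGL

end CfsgLib.Inv.CubeFusion
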