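import Cfsg.Agent.Inv.CubeFusion
import Cfsg.Agent.Solv.PGroups

/-!
Torus elements normalizing an extraspecial Sylow `p`-subgroup of order `p³`, and the resulting bound on `p`.
-/

set_option autoImplicit false
set_option linter.unusedSectionVars false
set_option linter.style.haveILetI false

namespace CfsgLib.Inv.CubeTorus

open Matrix
open scoped commutatorElement

variable {G : Type*} [Group G] [Finite G] {p : ℕ} [hp : Fact p.Prime] (P : Sylow p G)

/-- power with exponent in `ZMod p` -/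
noncomputable def pw (z : G) (i : ZMod p) : G := z ^ i.val

theorem pw_nat {z : G} (hz : z ^ p = 1) (n : ℕ) : pw z (n : ZMod p) = z ^ n := by
  rw [pw, ZMod.val_natCast, ← pow_eq_pow_mod n hz]

theorem pw_add {z : G} (hz : z ^ p = 1) (i j : ZMod p) : pw z (i + j) = pw z i * pw z j := by
  rw [pw, pw, pw, ZMod.val_add, ← pow_add, ← pow_eq_pow_mod _ hz]

theorem pw_mul {z : G} (hz : z ^ p = 1) (i j : ZMod p) : pw z (i * j) = pw z i ^ j.val := by
  rw [pw, pw, ZMod.val_mul, ← pow_mul, ← pow_eq_pow_mod _ hz]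

theorem pw_zero (z : G) : pw z (0 : ZMod p) = 1 := by rw [pw, ZMod.val_zero, pow_zero]

theorem pw_one (z : G) : pw z (1 : ZMod p) = z := by rw [pw, ZMod.val_one, pow_one]

/-- the element `z^i x^j` -/
noncomputable def el (z x : G) (i j : ZMod p) : G := pw z i * pw x j

theorem el_mul {z x : G} (hz : z ^ p = 1) (hx : x ^ p = 1) (hc : Commute z x) (i j k l : ZMod p) :
    el z x i j * el z x k l = el z x (i + k) (j + l) := by
  have h : Commute (pw x j) (pw z k) := (hc.symm.pow_left _).pow_right _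
  rw [el, el, el, pw_add hz, pw_add hx, mul_assoc, ← mul_assoc (pw x j), h.eq]
  group

/-- `g` acts on `⟨z, x⟩` by the shear `(i, j) ↦ (i + r j, j)` -/
def Shear (z x : G) (r : ZMod p) (g : G) : Prop :=
  ∀ i j : ZMod p, g * el z x i j * g⁻¹ = el z x (i + r * j) j

theorem shear_of {z x : G} (hz : z ^ p = 1) (hx : x ^ p = 1) (hc : Commute z x) {g : G} {r : ZMod p}
    (h1 : g * z * g⁻¹ = z) (h2 : g * x * g⁻¹ = el z x r 1) : Shear z x r g := by
  intro i j
  have h3 : el z x (r * j) j = el z x r 1 ^ j.val := by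
    have : ∀ n : ℕ, el z x r 1 ^ n = el z x (r * (n : ZMod p)) (n : ZMod p) := by
      intro n
      induction n with
      | zero => rw [pow_zero, Nat.cast_zero, mul_zero, el, pw_zero, pw_zero, mul_one]
      | succ n ih => rw [pow_succ, ih, el_mul hz hx hc]; push_cast; ring_nf
    rw [this, ZMod.natCast_val, ZMod.cast_id]
  have hgz : g * pw z i * g⁻¹ = pw z i := by rw [pw, ← conj_pow, h1]
  have hgx : g * pw x j * g⁻¹ = el z x (r * j) j := by rw [h3, pw, ← conj_pow, h2]
  calc g * el z x i j * g⁻¹ = (g * pw z i * g⁻¹) * (g * pw x j * g⁻¹) := by rw [el]; group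
    _ = el z x i 0 * el z x (r * j) j := by rw [hgz, hgx, el, el, pw_zero x, mul_one]
    _ = _ := by rw [el_mul hz hx hc, zero_add]

theorem shear_pow {z x : G} {r : ZMod p} {g : G} (h : Shear z x r g) (n : ℕ) :
    Shear z x ((n : ZMod p) * r) (g ^ n) := by
  induction n with
  | zero => intro i j; simp [el]
  | succ n ih =>
    intro i j
    rw [pow_succ', show g * g ^ n * el z x i j * (g * g ^ n)⁻¹ = g * (g ^ n * el z x i j * (g ^ n)⁻¹) * g⁻¹ by
      group, ih, h]
    congr 1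
    push_cast
    ring

theorem shear_inv {z x : G} {r : ZMod p} {g : G} (h : Shear z x r g) : Shear z x (-r) g⁻¹ := by
  intro i j
  have := h (i + -r * j) j
  rw [show i + -r * j + r * j = i by ring] at this
  rw [← this]
  group

theorem el_swap {z x : G} (hc : Commute z x) (i j : ZMod p) : el x z j i = el z x i j :=
  ((hc.symm.pow_left _).pow_right _).eq

theorem shear_conj {z x : G} {r : ZMod p} {g : G} (h : Shear z x r g) (i j : ZMod p) :
    g * el z x i j * g⁻¹ = el z x (i + r * j) j := h i j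

/-- the torus element from two opposite shears -/
theorem torus_raw {z x : G} (hz : z ^ p = 1) (hx : x ^ p = 1) (hc : Commute z x) {u l : G}
    (hu1 : u * z * u⁻¹ = z) (hu2 : u * x * u⁻¹ = z * x) (hl1 : l * x * l⁻¹ = x) (hl2 : l * z * l⁻¹ = z * x)
    {t : ZMod p} (ht : t ≠ 0) :
    ∃ h : G, ∀ i j : ZMod p, h * el z x i j * h⁻¹ = el z x (t * i) (t⁻¹ * j) := by
  have hu : Shear z x 1 u := shear_of hz hx hc hu1 (by rw [hu2, el, pw_one, pw_one])
  have hl : Shear x z 1 l := shear_of hx hz hc.symm hl1 (by rw [hl2, el, pw_one, pw_one]; exact hc.eq)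
  have hlf : ∀ (n : ℕ) (i j : ZMod p), l ^ n * el z x i j * (l ^ n)⁻¹ = el z x i (j + n * i) := by
    intro n i j
    rw [← el_swap hc, shear_pow hl n j i, mul_one, el_swap hc]
  have hL : ∀ (s i j : ZMod p), l ^ s.val * el z x i j * (l ^ s.val)⁻¹ = el z x i (j + s * i) := by
    intro s i j
    rw [hlf, ZMod.natCast_val, ZMod.cast_id]
  have hU : ∀ (s i j : ZMod p), u ^ s.val * el z x i j * (u ^ s.val)⁻¹ = el z x (i + s * j) j := by
    intro s i j
    rw [shear_pow hu s.val i j, mul_one, ZMod.natCast_val, ZMod.cast_id]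
  refine ⟨u ^ t.val * l ^ (-t⁻¹).val * u ^ t.val * u ^ (-1 : ZMod p).val * l ^ (1 : ZMod p).val *
    u ^ (-1 : ZMod p).val, fun i j => ?_⟩
  have key : ∀ a b y : G, a * b * y * (a * b)⁻¹ = a * (b * y * b⁻¹) * a⁻¹ := fun a b y => by group
  rw [key, key, key, key, key, hU, hL, hU, hU, hL, hU]
  congr 1 <;> field_simp <;> ring


/-- coordinates on the extraspecial group of order `p³` -/
structure Frame where
  z : G
  hzP : z ∈ P
  hz1 : z ≠ 1
  hzp : z ^ p = 1
  hzc : ∀ y ∈ P, Commute y z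
  π : ↥(P : Subgroup G) → (Fin 2 → ZMod p)
  π_mul : ∀ x y, π (x * y) = π x + π y
  π_surj : Function.Surjective π
  π_zero : ∀ x, π x = 0 ↔ ∃ i : ZMod p, (x : G) = pw z i
  π_comm : ∀ x y, π x 0 * π y 1 - π x 1 * π y 0 = 0 ↔ Commute (x : G) y
  ρ : ↥(Subgroup.normalizer ((P : Subgroup G) : Set G)) →* Matrix (Fin 2) (Fin 2) (ZMod p)
  ρ_spec : ∀ (n : ↥(Subgroup.normalizer ((P : Subgroup G) : Set G))) (x y : ↥(P : Subgroup G)),
    (y : G) = (n : G) * x * (n : G)⁻¹ → π y = ρ n *ᵥ π x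
  ρ_det : ∀ (n : ↥(Subgroup.normalizer ((P : Subgroup G) : Set G))) (t : ZMod p),
    (n : G) * z * (n : G)⁻¹ = pw z t → (ρ n).det = t
  ρ_triv : ∀ (n : ↥(Subgroup.normalizer ((P : Subgroup G) : Set G))), (n : G) ∈ (P : Subgroup G) → ρ n = 1
  comm_surj : ∀ x ∈ P, (¬ ∃ i : ZMod p, x = pw z i) → ∀ i : ZMod p, ∃ y ∈ P, y * x * y⁻¹ = pw z i * x

theorem exists_frame (hE : Cfsg.IsExtraspecial p ↥P) (hcard : Nat.card P = p ^ 3)
    (hexp : Monoid.exponent ↥P = p) : Nonempty (Frame P) := by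
  classical
  obtain ⟨⟨hPp, -, hcomm⟩, hZ⟩ := hE
  change commutator ↥(P : Subgroup G) = Subgroup.center ↥(P : Subgroup G) at hcomm
  let Z := Subgroup.center ↥(P : Subgroup G)
  have hZc : Nat.card Z = p := hZ
  let ε : Z ≃* Multiplicative (ZMod p) := mulEquivOfPrimeCardEq hZc
    (by rw [Nat.card_congr Multiplicative.toAdd, Nat.card_zmod])
  have hmem : ∀ x y : ↥(P : Subgroup G), ⁅x, y⁆ ∈ Z := fun x y => by
    show ⁅x, y⁆ ∈ Subgroup.center ↥(P : Subgroup G)
    rw [← hcomm, commutator_def]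
    exact Subgroup.commutator_mem_commutator (Subgroup.mem_top x) (Subgroup.mem_top y)
  obtain ⟨β, hβ⟩ : ∃ β : ↥(P : Subgroup G) → ↥(P : Subgroup G) → ZMod p,
      ∀ x y (h : ⁅x, y⁆ ∈ Z), β x y = (ε ⟨⁅x, y⁆, h⟩).toAdd :=
    ⟨fun x y => (ε ⟨⁅x, y⁆, hmem x y⟩).toAdd, fun x y h => rfl⟩
  have hβ0 : ∀ x y, β x y = 0 ↔ Commute x y := fun x y => by
    rw [hβ x y (hmem x y), toAdd_eq_zero, MulEquiv.map_eq_one_iff, Subgroup.mk_eq_one,
      commutatorElement_eq_one_iff_mul_comm]
    rfl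
  have hβmul : ∀ x x' y, β (x * x') y = β x y + β x' y := fun x x' y => by
    rw [hβ x y (hmem x y), hβ x' y (hmem x' y), hβ (x * x') y (hmem _ y), ← toAdd_mul, ← map_mul]
    congr 2
    refine Subtype.ext ?_
    show ⁅x * x', y⁆ = ⁅x, y⁆ * ⁅x', y⁆
    rw [Subgroup.mem_center_iff.1 (hmem x' y) ⁅x, y⁆]
    simp only [commutatorElement_def]
    have hc := Subgroup.mem_center_iff.1 (hmem x' y) x
    simp only [commutatorElement_def] at hc
    calc x * x' * y * (x * x')⁻¹ * y⁻¹ = x * (x' * y * x'⁻¹ * y⁻¹) * y * x⁻¹ * y⁻¹ := by group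
      _ = x' * y * x'⁻¹ * y⁻¹ * (x * y * x⁻¹ * y⁻¹) := by rw [hc]; group
  have hβsymm : ∀ x y, β y x = - β x y := fun x y => by
    rw [eq_neg_iff_add_eq_zero, hβ y x (hmem y x), hβ x y (hmem x y), ← toAdd_mul, ← map_mul, toAdd_eq_zero,
      MulEquiv.map_eq_one_iff]
    refine Subtype.ext ?_
    show ⁅y, x⁆ * ⁅x, y⁆ = 1
    simp only [commutatorElement_def]
    group
  have hβself : ∀ x, β x x = 0 := fun x => (hβ0 x x).2 (Commute.refl x)
  have hβmulr : ∀ x y y', β x (y * y') = β x y + β x y' := fun x y y' => by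
    rw [hβsymm (y * y') x, hβmul, hβsymm x y, hβsymm x y']
    ring
  obtain ⟨a, b, hab⟩ : ∃ a b : ↥(P : Subgroup G), ¬ Commute a b := by
    by_contra h
    push Not at h
    have htop : Z = ⊤ := eq_top_iff.2 fun x _ => Subgroup.mem_center_iff.2 fun y => h y x
    have h3 : Nat.card ↥(P : Subgroup G) = p ^ 3 := hcard
    rw [← Subgroup.card_top (G := ↥(P : Subgroup G)), ← htop, hZc] at h3
    have := hp.out.one_lt
    have h4 : p ^ 1 = p ^ 3 := by rw [pow_one]; exact h3
    exact absurd (Nat.pow_right_injective hp.out.two_le h4) (by norm_num)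
  have hd : β a b ≠ 0 := fun h => hab ((hβ0 a b).1 h)
  have hclos : Subgroup.closure ({a, b} : Set ↥(P : Subgroup G)) = ⊤ := by
    obtain ⟨i, hi⟩ := IsPGroup.iff_card.1 (hPp.to_subgroup (Subgroup.closure ({a, b} : Set ↥(P : Subgroup G))))
    by_cases h2 : i ≤ 2
    · have hcm : ∀ u v : ↥(Subgroup.closure ({a, b} : Set ↥(P : Subgroup G))), u * v = v * u := by
        rcases Nat.lt_or_ge i 2 with h1 | h1
        · haveI : IsCyclic ↥(Subgroup.closure ({a, b} : Set ↥(P : Subgroup G))) := by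
            interval_cases i
            · haveI := (Nat.card_eq_one_iff_unique.1 (hi.trans (pow_zero p))).1
              infer_instance
            · exact isCyclic_of_prime_card (p := p) (hi.trans (pow_one p))
          intro u v
          exact IsMulCommutative.is_comm.comm u v
        · exact IsPGroup.commutative_of_card_eq_prime_sq (p := p) (hi.trans (by rw [show i = 2 by omega]))
      exact absurd (congrArg Subtype.val (hcm ⟨a, Subgroup.subset_closure (by simp)⟩
        ⟨b, Subgroup.subset_closure (by simp)⟩)) hab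
    · refine Subgroup.eq_top_of_card_eq _ (le_antisymm (Subgroup.card_le_card_group _) ?_)
      exact le_trans (le_of_eq hcard) (le_trans (Nat.pow_le_pow_right hp.out.pos (by omega)) hi.ge)
  let π : ↥(P : Subgroup G) → (Fin 2 → ZMod p) := fun x => ![β x b / β a b, β a x / β a b]
  have πmul : ∀ x y, π (x * y) = π x + π y := fun x y => by
    funext i
    fin_cases i <;> simp [π, hβmul, hβmulr, add_div]
  have hπa : π a = ![1, 0] := by simp [π, hβself, hd]
  have hπb : π b = ![0, 1] := by simp [π, hβself, hd]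
  have πone : π 1 = 0 := by
    have := πmul 1 1
    rw [one_mul] at this
    simpa using this.symm
  have πinv : ∀ x, π x⁻¹ = -π x := fun x => eq_neg_of_add_eq_zero_left (by rw [← πmul, inv_mul_cancel, πone])
  have πpow : ∀ (x) (n : ℕ), π (x ^ n) = (n : ZMod p) • π x := by
    intro x n
    induction n with
    | zero => rw [pow_zero, πone, Nat.cast_zero, zero_smul]
    | succ n ih => rw [pow_succ, πmul, ih, Nat.cast_succ, add_smul, one_smul]
  have hβform : ∀ x y, β x y = β a b * (π x 0 * π y 1 - π x 1 * π y 0) := by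
    intro x y
    have hy : y ∈ Subgroup.closure ({a, b} : Set ↥(P : Subgroup G)) := hclos ▸ Subgroup.mem_top y
    induction hy using Subgroup.closure_induction with
    | mem w hw =>
      rcases hw with rfl | rfl
      · simp [hπa]
        simp [π]
        field_simp
        exact hβsymm _ x
      · simp [hπb]
        simp [π]
        field_simp
    | one =>
      rw [(hβ0 x 1).2 (Commute.one_right x), πone]
      simp
    | mul u v _ _ hu hv => rw [hβmulr, hu, hv, πmul]; simp only [Pi.add_apply]; ring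
    | inv u _ hu =>
      have h := hβmulr x u u⁻¹
      rw [mul_inv_cancel, (hβ0 x 1).2 (Commute.one_right x), hu] at h
      rw [πinv]
      simp only [Pi.neg_apply]
      linear_combination -h
  have πsurj : Function.Surjective π := fun v => ⟨a ^ (v 0).val * b ^ (v 1).val, by
    rw [πmul, πpow, πpow, hπa, hπb, ZMod.natCast_val, ZMod.cast_id, ZMod.natCast_val, ZMod.cast_id]
    funext i
    fin_cases i <;> simp⟩
  have hpw : ∀ x : ↥(P : Subgroup G), π x = 0 ↔ x ∈ Z := fun x => by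
    constructor
    · intro h
      refine Subgroup.mem_center_iff.2 fun y => ?_
      have h2 : β y x = 0 := by rw [hβform, h]; simp
      exact ((hβ0 y x).1 h2).eq
    · intro h
      have e1 : β x b = 0 := (hβ0 x b).2 (Subgroup.mem_center_iff.1 h b).symm
      have e2 : β a x = 0 := (hβ0 a x).2 (Subgroup.mem_center_iff.1 h a)
      simp [π, e1, e2]
  -- generator of the centre
  obtain ⟨z0, hz0⟩ := ε.surjective (Multiplicative.ofAdd 1)
  have hzpowG : ((z0 : ↥(P : Subgroup G)) : G) ^ p = 1 := by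
    rw [← Subgroup.coe_pow]
    have h := Monoid.pow_exponent_eq_one (z0 : ↥(P : Subgroup G))
    rw [show Monoid.exponent ↥(P : Subgroup G) = p from hexp] at h
    rw [h]; rfl
  have hεpow : ∀ n : ℕ, (ε (z0 ^ n)).toAdd = (n : ZMod p) := fun n => by
    rw [map_pow, hz0, toAdd_pow, toAdd_ofAdd, nsmul_eq_mul, mul_one]
  have hval : ∀ w : Z, ((w : ↥(P : Subgroup G)) : G) = pw ((z0 : ↥(P : Subgroup G)) : G) (ε w).toAdd := by
    intro w
    have h1 : w = z0 ^ ((ε w).toAdd).val := ε.injective (Multiplicative.toAdd.injective (by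
      rw [hεpow, ZMod.natCast_val, ZMod.cast_id]))
    conv_lhs => rw [h1]
    simp [pw]
  let act : ↥(Subgroup.normalizer ((P : Subgroup G) : Set G)) → ↥(P : Subgroup G) → ↥(P : Subgroup G) :=
    fun n x => ⟨(n : G) * x * (n : G)⁻¹, (Subgroup.mem_normalizer_iff.1 n.2 _).1 x.2⟩
  have act_mul : ∀ n x y, act n (x * y) = act n x * act n y := fun n x y => Subtype.ext (by
    simp only [act, Subgroup.coe_mul]; group)
  let M : ↥(Subgroup.normalizer ((P : Subgroup G) : Set G)) → Matrix (Fin 2) (Fin 2) (ZMod p) := fun n =>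
    !![π (act n a) 0, π (act n b) 0; π (act n a) 1, π (act n b) 1]
  have hM : ∀ n x, π (act n x) = M n *ᵥ π x := by
    intro n x
    have act1 : act n 1 = 1 := Subtype.ext (by simp [act])
    have hx : x ∈ Subgroup.closure ({a, b} : Set ↥(P : Subgroup G)) := hclos ▸ Subgroup.mem_top x
    induction hx using Subgroup.closure_induction with
    | mem w hw =>
      rcases hw with rfl | rfl
      · funext i; rw [hπa]; fin_cases i <;> simp [M, Matrix.mulVec, dotProduct, Fin.sum_univ_two]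
      · funext i; rw [hπb]; fin_cases i <;> simp [M, Matrix.mulVec, dotProduct, Fin.sum_univ_two]
    | one => rw [act1, πone, Matrix.mulVec_zero]
    | mul u v _ _ hu hv => rw [act_mul, πmul, πmul, hu, hv, Matrix.mulVec_add]
    | inv u _ hu =>
      have h := congrArg π (act_mul n u u⁻¹)
      rw [mul_inv_cancel, act1, πone, πmul, hu] at h
      rw [πinv, Matrix.mulVec_neg]
      exact eq_neg_of_add_eq_zero_right h.symm
  have huniq : ∀ n (N : Matrix (Fin 2) (Fin 2) (ZMod p)), (∀ x, π (act n x) = N *ᵥ π x) → M n = N := by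
    intro n N h
    refine Matrix.ext_iff_mulVec.2 fun v => ?_
    obtain ⟨x, rfl⟩ := πsurj v
    rw [← hM, h]
  have M1 : M 1 = 1 := huniq 1 1 fun x => by
    rw [Matrix.one_mulVec]
    congr 1
    exact Subtype.ext (by simp [act])
  have Mmul : ∀ n m, M (n * m) = M n * M m := fun n m => huniq _ _ fun x => by
    rw [show act (n * m) x = act n (act m x) from Subtype.ext (by simp [act, mul_assoc]), hM, hM,
      Matrix.mulVec_mulVec]
  refine ⟨{
    z := ((z0 : ↥(P : Subgroup G)) : G)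
    hzP := (z0 : ↥(P : Subgroup G)).2
    hz1 := ?_
    hzp := hzpowG
    hzc := fun y hy => congrArg Subtype.val (Subgroup.mem_center_iff.1 z0.2 ⟨y, hy⟩)
    π := π
    π_mul := πmul
    π_surj := πsurj
    π_zero := ?_
    π_comm := ?_
    ρ := ⟨⟨M, M1⟩, Mmul⟩
    ρ_spec := fun n x y h => by rw [show y = act n x from Subtype.ext h]; exact hM n x
    ρ_det := ?_
    ρ_triv := ?_
    comm_surj := ?_ }⟩
  · intro h
    have := hεpow 1
    rw [pow_one, show z0 = 1 from Subtype.ext (Subtype.ext h), map_one, toAdd_one, Nat.cast_one] at this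
    exact zero_ne_one this
  · intro x
    rw [hpw]
    constructor
    · intro hx
      exact ⟨_, hval ⟨x, hx⟩⟩
    · rintro ⟨i, hi⟩
      have : x = ((z0 ^ i.val : Z) : ↥(P : Subgroup G)) := Subtype.ext (by rw [hi]; simp [pw])
      rw [this]
      exact (z0 ^ i.val).2
  · intro x y
    have h : (π x 0 * π y 1 - π x 1 * π y 0 = 0) ↔ β x y = 0 := by
      rw [hβform, mul_eq_zero, or_iff_right hd]
    rw [h, hβ0]
    exact ⟨fun h => congrArg Subtype.val h.eq, fun h => Subtype.ext h.eq⟩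
  · intro n t hn
    show (M n).det = t
    have e1 : β (act n a) (act n b) = β a b * (M n).det := by
      rw [hβform, Matrix.det_fin_two]
      simp [M]
      ring_nf
      exact Or.inl trivial
    have e2 : β (act n a) (act n b) = t * β a b := by
      have hw : ((⁅act n a, act n b⁆ : ↥(P : Subgroup G)) : G) =
          pw ((z0 : ↥(P : Subgroup G)) : G) (t * β a b) := by
        rw [pw_mul hzpowG, ← hn, conj_pow]
        have hv : (((z0 : ↥(P : Subgroup G)) : G) ^ (β a b).val) = ((⁅a, b⁆ : ↥(P : Subgroup G)) : G) := by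
          rw [hval ⟨⁅a, b⁆, hmem a b⟩, hβ a b (hmem a b)]
          rfl
        rw [hv]
        simp only [act, commutatorElement_def, Subgroup.coe_mul, Subgroup.coe_inv]
        group
      have h3 : (⟨⁅act n a, act n b⁆, hmem _ _⟩ : Z) = z0 ^ (t * β a b).val :=
        Subtype.ext (Subtype.ext (by rw [hw]; simp [pw]))
      rw [hβ _ _ (hmem _ _), h3, hεpow, ZMod.natCast_val, ZMod.cast_id]
    exact mul_left_cancel₀ hd (by rw [← e1, e2, mul_comm])
  · intro n hn
    refine huniq n 1 fun x => ?_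
    rw [show act n x = ⟨n, hn⟩ * x * (⟨n, hn⟩ : ↥(P : Subgroup G))⁻¹ from Subtype.ext rfl, πmul, πmul, πinv,
      Matrix.one_mulVec]
    abel
  · intro x hx hnc i
    obtain ⟨y, hy⟩ : ∃ y, β y ⟨x, hx⟩ ≠ 0 := by
      by_contra h
      push Not at h
      exact hnc ⟨_, hval ⟨⟨x, hx⟩, Subgroup.mem_center_iff.2 fun y => ((hβ0 y _).1 (h y)).eq⟩⟩
    obtain ⟨k, hk⟩ : ∃ k : ZMod p, k = i / β y ⟨x, hx⟩ := ⟨_, rfl⟩
    have hyk : ∀ n : ℕ, β (y ^ n) ⟨x, hx⟩ = (n : ZMod p) * β y ⟨x, hx⟩ := by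
      intro n
      induction n with
      | zero => rw [pow_zero, (hβ0 _ _).2 (Commute.one_left _), Nat.cast_zero, zero_mul]
      | succ n ih => rw [pow_succ, hβmul, ih, Nat.cast_succ]; ring
    refine ⟨((y ^ k.val : ↥(P : Subgroup G)) : G), (y ^ k.val).2, ?_⟩
    have h3 := hval ⟨⁅y ^ k.val, ⟨x, hx⟩⁆, hmem _ _⟩
    have hki : k * β y ⟨x, hx⟩ = i := by rw [hk, div_mul_cancel₀ _ hy]
    rw [← hβ, hyk, ZMod.natCast_val, ZMod.cast_id, hki] at h3
    rw [← h3]
    simp only [commutatorElement_def, Subgroup.coe_mul, Subgroup.coe_inv]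
    group

theorem smul_sylow_mem {K : Subgroup G} {Q₁ Q₂ : Sylow p K} {k : K} (h : k • Q₁ = Q₂) {q : K}
    (hq : q ∈ (Q₁ : Subgroup K)) : k * q * k⁻¹ ∈ (Q₂ : Subgroup K) := by
  rw [← h, Sylow.coe_subgroup_smul]
  exact ⟨q, hq, rfl⟩

/-- shears in the two directions give a torus element normalizing `P` -/
theorem exists_torus (F : Frame P) {x : G} (hx : x ∈ P) (hxp : x ^ p = 1) (hnc : ¬ ∃ i : ZMod p, x = pw F.z i)
    {u l : G} (hu1 : u * F.z * u⁻¹ = F.z) (hu2 : u * x * u⁻¹ = F.z * x)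
    (hl1 : l * x * l⁻¹ = x) (hl2 : l * F.z * l⁻¹ = F.z * x) {t : ZMod p} (ht : t ≠ 0) :
    ∃ n : ↥(Subgroup.normalizer ((P : Subgroup G) : Set G)),
      (n : G) * F.z * (n : G)⁻¹ = pw F.z t ∧ F.ρ n *ᵥ F.π ⟨x, hx⟩ = t⁻¹ • F.π ⟨x, hx⟩ := by
  have hc : Commute F.z x := (F.hzc x hx).symm
  obtain ⟨h, hh⟩ := torus_raw F.hzp hxp hc hu1 hu2 hl1 hl2 ht
  let K : Subgroup G :=
    { carrier := {g | ∃ r : ZMod p, Shear F.z x r g}
      mul_mem' := fun {g g'} ⟨r, hr⟩ ⟨r', hr'⟩ => ⟨r + r', fun i j => by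
        rw [show g * g' * el F.z x i j * (g * g')⁻¹ = g * (g' * el F.z x i j * g'⁻¹) * g⁻¹ by group, hr', hr]
        congr 1
        ring⟩
      one_mem' := ⟨0, fun i j => by simp [el]⟩
      inv_mem' := fun {g} ⟨r, hr⟩ => ⟨-r, shear_inv hr⟩ }
  have hPsh : ∀ y ∈ P, ∃ r : ZMod p, Shear F.z x r y := by
    intro y hy
    have h1 : y * F.z * y⁻¹ = F.z := by rw [(F.hzc y hy).eq, mul_inv_cancel_right]
    have h0 : F.π (⟨y, hy⟩ * ⟨x, hx⟩ * ⟨y, hy⟩⁻¹ * (⟨x, hx⟩ : ↥(P : Subgroup G))⁻¹) = 0 := by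
      have π1 : F.π 1 = 0 := by
        have := F.π_mul 1 1
        rw [one_mul] at this
        simpa using this.symm
      have πi : ∀ w, F.π w⁻¹ = - F.π w := fun w =>
        eq_neg_of_add_eq_zero_left (by rw [← F.π_mul, inv_mul_cancel, π1])
      rw [F.π_mul, F.π_mul, F.π_mul, πi, πi]
      abel
    obtain ⟨r, hr⟩ := (F.π_zero _).1 h0
    simp only [Subgroup.coe_mul, Subgroup.coe_inv] at hr
    refine ⟨r, shear_of F.hzp hxp hc h1 ?_⟩
    rw [el, pw_one, ← hr]
    group
  have hPK : (P : Subgroup G) ≤ K := fun y hy => hPsh y hy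
  have hQK : ((MulAut.conj h • P : Sylow p G) : Subgroup G) ≤ K := by
    intro g hg
    rw [Sylow.pointwise_smul_def] at hg
    obtain ⟨y, hy, rfl⟩ := hg
    obtain ⟨r, hr⟩ := hPsh y hy
    refine ⟨t * r * t, fun i j => ?_⟩
    show h * y * h⁻¹ * el F.z x i j * (h * y * h⁻¹)⁻¹ = el F.z x (i + t * r * t * j) j
    have h1 : h⁻¹ * el F.z x i j * h = el F.z x (t⁻¹ * i) (t * j) := by
      have := hh (t⁻¹ * i) (t * j)
      rw [← mul_assoc, mul_inv_cancel₀ ht, one_mul, ← mul_assoc, inv_mul_cancel₀ ht, one_mul] at this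
      rw [← this]
      group
    calc h * y * h⁻¹ * el F.z x i j * (h * y * h⁻¹)⁻¹
        = h * (y * (h⁻¹ * el F.z x i j * h) * y⁻¹) * h⁻¹ := by group
      _ = el F.z x (t * (t⁻¹ * i + r * (t * j))) (t⁻¹ * (t * j)) := by rw [h1, hr, hh]
      _ = _ := by congr 1 <;> field_simp
  obtain ⟨k, hk⟩ := MulAction.exists_smul_eq K ((MulAut.conj h • P).subtype hQK) (P.subtype hPK)
  obtain ⟨r, hr⟩ := k.2
  have hmem : ∀ y ∈ P, (k : G) * h * y * ((k : G) * h)⁻¹ ∈ P := by
    intro y hy
    have hy' : h * y * h⁻¹ ∈ ((MulAut.conj h • P : Sylow p G) : Subgroup G) := by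
      rw [Sylow.pointwise_smul_def]; exact ⟨y, hy, rfl⟩
    have hq : (⟨h * y * h⁻¹, hQK hy'⟩ : K) ∈ (((MulAut.conj h • P).subtype hQK : Sylow p K) : Subgroup K) := by
      rw [Sylow.coe_subtype]; exact hy'
    have := smul_sylow_mem hk hq
    rw [Sylow.coe_subtype, Subgroup.mem_subgroupOf] at this
    rw [show (k : G) * h * y * ((k : G) * h)⁻¹ = (k : G) * (h * y * h⁻¹) * (k : G)⁻¹ by group]
    exact this
  have hn : (k : G) * h ∈ Subgroup.normalizer ((P : Subgroup G) : Set G) := by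
    have hle : (P : Subgroup G).map (MulAut.conj ((k : G) * h)).toMonoidHom ≤ (P : Subgroup G) := by
      rintro _ ⟨y, hy, rfl⟩
      exact hmem y hy
    have heq := Subgroup.eq_of_le_of_card_ge hle
      (by rw [Subgroup.card_map_of_injective (MulAut.conj _).injective])
    refine Subgroup.mem_normalizer_iff.2 fun y => ⟨hmem y, fun hy => ?_⟩
    have hy2 : (k : G) * h * y * ((k : G) * h)⁻¹ ∈ (P : Subgroup G).map (MulAut.conj ((k : G) * h)).toMonoidHom := by
      rw [heq]; exact hy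
    obtain ⟨y', hy', he⟩ := hy2
    have : y' = y := (MulAut.conj ((k : G) * h)).injective he
    exact this ▸ hy'
  have key : ∀ i j, (k : G) * h * el F.z x i j * ((k : G) * h)⁻¹ =
      el F.z x (t * i + r * (t⁻¹ * j)) (t⁻¹ * j) := fun i j => by
    rw [show (k : G) * h * el F.z x i j * ((k : G) * h)⁻¹ = (k : G) * (h * el F.z x i j * h⁻¹) * (k : G)⁻¹ by group,
      hh, hr]
  refine ⟨⟨_, hn⟩, ?_, ?_⟩
  · have := key 1 0
    simp only [mul_one, mul_zero, add_zero, el, pw_zero, pw_one] at this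
    exact this
  · have h1 := key 0 1
    simp only [mul_zero, zero_add, mul_one, el, pw_zero, pw_one, one_mul] at h1
    have hy : ((⟨F.z, F.hzP⟩ ^ (r * t⁻¹).val * (⟨x, hx⟩ : ↥(P : Subgroup G)) ^ (t⁻¹).val : ↥(P : Subgroup G)) : G) =
        (k : G) * h * x * ((k : G) * h)⁻¹ := by
      rw [h1]; simp [pw]
    rw [← F.ρ_spec ⟨_, hn⟩ ⟨x, hx⟩ _ hy, F.π_mul]
    have π1 : F.π 1 = 0 := by
      have := F.π_mul 1 1
      rw [one_mul] at this
      simpa using this.symm
    have πpow : ∀ (w) (n : ℕ), F.π (w ^ n) = (n : ZMod p) • F.π w := by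
      intro w n
      induction n with
      | zero => rw [pow_zero, π1, Nat.cast_zero, zero_smul]
      | succ n ih => rw [pow_succ, F.π_mul, ih, Nat.cast_succ, add_smul, one_smul]
    rw [(F.π_zero (⟨F.z, F.hzP⟩ ^ (r * t⁻¹).val)).2 ⟨r * t⁻¹, by simp [pw]⟩, zero_add, πpow,
      ZMod.natCast_val, ZMod.cast_id]

open CfsgLib.Lie.ProjLine in
/-- the bound on `p` -/
theorem bound (hP2 : p ≠ 2) (F : Frame P) (hexp : Monoid.exponent ↥P = p) (X : Finset (Pt (ZMod p)))
    (hX : 3 ≤ X.card) (hp11 : 17 ≤ p ∨ p = 11 ∨ (11 ≤ p ∧ 12 < X.card))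
    (hdata : ∀ pt ∈ X, ∃ (x : G) (hx : x ∈ P) (hv : F.π ⟨x, hx⟩ ≠ 0) (u l : G),
      Projectivization.mk (ZMod p) (F.π ⟨x, hx⟩) hv = pt ∧
      u * F.z * u⁻¹ = F.z ∧ u * x * u⁻¹ = F.z * x ∧ l * x * l⁻¹ = x ∧ l * F.z * l⁻¹ = F.z * x) : False := by
  classical
  obtain ⟨g₀, hg₀⟩ := IsCyclic.exists_generator (α := (ZMod p)ˣ)
  have hordt : orderOf g₀ = p - 1 := by
    rw [orderOf_eq_card_of_forall_mem_zpowers hg₀, Nat.card_eq_fintype_card, ZMod.card_units]
  obtain ⟨m, hm⟩ : ∃ m, m = (p - 1) / Nat.gcd 3 (p - 1) := ⟨_, rfl⟩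
  have hgd : m * Nat.gcd 3 (p - 1) = p - 1 := hm ▸ Nat.div_mul_cancel (Nat.gcd_dvd_right _ _)
  have hgc : Nat.gcd 3 (p - 1) = 1 ∨ Nat.gcd 3 (p - 1) = 3 :=
    (Nat.dvd_prime Nat.prime_three).1 (Nat.gcd_dvd_left _ _)
  have hm' : 6 ≤ m ∨ (m = 4 ∧ 12 < X.card) := by
    have hpp := hp.out
    rcases hp11 with h | h | ⟨h, h12⟩
    · left
      by_cases h17 : p = 17
      · subst h17
        norm_num at hm
        omega
      · have : p ≠ 18 := fun e => by subst e; norm_num at hpp
        rcases hgc with e | e <;> rw [e] at hgd <;> omega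
    · left
      subst h
      norm_num at hm
      omega
    · rcases hgc with e | e <;> rw [e] at hgd
      · left; omega
      · by_cases h' : 6 ≤ m
        · exact Or.inl h'
        · refine Or.inr ⟨?_, h12⟩
          have : m = 4 ∨ m = 5 := by omega
          rcases this with rfl | rfl
          · rfl
          · exfalso
            have hp16 : p = 16 := by omega
            subst hp16
            norm_num at hpp
  let H0 := ((Matrix.ProjGenLinGroup.mk (n := Fin 2) (R := ZMod p)).comp F.ρ.toHomUnits)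
  refine CfsgLib.Inv.CubeFusion.no_action H0.range ?_ m X hX hm' ?_
  · intro g hg hgp
    have hker : ((P : Subgroup G).subgroupOf (Subgroup.normalizer ((P : Subgroup G) : Set G))) ≤ H0.ker := by
      intro n hn
      have h1 : F.ρ.toHomUnits n = 1 := Units.ext (F.ρ_triv n hn)
      rw [MonoidHom.mem_ker]
      simp [H0, h1]
    have hdvd : Nat.card H0.range ∣ (P : Subgroup G).index := by
      rw [← Subgroup.index_ker]
      refine (Subgroup.index_dvd_of_le hker).trans ?_
      rw [← Subgroup.relIndex_mul_index (Subgroup.le_normalizer : (P : Subgroup G) ≤ _)]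
      exact dvd_mul_right _ _
    have h2 : orderOf g ∣ Nat.card H0.range := by
      rw [show orderOf g = orderOf (⟨g, hg⟩ : H0.range) from (Subgroup.orderOf_mk g hg).symm]
      exact orderOf_dvd_natCard _
    rcases (Nat.dvd_prime hp.out).1 (orderOf_dvd_of_pow_eq_one hgp) with h | h
    · exact orderOf_eq_one_iff.1 h
    · rw [h] at h2
      exact absurd (h2.trans hdvd) P.not_dvd_index
  · intro pt hpt
    obtain ⟨x, hx, hv, u, l, hptv, hu1, hu2, hl1, hl2⟩ := hdata pt hpt
    have hnc : ¬ ∃ i : ZMod p, x = pw F.z i := fun h => hv ((F.π_zero _).2 h)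
    have hxp : x ^ p = 1 := by
      have h := Monoid.pow_exponent_eq_one (⟨x, hx⟩ : ↥(P : Subgroup G))
      rw [show Monoid.exponent ↥(P : Subgroup G) = p from hexp] at h
      exact congrArg Subtype.val h
    obtain ⟨n, hn1, hn2⟩ := exists_torus P F hx hxp hnc hu1 hu2 hl1 hl2 (t := ((g₀ : (ZMod p)ˣ) : ZMod p))
      g₀.ne_zero
    have hdet := F.ρ_det n _ hn1
    have hfix : H0 n • pt = pt := by
      rw [← hptv]
      show (F.ρ.toHomUnits n) • Projectivization.mk (ZMod p) (F.π ⟨x, hx⟩) hv = _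
      rw [Projectivization.smul_mk, Projectivization.mk_eq_mk_iff']
      exact ⟨((g₀ : (ZMod p)ˣ) : ZMod p)⁻¹, hn2.symm⟩
    have hdvd : m ∣ orderOf (H0 n) := by
      have hj : H0 n ^ orderOf (H0 n) = 1 := pow_orderOf_eq_one _
      obtain ⟨j, hj'⟩ : ∃ j, j = orderOf (H0 n) := ⟨_, rfl⟩
      rw [← hj'] at hj ⊢
      simp only [H0, MonoidHom.comp_apply] at hj
      rw [← map_pow, Matrix.ProjGenLinGroup.mk_eq_one, Matrix.GeneralLinearGroup.center_eq_range_scalar] at hj
      obtain ⟨s, hs⟩ := hj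
      have hsM : (F.ρ n) ^ j = Matrix.scalar (Fin 2) (s : ZMod p) := by
        have h := congrArg Units.val hs
        rw [Units.val_pow_eq_pow_val, MonoidHom.coe_toHomUnits] at h
        exact h.symm
      have hpowv : ∀ k : ℕ, (F.ρ n) ^ k *ᵥ F.π ⟨x, hx⟩ =
          (((g₀ : (ZMod p)ˣ) : ZMod p)⁻¹) ^ k • F.π ⟨x, hx⟩ := by
        intro k
        induction k with
        | zero => rw [pow_zero, pow_zero, Matrix.one_mulVec, one_smul]
        | succ k ih =>
          rw [pow_succ, ← Matrix.mulVec_mulVec, hn2, Matrix.mulVec_smul, ih, smul_smul, pow_succ']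
      have h1 := hpowv j
      rw [hsM] at h1
      simp only [Matrix.scalar_apply] at h1
      have hs1 : (s : ZMod p) = (((g₀ : (ZMod p)ˣ) : ZMod p)⁻¹) ^ j := by
        obtain ⟨i, hi⟩ : ∃ i, F.π ⟨x, hx⟩ i ≠ 0 := Function.ne_iff.1 hv
        have h2 := congrFun h1 i
        rw [Matrix.mulVec_diagonal] at h2
        exact mul_right_cancel₀ hi h2
      have h3 := congrArg Matrix.det hsM
      rw [Matrix.det_pow, hdet, Matrix.scalar_apply, Matrix.det_diagonal] at h3
      simp only [Finset.prod_const, Finset.card_univ, Fintype.card_fin] at h3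
      rw [hs1] at h3
      have h4 : g₀ ^ (3 * j) = 1 := by
        refine Units.ext ?_
        rw [Units.val_pow_eq_pow_val, Units.val_one, show 3 * j = j + j * 2 by ring, pow_add, h3, pow_mul,
          ← mul_pow, ← mul_pow, inv_mul_cancel₀ g₀.ne_zero, one_pow, one_pow]
      have h5 : (p - 1) ∣ 3 * j := hordt ▸ orderOf_dvd_of_pow_eq_one h4
      rcases hgc with e | e
      · have hc3 : Nat.Coprime (p - 1) 3 := by rw [Nat.Coprime, Nat.gcd_comm]; exact e
        rw [← hgd, e, mul_one] at h5 hc3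
        exact hc3.dvd_of_dvd_mul_left h5
      · rw [← hgd, e, mul_comm m 3] at h5
        exact Nat.dvd_of_mul_dvd_mul_left (by norm_num) h5
    refine ⟨H0 n ^ (orderOf (H0 n) / m), pow_mem (MonoidHom.mem_range.2 ⟨n, rfl⟩) _, ?_, ?_⟩
    · generalize orderOf (H0 n) / m = k
      induction k with
      | zero => rw [pow_zero, one_smul]
      | succ k ih => rw [pow_succ, mul_smul, hfix, ih]
    · haveI : Finite (Matrix.ProjGenLinGroup (Fin 2) (ZMod p)) :=
        Finite.of_surjective _ Matrix.ProjGenLinGroup.mk_surjective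
      rw [orderOf_pow, Nat.gcd_eq_right (Nat.div_dvd_of_dvd hdvd), Nat.div_div_self hdvd (orderOf_pos _).ne']

end CfsgLib.Inv.CubeTorus
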