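import Cfsg.Agent.Inv.DihedralSylow
import Cfsg.Agent.Inv.Transfer
import Cfsg.Agent.S0107
import Cfsg.Prelude
import Mathlib.GroupTheory.Abelianization.Defs

/-!
Fusion of involutions and four subgroups when the Sylow 2-subgroups are dihedral.
-/

set_option autoImplicit false

namespace CfsgLib.Inv

open CfsgLib.Solv
open scoped Pointwise

theorem exists_index_two_of_comm {Q : Type*} [Group Q] [Finite Q] (hc : ∀ a b : Q, a * b = b * a) (h : 2 ∣ Nat.card Q) :
    ∃ M : Subgroup Q, M.index = 2 := by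
  letI : CommGroup Q := { (inferInstance : Group Q) with mul_comm := hc }
  haveI : Fact (Nat.Prime 2) := ⟨Nat.prime_two⟩
  set R := (powMonoidHom 2 : Q →* Q).range with hR
  have hRt : R ≠ ⊤ := by
    intro hR'
    have hs : Function.Surjective (powMonoidHom 2 : Q →* Q) := MonoidHom.range_eq_top.1 hR'
    obtain ⟨x, hx⟩ := exists_prime_orderOf_dvd_card' 2 h
    have h1 : (powMonoidHom 2 : Q →* Q) x = (powMonoidHom 2 : Q →* Q) 1 := by
      show x ^ 2 = 1 ^ 2
      rw [one_pow, ← hx, pow_orderOf_eq_one]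
    rw [(Finite.injective_iff_surjective.2 hs) h1, orderOf_one] at hx
    omega
  obtain ⟨M, hM, hRM⟩ := (IsCoatomic.eq_top_or_exists_le_coatom R).resolve_left hRt
  obtain ⟨a, -, ha⟩ := SetLike.exists_of_lt (lt_top_iff_ne_top.2 hM.1)
  refine ⟨M, Subgroup.index_eq_two_iff.2 ⟨a, fun b => ?_⟩⟩
  by_cases hb : b ∈ M
  · exact Or.inr ⟨hb, fun h => ha (by simpa using mul_mem (inv_mem hb) h)⟩
  refine Or.inl ⟨?_, hb⟩
  have ha2 : a * a ∈ M := hRM ⟨a, by show a ^ 2 = a * a; rw [pow_two]⟩
  have htop : M ⊔ Subgroup.zpowers a = ⊤ := hM.2 _ (left_lt_sup.2 fun h => ha (h (Subgroup.mem_zpowers a)))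
  have hbm : b ∈ ((M ⊔ Subgroup.zpowers a : Subgroup Q) : Set Q) := by rw [htop]; trivial
  rw [Subgroup.normal_mul] at hbm
  obtain ⟨m, hm, _, ⟨i, rfl⟩, rfl⟩ := hbm
  rcases Int.even_or_odd i with ⟨j, rfl⟩ | ⟨j, rfl⟩
  · refine absurd ?_ hb
    show m * a ^ (j + j) ∈ M
    rw [← two_mul, zpow_mul, zpow_two]
    exact mul_mem hm (zpow_mem ha2 j)
  · show m * a ^ (2 * j + 1) * a ∈ M
    rw [mul_assoc, ← zpow_add_one, show 2 * j + 1 + 1 = 2 * (j + 1) by ring, zpow_mul, zpow_two]
    exact mul_mem hm (zpow_mem ha2 _)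

theorem exists_index_two_of_pResidual {G : Type*} [Group G] [Finite G] (h : Cfsg.pResidual 2 G ≠ ⊤) :
    ∃ H : Subgroup G, H.index = 2 := by
  haveI : Fact (Nat.Prime 2) := ⟨Nat.prime_two⟩
  haveI := pResidual_normal 2 G
  set Q := G ⧸ Cfsg.pResidual 2 G with hQ
  have hQp : IsPGroup 2 Q := isPGroup_quot_pResidual
  haveI : Nontrivial Q := QuotientGroup.nontrivial_iff.2 h
  haveI := hQp.isNilpotent
  haveI : Group.IsSolvable Q := inferInstance
  have hne : commutator Q ≠ ⊤ := (Group.IsSolvable.commutator_lt_top_of_nontrivial Q).ne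
  haveI : Nontrivial (Q ⧸ commutator Q) := QuotientGroup.nontrivial_iff.2 hne
  obtain ⟨n, hn0, hn⟩ := (hQp.to_quotient (commutator Q)).nontrivial_iff_card.1 inferInstance
  obtain ⟨M, hM⟩ := exists_index_two_of_comm (Q := Q ⧸ commutator Q) (mul_comm (G := Abelianization Q))
    (hn ▸ dvd_pow_self 2 hn0.ne')
  refine ⟨(M.comap (QuotientGroup.mk' (commutator Q))).comap (QuotientGroup.mk' (Cfsg.pResidual 2 G)), ?_⟩
  rw [Subgroup.index_comap_of_surjective _ (QuotientGroup.mk'_surjective _),
    Subgroup.index_comap_of_surjective _ (QuotientGroup.mk'_surjective _), hM]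

variable {G : Type*} [Group G] [Finite G] (P : Sylow 2 G) {d : ℕ} (D : DData (P : Subgroup G) d)

theorem dsub_isKlein (i : ℤ) : IsKleinFour (dsub P D i d) := by
  haveI := D.four_isKlein i
  have e := (Subgroup.equivMapOfInjective (D.sub i d) _ (P : Subgroup G).subtype_injective)
  exact ⟨(Nat.card_congr e.toEquiv).symm.trans IsKleinFour.card_four,
    (Monoid.exponent_eq_of_mulEquiv e).symm.trans IsKleinFour.exponent_two⟩

include D in
theorem klein_le_eq {U : Subgroup G} (hU : IsKleinFour U) (hUP : U ≤ (P : Subgroup G)) :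
    ∃ i, U = dsub P D i d := by
  haveI := hU
  have e := Subgroup.subgroupOfEquivOfLe hUP
  obtain ⟨i, hi⟩ := D.klein_eq_sub (T := U.subgroupOf (P : Subgroup G))
    ⟨(Nat.card_congr e.toEquiv).trans IsKleinFour.card_four, (Monoid.exponent_eq_of_mulEquiv e).trans IsKleinFour.exponent_two⟩
  exact ⟨i, by rw [dsub, ← hi, Subgroup.map_subgroupOf_eq_of_le hUP]⟩

omit [Finite G] in
theorem map_conj_eq (g : G) (U : Subgroup G) : U.map (MulAut.conj g).toMonoidHom = MulAut.conj g • U := rfl

include D in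
theorem klein_conj {U : Subgroup G} (hU : IsKleinFour U) :
    ∃ (g : G) (i : ℤ), MulAut.conj g • U = dsub P D i d := by
  haveI : Fact (Nat.Prime 2) := ⟨Nat.prime_two⟩
  obtain ⟨R, hR⟩ := (IsPGroup.of_card (n := 2) hU.card_four : IsPGroup 2 U).exists_le_sylow
  obtain ⟨g, hg⟩ := MulAction.exists_smul_eq G R P
  have hle : MulAut.conj g • U ≤ (P : Subgroup G) := by
    rw [← hg, Sylow.coe_subgroup_smul]
    intro x hx
    rw [mem_conj_smul_iff] at hx ⊢
    exact hR hx
  have e := Subgroup.equivSMul (MulAut.conj g) U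
  obtain ⟨i, hi⟩ := klein_le_eq P D ⟨(Nat.card_congr e.toEquiv).symm.trans hU.card_four,
    (Monoid.exponent_eq_of_mulEquiv e).symm.trans hU.exponent_two⟩ hle
  exact ⟨g, i, hi⟩

/-- Four subgroups of the same parity are conjugate in the Sylow subgroup. -/
theorem dsub_four_conj {i j : ℤ} (h : Even (i - j) ∨ d = 0) :
    ∃ s ∈ (P : Subgroup G), MulAut.conj s • dsub P D i d = dsub P D j d := by
  obtain ⟨s, hs⟩ : ∃ s : (P : Subgroup G), ∀ g ∈ D.sub i d, s * g * s⁻¹ ∈ D.sub j d := by
    rcases h with h | h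
    · exact D.four_conj h
    · refine ⟨1, fun g hg => ?_⟩
      rw [one_mul, inv_one, mul_one]
      rwa [← (D.sub_eq_iff (i := i) (j := j) (Nat.le_succ d)).2 (by subst h; simp)]
  refine ⟨s, s.2, Subgroup.eq_of_le_of_card_ge ?_ ?_⟩
  · intro x hx
    rw [mem_conj_smul_iff] at hx
    obtain ⟨u, hu, he⟩ := hx
    refine ⟨s * u * s⁻¹, hs u hu, ?_⟩
    simp only [Subgroup.coe_subtype, Subgroup.coe_mul, Subgroup.coe_inv] at he ⊢
    rw [he]; group
  · rw [card_conj_smul, card_dsub P D i (Nat.le_succ d), card_dsub P D j (Nat.le_succ d)]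

/-- The automorphism group induced on a four subgroup has order dividing 6. -/
theorem relIndex_dvd_six {U : Subgroup G} (hU : IsKleinFour U) :
    (Subgroup.centralizer (U : Set G)).relIndex (Subgroup.normalizer (U : Set G)) ∣ 6 := by
  classical
  haveI := hU
  set N := Subgroup.normalizer (U : Set G) with hN
  let X := {u : U // u ≠ 1}
  haveI : Fintype X := Fintype.ofFinite X
  have hconj : ∀ (n : N) (u : U), (n : G) * u * (n : G)⁻¹ ∈ U := fun n u =>
    (Subgroup.mem_normalizer_iff.1 n.2 _).1 u.2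
  let ψ : N →* Equiv.Perm X :=
    { toFun := fun n =>
        { toFun := fun u => ⟨⟨(n : G) * u.1 * (n : G)⁻¹, hconj n u.1⟩, fun h => u.2 (Subtype.ext (by
            have := congrArg Subtype.val h
            simpa using this))⟩
          invFun := fun u => ⟨⟨(n : G)⁻¹ * u.1 * (n : G), by simpa using hconj n⁻¹ u.1⟩, fun h => u.2 (Subtype.ext (by
            have := congrArg Subtype.val h
            simp only [OneMemClass.coe_one] at this ⊢
            calc ((u.1 : U) : G) = (n : G) * ((n : G)⁻¹ * u.1 * n) * (n : G)⁻¹ := by group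
              _ = 1 := by rw [this]; group))⟩
          left_inv := fun u => by ext; simp [mul_assoc]
          right_inv := fun u => by ext; simp [mul_assoc] }
      map_one' := by ext u; simp
      map_mul' := fun a b => by ext u; simp [mul_assoc] }
  have hker : ψ.ker = (Subgroup.centralizer (U : Set G)).subgroupOf N := by
    ext n
    rw [MonoidHom.mem_ker, Subgroup.mem_subgroupOf, Subgroup.mem_centralizer_iff]
    constructor
    · intro h u hu
      rcases eq_or_ne u 1 with rfl | hu1
      · simp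
      have := congrArg (fun π => (((π ⟨⟨u, hu⟩, fun h => hu1 (congrArg Subtype.val h)⟩ : X) : U) : G)) h
      exact (mul_inv_eq_iff_eq_mul.1 (this : (n : G) * u * (n : G)⁻¹ = u)).symm
    · intro h
      ext u
      show (n : G) * (u.1 : G) * (n : G)⁻¹ = (u.1 : G)
      rw [← h _ u.1.2, mul_inv_cancel_right]
  have hX : Fintype.card X = 3 := by
    haveI : Fintype U := Fintype.ofFinite U
    have h1 : Fintype.card U = 4 := by rw [← Nat.card_eq_fintype_card]; exact IsKleinFour.card_four
    have h2 := Fintype.card_subtype_compl (fun u : U => u = 1)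
    rw [Fintype.card_subtype_eq, h1] at h2
    convert h2 using 2
  show ((Subgroup.centralizer (U : Set G)).subgroupOf N).index ∣ 6
  rw [← hker, Subgroup.index_ker]
  refine (Subgroup.card_subgroup_dvd_card _).trans (dvd_of_eq ?_)
  rw [Nat.card_perm, Nat.card_eq_fintype_card, hX]
  rfl

omit [Finite G] in
theorem centralizer_normal_in_normalizer (U : Subgroup G) :
    ((Subgroup.centralizer (U : Set G)).subgroupOf (Subgroup.normalizer (U : Set G))).Normal := by
  refine ⟨fun c hc n => ?_⟩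
  rw [Subgroup.mem_subgroupOf, Subgroup.mem_centralizer_iff] at hc ⊢
  intro u hu
  have hu' : (n : G)⁻¹ * u * n ∈ U := by
    have := (Subgroup.mem_normalizer_iff.1 (inv_mem n.2) u).1 hu
    simpa using this
  have h := hc _ hu'
  simp only [Subgroup.coe_mul, Subgroup.coe_inv]
  calc u * ((n : G) * c * (n : G)⁻¹) = n * (((n : G)⁻¹ * u * n) * c) * (n : G)⁻¹ := by group
    _ = n * ((c : G) * ((n : G)⁻¹ * u * n)) * (n : G)⁻¹ := by rw [h]
    _ = _ := by group

/-- A four subgroup is fused if some element of odd order normalizes it without centralizing it. -/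
def Fused (U : Subgroup G) : Prop :=
  ∃ g ∈ Subgroup.normalizer (U : Set G), Odd (orderOf g) ∧ g ∉ Subgroup.centralizer (U : Set G)

theorem three_dvd_iff_fused {U : Subgroup G} (hU : IsKleinFour U) :
    3 ∣ (Subgroup.centralizer (U : Set G)).relIndex (Subgroup.normalizer (U : Set G)) ↔ Fused U := by
  set N := Subgroup.normalizer (U : Set G) with hN
  set C := (Subgroup.centralizer (U : Set G)).subgroupOf N with hC
  haveI : C.Normal := centralizer_normal_in_normalizer U
  show 3 ∣ C.index ↔ _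
  haveI : Fact (Nat.Prime 3) := ⟨Nat.prime_three⟩
  constructor
  · intro h
    obtain ⟨q, hq⟩ := exists_prime_orderOf_dvd_card' (G := N ⧸ C) 3 h
    obtain ⟨n, rfl⟩ := QuotientGroup.mk_surjective q
    refine ⟨((n ^ (2 ^ (orderOf n).factorization 2) : N) : G), Subtype.mem _, ?_, ?_⟩
    · rw [Subgroup.orderOf_coe, orderOf_pow_of_dvd (pow_ne_zero _ two_ne_zero) (Nat.ordProj_dvd _ _)]
      exact Nat.coprime_two_left.1 (Nat.coprime_ordCompl Nat.prime_two (orderOf_pos n).ne')
    · intro hmem
      have h1 : (QuotientGroup.mk n : N ⧸ C) ^ (2 ^ (orderOf n).factorization 2) = 1 := by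
        rw [← QuotientGroup.mk_pow, QuotientGroup.eq_one_iff]
        exact Subgroup.mem_subgroupOf.2 hmem
      have h2 := orderOf_dvd_of_pow_eq_one h1
      rw [hq] at h2
      have := Nat.prime_three.dvd_of_dvd_pow h2
      omega
  · rintro ⟨g, hg, hodd, hgc⟩
    have h1 : (QuotientGroup.mk (⟨g, hg⟩ : N) : N ⧸ C) ≠ 1 := fun h =>
      hgc (Subgroup.mem_subgroupOf.1 ((QuotientGroup.eq_one_iff _).1 h))
    set o := orderOf (QuotientGroup.mk (⟨g, hg⟩ : N) : N ⧸ C) with ho
    have ho1 : o ≠ 1 := fun h => h1 (orderOf_eq_one_iff.1 h)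
    have hd : o ∣ C.index := orderOf_dvd_natCard _
    have hoo : o ∣ orderOf g := by
      have := orderOf_map_dvd (QuotientGroup.mk' C) (⟨g, hg⟩ : N)
      rwa [Subgroup.orderOf_mk] at this
    have h6 : o ∣ 6 := hd.trans (relIndex_dvd_six hU)
    have hodd' : Odd o := hodd.of_dvd_nat hoo
    have : o = 3 := by
      have := Nat.le_of_dvd (by norm_num) h6
      interval_cases o
      all_goals first
        | omega
        | (exfalso; revert hodd' h6; decide)
    rwa [this] at hd

theorem four_elem_mem (i : ℤ) :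
    ((D.z : (P : Subgroup G)) : G) ∈ dsub P D i d ∧
      ((D.x ^ i * D.y : (P : Subgroup G)) : G) ∈ dsub P D i d :=
  ⟨⟨_, D.z_mem_sub i, rfl⟩, ⟨_, D.out_mem_four i, rfl⟩⟩

include D in
theorem relIndex_even_iff (i : ℤ) :
    2 ∣ (Subgroup.centralizer (dsub P D i d : Set G)).relIndex (Subgroup.normalizer (dsub P D i d : Set G)) ↔ 1 ≤ d := by
  haveI : Fact (Nat.Prime 2) := ⟨Nat.prime_two⟩
  set U := dsub P D i d with hU
  set N := Subgroup.normalizer (U : Set G) with hN
  set C := Subgroup.centralizer (U : Set G) with hC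
  haveI : (C.subgroupOf N).Normal := centralizer_normal_in_normalizer U
  constructor
  · intro h
    by_contra hd
    obtain rfl : d = 0 := by omega
    have hUP : U = (P : Subgroup G) := Subgroup.eq_of_le_of_card_ge (dsub_le P D i 0) (by
      rw [card_dsub P D i (Nat.zero_le _), Nat.sub_zero, D.card_eq])
    have hab := (dsub_isKlein P D i).isMulCommutative
    have hPC : (P : Subgroup G) ≤ C := by
      rw [← hUP]
      intro u hu
      exact Subgroup.mem_centralizer_iff.2 fun v hv => congrArg Subtype.val (hab.is_comm.comm (⟨v, hv⟩ : U) ⟨u, hu⟩)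
    refine P.not_dvd_index (h.trans ?_)
    exact ((Subgroup.relIndex_dvd_of_le_left N hPC).trans
      (Dvd.intro _ (Subgroup.relIndex_mul_index (K := N) (hUP ▸ Subgroup.le_normalizer : (P : Subgroup G) ≤ N))))
  · intro hd
    obtain ⟨e, rfl⟩ : ∃ e, d = e + 1 := ⟨d - 1, by omega⟩
    set s : (P : Subgroup G) := D.x ^ ((2 : ℤ) ^ e) with hs
    have hsN : (s : G) ∈ N := by
      have h : s ∈ D.sub i e := (D.pow_mem_sub (by omega)).2 dvd_rfl
      rw [← D.normalizer_sub (by omega)] at h
      exact Subgroup.le_normalizer_map (P : Subgroup G).subtype ⟨s, h, rfl⟩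
    have hsC : (s : G) ∉ C := by
      intro h
      have h1 : Commute s (D.x ^ i * D.y) := Subtype.ext
        ((Subgroup.mem_centralizer_iff.1 h _ (four_elem_mem P D i).2).symm :
          (s : G) * ((D.x ^ i * D.y : (P : Subgroup G)) : G) = ((D.x ^ i * D.y : (P : Subgroup G)) : G) * s)
      have h2 := D.centralizer_out h1
      rw [hs, D.pow_mem_sub (Nat.le_succ _)] at h2
      have := Int.le_of_dvd (by positivity) h2
      have h3 : (2 : ℤ) ^ e < 2 ^ (e + 1) := pow_lt_pow_right₀ (by norm_num) (by omega)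
      omega
    obtain ⟨n, hn⟩ := IsPGroup.iff_orderOf.1 D.isPGroup s
    have h1 : (QuotientGroup.mk (⟨(s : G), hsN⟩ : N) : N ⧸ C.subgroupOf N) ≠ 1 := fun h =>
      hsC (Subgroup.mem_subgroupOf.1 ((QuotientGroup.eq_one_iff (N := C.subgroupOf N) (⟨(s : G), hsN⟩ : N)).1 h))
    have h2 : orderOf (QuotientGroup.mk (⟨(s : G), hsN⟩ : N) : N ⧸ C.subgroupOf N) ∣ 2 ^ n := by
      have := orderOf_map_dvd (QuotientGroup.mk' (C.subgroupOf N)) (⟨(s : G), hsN⟩ : N)
      rw [Subgroup.orderOf_mk, Subgroup.orderOf_coe, hn] at this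
      exact this
    obtain ⟨a, -, ha⟩ := (Nat.dvd_prime_pow Nat.prime_two).1 h2
    have ha0 : a ≠ 0 := fun h => h1 (orderOf_eq_one_iff.1 (by rw [ha, h, pow_zero]))
    exact (dvd_pow_self 2 ha0).trans (ha ▸ orderOf_dvd_natCard _)

include D in
theorem relIndex_eq_iff_fused (i : ℤ) :
    (Subgroup.centralizer (dsub P D i d : Set G)).relIndex (Subgroup.normalizer (dsub P D i d : Set G)) =
      (if Nat.card (P : Subgroup G) = 4 then 3 else 6) ↔ Fused (dsub P D i d) := by
  rw [← three_dvd_iff_fused (dsub_isKlein P D i)]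
  have h6 := relIndex_dvd_six (dsub_isKlein P D i)
  have h2 := relIndex_even_iff P D i
  have h4 : Nat.card (P : Subgroup G) = 4 ↔ d = 0 := by
    rw [D.card_eq, show (4 : ℕ) = 2 ^ 2 by rfl]
    constructor
    · intro h; have := Nat.pow_right_injective le_rfl h; omega
    · rintro rfl; rfl
  set n := (Subgroup.centralizer (dsub P D i d : Set G)).relIndex (Subgroup.normalizer (dsub P D i d : Set G))
  constructor
  · intro h; rw [h]; split_ifs <;> norm_num
  · intro h3
    split_ifs with hc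
    · have : ¬ 2 ∣ n := fun h => by have := h2.1 h; have := h4.1 hc; omega
      have := Nat.le_of_dvd (by norm_num) h6
      interval_cases n <;> omega
    · have h2' : 2 ∣ n := h2.2 (by by_contra h; exact hc (h4.2 (by omega)))
      exact Nat.dvd_antisymm h6 (Nat.Coprime.mul_dvd_of_dvd_of_dvd (by norm_num) h2' h3)

/-- Without fusion the normalizer of a four subgroup fixes the central involution. -/
theorem fix_z_of_not_fused {i : ℤ} (hnf : ¬ Fused (dsub P D i d)) {n : G}
    (hn : n ∈ Subgroup.normalizer (dsub P D i d : Set G)) :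
    n * ((D.z : (P : Subgroup G)) : G) * n⁻¹ = ((D.z : (P : Subgroup G)) : G) := by
  set U := dsub P D i d with hU
  set N := Subgroup.normalizer (U : Set G) with hN
  set C := (Subgroup.centralizer (U : Set G)).subgroupOf N with hC
  haveI : C.Normal := centralizer_normal_in_normalizer U
  set z : G := ((D.z : (P : Subgroup G)) : G) with hz
  have hzU : z ∈ U := (four_elem_mem P D i).1
  have hidx : C.index ∣ 2 := by
    have h6 : C.index ∣ 6 := relIndex_dvd_six (dsub_isKlein P D i)
    have h3 : ¬ 3 ∣ C.index := fun h => hnf ((three_dvd_iff_fused (dsub_isKlein P D i)).1 h)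
    exact ((Nat.prime_three.coprime_iff_not_dvd.2 h3).symm).dvd_of_dvd_mul_right (by simpa using h6)
  have hfix : ∀ m : N, m ∈ C → (m : G) * z * (m : G)⁻¹ = z := fun m hm => by
    rw [← Subgroup.mem_centralizer_iff.1 (Subgroup.mem_subgroupOf.1 hm) z hzU, mul_inv_cancel_right]
  by_cases hnC : (⟨n, hn⟩ : N) ∈ C
  · exact hfix _ hnC
  have hidx2 : C.index = 2 := (Nat.dvd_prime Nat.prime_two).1 hidx |>.resolve_left fun h =>
    hnC (Subgroup.index_eq_one.1 h ▸ Subgroup.mem_top _)
  have hd : 1 ≤ d := by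
    have h : 2 ∣ (Subgroup.centralizer (U : Set G)).relIndex N := by
      show 2 ∣ C.index
      rw [hidx2]
    exact (relIndex_even_iff P D i).1 h
  obtain ⟨e, rfl⟩ : ∃ e, d = e + 1 := ⟨d - 1, by omega⟩
  set s : (P : Subgroup G) := D.x ^ ((2 : ℤ) ^ e) with hs
  have hsN : (s : G) ∈ N := by
    have h : s ∈ D.sub i e := (D.pow_mem_sub (by omega)).2 dvd_rfl
    rw [← D.normalizer_sub (by omega)] at h
    exact Subgroup.le_normalizer_map (P : Subgroup G).subtype ⟨s, h, rfl⟩
  have hsz : (s : G) * z * (s : G)⁻¹ = z := by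
    have h2 : s * D.z * s⁻¹ = D.z := by rw [(D.z_commute s).eq, mul_inv_cancel_right]
    exact congrArg Subtype.val h2
  have hsC : (⟨(s : G), hsN⟩ : N) ∉ C := by
    intro h
    have h1 : Commute s (D.x ^ i * D.y) := Subtype.ext
      ((Subgroup.mem_centralizer_iff.1 (Subgroup.mem_subgroupOf.1 h) _ (four_elem_mem P D i).2).symm :
        (s : G) * ((D.x ^ i * D.y : (P : Subgroup G)) : G) = ((D.x ^ i * D.y : (P : Subgroup G)) : G) * s)
    have h2 := D.centralizer_out h1
    rw [hs, D.pow_mem_sub (Nat.le_succ _)] at h2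
    have := Int.le_of_dvd (by positivity) h2
    have h3 : (2 : ℤ) ^ e < 2 ^ (e + 1) := pow_lt_pow_right₀ (by norm_num) (by omega)
    omega
  have hmem : (⟨n, hn⟩ : N) * ⟨(s : G), hsN⟩ ∈ C := by
    rw [Subgroup.mul_mem_iff_of_index_two hidx2]
    exact iff_of_false hnC hsC
  have h := hfix _ hmem
  calc n * z * n⁻¹ = n * ((s : G) * z * (s : G)⁻¹) * n⁻¹ := by rw [hsz]
    _ = (n * s) * z * (n * s)⁻¹ := by group
    _ = z := h

include D in
theorem invol_conj_into {t : G} (ht : orderOf t = 2) :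
    IsConj t ((D.z : (P : Subgroup G)) : G) ∨ ∃ i : ℤ, IsConj t ((D.x ^ i * D.y : (P : Subgroup G)) : G) := by
  haveI : Fact (Nat.Prime 2) := ⟨Nat.prime_two⟩
  obtain ⟨R, hR⟩ := (IsPGroup.of_card (n := 1) (by rw [Nat.card_zpowers, ht, pow_one]) :
    IsPGroup 2 (Subgroup.zpowers t)).exists_le_sylow
  obtain ⟨g, hg⟩ := MulAction.exists_smul_eq G R P
  have hmem : g * t * g⁻¹ ∈ (P : Subgroup G) := by
    rw [← hg, Sylow.coe_subgroup_smul, mem_conj_smul_iff]
    have e : g⁻¹ * (g * t * g⁻¹) * g = t := by group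
    rw [e]
    exact hR (Subgroup.mem_zpowers t)
  have ho : orderOf (⟨g * t * g⁻¹, hmem⟩ : (P : Subgroup G)) = 2 := by
    rw [Subgroup.orderOf_mk]; exact invol_conj ht g
  rcases D.invol_cases ho with h | ⟨i, h⟩
  · exact Or.inl (isConj_iff.2 ⟨g, congrArg Subtype.val h⟩)
  · exact Or.inr ⟨i, isConj_iff.2 ⟨g, congrArg Subtype.val h⟩⟩

include D in
theorem isConj_z_of_fused {i : ℤ} (hf : Fused (dsub P D i d)) :
    IsConj ((D.x ^ i * D.y : (P : Subgroup G)) : G) ((D.z : (P : Subgroup G)) : G) := by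
  obtain ⟨g, hg, hodd, hgc⟩ := hf
  set t : G := ((D.x ^ i * D.y : (P : Subgroup G)) : G) with ht
  set z : G := ((D.z : (P : Subgroup G)) : G) with hz
  have hzz : z * z = 1 := congrArg Subtype.val D.z_mul_self
  have hzU : z ∈ dsub P D i d := (four_elem_mem P D i).1
  have htU : t ∈ dsub P D i d := (four_elem_mem P D i).2
  have hmem : ∀ u ∈ dsub P D i d, u = 1 ∨ u = z ∨ u = t ∨ u = z * t := by
    rintro _ ⟨u, hu, rfl⟩
    rcases D.four_mem i hu with h | h | h | h <;> subst h
    · left; simp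
    · right; left; rfl
    · right; right; left; rfl
    · right; right; right; rfl
  have hconj : ∀ u ∈ dsub P D i d, g * u * g⁻¹ ∈ dsub P D i d := fun u hu =>
    (Subgroup.mem_normalizer_iff.1 hg u).1 hu
  have hz1 : z ≠ 1 := fun h => D.z_ne_one (Subtype.ext h)
  have ht1 : t ≠ 1 := fun h => D.out_not_mem i (by rw [show D.x ^ i * D.y = 1 from Subtype.ext h]; exact one_mem _)
  -- the element moves the central involution
  have hgz : g * z * g⁻¹ ≠ z := by
    intro h
    apply hgc
    have cz : Commute g z := mul_inv_eq_iff_eq_mul.1 h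
    have h2 : g ^ 2 * t * (g ^ 2)⁻¹ = t := by
      rcases hmem _ (hconj t htU) with e | e | e | e
      · exact absurd (conj_eq_one_iff.1 e) ht1
      · exact absurd (mul_left_cancel (mul_right_cancel (e.trans h.symm))) (fun e' => D.out_not_mem i
          (by rw [show D.x ^ i * D.y = D.z from Subtype.ext e']; exact Subgroup.zpow_mem_zpowers _ _))
      · rw [pow_two]
        calc g * g * t * (g * g)⁻¹ = g * (g * t * g⁻¹) * g⁻¹ := by group
          _ = t := by rw [e, e]
      · rw [pow_two]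
        calc g * g * t * (g * g)⁻¹ = g * (g * t * g⁻¹) * g⁻¹ := by group
          _ = (g * z * g⁻¹) * (g * t * g⁻¹) := by conv_lhs => rw [e]
                                                  group
          _ = t := by rw [h, e, ← mul_assoc, hzz, one_mul]
    obtain ⟨r, hr⟩ := hodd
    have ct : Commute g t := by
      have h3 : Commute (g ^ 2) t := mul_inv_eq_iff_eq_mul.1 h2
      have h4 : g = (g ^ 2) ^ (r + 1) := by
        rw [← pow_mul, show 2 * (r + 1) = orderOf g + 1 by omega, pow_succ, pow_orderOf_eq_one, one_mul]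
      rw [h4]
      exact h3.pow_left _
    rw [Subgroup.mem_centralizer_iff]
    intro u hu
    rcases hmem u hu with rfl | rfl | rfl | rfl
    · simp
    · exact cz.symm.eq
    · exact ct.symm.eq
    · exact (cz.mul_right ct).symm.eq
  rcases hmem _ (hconj z hzU) with e | e | e | e
  · exact absurd (conj_eq_one_iff.1 e) hz1
  · exact absurd e hgz
  · exact (isConj_iff.2 ⟨g, e⟩).symm
  · refine IsConj.trans ?_ (isConj_iff.2 ⟨g, e⟩).symm
    -- `z * t` is conjugate to `t`
    rcases hmem _ (hconj t htU) with f | f | f | f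
    · exact absurd (conj_eq_one_iff.1 f) ht1
    · exact (isConj_iff.2 ⟨g, f⟩).trans (isConj_iff.2 ⟨g, e⟩)
    · exfalso
      apply hgz
      have h5 : g * (g * z * g⁻¹) * g⁻¹ = z := by
        calc g * (g * z * g⁻¹) * g⁻¹ = g * (z * t) * g⁻¹ := by rw [e]
          _ = (g * z * g⁻¹) * (g * t * g⁻¹) := by group
          _ = z := by
              rw [e, f, mul_assoc]
              have htt : t * t = 1 := congrArg Subtype.val (D.out_mul_self i)
              rw [htt, mul_one]
      obtain ⟨r, hr⟩ := hodd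
      have h3 : Commute (g ^ 2) z := by
        refine mul_inv_eq_iff_eq_mul.1 ?_
        rw [pow_two]
        calc g * g * z * (g * g)⁻¹ = g * (g * z * g⁻¹) * g⁻¹ := by group
          _ = z := h5
      have h4 : g = (g ^ 2) ^ (r + 1) := by
        rw [← pow_mul, show 2 * (r + 1) = orderOf g + 1 by omega, pow_succ, pow_orderOf_eq_one, one_mul]
      have cz : Commute g z := by rw [h4]; exact h3.pow_left _
      rw [cz.eq, mul_inv_cancel_right]
    · exact isConj_iff.2 ⟨g, f⟩

include D in
theorem one_class_of_fused (h : ∀ i : ℤ, Fused (dsub P D i d)) :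
    ∀ a b : G, orderOf a = 2 → orderOf b = 2 → IsConj a b := by
  have key : ∀ a : G, orderOf a = 2 → IsConj a ((D.z : (P : Subgroup G)) : G) := by
    intro a ha
    rcases invol_conj_into P D ha with h1 | ⟨i, h1⟩
    · exact h1
    · exact h1.trans (isConj_z_of_fused P D (h i))
  exact fun a b ha hb => (key a ha).trans (key b hb).symm

include D in
theorem fused_of_one_class (h : ∀ a b : G, orderOf a = 2 → orderOf b = 2 → IsConj a b) (i : ℤ) :
    Fused (dsub P D i d) := by
  haveI : Fact (Nat.Prime 2) := ⟨Nat.prime_two⟩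
  by_contra hnf
  set t : G := ((D.x ^ i * D.y : (P : Subgroup G)) : G) with ht
  set z : G := ((D.z : (P : Subgroup G)) : G) with hz
  have hzo : orderOf D.z = 2 := orderOf_eq_prime (by rw [pow_two]; exact D.z_mul_self) D.z_ne_one
  obtain ⟨g, hg⟩ := isConj_iff.1 (h t z (by rw [ht, Subgroup.orderOf_coe]; exact D.out_order i) (by rw [hz, Subgroup.orderOf_coe]; exact hzo))
  set C := Subgroup.centralizer ({z} : Set G) with hC
  have hPC : (P : Subgroup G) ≤ C := fun x hx => Subgroup.mem_centralizer_singleton_iff.2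
    (congrArg Subtype.val (D.z_commute ⟨x, hx⟩).eq :)
  set U := dsub P D i d with hU
  have hUc : ∀ u ∈ U, Commute u t := fun u hu =>
    congrArg Subtype.val ((dsub_isKlein P D i).isMulCommutative.is_comm.comm (⟨u, hu⟩ : U) ⟨t, (four_elem_mem P D i).2⟩)
  have hUC : MulAut.conj g • U ≤ C := by
    intro x hx
    rw [mem_conj_smul_iff] at hx
    refine Subgroup.mem_centralizer_singleton_iff.2 ?_
    have h1 := (hUc _ hx).map (MulAut.conj g).toMonoidHom
    simp only [MulEquiv.coe_toMonoidHom, MulAut.conj_apply] at h1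
    rw [hg, show g * (g⁻¹ * x * g) * g⁻¹ = x by group] at h1
    exact h1.eq
  obtain ⟨R, hR⟩ := ((P.2.comap_of_injective C.subtype C.subtype_injective :
    IsPGroup 2 ((P : Subgroup G).subgroupOf C))).exists_le_sylow
  have hUp : IsPGroup 2 (MulAut.conj g • U : Subgroup G) :=
    IsPGroup.of_equiv (P.2.to_le (dsub_le P D i d)) (Subgroup.equivSMul (MulAut.conj g) U)
  obtain ⟨T, hT⟩ := ((hUp.comap_of_injective C.subtype C.subtype_injective :
    IsPGroup 2 ((MulAut.conj g • U).subgroupOf C))).exists_le_sylow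
  obtain ⟨c, hc⟩ := MulAction.exists_smul_eq C T R
  have hRP : (R : Subgroup C).map C.subtype = (P : Subgroup G) := by
    refine (P.3 (R.2.map _) ?_)
    intro x hx
    exact ⟨⟨x, hPC hx⟩, hR (Subgroup.mem_subgroupOf.2 hx), rfl⟩
  have hle : MulAut.conj ((c : G) * g) • U ≤ (P : Subgroup G) := by
    intro x hx
    rw [map_mul, mul_smul, mem_conj_smul_iff] at hx
    rw [← hRP]
    refine ⟨c * ⟨(c : G)⁻¹ * x * c, hUC hx⟩ * c⁻¹, ?_, by simp [mul_assoc]⟩
    rw [← hc, Sylow.coe_subgroup_smul, SetLike.mem_coe, mem_conj_smul_iff]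
    have e : c⁻¹ * (c * (⟨(c : G)⁻¹ * x * c, hUC hx⟩ : C) * c⁻¹) * c = ⟨(c : G)⁻¹ * x * c, hUC hx⟩ := by group
    rw [e]
    exact hT hx
  have eU := Subgroup.equivSMul (MulAut.conj ((c : G) * g)) U
  have hK := dsub_isKlein P D i
  obtain ⟨j, hj⟩ := klein_le_eq P D ⟨(Nat.card_congr eU.toEquiv).symm.trans hK.card_four,
    (Monoid.exponent_eq_of_mulEquiv eU).symm.trans hK.exponent_two⟩ hle
  obtain ⟨s, hs, hsj⟩ : ∃ s ∈ (P : Subgroup G), MulAut.conj s • dsub P D j d = dsub P D i d := by
    refine dsub_four_conj P D ?_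
    rcases Nat.eq_zero_or_pos d with h0 | h0
    · exact Or.inr h0
    left
    have := dsub_parity P D d le_rfl i j ((c : G) * g) h0 (fun q hq => by
      rw [← hj, mem_conj_smul_iff]; simpa [mul_assoc] using hq)
    rw [even_iff_two_dvd]
    omega
  set n := s * ((c : G) * g) with hn
  have hnU : MulAut.conj n • U = U := by rw [hn, map_mul, mul_smul, hj, hsj]
  have hnN : n ∈ Subgroup.normalizer (U : Set G) := Subgroup.mem_normalizer_iff.2 fun x => by
    conv_rhs => rw [← hnU, mem_conj_smul_iff]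
    simp [mul_assoc]
  have hfix := fix_z_of_not_fused P D hnf hnN
  have hnt : n * t * n⁻¹ = z := by
    have e1 : n * t * n⁻¹ = s * ((c : G) * (g * t * g⁻¹) * (c : G)⁻¹) * s⁻¹ := by rw [hn]; group
    have e2 : (c : G) * z * (c : G)⁻¹ = z := by
      rw [Subgroup.mem_centralizer_singleton_iff.1 c.2, mul_inv_cancel_right]
    have e3 : s * z * s⁻¹ = z := by
      have h2 : (⟨s, hs⟩ : (P : Subgroup G)) * D.z * (⟨s, hs⟩ : (P : Subgroup G))⁻¹ = D.z := by
        rw [(D.z_commute _).eq, mul_inv_cancel_right]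
      exact congrArg Subtype.val h2
    rw [e1, hg, e2, e3]
  have e : t = z := mul_left_cancel (mul_right_cancel (hnt.trans hfix.symm))
  refine D.out_not_mem i ?_
  rw [show D.x ^ i * D.y = D.z from Subtype.ext e]
  exact Subgroup.zpow_mem_zpowers _ _

include D in
theorem frobCond_of_not_fused (h : ∀ U : Subgroup G, U ≤ (P : Subgroup G) → IsKleinFour U → ¬ Fused U) :
    CfsgLib.Solv.FrobCond 2 G := by
  haveI : Fact (Nat.Prime 2) := ⟨Nat.prime_two⟩
  intro Q hQ g hg hgc
  obtain ⟨R, hR⟩ := hQ.exists_le_sylow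
  obtain ⟨a, ha⟩ := MulAction.exists_smul_eq G R P
  have hle : MulAut.conj a • Q ≤ (P : Subgroup G) := by
    intro x hx
    rw [← ha, Sylow.coe_subgroup_smul, mem_conj_smul_iff]
    exact hR (mem_conj_smul_iff.1 hx)
  have hg' : a * g * a⁻¹ ∈ Subgroup.normalizer ((MulAut.conj a • Q : Subgroup G) : Set G) := by
    refine Subgroup.mem_normalizer_iff.2 fun x => ?_
    simp only [mem_conj_smul_iff]
    have := Subgroup.mem_normalizer_iff.1 hg (a⁻¹ * x * a)
    simpa [mul_assoc] using this
  have hodd : Odd (orderOf (a * g * a⁻¹)) := by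
    rw [show orderOf (a * g * a⁻¹) = orderOf g from MulEquiv.orderOf_eq (MulAut.conj a) g]
    exact Nat.coprime_two_right.1 hgc
  have hcen : a * g * a⁻¹ ∈ Subgroup.centralizer ((MulAut.conj a • Q : Subgroup G) : Set G) := by
    rcases centralize_or_klein P D hle hg' hodd with h1 | h1
    · exact h1
    · by_contra hc
      exact h _ hle h1 ⟨_, hg', hodd, hc⟩
  rw [Subgroup.mem_centralizer_iff]
  intro q hq
  have := Subgroup.mem_centralizer_iff.1 hcen (a * q * a⁻¹) (mem_conj_smul_iff.2 (by simpa [mul_assoc] using hq))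
  have h3 := congrArg (fun w => a⁻¹ * w * a) this
  simpa [mul_assoc] using h3

include D in
theorem one_class_of_fusion_simple (h : ∀ H : Subgroup G, H.index ≠ 2) :
    ∀ a b : G, orderOf a = 2 → orderOf b = 2 → IsConj a b := by
  haveI : Fact (Nat.Prime 2) := ⟨Nat.prime_two⟩
  have hres : Cfsg.pResidual 2 G = ⊤ := by
    by_contra hne
    obtain ⟨H, hH⟩ := exists_index_two_of_pResidual hne
    exact h H hH
  rcases Nat.eq_zero_or_pos d with h0 | h0
  · refine one_class_of_fused P D fun i => ?_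
    by_contra hnf
    have hnpc : Cfsg.HasNormalPComplement 2 G :=
      CfsgLib.Solv.hnpc_iff_frobCond.2 (frobCond_of_not_fused P D fun U hU hK => by
        obtain ⟨j, rfl⟩ := klein_le_eq P D hK hU
        have e : dsub P D j d = dsub P D i d := by
          rw [dsub, dsub, (D.sub_eq_iff (i := j) (j := i) (Nat.le_succ d)).2 (by subst h0; simp)]
        rwa [e])
    have h2 := CfsgLib.Solv.hnpc_iff.1 hnpc
    rw [hres, Subgroup.card_top] at h2
    refine h2 ((dvd_pow_self 2 (by omega : d + 2 ≠ 0)).trans ?_)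
    rw [← D.card_eq]
    exact Subgroup.card_subgroup_dvd_card _
  · intro a b ha hb
    haveI : NeZero (2 ^ (d + 1)) := ⟨pow_ne_zero _ two_ne_zero⟩
    let e : DihedralGroup (2 ^ (d + 1)) → (P : Subgroup G)
      | DihedralGroup.r i => D.x ^ (i.val : ℤ)
      | DihedralGroup.sr i => D.y * D.x ^ (i.val : ℤ)
    have hv : ∀ i : ZMod (2 ^ (d + 1)), ∀ j : ℤ, (j : ZMod (2 ^ (d + 1))) = i → D.x ^ (i.val : ℤ) = D.x ^ j := by
      intro i j hj
      rw [D.zpow_x_eq]
      have h1 : (((i.val : ℤ) - j : ℤ) : ZMod (2 ^ (d + 1))) = 0 := by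
        push_cast
        rw [ZMod.natCast_zmod_val, hj, sub_self]
      rw [ZMod.intCast_zmod_eq_zero_iff_dvd] at h1
      exact_mod_cast h1
    let φ : DihedralGroup (2 ^ (d + 1)) →* (P : Subgroup G) :=
      MonoidHom.mk' e (by
        rintro (i | i) (j | j)
        · show D.x ^ (((i + j).val : ℕ) : ℤ) = D.x ^ (i.val : ℤ) * D.x ^ (j.val : ℤ)
          rw [← zpow_add]; exact hv _ _ (by push_cast; rw [ZMod.natCast_zmod_val, ZMod.natCast_zmod_val])
        · show D.y * D.x ^ (((j - i).val : ℕ) : ℤ) = D.x ^ (i.val : ℤ) * (D.y * D.x ^ (j.val : ℤ))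
          rw [← mul_assoc, hv (j - i) ((j.val : ℤ) - i.val) (by push_cast; rw [ZMod.natCast_zmod_val, ZMod.natCast_zmod_val]),
            D.y_mul_zpow, mul_assoc (D.x ^ (i.val : ℤ)) D.y, D.y_mul_zpow, ← mul_assoc, ← zpow_add]
          congr 2; ring
        · show D.y * D.x ^ (((i + j).val : ℕ) : ℤ) = D.y * D.x ^ (i.val : ℤ) * D.x ^ (j.val : ℤ)
          rw [mul_assoc, ← zpow_add]; congr 1
          exact hv _ _ (by push_cast; rw [ZMod.natCast_zmod_val, ZMod.natCast_zmod_val])
        · show D.x ^ (((j - i).val : ℕ) : ℤ) = D.y * D.x ^ (i.val : ℤ) * (D.y * D.x ^ (j.val : ℤ))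
          rw [D.y_mul_zpow (i.val : ℤ), D.y_mul_zpow (j.val : ℤ), D.out_mul_out]
          exact hv _ _ (by push_cast; rw [ZMod.natCast_zmod_val, ZMod.natCast_zmod_val]; ring))
    have hsurj : Function.Surjective φ := by
      intro u
      rcases D.cases u with ⟨i, rfl⟩ | ⟨i, rfl⟩
      · exact ⟨DihedralGroup.r (i : ZMod _), hv _ _ rfl⟩
      · refine ⟨DihedralGroup.sr ((-i : ℤ) : ZMod _), ?_⟩
        show e (DihedralGroup.sr _) = _
        simp only [e]
        rw [hv _ _ rfl, D.y_mul_zpow, neg_neg]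
    have hbij : Function.Bijective φ := by
      rw [Nat.bijective_iff_surjective_and_card]
      exact ⟨hsurj, by rw [DihedralGroup.nat_card, D.card_eq, ← pow_succ']⟩
    obtain ⟨g, hg⟩ := Cfsg.Agent.S0107.result P (d + 1) (by omega)
      ⟨(MulEquiv.ofBijective φ hbij).symm⟩ hres a b ha hb
    exact isConj_iff.2 ⟨g, hg⟩

include D in
theorem fusion_simple_of_one_class (h : ∀ a b : G, orderOf a = 2 → orderOf b = 2 → IsConj a b) :
    (∀ H : Subgroup G, H.index ≠ 2) ∧ ∀ z : G, ¬ Cfsg.IsIsolatedInvolution z := by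
  haveI : Fact (Nat.Prime 2) := ⟨Nat.prime_two⟩
  have hzo : orderOf ((D.z : (P : Subgroup G)) : G) = 2 := by
    rw [Subgroup.orderOf_coe]; exact orderOf_eq_prime (by rw [pow_two]; exact D.z_mul_self) D.z_ne_one
  set u0 : G := ((D.x ^ (0 : ℤ) * D.y : (P : Subgroup G)) : G) with hu0
  set u1 : G := ((D.x ^ (1 : ℤ) * D.y : (P : Subgroup G)) : G) with hu1
  have hu0o : orderOf u0 = 2 := by rw [hu0, Subgroup.orderOf_coe]; exact D.out_order 0
  have hu1o : orderOf u1 = 2 := by rw [hu1, Subgroup.orderOf_coe]; exact D.out_order 1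
  constructor
  · intro H hH
    haveI : H.Normal := Subgroup.normal_of_index_eq_two hH
    have hall : ∀ a b : G, orderOf a = 2 → orderOf b = 2 → (a ∈ H → b ∈ H) := by
      intro a b ha hb hmem
      obtain ⟨g, rfl⟩ := isConj_iff.1 (h a b ha hb)
      exact Subgroup.Normal.conj_mem ‹H.Normal› a hmem g
    have hmul : ∀ a b : G, orderOf a = 2 → orderOf b = 2 → a * b ∈ H := by
      intro a b ha hb
      rw [Subgroup.mul_mem_iff_of_index_two hH]
      exact ⟨hall a b ha hb, hall b a hb ha⟩
    have hx : ((D.x : (P : Subgroup G)) : G) ∈ H := by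
      have := hmul u1 u0 hu1o hu0o
      rw [hu1, hu0, ← Subgroup.coe_mul, D.out_mul_out, sub_zero, zpow_one] at this
      exact this
    have hu0H : u0 ∈ H := by
      have hz : ((D.z : (P : Subgroup G)) : G) ∈ H := by
        rw [DData.z, SubgroupClass.coe_zpow]
        exact zpow_mem hx _
      exact hall _ _ hzo hu0o hz
    have hPH : (P : Subgroup G) ≤ H := by
      intro p hp
      rcases D.cases ⟨p, hp⟩ with ⟨i, hi⟩ | ⟨i, hi⟩
      · rw [show p = _ from congrArg Subtype.val hi, SubgroupClass.coe_zpow]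
        exact zpow_mem hx i
      · rw [show p = _ from congrArg Subtype.val hi, Subgroup.coe_mul, SubgroupClass.coe_zpow]
        refine mul_mem (zpow_mem hx i) ?_
        rw [hu0, zpow_zero, one_mul] at hu0H
        exact hu0H
    refine P.not_dvd_index ?_
    exact (dvd_of_eq hH.symm).trans (Subgroup.index_dvd_of_le hPH)
  · intro w hw
    obtain ⟨g, hg⟩ := isConj_iff.1 (h u0 w hu0o hw.1)
    set v : G := ((D.z : (P : Subgroup G)) : G) * u0 with hv
    have hcz : Commute u0 ((D.z : (P : Subgroup G)) : G) := (congrArg Subtype.val (D.z_commute _).eq :)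
    have hvo : orderOf v = 2 := by
      refine invol_iff.2 ⟨fun h1 => ?_, ?_⟩
      · have := eq_inv_of_mul_eq_one_right h1
        rw [invol_inv hzo] at this
        exact D.out_not_mem 0 (by rw [show D.x ^ (0 : ℤ) * D.y = D.z from Subtype.ext this]; exact Subgroup.zpow_mem_zpowers _ _)
      · rw [hv, hcz.mul_mul_mul_comm, invol_mul_self hzo, invol_mul_self hu0o, one_mul]
    obtain ⟨k, hk⟩ := isConj_iff.1 (h w (g * v * g⁻¹) hw.1 (invol_conj hvo g))
    have hne : k * w * k⁻¹ ≠ w := by
      rw [hk, ← hg]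
      intro e
      have e2 : v = u0 := mul_left_cancel (mul_right_cancel e)
      rw [hv, mul_eq_right] at e2
      exact invol_ne_one hzo e2
    refine hne (hw.2 k ?_)
    rw [hk, ← hg]
    exact ((hcz.mul_right (Commute.refl u0)).map (MulAut.conj g).toMonoidHom)

end CfsgLib.Inv
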