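import Cfsg.Agent.Solv.CoprimeAction
import Mathlib.Tactic
import Mathlib.GroupTheory.PGroup

/-!
A dihedral group of order `2r` acting on a 2-group with fixed-point-free rotation: the reflections fix
subgroups of order the square root.
-/

set_option autoImplicit false
set_option linter.style.haveILetI false

namespace CfsgLib.Inv.DihedralTwo

theorem main : ∀ (n : ℕ) {G : Type*} [Group G] [Finite G] (Q : Subgroup G) [Q.Normal] (a ρ : G)
    (r : ℕ), Nat.card Q ≤ n → IsPGroup 2 Q → a * a = 1 → a * ρ * (a * ρ) = 1 → Odd r → ρ ^ r = 1 →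
    Q ⊓ Subgroup.centralizer ({ρ} : Set G) = ⊥ →
    Nat.card ↥(Q ⊓ Subgroup.centralizer ({a} : Set G)) ^ 2 = Nat.card Q ∧
      ∀ x ∈ Q, x * a * (x * a) = 1 → ∃ w ∈ Q, x * a = w * a * w⁻¹ := by
  intro n
  induction n using Nat.strong_induction_on with
  | _ n ih =>
    intro G _ _ Q _ a ρ r hn h2 ha hb hr hρ hC
    haveI : Fact (Nat.Prime 2) := ⟨Nat.prime_two⟩
    have hai : a⁻¹ = a := inv_eq_of_mul_eq_one_left ha
    rcases eq_or_ne Q ⊥ with rfl | hQ
    · refine ⟨by rw [bot_inf_eq, Subgroup.card_bot, one_pow], fun x hx _ => ⟨1, one_mem _, ?_⟩⟩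
      rw [Subgroup.mem_bot.1 hx]; group
    -- an elementary abelian normal subgroup inside
    set V : Subgroup G := (⊥ : Subgroup G) ⊔ Subgroup.closure {v : G | v ∈ Q ∧
      (∀ q ∈ Q, q * v = v * q) ∧ v * v = 1} with hVdef
    have hVmem : ∀ v : G, v ∈ V ↔ v ∈ Q ∧ (∀ q ∈ Q, q * v = v * q) ∧ v * v = 1 := by
      intro v
      rw [hVdef, bot_sup_eq]
      refine ⟨fun hv => ?_, fun hv => Subgroup.subset_closure hv⟩
      induction hv using Subgroup.closure_induction with
      | mem w hw => exact hw
      | one => exact ⟨one_mem _, fun q _ => by simp, one_mul 1⟩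
      | mul x y _ _ hx hy =>
        refine ⟨mul_mem hx.1 hy.1, fun q hq => ?_, ?_⟩
        · rw [← mul_assoc, hx.2.1 q hq, mul_assoc, hy.2.1 q hq, mul_assoc]
        · rw [show x * y * (x * y) = x * (y * x) * y by group, hx.2.1 y hy.1,
            show x * (x * y) * y = x * x * (y * y) by group, hx.2.2, hy.2.2, one_mul]
      | inv x _ hx =>
        refine ⟨inv_mem hx.1, fun q hq => ((show Commute q x from hx.2.1 q hq).inv_right).eq, ?_⟩
        rw [← mul_inv_rev, hx.2.2, inv_one]
    have hVQ : V ≤ Q := fun v hv => ((hVmem v).1 hv).1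
    have hVn : V.Normal := ⟨fun v hv g => by
      obtain ⟨h1, h3, h4⟩ := (hVmem v).1 hv
      refine (hVmem _).2 ⟨Subgroup.Normal.conj_mem inferInstance v h1 g, fun q hq => ?_, ?_⟩
      · have h5 := h3 _ (Subgroup.Normal.conj_mem' inferInstance q hq g)
        calc q * (g * v * g⁻¹) = g * (g⁻¹ * q * g * v) * g⁻¹ := by group
          _ = g * (v * (g⁻¹ * q * g)) * g⁻¹ := by rw [h5]
          _ = g * v * g⁻¹ * q := by group
      · rw [show g * v * g⁻¹ * (g * v * g⁻¹) = g * (v * v) * g⁻¹ by group, h4]; group⟩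
    have hV1 : V ≠ ⊥ := by
      haveI : Nontrivial Q := Q.nontrivial_iff_ne_bot.2 hQ
      haveI := h2.center_nontrivial
      obtain ⟨c, hc⟩ := exists_prime_orderOf_dvd_card' (G := Subgroup.center Q) 2 (by
        obtain ⟨k, hk⟩ := (IsPGroup.iff_card).1 (h2.to_subgroup (Subgroup.center Q))
        have h1 : 1 < Nat.card (Subgroup.center Q) := Finite.one_lt_card
        rcases k with _ | k
        · rw [hk, pow_zero] at h1; omega
        · rw [hk, pow_succ]; exact dvd_mul_left _ _)
      intro hbot
      have hcV : ((c : Q) : G) ∈ V := by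
        refine (hVmem _).2 ⟨(c : Q).2, fun q hq => ?_, ?_⟩
        · exact congrArg Subtype.val (Subgroup.mem_center_iff.1 c.2 ⟨q, hq⟩)
        · have h := pow_orderOf_eq_one c
          rw [hc, pow_two] at h
          exact congrArg (fun t : Subgroup.center Q => ((t : Q) : G)) h
      rw [hbot, Subgroup.mem_bot] at hcV
      have : c = 1 := Subtype.ext (Subtype.ext hcV)
      rw [this, orderOf_one] at hc
      omega
    -- the basic hom `v ↦ v (a v a)` on `V`
    have hcv : ∀ v ∈ V, a * v * a ∈ V := fun v hv => by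
      have h := hVn.conj_mem v hv a
      rwa [hai] at h
    have hVc : ∀ v ∈ V, ∀ w ∈ V, v * w = w * v := fun v hv w hw => ((hVmem w).1 hw).2.1 v (hVQ hv)
    set CV := V ⊓ Subgroup.centralizer ({a} : Set G) with hCV
    have key : ∀ b : G, b * b = 1 → Nat.card V ≤ Nat.card ↥(V ⊓ Subgroup.centralizer ({b} : Set G)) ^ 2 ∧
        (Nat.card V = Nat.card ↥(V ⊓ Subgroup.centralizer ({b} : Set G)) ^ 2 →
          ∀ v ∈ V ⊓ Subgroup.centralizer ({b} : Set G), ∃ u ∈ V, v = u * (b * u * b)) := by
      intro b hbb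
      have hbi : b⁻¹ = b := inv_eq_of_mul_eq_one_left hbb
      have hbv : ∀ v ∈ V, b * v * b ∈ V := fun v hv => by
        have h := hVn.conj_mem v hv b
        rwa [hbi] at h
      let f : V →* V :=
        { toFun := fun v => ⟨(v : G) * (b * v * b), mul_mem v.2 (hbv v v.2)⟩
          map_one' := Subtype.ext (by simp [hbb])
          map_mul' := fun v w => Subtype.ext (by
            change (v : G) * w * (b * ((v : G) * w) * b) = (v : G) * (b * v * b) * ((w : G) * (b * w * b))
            rw [show b * ((v : G) * w) * b = (b * v * b⁻¹) * (b * w * b) by group, hbi,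
              show (v : G) * w * (b * v * b * (b * w * b)) = v * (w * (b * v * b)) * (b * w * b) by group,
              hVc w w.2 _ (hbv v v.2)]
            group) }
      have hkr : ∀ v : V, v ∈ f.ker ↔ (v : G) ∈ Subgroup.centralizer ({b} : Set G) := by
        intro v
        rw [MonoidHom.mem_ker, Subtype.ext_iff, Subgroup.mem_centralizer_singleton_iff]
        change (v : G) * (b * v * b) = 1 ↔ _
        have hvi : (v : G)⁻¹ = v := inv_eq_of_mul_eq_one_left ((hVmem v).1 v.2).2.2
        rw [mul_eq_one_iff_eq_inv]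
        constructor
        · intro h
          have h' := congrArg (·⁻¹) h
          simp only [inv_inv, hvi] at h'
          calc (v : G) * b = b * v * b * b := by rw [← h']
            _ = b * v := by rw [mul_assoc, hbb, mul_one]
        · intro h
          rw [mul_assoc b, h, ← mul_assoc, hbb, one_mul, hvi]
      have hker : Nat.card f.ker = Nat.card ↥(V ⊓ Subgroup.centralizer ({b} : Set G)) :=
        Nat.card_congr ⟨fun v => ⟨v.1.1, v.1.2, (hkr v.1).1 v.2⟩, fun v => ⟨⟨v.1, v.2.1⟩, (hkr _).2 v.2.2⟩,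
          fun v => rfl, fun v => rfl⟩
      have hle : f.range ≤ f.ker := by
        rintro _ ⟨v, rfl⟩
        rw [hkr, Subgroup.mem_centralizer_singleton_iff]
        change (v : G) * (b * v * b) * b = b * ((v : G) * (b * v * b))
        rw [show (v : G) * (b * v * b) * b = v * (b * v) * (b * b) by group, hbb, mul_one,
          hVc _ v.2 _ (hbv v v.2), show b * (b * (v : G) * b * v) = (b * b) * (v * b * v) by group,
          hbb, one_mul, mul_assoc]
      have hprod : Nat.card V = Nat.card f.range * Nat.card f.ker := by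
        rw [← Nat.card_congr (QuotientGroup.quotientKerEquivRange f).toEquiv,
          ← Subgroup.card_eq_card_quotient_mul_card_subgroup]
      refine ⟨?_, fun heq v hv => ?_⟩
      · rw [hprod, ← hker, sq]
        exact Nat.mul_le_mul_right _ (Subgroup.card_le_of_le hle)
      · have hre : f.range = f.ker := by
          refine Subgroup.eq_of_le_of_card_ge hle ?_
          rw [hprod, ← hker, sq] at heq
          exact (Nat.eq_of_mul_eq_mul_right Nat.card_pos heq).ge
        obtain ⟨u, hu⟩ : (⟨v, hv.1⟩ : V) ∈ f.range := by rw [hre, hkr]; exact hv.2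
        exact ⟨u, u.2, (congrArg Subtype.val hu).symm⟩
    obtain ⟨hA, hAim⟩ := key a ha
    obtain ⟨hB, -⟩ := key (a * ρ) hb
    set CB := V ⊓ Subgroup.centralizer ({a * ρ} : Set G) with hCB
    have hAB : Nat.card CV * Nat.card CB ≤ Nat.card V := by
      rw [← Nat.card_prod]
      refine Nat.card_le_card_of_injective (fun t : CV × CB => (⟨(t.1 : G) * t.2, mul_mem t.1.2.1 t.2.2.1⟩ : V)) ?_
      rintro ⟨u, v⟩ ⟨u', v'⟩ h
      have h' : (u : G) * v = u' * v' := congrArg Subtype.val h
      have hx : (u' : G)⁻¹ * u = v' * (v : G)⁻¹ := by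
        calc (u' : G)⁻¹ * u = (u' : G)⁻¹ * ((u : G) * v) * (v : G)⁻¹ := by group
          _ = _ := by rw [h']; group
      have h1 : (u' : G)⁻¹ * u ∈ Subgroup.centralizer ({a} : Set G) := mul_mem (inv_mem u'.2.2) u.2.2
      have h3 : (u' : G)⁻¹ * u ∈ Subgroup.centralizer ({a * ρ} : Set G) := hx ▸ mul_mem v'.2.2 (inv_mem v.2.2)
      have h4 : (u' : G)⁻¹ * u ∈ Q ⊓ Subgroup.centralizer ({ρ} : Set G) := by
        refine ⟨(mul_mem (inv_mem (hVQ u'.2.1)) (hVQ u.2.1) : (u' : G)⁻¹ * u ∈ Q), ?_⟩
        have k1 := Subgroup.mem_centralizer_singleton_iff.1 h1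
        have k3 := Subgroup.mem_centralizer_singleton_iff.1 h3
        refine Subgroup.mem_centralizer_singleton_iff.2 (mul_left_cancel (a := a) ?_)
        rw [← mul_assoc, ← k1, mul_assoc, k3, mul_assoc]
      rw [hC, Subgroup.mem_bot, inv_mul_eq_one] at h4
      have e : u = u' := Subtype.ext h4.symm
      subst e
      exact Prod.ext rfl (Subtype.ext (mul_left_cancel h'))
    have hCV2 : Nat.card V = Nat.card CV ^ 2 := by
      have p1 : 0 < Nat.card CV := Nat.card_pos
      have p2 : 0 < Nat.card CB := Nat.card_pos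
      nlinarith [hA, hB, hAB, Nat.mul_le_mul hAB hAB, Nat.mul_le_mul hA hB]
    -- the quotient
    let π := QuotientGroup.mk' V
    haveI : (Q.map π).Normal := Subgroup.Normal.map inferInstance π (QuotientGroup.mk'_surjective V)
    have hQcard : Nat.card Q = Nat.card (Q.map π) * Nat.card V := by
      have h := Subgroup.card_eq_card_quotient_mul_card_subgroup (π.comp Q.subtype).ker
      rw [Nat.card_congr (QuotientGroup.quotientKerEquivRange _).toEquiv, MonoidHom.range_comp,
        Subgroup.range_subtype] at h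
      rw [h]
      congr 1
      rw [← MonoidHom.comap_ker, QuotientGroup.ker_mk']
      exact Nat.card_congr (Subgroup.subgroupOfEquivOfLe hVQ).toEquiv
    have hV2 : 2 ≤ Nat.card V := Subgroup.one_lt_card_iff_ne_bot _ |>.2 hV1
    have hlt : Nat.card (Q.map π) < n := by
      have : 0 < Nat.card (Q.map π) := Nat.card_pos
      nlinarith
    have hCq : Q.map π ⊓ Subgroup.centralizer ({π ρ} : Set (G ⧸ V)) = ⊥ := by
      rw [Subgroup.eq_bot_iff_forall]
      rintro _ ⟨⟨x, hx, rfl⟩, hcx⟩
      replace hcx := Subgroup.mem_centralizer_singleton_iff.1 hcx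
      have hcop : (Nat.card (Subgroup.zpowers ρ)).Coprime (Nat.card V) := by
        obtain ⟨k, hk⟩ := (IsPGroup.iff_card).1 (h2.to_le hVQ)
        rw [hk, Nat.card_zpowers]
        exact Nat.Coprime.pow_right _ (Nat.coprime_two_right.2 (hr.of_dvd_nat (orderOf_dvd_of_pow_eq_one hρ)))
      have hd : Subgroup.zpowers ρ ⊓ Q = ⊥ := by
        rw [Subgroup.eq_bot_iff_forall]
        intro t ht
        refine Subgroup.mem_bot.1 (hC.le ⟨ht.2, ?_⟩)
        obtain ⟨k, rfl⟩ := Subgroup.mem_zpowers_iff.1 ht.1
        exact Subgroup.mem_centralizer_singleton_iff.2 ((Commute.refl ρ).zpow_left k).eq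
      have hsol : Group.IsSolvable (Subgroup.zpowers ρ) := inferInstance
      obtain ⟨d, hdV, hdc⟩ := CfsgLib.Solv.exists_centralizing_in_coset (A := Subgroup.zpowers ρ) (K := Q)
        (D := V) (le_top.trans (Subgroup.normalizer_eq_top_iff.2 ‹Q.Normal›).ge) hd hVQ
        (le_top.trans (Subgroup.normalizer_eq_top_iff.2 hVn).ge) hcop
        (Or.inl hsol) hx (fun t ht => by
          obtain ⟨k, rfl⟩ := Subgroup.mem_zpowers_iff.1 ht
          rw [← QuotientGroup.eq_one_iff]
          have hc' : Commute (π x) (π ρ ^ k) := (show Commute (π x) (π ρ) from hcx).zpow_right k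
          change π (x⁻¹ * ρ ^ k * x * (ρ ^ k)⁻¹) = 1
          rw [map_mul, map_mul, map_mul, map_inv, map_inv, map_zpow, mul_assoc (π x)⁻¹, ← hc'.eq,
            ← mul_assoc, inv_mul_cancel, one_mul, mul_inv_cancel])
      have h0 : x * d = 1 := Subgroup.mem_bot.1 (hC.le ⟨mul_mem hx (hVQ hdV),
        Subgroup.mem_centralizer_singleton_iff.2
          (Subgroup.mem_centralizer_iff.1 hdc ρ (Subgroup.mem_zpowers ρ)).symm⟩)
      change (QuotientGroup.mk x : G ⧸ V) = 1
      rw [QuotientGroup.eq_one_iff, eq_inv_of_mul_eq_one_left h0]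
      exact inv_mem hdV
    obtain ⟨hind, hinv⟩ := ih _ hlt (Q.map π) (π a) (π ρ) r le_rfl (h2.map π)
      (by rw [← map_mul, ha, map_one]) (by rw [← map_mul, ← map_mul, hb, map_one]) hr
      (by rw [← map_pow, hρ, map_one]) hCq
    -- lifting of involutions in the coset
    have hlift : ∀ v ∈ V, v * a * (v * a) = 1 → ∃ u ∈ V, v * a = u * a * u⁻¹ := by
      intro v hv h
      have hvi : v⁻¹ = v := inv_eq_of_mul_eq_one_left ((hVmem v).1 hv).2.2
      have hvC : v ∈ CV := ⟨hv, Subgroup.mem_centralizer_singleton_iff.2 (by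
        have h' := eq_inv_of_mul_eq_one_left h
        rwa [mul_inv_rev, hai, hvi] at h')⟩
      obtain ⟨u, hu, rfl⟩ := hAim hCV2 v hvC
      refine ⟨u, hu, ?_⟩
      rw [inv_eq_of_mul_eq_one_left ((hVmem u).1 hu).2.2,
        show u * (a * u * a) * a = u * a * u * (a * a) by group, ha, mul_one]
    refine ⟨?_, fun x hx hxa => ?_⟩
    · set CQ := Q ⊓ Subgroup.centralizer ({a} : Set G)
      let f := π.comp CQ.subtype
      have hrange : f.range = Q.map π ⊓ Subgroup.centralizer ({π a} : Set (G ⧸ V)) := by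
        apply le_antisymm
        · rintro _ ⟨t, rfl⟩
          exact ⟨⟨t, t.2.1, rfl⟩, Subgroup.mem_centralizer_singleton_iff.2 (by
            change π t * π a = π a * π t
            rw [← map_mul, ← map_mul, Subgroup.mem_centralizer_singleton_iff.1 t.2.2])⟩
        · rintro _ ⟨⟨x, hx, rfl⟩, hc⟩
          replace hc := Subgroup.mem_centralizer_singleton_iff.1 hc
          have hv : x⁻¹ * (a * x * a) ∈ V := by
            rw [← QuotientGroup.eq_one_iff]
            change π _ = 1
            rw [map_mul, map_mul, map_mul, map_inv, ← hc, mul_assoc (π x), ← map_mul, ha, map_one, mul_one,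
              inv_mul_cancel]
          set v := x⁻¹ * (a * x * a) with hvdef
          have hva : v * a * (v * a) = 1 := by
            rw [hvdef]
            rw [show x⁻¹ * (a * x * a) * a * (x⁻¹ * (a * x * a) * a) =
              x⁻¹ * a * x * (a * a) * x⁻¹ * a * x * (a * a) by group, ha]
            rw [show x⁻¹ * a * x * 1 * x⁻¹ * a * x * 1 = x⁻¹ * (a * a) * x by group, ha]
            group
          obtain ⟨u, hu, hue⟩ := hlift v hv hva
          refine ⟨⟨x * u, mul_mem hx (hVQ hu), Subgroup.mem_centralizer_singleton_iff.2 ?_⟩, ?_⟩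
          · have h6 : x⁻¹ * a * x = u * a * u⁻¹ := by
              rw [← hue, hvdef, show x⁻¹ * (a * x * a) * a = x⁻¹ * a * x * (a * a) by group, ha, mul_one]
            calc x * u * a = x * (u * a * u⁻¹) * u := by group
              _ = x * (x⁻¹ * a * x) * u := by rw [h6]
              _ = a * (x * u) := by group
          · change π (x * u) = π x
            rw [map_mul, show π u = 1 from (QuotientGroup.eq_one_iff u).2 hu, mul_one]
      have h := Subgroup.card_eq_card_quotient_mul_card_subgroup f.ker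
      rw [Nat.card_congr (QuotientGroup.quotientKerEquivRange _).toEquiv, hrange] at h
      have hk : Nat.card f.ker = Nat.card CV := by
        rw [← MonoidHom.comap_ker, QuotientGroup.ker_mk', ← Subgroup.card_map_of_injective CQ.subtype_injective,
          Subgroup.map_comap_eq, Subgroup.range_subtype]
        refine congrArg (fun S : Subgroup G => Nat.card S) ?_
        rw [hCV]
        ext t
        exact ⟨fun h => ⟨h.2, h.1.2⟩, fun h => ⟨⟨hVQ h.1, h.2⟩, h.1⟩⟩
      rw [h, hk, mul_pow, hind, ← hCV2, hQcard]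
    · obtain ⟨_, ⟨w, hw, rfl⟩, hwe⟩ := hinv (π x) (Subgroup.mem_map_of_mem π hx)
        (by rw [← map_mul, ← map_mul, hxa, map_one])
      set v := w⁻¹ * (x * a) * w * a with hvdef
      have hv : v ∈ V := by
        rw [← QuotientGroup.eq_one_iff]
        change π v = 1
        rw [hvdef, map_mul, map_mul, map_mul, map_mul, hwe, map_inv]
        rw [show (π w)⁻¹ * (π w * π a * (π w)⁻¹) * π w * π a = π a * π a by group, ← map_mul, ha, map_one]
      have hva : v * a = w⁻¹ * (x * a) * w := by rw [hvdef, mul_assoc, ha, mul_one]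
      obtain ⟨u, hu, hue⟩ := hlift v hv (by
        rw [hva, show w⁻¹ * (x * a) * w * (w⁻¹ * (x * a) * w) = w⁻¹ * (x * a * (x * a)) * w by group, hxa]
        group)
      refine ⟨w * u, mul_mem hw (hVQ hu), ?_⟩
      rw [show w * u * a * (w * u)⁻¹ = w * (u * a * u⁻¹) * w⁻¹ by group, ← hue, hva]
      group

end CfsgLib.Inv.DihedralTwo
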