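import Cfsg.Agent.Inv.SECount
import Cfsg.Agent.Solv.CoprimeAction

/-!
Groups with elementary abelian centralizers of involutions and a non-normal non-cyclic Sylow
2-subgroup: the action on the cosets of the Sylow normalizer is sharply triply transitive.
-/

set_option autoImplicit false
set_option linter.style.haveILetI false

namespace CfsgLib.Inv.ElemCent

open CfsgLib.Inv CfsgLib.Solv
open scoped Pointwise

variable {G : Type*} [Group G] [Finite G]

/-- The hypotheses: a non-cyclic, non-normal Sylow 2-subgroup and all involution centralizers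
elementary abelian. -/
structure Hyp (T : Sylow 2 G) : Prop where
  noncyclic : ¬ IsCyclic (T : Subgroup G)
  nonnormal : ¬ (T : Subgroup G).Normal
  cent : ∀ t : G, orderOf t = 2 → IsMulCommutative (Subgroup.centralizer ({t} : Set G)) ∧
    ∀ c ∈ Subgroup.centralizer ({t} : Set G), c ^ 2 = 1

variable {T : Sylow 2 G}

local notation "nH" => Subgroup.normalizer ((T : Subgroup G) : Set G)
local notation "pt" => ((1 : G) : G ⧸ Subgroup.normalizer ((T : Subgroup G) : Set G))

theorem card_gt (hh : Hyp T) : 4 ≤ Nat.card (T : Subgroup G) := by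
  haveI : Fact (Nat.Prime 2) := ⟨Nat.prime_two⟩
  obtain ⟨k, hk⟩ := IsPGroup.iff_card.1 T.isPGroup'
  rw [hk]
  rcases k with _ | _ | k
  · exfalso
    haveI : Subsingleton (T : Subgroup G) := (Nat.card_eq_one_iff_unique.1 hk).1
    exact hh.noncyclic inferInstance
  · exact absurd (isCyclic_of_prime_card (p := 2) hk) hh.noncyclic
  · rw [pow_succ, pow_succ]
    have := Nat.one_le_two_pow (n := k)
    omega

theorem cent_eq (hh : Hyp T) {t : G} (htT : t ∈ T) (ht : t ≠ 1) :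
    Subgroup.centralizer ({t} : Set G) = (T : Subgroup G) := by
  haveI : Fact (Nat.Prime 2) := ⟨Nat.prime_two⟩
  have hC : ∀ v : G, orderOf v = 2 → IsPGroup 2 (Subgroup.centralizer ({v} : Set G)) :=
    fun v hv c => ⟨1, Subtype.ext (by
      rw [pow_one, SubmonoidClass.coe_pow]; exact (hh.cent v hv).2 c c.2)⟩
  haveI : Nontrivial (T : Subgroup G) := ⟨⟨⟨t, htT⟩, 1, fun h => ht (congrArg Subtype.val h)⟩⟩
  haveI := T.isPGroup'.center_nontrivial
  obtain ⟨k, hk⟩ := IsPGroup.iff_card.1 (T.isPGroup'.to_subgroup (Subgroup.center (T : Subgroup G)))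
  have hk0 : k ≠ 0 := by
    rintro rfl
    exact absurd hk (by simpa using (Finite.one_lt_card (α := Subgroup.center (T : Subgroup G))).ne')
  obtain ⟨z, hz⟩ := exists_prime_orderOf_dvd_card' (G := Subgroup.center (T : Subgroup G)) 2
    (hk ▸ dvd_pow_self 2 hk0)
  set z' : G := ((z : (T : Subgroup G)) : G) with hz'def
  have hz' : orderOf z' = 2 := by rw [hz'def, Subgroup.orderOf_coe, Subgroup.orderOf_coe]; exact hz
  have hTz : (T : Subgroup G) ≤ Subgroup.centralizer ({z'} : Set G) := fun a ha =>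
    Subgroup.mem_centralizer_singleton_iff.2
      (congrArg Subtype.val (Subgroup.mem_center_iff.1 z.2 ⟨a, ha⟩))
  have hel : t ^ 2 = 1 := (hh.cent z' hz').2 t (hTz htT)
  have ht2 : orderOf t = 2 := orderOf_eq_prime hel ht
  have hab := (hh.cent z' hz').1
  have hTt : (T : Subgroup G) ≤ Subgroup.centralizer ({t} : Set G) := fun a ha =>
    Subgroup.mem_centralizer_singleton_iff.2
      (congrArg Subtype.val (hab.is_comm.comm ⟨a, hTz ha⟩ ⟨t, hTz htT⟩))
  exact (T.3 (hC t ht2) hTt).symm ▸ rfl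

theorem mem_of_commute (hh : Hyp T) {t g : G} (htT : t ∈ T) (ht : t ≠ 1) (h : g * t = t * g) :
    g ∈ T := by
  show g ∈ (T : Subgroup G)
  rw [← cent_eq hh htT ht]
  exact Subgroup.mem_centralizer_singleton_iff.2 h

theorem sq_one (hh : Hyp T) {t : G} (htT : t ∈ T) : t ^ 2 = 1 := by
  by_cases ht : t = 1
  · rw [ht, one_pow]
  haveI : Fact (Nat.Prime 2) := ⟨Nat.prime_two⟩
  obtain ⟨k, hk⟩ := IsPGroup.iff_orderOf.1 T.isPGroup' ⟨t, htT⟩
  rw [Subgroup.orderOf_mk] at hk
  have hk0 : k ≠ 0 := by rintro rfl; exact ht (orderOf_eq_one_iff.1 (by simpa using hk))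
  -- a power of `t` is an involution centralizing `t`
  set s := t ^ 2 ^ (k - 1)
  have hs : orderOf s = 2 := by
    rw [orderOf_pow_of_dvd (Nat.two_pow_pos _).ne' (hk ▸ pow_dvd_pow 2 (Nat.sub_le k 1)), hk,
      Nat.pow_div (Nat.sub_le k 1) two_pos, Nat.sub_sub_self (Nat.one_le_iff_ne_zero.2 hk0), pow_one]
  exact (hh.cent s hs).2 t (Subgroup.mem_centralizer_singleton_iff.2 ((Commute.refl t).pow_right _).eq)

theorem mem_of_invol {s : G} (hs : orderOf s = 2) (hsH : s ∈ nH) : s ∈ T := by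
  haveI : Fact (Nat.Prime 2) := ⟨Nat.prime_two⟩
  have hp : IsPGroup 2 (Subgroup.zpowers s) :=
    IsPGroup.of_card (n := 1) (by rw [Nat.card_zpowers, hs, pow_one])
  have hle : Subgroup.zpowers s ≤ nH := Subgroup.zpowers_le.2 hsH
  have hsup : IsPGroup 2 (Subgroup.zpowers s ⊔ (T : Subgroup G) : Subgroup G) :=
    hp.to_sup_of_normal_right' T.isPGroup' hle
  show s ∈ (T : Subgroup G)
  rw [← T.3 hsup le_sup_right]
  exact Subgroup.mem_sup_left (Subgroup.mem_zpowers s)

theorem conj_mem {g a : G} (hg : g ∈ nH) (ha : a ∈ T) : g * a * g⁻¹ ∈ T :=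
  (Subgroup.mem_normalizer_iff.1 hg a).1 ha

theorem se (hh : Hyp T) : Cfsg.IsStronglyEmbedded nH := by
  haveI : Fact (Nat.Prime 2) := ⟨Nat.prime_two⟩
  refine (se_iff_invol _).2 ⟨fun h => hh.nonnormal (Subgroup.normalizer_eq_top_iff.1 h), ?_,
    fun g s hs hsH hsg => ?_⟩
  · obtain ⟨k, hk⟩ := IsPGroup.iff_card.1 T.isPGroup'
    have hk0 : k ≠ 0 := by
      rintro rfl
      have := card_gt hh
      rw [hk] at this; simp at this
    exact even_iff_two_dvd.2 ((hk ▸ dvd_pow_self 2 hk0).trans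
      (Subgroup.card_dvd_of_le Subgroup.le_normalizer))
  · have h1 := mem_of_invol hs hsH
    have hs' : orderOf (g⁻¹ * s * g) = 2 := by simpa using invol_conj hs g⁻¹
    have h2 := mem_of_invol hs' hsg
    refine Subgroup.mem_normalizer_iff.2 fun a => ?_
    rw [← cent_eq hh h1 (invol_ne_one hs)]
    nth_rw 1 [cent_eq hh h1 (invol_ne_one hs), ← cent_eq hh h2 (invol_ne_one hs')]
    rw [Subgroup.mem_centralizer_singleton_iff, Subgroup.mem_centralizer_singleton_iff]
    constructor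
    · intro h
      calc g * a * g⁻¹ * s = g * (a * (g⁻¹ * s * g)) * g⁻¹ := by group
        _ = g * ((g⁻¹ * s * g) * a) * g⁻¹ := by rw [h]
        _ = s * (g * a * g⁻¹) := by group
    · intro h
      calc a * (g⁻¹ * s * g) = g⁻¹ * ((g * a * g⁻¹) * s) * g := by group
        _ = g⁻¹ * (s * (g * a * g⁻¹)) * g := by rw [h]
        _ = (g⁻¹ * s * g) * a := by group

theorem count_invol (hh : Hyp T) :
    Nat.card {s : G // orderOf s = 2 ∧ s ∈ nH} = Nat.card (T : Subgroup G) - 1 := by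
  classical
  haveI := Fintype.ofFinite (T : Subgroup G)
  have e : Nat.card {s : G // orderOf s = 2 ∧ s ∈ nH} = Nat.card {a : (T : Subgroup G) // a ≠ 1} := by
    refine Nat.card_congr
      { toFun := fun s => ⟨⟨s.1, mem_of_invol s.2.1 s.2.2⟩, fun h =>
          invol_ne_one s.2.1 (congrArg Subtype.val h)⟩
        invFun := fun a => ⟨(a.1 : G), ?_, Subgroup.le_normalizer a.1.2⟩
        left_inv := fun s => rfl
        right_inv := fun a => rfl }
    exact orderOf_eq_prime (sq_one hh a.1.2) (fun h => a.2 (Subtype.ext h))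
  rw [e, Nat.card_eq_fintype_card, Nat.card_eq_fintype_card, Fintype.card_subtype_compl,
    Fintype.card_subtype_eq]

theorem fix_pt {g : G} : g ∈ nH ↔ g • pt = pt := by
  rw [fixed_coset_iff, inv_one, one_mul, mul_one]

variable (T) in
/-- The stabilizer of the base point and of `y`. -/
def stab (y : G ⧸ nH) : Subgroup G :=
  MulAction.stabilizer G pt ⊓ MulAction.stabilizer G y

theorem mem_stab {d : G} {y : G ⧸ nH} : d ∈ stab T y ↔ d • pt = pt ∧ d • y = y := by
  exact Iff.rfl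

theorem stab_le {y : G ⧸ nH} : stab T y ≤ nH := fun _ hd => fix_pt.2 (mem_stab.1 hd).1

theorem stab_inf (hh : Hyp T) {y : G ⧸ nH} (hy : y ≠ pt) {d : G} (hd : d ∈ stab T y)
    (hdT : d ∈ T) : d = 1 := by
  by_contra hd1
  obtain ⟨h1, h2⟩ := mem_stab.1 hd
  exact hy (se_fixed_unique (se hh) (orderOf_eq_prime (sq_one hh hdT) hd1) h2 h1)

theorem exists_swap (hh : Hyp T) {y : G ⧸ nH} (hy : y ≠ pt) :
    ∃ u : G, orderOf u = 2 ∧ u • pt = y := by
  have h := se_card_swap (se hh) (Ne.symm hy)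
  rw [count_invol hh] at h
  have := card_gt hh
  obtain ⟨u, hu⟩ := (Nat.card_pos_iff.1 (by omega :
    0 < Nat.card {i : G // orderOf i = 2 ∧ i • pt = y})).1
  exact ⟨u, hu⟩

theorem exists_stab_conj (hh : Hyp T) {y : G ⧸ nH} (hy : y ≠ pt) {s t : G} (hs : s ∈ T)
    (hs1 : s ≠ 1) (ht : t ∈ T) (ht1 : t ≠ 1) : ∃ d ∈ stab T y, d * s * d⁻¹ = t := by
  obtain ⟨u, hu, hux⟩ := exists_swap hh hy
  obtain ⟨d, h1, h2, h3⟩ := se_transitive (se hh) (Ne.symm hy) hu hux
    (orderOf_eq_prime (sq_one hh hs) hs1) (fix_pt.1 (Subgroup.le_normalizer hs))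
    (orderOf_eq_prime (sq_one hh ht) ht1) (fix_pt.1 (Subgroup.le_normalizer ht))
  exact ⟨d, mem_stab.2 ⟨h1, h2⟩, h3⟩

theorem card_stab (hh : Hyp T) {y : G ⧸ nH} (hy : y ≠ pt) :
    Nat.card (stab T y) = Nat.card (T : Subgroup G) - 1 := by
  classical
  haveI := Fintype.ofFinite (T : Subgroup G)
  haveI : Nontrivial (T : Subgroup G) := by
    rw [← Finite.one_lt_card_iff_nontrivial]; have := card_gt hh; omega
  obtain ⟨s, hs⟩ := exists_ne (1 : (T : Subgroup G))
  have hs1 : (s : G) ≠ 1 := fun h => hs (Subtype.ext h)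
  have hmem : ∀ d : stab T y, (d : G) * s * (d : G)⁻¹ ∈ T := fun d => conj_mem (stab_le d.2) s.2
  let f : stab T y → {a : (T : Subgroup G) // a ≠ 1} := fun d => ⟨⟨_, hmem d⟩, fun h => hs1 (by
    have h' : (d : G) * s * (d : G)⁻¹ = 1 := congrArg Subtype.val h
    simpa using conj_eq_one_iff.1 h')⟩
  have hbij : Function.Bijective f := by
    constructor
    · intro d e he
      have h' : (d : G) * s * (d : G)⁻¹ = (e : G) * s * (e : G)⁻¹ :=
        congrArg (fun a : {a : (T : Subgroup G) // a ≠ 1} => ((a.1 : (T : Subgroup G)) : G)) he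
      have hc : (e : G)⁻¹ * d ∈ Subgroup.centralizer ({(s : G)} : Set G) := by
        rw [Subgroup.mem_centralizer_singleton_iff]
        calc (e : G)⁻¹ * d * s = (e : G)⁻¹ * ((d : G) * s * (d : G)⁻¹) * d := by group
          _ = (e : G)⁻¹ * ((e : G) * s * (e : G)⁻¹) * d := by rw [h']
          _ = s * ((e : G)⁻¹ * d) := by group
      rw [cent_eq hh s.2 hs1] at hc
      exact Subtype.ext (inv_mul_eq_one.1 (stab_inf hh hy (mul_mem (inv_mem e.2) d.2) hc)).symm
    · rintro ⟨a, ha⟩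
      obtain ⟨d, hd, he⟩ := exists_stab_conj hh hy s.2 hs1 a.2 (fun h => ha (Subtype.ext h))
      exact ⟨⟨d, hd⟩, Subtype.ext (Subtype.ext he)⟩
  rw [Nat.card_congr (Equiv.ofBijective f hbij), Nat.card_eq_fintype_card, Nat.card_eq_fintype_card,
    Fintype.card_subtype_compl, Fintype.card_subtype_eq]

theorem swap_inverts (hh : Hyp T) {y : G ⧸ nH} (hy : y ≠ pt) {u : G} (hu : orderOf u = 2)
    (hux : u • pt = y) {d : G} (hd : d ∈ stab T y) : u * d * u⁻¹ = d⁻¹ := by
  classical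
  let f : {i : G // orderOf i = 2 ∧ i • pt = y} → stab T y := fun i => ⟨u * i.1, mem_stab.2
    ⟨by rw [← smul_smul, i.2.2, se_swap_prod hu hux],
     by rw [← smul_smul, se_swap_prod i.2.1 i.2.2, hux]⟩⟩
  have hinj : Function.Injective f := fun i j h =>
    Subtype.ext (mul_left_cancel (congrArg Subtype.val h))
  have hbij : Function.Bijective f := (Nat.bijective_iff_injective_and_card f).2
    ⟨hinj, ((se_card_swap (se hh) (Ne.symm hy)).trans (count_invol hh)).trans (card_stab hh hy).symm⟩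
  obtain ⟨i, hi⟩ := hbij.2 ⟨d, hd⟩
  have hi' : u * i.1 = d := congrArg Subtype.val hi
  rw [← hi', mul_inv_rev, invol_inv i.2.1, invol_inv hu, ← mul_assoc, invol_mul_self hu, one_mul]

theorem stab_comm (hh : Hyp T) {y : G ⧸ nH} (hy : y ≠ pt) {d e : G} (hd : d ∈ stab T y)
    (he : e ∈ stab T y) : d * e = e * d := by
  obtain ⟨u, hu, hux⟩ := exists_swap hh hy
  have h1 := swap_inverts hh hy hu hux (mul_mem hd he)
  have h2 : u * (d * e) * u⁻¹ = d⁻¹ * e⁻¹ := by
    rw [← swap_inverts hh hy hu hux hd, ← swap_inverts hh hy hu hux he]; group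
  rw [h2, ← mul_inv_rev, inv_inj] at h1
  exact h1.symm

theorem exists_decomp (hh : Hyp T) {y : G ⧸ nH} (hy : y ≠ pt) {h : G} (hmem : h ∈ nH) :
    ∃ d ∈ stab T y, ∃ t ∈ T, h = d * t := by
  haveI : Nontrivial (T : Subgroup G) := by
    rw [← Finite.one_lt_card_iff_nontrivial]; have := card_gt hh; omega
  obtain ⟨s, hs⟩ := exists_ne (1 : (T : Subgroup G))
  have hs1 : (s : G) ≠ 1 := fun h => hs (Subtype.ext h)
  obtain ⟨d, hd, he⟩ := exists_stab_conj hh hy s.2 hs1 (conj_mem hmem s.2)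
    (fun e => hs1 (conj_eq_one_iff.1 e))
  refine ⟨d, hd, d⁻¹ * h, mem_of_commute hh s.2 hs1 ?_, by group⟩
  calc d⁻¹ * h * s = d⁻¹ * (h * s * h⁻¹) * h := by group
    _ = d⁻¹ * (d * s * d⁻¹) * h := by rw [he]
    _ = s * (d⁻¹ * h) := by group

theorem card_normalizer (hh : Hyp T) {y : G ⧸ nH} (hy : y ≠ pt) :
    Nat.card nH = Nat.card (T : Subgroup G) * (Nat.card (T : Subgroup G) - 1) := by
  let f : stab T y × (T : Subgroup G) → nH := fun p =>
    ⟨(p.1 : G) * p.2, mul_mem (stab_le p.1.2) (Subgroup.le_normalizer p.2.2)⟩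
  have hf : Function.Bijective f := by
    constructor
    · rintro ⟨d, t⟩ ⟨e, s⟩ h
      have h' : (d : G) * t = (e : G) * s := congrArg Subtype.val h
      have h1 : (e : G)⁻¹ * d = s * (t : G)⁻¹ := by
        calc (e : G)⁻¹ * d = (e : G)⁻¹ * ((d : G) * t) * (t : G)⁻¹ := by group
          _ = _ := by rw [h']; group
      have h2 := stab_inf hh hy (mul_mem (inv_mem e.2) d.2) (h1 ▸ mul_mem s.2 (inv_mem t.2))
      have hde : d = e := Subtype.ext (inv_mul_eq_one.1 h2).symm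
      subst hde
      exact Prod.ext rfl (Subtype.ext (mul_left_cancel h'))
    · rintro ⟨h, hmem⟩
      obtain ⟨d, hd, t, ht, rfl⟩ := exists_decomp hh hy hmem
      exact ⟨(⟨d, hd⟩, ⟨t, ht⟩), rfl⟩
  rw [← Nat.card_congr (Equiv.ofBijective f hf), Nat.card_prod, card_stab hh hy, Nat.mul_comm]

theorem exists_stab_ne (hh : Hyp T) {y : G ⧸ nH} (hy : y ≠ pt) :
    ∃ d ∈ stab T y, d ≠ 1 ∧ d * d ≠ 1 := by
  haveI : Nontrivial (stab T y) := by
    rw [← Finite.one_lt_card_iff_nontrivial, card_stab hh hy]; have := card_gt hh; omega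
  obtain ⟨d, hd⟩ := exists_ne (1 : stab T y)
  have hd1 : (d : G) ≠ 1 := fun h => hd (Subtype.ext h)
  refine ⟨d, d.2, hd1, fun h => hd1 (stab_inf hh hy d.2 ?_)⟩
  exact mem_of_invol (invol_iff.2 ⟨hd1, h⟩) (stab_le d.2)

/-- An element of the point stabilizer centralizing the two point stabilizer lies in it. -/
theorem stab_self_centralizing (hh : Hyp T) {y : G ⧸ nH} (hy : y ≠ pt) {a : G} (ha : a ∈ nH)
    (hc : ∀ d ∈ stab T y, a * d = d * a) : a ∈ stab T y := by
  obtain ⟨d, hd, t, ht, rfl⟩ := exists_decomp hh hy ha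
  obtain ⟨e, he, he1, -⟩ := exists_stab_ne hh hy
  by_cases ht1 : t = 1
  · rw [ht1, mul_one]; exact hd
  exfalso
  have h1 := hc e he
  have h2 : t * e = e * t := by
    refine mul_left_cancel (a := d) ?_
    rw [← mul_assoc, h1, ← mul_assoc, ← mul_assoc, stab_comm hh hy he hd]
  exact he1 (stab_inf hh hy he (mem_of_commute hh ht ht1 h2.symm))

/-- No element of the point stabilizer inverts the two point stabilizer. -/
theorem not_inverts (hh : Hyp T) {y : G ⧸ nH} (hy : y ≠ pt) {a : G} (ha : a ∈ nH)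
    (hc : ∀ d ∈ stab T y, a * d * a⁻¹ = d⁻¹) : False := by
  obtain ⟨d, hd, t, ht, rfl⟩ := exists_decomp hh hy ha
  obtain ⟨e, he, -, he2⟩ := exists_stab_ne hh hy
  apply he2
  have h1 := hc e he
  have h2 : t * e * t⁻¹ = e⁻¹ := by
    calc t * e * t⁻¹ = d⁻¹ * (d * t * e * (d * t)⁻¹) * d := by group
      _ = d⁻¹ * e⁻¹ * d := by rw [h1]
      _ = d⁻¹ * (d * e⁻¹) := by rw [mul_assoc, ← stab_comm hh hy hd (inv_mem he)]
      _ = e⁻¹ := by group
  have h3 : t * (e * t⁻¹ * e⁻¹) ∈ T := mul_mem ht (conj_mem (stab_le he) (inv_mem ht))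
  have h4 : t * (e * t⁻¹ * e⁻¹) = (e * e)⁻¹ := by
    calc t * (e * t⁻¹ * e⁻¹) = (t * e * t⁻¹) * e⁻¹ := by group
      _ = _ := by rw [h2, mul_inv_rev]
  rw [h4] at h3
  simpa using stab_inf hh hy (mul_mem he he) (by simpa using inv_mem h3)

theorem stab_eq_of_fix (hh : Hyp T) {y z : G ⧸ nH} (hy : y ≠ pt) (hz : z ≠ pt)
    (hfix : ∀ d ∈ stab T y, d • z = z) : stab T y = stab T z :=
  Subgroup.eq_of_le_of_card_ge (fun d hd => mem_stab.2 ⟨(mem_stab.1 hd).1, hfix d hd⟩)
    (by rw [card_stab hh hy, card_stab hh hz])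

/-- The two point stabilizer fixes exactly two points. -/
theorem fix_stab (hh : Hyp T) {y z : G ⧸ nH} (hy : y ≠ pt)
    (hfix : ∀ d ∈ stab T y, d • z = z) : z = pt ∨ z = y := by
  classical
  haveI := Fintype.ofFinite (G ⧸ nH)
  obtain ⟨u, hu, hux⟩ := exists_swap hh hy
  set D := stab T y with hD
  let F : Finset (G ⧸ nH) := Finset.univ.filter fun w => ∀ d ∈ D, d • w = w
  have hF : ∀ w, w ∈ F ↔ ∀ d ∈ D, d • w = w := fun w => by simp [F]
  let O : Finset (G ⧸ nH) := Finset.univ.filter fun w =>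
    ∃ a : G, (∀ d ∈ D, a * d = d * a) ∧ a • pt = w
  have hO : ∀ w, w ∈ O ↔ ∃ a : G, (∀ d ∈ D, a * d = d * a) ∧ a • pt = w := fun w => by simp [O]
  have hOF : O ⊆ F := fun w hw => (hF w).2 fun d hd => by
    obtain ⟨a, hac, rfl⟩ := (hO w).1 hw
    rw [smul_smul, ← hac d hd, ← smul_smul, (mem_stab.1 hd).1]
  have hu2 : ∀ d ∈ D, d * u = u * d⁻¹ := fun d hd => by
    rw [← swap_inverts hh hy hu hux hd, invol_inv hu, ← mul_assoc, ← mul_assoc, invol_mul_self hu,
      one_mul]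
  have huO : O.image (fun w => u • w) ⊆ F := by
    intro w hw
    obtain ⟨v, hv, rfl⟩ := Finset.mem_image.1 hw
    refine (hF _).2 fun d hd => ?_
    rw [smul_smul, hu2 d hd, ← smul_smul, (hF v).1 (hOF hv) _ (inv_mem hd)]
  have hdisj : Disjoint O (O.image (fun w => u • w)) := by
    rw [Finset.disjoint_left]
    intro w hw hw'
    obtain ⟨a, hac, rfl⟩ := (hO w).1 hw
    obtain ⟨v, hv, hv'⟩ := Finset.mem_image.1 hw'
    obtain ⟨b, hbc, rfl⟩ := (hO v).1 hv
    refine not_inverts hh hy (a := b⁻¹ * u * a) (fix_pt.2 ?_) fun d hd => ?_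
    · rw [← smul_smul, ← smul_smul, ← hv', smul_smul u u, invol_mul_self hu, one_smul,
        inv_smul_smul]
    · have hb : b⁻¹ * d⁻¹ * b = d⁻¹ := by
        rw [mul_assoc, ← hbc _ (inv_mem hd), inv_mul_cancel_left]
      calc b⁻¹ * u * a * d * (b⁻¹ * u * a)⁻¹ = b⁻¹ * (u * (a * d * a⁻¹) * u⁻¹) * b := by group
        _ = b⁻¹ * (u * d * u⁻¹) * b := by rw [hac d hd, mul_inv_cancel_right]
        _ = d⁻¹ := by rw [swap_inverts hh hy hu hux hd, hb]
  have h2O : 2 * O.card ≤ F.card := by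
    have h1 := Finset.card_le_card (Finset.union_subset hOF huO)
    rw [Finset.card_union_of_disjoint hdisj,
      Finset.card_image_of_injective _ (MulAction.injective u)] at h1
    omega
  -- every involution moving the base point inside `F` gives a centralizing element
  let I : Finset G := (Set.toFinite {i : G | orderOf i = 2 ∧ i • pt ∈ F ∧ i • pt ≠ pt}).toFinset
  have hI : ∀ i, i ∈ I ↔ orderOf i = 2 ∧ i • pt ∈ F ∧ i • pt ≠ pt := fun i => by simp [I]
  set c := Nat.card (T : Subgroup G) - 1 with hc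
  have hIcard : I.card = (F.erase pt).card * c := by
    rw [Finset.card_eq_sum_card_fiberwise (f := fun i => i • pt) (t := F.erase pt)
      (fun i hi => by
        obtain ⟨-, h1, h2⟩ := (hI i).1 (by exact_mod_cast hi)
        exact Finset.mem_coe.2 (Finset.mem_erase.2 ⟨h2, h1⟩))]
    refine Finset.sum_const_nat fun w hw => ?_
    obtain ⟨hw1, hw2⟩ := Finset.mem_erase.1 hw
    rw [hc, ← count_invol hh, ← se_card_swap (se hh) (Ne.symm hw1), ← Nat.card_eq_finsetCard]
    refine Nat.card_congr (Equiv.subtypeEquivRight fun i => ?_)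
    rw [Finset.mem_filter, hI]
    constructor
    · rintro ⟨⟨h1, -, -⟩, h4⟩; exact ⟨h1, h4⟩
    · rintro ⟨h1, h2⟩; exact ⟨⟨h1, h2.symm ▸ hw2, h2.symm ▸ hw1⟩, h2⟩
  have hIle : I.card ≤ O.card * c := by
    refine Finset.card_le_mul_card_image_of_maps_to (f := fun i => (u * i) • pt) ?_ c ?_ |>.trans
      (le_of_eq (Nat.mul_comm _ _))
    · intro i hi
      obtain ⟨hi2, hiF, hine⟩ := (hI i).1 hi
      refine (hO _).2 ⟨u * i, fun d hd => ?_, rfl⟩
      have he := stab_eq_of_fix hh hy hine ((hF _).1 hiF)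
      have hinv := swap_inverts hh hine hi2 rfl (by rw [← he]; exact hd)
      have h1 : i * d = d⁻¹ * i := by rw [← hinv, inv_mul_cancel_right]
      rw [mul_assoc, h1, ← mul_assoc]
      have h2 := hu2 d⁻¹ (inv_mem hd)
      rw [inv_inv] at h2
      rw [show u * d⁻¹ = d * u by rw [hu2 d hd], mul_assoc]
    · intro w hw
      obtain ⟨a, hac, rfl⟩ := (hO w).1 hw
      rw [hc, ← card_stab hh hy, ← Nat.card_eq_finsetCard]
      refine Nat.card_le_card_of_injective
        (fun i => (⟨a⁻¹ * (u * i.1), ?_⟩ : stab T y)) fun i j h => Subtype.ext ?_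
      · obtain ⟨hiI, hiw⟩ := Finset.mem_filter.1 i.2
        obtain ⟨hi2, hiF, hine⟩ := (hI _).1 hiI
        refine stab_self_centralizing hh hy (fix_pt.2 ?_) fun d hd => ?_
        · rw [← smul_smul, hiw, inv_smul_smul]
        · have he := stab_eq_of_fix hh hy hine ((hF _).1 hiF)
          have hinv := swap_inverts hh hine hi2 rfl (by rw [← he]; exact hd)
          calc a⁻¹ * (u * i.1) * d = a⁻¹ * (u * (i.1 * d * (i.1)⁻¹) * u⁻¹) * (u * i.1) := by group
            _ = a⁻¹ * d * (u * i.1) := by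
              rw [hinv, swap_inverts hh hy hu hux (inv_mem hd), inv_inv]
            _ = a⁻¹ * (d * a) * (a⁻¹ * (u * i.1)) := by group
            _ = d * (a⁻¹ * (u * i.1)) := by rw [← hac d hd, inv_mul_cancel_left]
      · exact mul_left_cancel (mul_left_cancel (congrArg Subtype.val h))
  have hcpos : 0 < c := by have := card_gt hh; omega
  have hle : (F.erase pt).card ≤ O.card := by
    rw [hIcard] at hIle
    exact Nat.le_of_mul_le_mul_right hIle hcpos
  have hptF : pt ∈ F := (hF _).2 fun d hd => (mem_stab.1 hd).1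
  have hyF : y ∈ F := (hF _).2 fun d hd => (mem_stab.1 hd).2
  rw [Finset.card_erase_of_mem hptF] at hle
  by_contra hcon
  push Not at hcon
  have h3 : ({pt, y, z} : Finset (G ⧸ nH)).card = 3 := by
    rw [Finset.card_insert_of_notMem (by
        simp only [Finset.mem_insert, Finset.mem_singleton]
        push Not
        exact ⟨Ne.symm hy, Ne.symm hcon.1⟩),
      Finset.card_insert_of_notMem (by simp [Ne.symm hcon.2]), Finset.card_singleton]
  have h3le : ({pt, y, z} : Finset (G ⧸ nH)).card ≤ F.card := Finset.card_le_card (by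
    intro w hw
    simp only [Finset.mem_insert, Finset.mem_singleton] at hw
    rcases hw with rfl | rfl | rfl
    exacts [hptF, hyF, (hF _).2 hfix])
  omega

theorem isSolvable_stab (hh : Hyp T) {y : G ⧸ nH} (hy : y ≠ pt) : Group.IsSolvable (stab T y) :=
  Group.isSolvable_of_comm fun a b => Subtype.ext (stab_comm hh hy a.2 b.2)

/-- `T` is regular on the remaining points. -/
theorem exists_unique_T (hh : Hyp T) {x y : G ⧸ nH} (hx : x ≠ pt) (hy : y ≠ pt) :
    ∃! t : G, t ∈ T ∧ t • x = y := by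
  haveI : Fact (Nat.Prime 2) := ⟨Nat.prime_two⟩
  have hex : ∃ t : G, t ∈ T ∧ t • x = y := by
    have hTn : ∀ z : G ⧸ nH, stab T z ≤ Subgroup.normalizer ((T : Subgroup G) : Set G) :=
      fun z => stab_le
    have hsup : ∀ {z : G ⧸ nH}, z ≠ pt → stab T z ⊔ (T : Subgroup G) = nH := fun {z} hz =>
      le_antisymm (sup_le stab_le Subgroup.le_normalizer) fun h hmem => by
        obtain ⟨d, hd, t, ht, rfl⟩ := exists_decomp hh hz hmem
        exact mul_mem (Subgroup.mem_sup_left hd) (Subgroup.mem_sup_right ht)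
    have hcop : ∀ {z : G ⧸ nH}, z ≠ pt →
        (Nat.card (stab T z)).Coprime (Nat.card (T : Subgroup G)) := fun {z} hz => by
      obtain ⟨k, hk⟩ := IsPGroup.iff_card.1 T.isPGroup'
      have := card_gt hh
      rw [card_stab hh hz, hk] at *
      refine Nat.Coprime.pow_right k (Nat.coprime_two_right.2 ?_)
      rcases k with _ | k
      · simp at this
      · exact Nat.Even.sub_odd (by omega) ((Nat.even_pow).2 ⟨even_two, by omega⟩) odd_one
    obtain ⟨g, hg, hgy⟩ := conj_complement_in_sup' (hTn x) (hTn y)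
      ((hsup hx).trans (hsup hy).symm) (hcop hx) (hcop hy) (Or.inr (isSolvable_stab hh hx))
    rw [hsup hx] at hg
    have hfix : ∀ d ∈ stab T y, d • (g • x) = g • x := by
      intro d hd
      rw [← hgy, CfsgLib.Solv.mem_conj_smul_iff] at hd
      calc d • g • x = g • ((g⁻¹ * d * g) • x) := by rw [smul_smul, smul_smul]; group
        _ = g • x := by rw [(mem_stab.1 hd).2]
    rcases fix_stab hh hy hfix with h | h
    · exact absurd (by rw [eq_inv_smul_iff.2 h]; exact (fix_pt.1 (inv_mem hg))) hx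
    · obtain ⟨d, hd, t, ht, rfl⟩ := exists_decomp hh hy hg
      refine ⟨t, ht, ?_⟩
      rw [← smul_smul, ← eq_inv_smul_iff, (mem_stab.1 (inv_mem hd)).2] at h
      exact h
  obtain ⟨t, ht, htx⟩ := hex
  refine ⟨t, ⟨ht, htx⟩, fun s ⟨hs, hsx⟩ => ?_⟩
  by_contra hne
  have h1 : (t⁻¹ * s) • x = x := by rw [← smul_smul, hsx, ← htx, inv_smul_smul]
  have hmem : t⁻¹ * s ∈ T := mul_mem (inv_mem ht) hs
  refine hne (inv_mul_eq_one.1 ?_).symm
  exact stab_inf hh hx (mem_stab.2 ⟨fix_pt.1 (Subgroup.le_normalizer hmem), h1⟩) hmem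

theorem stab_semiregular (hh : Hyp T) {y z : G ⧸ nH} (hy : y ≠ pt) (hz : z ≠ pt) (hzy : z ≠ y)
    {d : G} (hd : d ∈ stab T y) (hdz : d • z = z) : d = 1 := by
  obtain ⟨t, ⟨ht, htz⟩, -⟩ := exists_unique_T hh hy hz
  have ht1 : t ≠ 1 := fun h => hzy (by rw [← htz, h, one_smul])
  have hd' : t⁻¹ * d * t ∈ stab T y := by
    obtain ⟨h1, -⟩ := mem_stab.1 hd
    refine mem_stab.2 ⟨fix_pt.1 (mul_mem (mul_mem (inv_mem (Subgroup.le_normalizer ht)) (fix_pt.2 h1))
      (Subgroup.le_normalizer ht)), ?_⟩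
    rw [← smul_smul, ← smul_smul, htz, hdz, ← htz, inv_smul_smul]
  have hmemT : d⁻¹ * (t⁻¹ * d * t) ∈ T := by
    have h := conj_mem (inv_mem (stab_le hd)) (inv_mem ht)
    rw [inv_inv] at h
    rw [show d⁻¹ * (t⁻¹ * d * t) = d⁻¹ * t⁻¹ * d * t by group]
    exact mul_mem h ht
  have h1 := stab_inf hh hy (mul_mem (inv_mem hd) hd') hmemT
  refine stab_inf hh hy hd (mem_of_commute hh ht ht1 ?_)
  calc d * t = t * (t⁻¹ * d * t) := by group
    _ = t * d := by rw [← inv_mul_eq_one.1 h1]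

theorem card_points (hh : Hyp T) {y : G ⧸ nH} (hy : y ≠ pt) :
    Nat.card {x : G ⧸ nH // x ≠ pt} = Nat.card (T : Subgroup G) := by
  have hm : ∀ t : (T : Subgroup G), (t : G) • y ≠ pt := fun t h => hy (by
    have h1 := eq_inv_smul_iff.2 h
    rw [h1]; exact fix_pt.1 (Subgroup.le_normalizer (inv_mem t.2)))
  let f : ↥(T : Subgroup G) → {x : G ⧸ nH // x ≠ pt} := fun t => ⟨(t : G) • y, hm t⟩
  refine (Nat.card_congr (Equiv.ofBijective f ⟨fun a b h => ?_, fun x => ?_⟩)).symm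
  · exact Subtype.ext ((exists_unique_T hh hy (hm a)).unique ⟨a.2, rfl⟩
      ⟨b.2, (congrArg Subtype.val h).symm⟩)
  · obtain ⟨t, ⟨ht, htx⟩, -⟩ := exists_unique_T hh hy x.2
    exact ⟨⟨t, ht⟩, Subtype.ext htx⟩

/-- The two point stabilizer is transitive on the remaining points. -/
theorem stab_transitive (hh : Hyp T) {y a b : G ⧸ nH} (hy : y ≠ pt) (ha : a ≠ pt) (hay : a ≠ y)
    (hb : b ≠ pt) (hby : b ≠ y) : ∃ d ∈ stab T y, d • a = b := by
  classical
  haveI := Fintype.ofFinite (G ⧸ nH)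
  have hm : ∀ d : stab T y, (d : G) • a ≠ pt ∧ (d : G) • a ≠ y := fun d => by
    obtain ⟨h1, h2⟩ := mem_stab.1 d.2
    exact ⟨fun h => ha (MulAction.injective (d : G) (h.trans h1.symm)),
      fun h => hay (MulAction.injective (d : G) (h.trans h2.symm))⟩
  let f : stab T y → {x : G ⧸ nH // x ≠ pt ∧ x ≠ y} := fun d => ⟨(d : G) • a, hm d⟩
  have hinj : Function.Injective f := by
    intro d e h
    have h' : (d : G) • a = (e : G) • a := congrArg Subtype.val h
    have h1 : ((e : G)⁻¹ * d) • a = a := by rw [← smul_smul, h', inv_smul_smul]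
    exact Subtype.ext
      (inv_mul_eq_one.1 (stab_semiregular hh hy ha hay (mul_mem (inv_mem e.2) d.2) h1)).symm
  have hcard : Nat.card {x : G ⧸ nH // x ≠ pt ∧ x ≠ y} = Nat.card (T : Subgroup G) - 1 := by
    rw [← card_points hh hy, Nat.card_eq_fintype_card, Nat.card_eq_fintype_card,
      Fintype.card_subtype, Fintype.card_subtype,
      ← Finset.card_erase_of_mem (s := Finset.univ.filter fun x : G ⧸ nH => x ≠ pt) (a := y)
        (Finset.mem_filter.2 ⟨Finset.mem_univ _, hy⟩)]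
    congr 1
    ext x; simp [and_comm]
  have hbij : Function.Bijective f := (Nat.bijective_iff_injective_and_card f).2
    ⟨hinj, (card_stab hh hy).trans hcard.symm⟩
  obtain ⟨d, hd⟩ := hbij.2 ⟨b, hb, hby⟩
  exact ⟨d, d.2, congrArg Subtype.val hd⟩

theorem to_pt (x : G ⧸ nH) : ∃ g : G, g • x = pt := by
  obtain ⟨g, rfl⟩ := QuotientGroup.mk_surjective x
  exact ⟨g⁻¹, by rw [MulAction.Quotient.smul_mk, smul_eq_mul, inv_mul_cancel]⟩

theorem triple_transitive (hh : Hyp T) {x₁ x₂ x₃ y₁ y₂ y₃ : G ⧸ nH} (hx12 : x₁ ≠ x₂)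
    (hx13 : x₁ ≠ x₃) (hx23 : x₂ ≠ x₃) (hy12 : y₁ ≠ y₂) (hy13 : y₁ ≠ y₃) (hy23 : y₂ ≠ y₃) :
    ∃ g : G, g • x₁ = y₁ ∧ g • x₂ = y₂ ∧ g • x₃ = y₃ := by
  obtain ⟨a, ha⟩ := to_pt x₁
  obtain ⟨b, hb⟩ := to_pt y₁
  have hne : ∀ (g : G) {p r : G ⧸ nH}, p ≠ r → g • p ≠ g • r :=
    fun g _ _ h e => h (MulAction.injective g e)
  have ha2 : a • x₂ ≠ pt := ha ▸ hne a hx12.symm
  have hb2 : b • y₂ ≠ pt := hb ▸ hne b hy12.symm
  obtain ⟨t, ⟨ht, htx⟩, -⟩ := exists_unique_T hh ha2 hb2
  have htpt : t • pt = pt := fix_pt.1 (Subgroup.le_normalizer ht)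
  have h31 : t • a • x₃ ≠ pt := by
    have h := hne t (hne a hx13.symm)
    rwa [ha, htpt] at h
  have h32 : t • a • x₃ ≠ b • y₂ := htx ▸ hne t (hne a hx23.symm)
  have hb31 : b • y₃ ≠ pt := hb ▸ hne b hy13.symm
  obtain ⟨d, hd, hd3⟩ := stab_transitive hh hb2 h31 h32 hb31 (hne b hy23.symm)
  obtain ⟨hd1, hd2⟩ := mem_stab.1 hd
  refine ⟨b⁻¹ * d * t * a, ?_, ?_, ?_⟩
  · rw [← smul_smul, ← smul_smul, ← smul_smul, ha, htpt, hd1, ← hb, inv_smul_smul]
  · rw [← smul_smul, ← smul_smul, ← smul_smul, htx, hd2, inv_smul_smul]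
  · rw [← smul_smul, ← smul_smul, ← smul_smul, hd3, inv_smul_smul]

theorem fix_three (hh : Hyp T) {g : G} {x₁ x₂ x₃ : G ⧸ nH} (h12 : x₁ ≠ x₂) (h13 : x₁ ≠ x₃)
    (h23 : x₂ ≠ x₃) (e1 : g • x₁ = x₁) (e2 : g • x₂ = x₂) (e3 : g • x₃ = x₃) : g = 1 := by
  obtain ⟨a, ha⟩ := to_pt x₁
  have hne : ∀ {p r : G ⧸ nH}, p ≠ r → a • p ≠ a • r :=
    fun h e => h (MulAction.injective a e)
  have hfix : ∀ p : G ⧸ nH, g • p = p → (a * g * a⁻¹) • (a • p) = a • p := fun p hp => by
    rw [← smul_smul, inv_smul_smul, ← smul_smul, hp]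
  have hpt : (a * g * a⁻¹) • pt = pt := ha ▸ hfix x₁ e1
  have h := stab_semiregular hh (ha ▸ hne h12.symm) (ha ▸ hne h13.symm) (hne h23.symm)
    (mem_stab.2 ⟨hpt, hfix x₂ e2⟩) (hfix x₃ e3)
  exact conj_eq_one_iff.1 h

theorem normalizer_stab (hh : Hyp T) {y : G ⧸ nH} (hy : y ≠ pt) {u : G} (hu : orderOf u = 2)
    (hux : u • pt = y) :
    Subgroup.normalizer ((stab T y : Subgroup G) : Set G) = stab T y ⊔ Subgroup.zpowers u := by
  refine le_antisymm (fun n hn => ?_) (sup_le Subgroup.le_normalizer (Subgroup.zpowers_le.2 ?_))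
  · have hfix : ∀ w, w = pt ∨ w = y → ∀ d ∈ stab T y, d • w = w := by
      rintro w (rfl | rfl) d hd
      exacts [(mem_stab.1 hd).1, (mem_stab.1 hd).2]
    have hmap : ∀ w, w = pt ∨ w = y → n • w = pt ∨ n • w = y := fun w hw =>
      fix_stab hh hy fun d hd => by
        have hd' : n⁻¹ * d * n ∈ stab T y := (Subgroup.mem_normalizer_iff''.1 hn d).1 hd
        calc d • n • w = n • ((n⁻¹ * d * n) • w) := by rw [smul_smul, smul_smul]; group
          _ = n • w := by rw [hfix w hw _ hd']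
    rcases hmap pt (Or.inl rfl) with h | h
    · rcases hmap y (Or.inr rfl) with h' | h'
      · exact absurd (MulAction.injective n (h'.trans h.symm)) hy
      · exact Subgroup.mem_sup_left (mem_stab.2 ⟨h, h'⟩)
    · rcases hmap y (Or.inr rfl) with h' | h'
      · rw [show n = u * (u * n) by rw [← mul_assoc, invol_mul_self hu, one_mul]]
        refine mul_mem (Subgroup.mem_sup_right (Subgroup.mem_zpowers u))
          (Subgroup.mem_sup_left (mem_stab.2 ⟨?_, ?_⟩))
        · rw [← smul_smul, h, se_swap_prod hu hux]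
        · rw [← smul_smul, h', hux]
      · exact absurd (MulAction.injective n (h'.trans h.symm)) hy
  · refine Subgroup.mem_normalizer_iff.2 fun d => ⟨fun hd => ?_, fun hd => ?_⟩
    · rw [swap_inverts hh hy hu hux hd]; exact inv_mem hd
    · have h := swap_inverts hh hy hu hux hd
      have hdd : d = (u * d * u⁻¹)⁻¹ := by
        calc d = u * (u * d * u⁻¹) * u⁻¹ := by
              rw [invol_inv hu, show u * (u * d * u) * u = (u * u) * d * (u * u) by group,
                invol_mul_self hu, one_mul, mul_one]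
          _ = _ := by rw [h]
      rw [hdd]
      exact inv_mem hd

theorem inf_conj_eq_stab {u : G} :
    nH ⊓ (nH).map (MulAut.conj u).toMonoidHom = stab T (u • pt) := by
  ext d
  rw [Subgroup.mem_inf, mem_conj_map, mem_stab, fix_pt, fix_pt, ← smul_smul, ← smul_smul,
    inv_smul_eq_iff]

theorem smul_pt_ne {u : G} (huH : u ∉ nH) : u • pt ≠ pt := fun h => huH (fix_pt.2 h)

theorem mk_eq (g : G) : (QuotientGroup.mk g : G ⧸ nH) = g • pt := by
  rw [MulAction.Quotient.smul_mk, smul_eq_mul, mul_one]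

end CfsgLib.Inv.ElemCent
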