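import Cfsg.Agent.Inv.ElemCentralizer
import Cfsg.Agent.Lie.ProjLine
import Mathlib.Algebra.Field.MinimalAxioms

/-!
Groups with elementary abelian centralizers of involutions and a non-normal non-cyclic Sylow
2-subgroup are the groups PSL(2, 2^n).
-/

set_option autoImplicit false
set_option linter.style.haveILetI false

namespace CfsgLib.Inv.ElemCent

open CfsgLib.Inv CfsgLib.Solv
open scoped LinearAlgebra.Projectivization

/-- A type with `n` elements carrying no operations. -/
structure Carrier (n : ℕ) where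
  /-- The index. -/
  idx : Fin n

/-- The obvious equivalence. -/
def carrierEquiv (n : ℕ) : Carrier n ≃ Fin n where
  toFun := Carrier.idx
  invFun := Carrier.mk
  left_inv _ := rfl
  right_inv _ := rfl

variable {G : Type*} [Group G] [Finite G] {T : Sylow 2 G}

local notation "nH" => Subgroup.normalizer ((T : Subgroup G) : Set G)
local notation "pt" => ((1 : G) : G ⧸ Subgroup.normalizer ((T : Subgroup G) : Set G))

theorem T_comm (hh : Hyp T) (a b : ↥(T : Subgroup G)) : a * b = b * a := by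
  by_cases ha : (a : G) = 1
  · have : a = 1 := Subtype.ext ha
    rw [this, one_mul, mul_one]
  · have h : (b : G) ∈ Subgroup.centralizer ({(a : G)} : Set G) := by
      rw [cent_eq hh a.2 ha]; exact b.2
    exact Subtype.ext (Subgroup.mem_centralizer_singleton_iff.1 h).symm

theorem card_group (hh : Hyp T) {y : G ⧸ nH} (hy : y ≠ pt) :
    Nat.card G = (Nat.card (T : Subgroup G) + 1) *
      (Nat.card (T : Subgroup G) * (Nat.card (T : Subgroup G) - 1)) := by
  classical
  haveI := Fintype.ofFinite (G ⧸ nH)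
  have h : Nat.card (G ⧸ nH) = Nat.card (T : Subgroup G) + 1 := by
    have h1 := card_points hh hy
    rw [Nat.card_eq_fintype_card, Fintype.card_subtype_compl, Fintype.card_subtype_eq] at h1
    have h2 := card_gt hh
    rw [Nat.card_eq_fintype_card (α := G ⧸ nH)]
    omega
  rw [Subgroup.card_eq_card_quotient_mul_card_subgroup nH, h, card_normalizer hh hy]

open Classical in
/-- `G` is isomorphic to a PSL(2, 2^n). -/
theorem exists_psl (hh : Hyp T) : ∃ (F : Type) (_ : Field F) (_ : Fintype F),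
    Fintype.card F = Nat.card (T : Subgroup G) ∧
      Nonempty (G ≃* Matrix.ProjectiveSpecialLinearGroup (Fin 2) F) := by
  haveI : Fact (Nat.Prime 2) := ⟨Nat.prime_two⟩
  set q := Nat.card (T : Subgroup G) with hq
  have hq4 := card_gt hh
  obtain ⟨g₀, hg₀⟩ : ∃ g : G, g ∉ nH := by
    by_contra h
    push Not at h
    exact hh.nonnormal (Subgroup.normalizer_eq_top_iff.1 ((Subgroup.eq_top_iff' _).2 h))
  obtain ⟨y, hy⟩ : ∃ y : G ⧸ nH, y ≠ pt := ⟨_, smul_pt_ne hg₀⟩
  haveI : Nontrivial (T : Subgroup G) := by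
    rw [← Finite.one_lt_card_iff_nontrivial]; omega
  obtain ⟨s, hs⟩ := exists_ne (1 : ↥(T : Subgroup G))
  have hs1 : (s : G) ≠ 1 := fun h => hs (Subtype.ext h)
  -- the multiplication of `T`
  have hδex : ∀ a : ↥(T : Subgroup G), a ≠ 1 → ∃ d ∈ stab T y, d * s * d⁻¹ = a := fun a ha =>
    exists_stab_conj hh hy s.2 hs1 a.2 fun h => ha (Subtype.ext h)
  choose! δ hδm hδ using hδex
  have huniq : ∀ d ∈ stab T y, ∀ e ∈ stab T y, d * s * d⁻¹ = e * s * e⁻¹ → d = e := by
    intro d hd e he h
    refine (inv_mul_eq_one.1 (stab_inf hh hy (mul_mem (inv_mem he) hd) ?_)).symm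
    refine mem_of_commute hh s.2 hs1 ?_
    calc e⁻¹ * d * s = e⁻¹ * (d * s * d⁻¹) * d := by group
      _ = e⁻¹ * (e * s * e⁻¹) * d := by rw [h]
      _ = s * (e⁻¹ * d) := by group
  let m : ↥(T : Subgroup G) → ↥(T : Subgroup G) → ↥(T : Subgroup G) := fun a b =>
    if ha : a = 1 then 1 else ⟨δ a * b * (δ a)⁻¹, conj_mem (stab_le (hδm a ha)) b.2⟩
  have hm1 : ∀ b, m 1 b = 1 := fun b => dif_pos rfl
  have hmv : ∀ a, a ≠ 1 → ∀ b, (m a b : G) = δ a * b * (δ a)⁻¹ := fun a ha b => by
    show ((dite _ _ _ : ↥(T : Subgroup G)) : G) = _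
    rw [dif_neg ha]
  have hm_one : ∀ a, m a 1 = 1 := fun a => by
    by_cases ha : a = 1
    · rw [ha, hm1]
    · exact Subtype.ext (by rw [hmv a ha]; simp)
  have hm_ne : ∀ a b, a ≠ 1 → b ≠ 1 → m a b ≠ 1 := fun a b ha hb h => by
    have h' := congrArg Subtype.val h
    rw [hmv a ha] at h'
    exact hb (Subtype.ext (conj_eq_one_iff.1 h'))
  have hδmul : ∀ a b, a ≠ 1 → b ≠ 1 → δ (m a b) = δ a * δ b := fun a b ha hb =>
    huniq _ (hδm _ (hm_ne a b ha hb)) _ (mul_mem (hδm a ha) (hδm b hb)) (by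
      rw [hδ _ (hm_ne a b ha hb), hmv a ha, ← hδ b hb]; group)
  have hcomm : ∀ a b, m a b = m b a := by
    intro a b
    by_cases ha : a = 1
    · rw [ha, hm1, hm_one]
    by_cases hb : b = 1
    · rw [hb, hm1, hm_one]
    refine Subtype.ext ?_
    rw [← hδ _ (hm_ne a b ha hb), ← hδ _ (hm_ne b a hb ha), hδmul a b ha hb, hδmul b a hb ha,
      stab_comm hh hy (hδm a ha) (hδm b hb)]
  have hassoc : ∀ a b c, m (m a b) c = m a (m b c) := by
    intro a b c
    by_cases ha : a = 1
    · rw [ha, hm1, hm1, hm1]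
    by_cases hb : b = 1
    · simp [hb, hm1, hm_one]
    refine Subtype.ext ?_
    rw [hmv _ (hm_ne a b ha hb), hmv a ha, hmv b hb, hδmul a b ha hb]
    group
  have hdistrib : ∀ a b c, m a (b * c) = m a b * m a c := by
    intro a b c
    by_cases ha : a = 1
    · rw [ha, hm1, hm1, hm1, one_mul]
    refine Subtype.ext ?_
    rw [Subgroup.coe_mul, hmv a ha, hmv a ha, hmv a ha, Subgroup.coe_mul]
    group
  have hone : ∀ a, m s a = a := fun a => by
    rw [hcomm]
    by_cases ha : a = 1
    · rw [ha, hm1]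
    exact Subtype.ext (by rw [hmv a ha, hδ a ha])
  let iv : ↥(T : Subgroup G) → ↥(T : Subgroup G) := fun a =>
    if ha : a = 1 then 1 else ⟨(δ a)⁻¹ * s * δ a, by
      show _ ∈ T
      simpa using conj_mem (inv_mem (stab_le (hδm a ha))) s.2⟩
  have hivv : ∀ a, a ≠ 1 → (iv a : G) = (δ a)⁻¹ * s * δ a := fun a ha => by
    show ((dite _ _ _ : ↥(T : Subgroup G)) : G) = _
    rw [dif_neg ha]
  have hinv : ∀ a, a ≠ 1 → m a (iv a) = s := fun a ha =>
    Subtype.ext (by rw [hmv a ha, hivv a ha]; group)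
  -- the field
  let F := Carrier q
  haveI : Finite F := Finite.of_equiv _ (carrierEquiv q).symm
  let ε : F ≃ ↥(T : Subgroup G) :=
    (carrierEquiv q).trans (Finite.equivFinOfCardEq (α := ↥(T : Subgroup G)) hq.symm).symm
  letI : Add F := ⟨fun a b => ε.symm (ε a * ε b)⟩
  letI : Mul F := ⟨fun a b => ε.symm (m (ε a) (ε b))⟩
  letI : Neg F := ⟨fun a => ε.symm (ε a)⁻¹⟩
  letI : Inv F := ⟨fun a => ε.symm (iv (ε a))⟩
  letI : Zero F := ⟨ε.symm 1⟩
  letI : One F := ⟨ε.symm s⟩
  have eadd : ∀ a b : F, ε (a + b) = ε a * ε b := fun a b => ε.apply_symm_apply _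
  have emul : ∀ a b : F, ε (a * b) = m (ε a) (ε b) := fun a b => ε.apply_symm_apply _
  have eneg : ∀ a : F, ε (-a) = (ε a)⁻¹ := fun a => ε.apply_symm_apply _
  have einv : ∀ a : F, ε a⁻¹ = iv (ε a) := fun a => ε.apply_symm_apply _
  have ezero : ε (0 : F) = 1 := ε.apply_symm_apply _
  have eone : ε (1 : F) = s := ε.apply_symm_apply _
  letI : Field F := Field.ofMinimalAxioms F
    (fun a b c => ε.injective (by simp only [eadd, mul_assoc]))
    (fun a => ε.injective (by rw [eadd, ezero, one_mul]))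
    (fun a => ε.injective (by rw [eadd, eneg, ezero, inv_mul_cancel]))
    (fun a b c => ε.injective (by rw [emul, emul, emul, emul, hassoc]))
    (fun a b => ε.injective (by rw [emul, emul, hcomm]))
    (fun a => ε.injective (by rw [emul, eone, hone]))
    (fun a ha => ε.injective (by
      rw [emul, einv, eone, hinv]
      exact fun h => ha (ε.injective (h.trans ezero.symm))))
    (ε.injective (by
      rw [einv, ezero]
      exact dif_pos rfl))
    (fun a b c => ε.injective (by simp only [emul, eadd, hdistrib]))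
    ⟨0, 1, fun h => hs (by rw [← eone, ← h, ezero])⟩
  letI : Fintype F := Fintype.ofFinite F
  have hFcard : Fintype.card F = q := by
    rw [← Nat.card_eq_fintype_card, Nat.card_congr (carrierEquiv q), Nat.card_fin]
  obtain ⟨k, hk⟩ := IsPGroup.iff_card.1 T.isPGroup'
  rw [← hq] at hk
  have hk0 : k ≠ 0 := fun h => by rw [h, pow_zero] at hk; omega
  have h2F : (1 : F) + 1 = 0 := ε.injective (by
    rw [eadd, eone, ezero]
    exact Subtype.ext (by rw [Subgroup.coe_mul, ← pow_two, sq_one hh s.2]; rfl))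
  have hchar : ringChar F = 2 := by
    refine ringChar.eq_iff.2 ((CharP.charP_iff_prime_eq_zero Nat.prime_two).2 ?_)
    rw [← h2F]; norm_num
  refine ⟨F, inferInstance, inferInstance, hFcard, ?_⟩
  have hne0 : ∀ a : F, a ≠ 0 → ε a ≠ 1 := fun a ha h => ha (ε.injective (h.trans ezero.symm))
  have htwo : ∀ a : F, a + a = 0 := fun a => ε.injective (by
    rw [eadd, ezero]
    exact Subtype.ext (by rw [Subgroup.coe_mul, ← pow_two, sq_one hh (ε a).2]; rfl))
  -- the two descriptions of the points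
  let ψ : Option F → G ⧸ nH := fun w => w.elim pt fun a => (ε a : G) • y
  let χ : Option F → CfsgLib.Lie.ProjLine.Pt F := fun w =>
    w.elim (Projectivization.mk F ![1, 0] (by simp))
      fun a => Projectivization.mk F ![a, 1] (by simp)
  have hψne : ∀ a : F, (ε a : G) • y ≠ pt := fun a h => hy (by
    rw [eq_inv_smul_iff.2 h]; exact fix_pt.1 (Subgroup.le_normalizer (inv_mem (ε a).2)))
  have hψ : Function.Bijective ψ := by
    constructor
    · rintro (_ | a) (_ | b) h
      · rfl
      · exact absurd h.symm (hψne b)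
      · exact absurd h (hψne a)
      · exact congrArg some (ε.injective (Subtype.ext
          ((exists_unique_T hh hy (hψne a)).unique ⟨(ε a).2, rfl⟩ ⟨(ε b).2, h.symm⟩)))
    · intro w
      by_cases hw : w = pt
      · exact ⟨none, hw.symm⟩
      · obtain ⟨t, ⟨ht, htw⟩, -⟩ := exists_unique_T hh hy hw
        exact ⟨some (ε.symm ⟨t, ht⟩), by
          show (ε (ε.symm ⟨t, ht⟩) : G) • y = w
          rw [ε.apply_symm_apply]; exact htw⟩
  have hχ : Function.Bijective χ := by
    constructor
    · rintro (_ | a) (_ | b) h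
      · rfl
      · obtain ⟨c, hc⟩ := (Projectivization.mk_eq_mk_iff' _ _ _ _ _).1 h
        have h1 : c * 1 = 0 := congrFun hc 1
        have h0 : c * b = 1 := congrFun hc 0
        rw [mul_one] at h1; rw [h1, zero_mul] at h0
        exact absurd h0 zero_ne_one
      · obtain ⟨c, hc⟩ := (Projectivization.mk_eq_mk_iff' _ _ _ _ _).1 h
        have h1 : c * 0 = 1 := congrFun hc 1
        rw [mul_zero] at h1
        exact absurd h1 zero_ne_one
      · obtain ⟨c, hc⟩ := (Projectivization.mk_eq_mk_iff' _ _ _ _ _).1 h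
        have h1 : c * 1 = 1 := congrFun hc 1
        have h0 : c * b = a := congrFun hc 0
        rw [mul_one] at h1; rw [h1, one_mul] at h0
        exact congrArg some h0.symm
    · intro p
      induction p using Projectivization.ind with
      | _ v hv =>
        by_cases h : v 1 = 0
        · have h0 : v 0 ≠ 0 := fun h' => hv (by ext i; fin_cases i <;> assumption)
          refine ⟨none, (Projectivization.mk_eq_mk_iff' _ _ _ _ _).2 ⟨(v 0)⁻¹, ?_⟩⟩
          ext i; fin_cases i <;> simp [h, h0]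
        · refine ⟨some (v 0 * (v 1)⁻¹), (Projectivization.mk_eq_mk_iff' _ _ _ _ _).2 ⟨(v 1)⁻¹, ?_⟩⟩
          ext i; fin_cases i <;> simp [h, mul_comm]
  let σ : G ⧸ nH ≃ CfsgLib.Lie.ProjLine.Pt F :=
    (Equiv.ofBijective ψ hψ).symm.trans (Equiv.ofBijective χ hχ)
  have hσ : ∀ w, σ (ψ w) = χ w := fun w => by
    show Equiv.ofBijective χ hχ ((Equiv.ofBijective ψ hψ).symm (ψ w)) = χ w
    rw [Equiv.ofBijective_symm_apply_apply]; rfl
  let Φ : G →* Equiv.Perm (CfsgLib.Lie.ProjLine.Pt F) :=
    σ.permCongrHom.toMonoidHom.comp (MulAction.toPermHom G (G ⧸ nH))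
  have hΦ : ∀ g p, Φ g p = σ (g • σ.symm p) := fun g p => rfl
  set R := (MulAction.toPermHom (Matrix.ProjectiveSpecialLinearGroup (Fin 2) F)
    (CfsgLib.Lie.ProjLine.Pt F)).range with hR
  have good : ∀ (g : G) (M : Matrix.SpecialLinearGroup (Fin 2) F),
      (∀ w, σ (g • ψ w) = M • χ w) → g ∈ R.comap Φ := by
    intro g M h
    refine ⟨QuotientGroup.mk M, Equiv.ext fun p => ?_⟩
    obtain ⟨w, rfl⟩ := hχ.2 p
    rw [hΦ, ← hσ w, σ.symm_apply_apply, h, hσ]
    rfl
  have smul_χ : ∀ (M : Matrix.SpecialLinearGroup (Fin 2) F) (v : Fin 2 → F) (hv : v ≠ 0)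
      (v' : Fin 2 → F) (hv' : v' ≠ 0) (c : F),
      c • v' = (M : Matrix (Fin 2) (Fin 2) F).mulVec v →
        M • Projectivization.mk F v hv = Projectivization.mk F v' hv' := by
    intro M v hv v' hv' c hc
    rw [Projectivization.smul_mk, Projectivization.mk_eq_mk_iff']
    exact ⟨c, hc⟩
  -- translations
  have hT : ∀ t : G, t ∈ T → t ∈ R.comap Φ := by
    intro t ht
    set b := ε.symm ⟨t, ht⟩ with hb
    refine good t ⟨!![1, b; 0, 1], by simp [Matrix.det_fin_two]⟩ ?_
    rintro (_ | a)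
    · show σ (t • pt) = _
      rw [fix_pt.1 (Subgroup.le_normalizer ht), show pt = ψ none from rfl, hσ]
      symm
      refine smul_χ _ _ _ _ _ 1 ?_
      ext i; fin_cases i <;> simp [Matrix.mulVec, dotProduct, Fin.sum_univ_two]
    · have h1 : t • ψ (some a) = ψ (some (b + a)) := by
        show t • (ε a : G) • y = (ε (b + a) : G) • y
        rw [eadd, hb, ε.apply_symm_apply, Subgroup.coe_mul, smul_smul]
      rw [h1, hσ]
      symm
      refine smul_χ _ _ _ _ _ 1 ?_
      ext i; fin_cases i <;> simp [Matrix.mulVec, dotProduct, Fin.sum_univ_two, add_comm]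
  -- the two point stabilizer
  have hD : ∀ d ∈ stab T y, d ∈ R.comap Φ := by
    intro d hd
    obtain ⟨h1, h2⟩ := mem_stab.1 hd
    set c := ε.symm ⟨d * s * d⁻¹, conj_mem (stab_le hd) s.2⟩ with hc
    have hc0 : c ≠ 0 := fun h => hs1 (by
      have := congrArg (fun e => ((ε e : ↥(T : Subgroup G)) : G)) h
      simp only [hc, ε.apply_symm_apply, ezero, Subgroup.coe_one] at this
      exact conj_eq_one_iff.1 this)
    obtain ⟨r, hr⟩ := FiniteField.isSquare_of_char_two hchar c
    have hr0 : r ≠ 0 := fun h => hc0 (by rw [hr, h, mul_zero])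
    refine good d ⟨!![r, 0; 0, r⁻¹], by simp [Matrix.det_fin_two, hr0]⟩ ?_
    rintro (_ | a)
    · show σ (d • pt) = _
      rw [h1, show pt = ψ none from rfl, hσ]
      symm
      refine smul_χ _ _ _ _ _ r ?_
      ext i; fin_cases i <;> simp [Matrix.mulVec, dotProduct, Fin.sum_univ_two]
    · have h3 : d • ψ (some a) = ψ (some (c * a)) := by
        show d • (ε a : G) • y = (ε (c * a) : G) • y
        rw [emul, hmv _ (hne0 c hc0)]
        have : δ (ε c) = d := huniq _ (hδm _ (hne0 c hc0)) _ hd (by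
          rw [hδ _ (hne0 c hc0), hc, ε.apply_symm_apply])
        rw [this, smul_smul, mul_smul (d * (ε a : G)) d⁻¹, show d⁻¹ • y = y from
          (mem_stab.1 (inv_mem hd)).2]
      rw [h3, hσ]
      symm
      refine smul_χ _ _ _ _ _ r⁻¹ ?_
      ext i; fin_cases i
      · simp [Matrix.mulVec, dotProduct, Fin.sum_univ_two, hr]
        rw [← mul_assoc, ← mul_assoc, inv_mul_cancel₀ hr0, one_mul]
      · simp [Matrix.mulVec, dotProduct, Fin.sum_univ_two]
  -- the inversion
  obtain ⟨u, hu, hux⟩ := exists_swap hh hy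
  set p₁ : G ⧸ nH := (s : G) • y with hp₁
  have hp₁n : p₁ ≠ pt := fun h => hy (by
    rw [eq_inv_smul_iff.2 h]; exact fix_pt.1 (Subgroup.le_normalizer (inv_mem s.2)))
  have hp₁y : p₁ ≠ y := fun h => hs1 (stab_inf hh hy
    (mem_stab.2 ⟨fix_pt.1 (Subgroup.le_normalizer s.2), h⟩) s.2)
  obtain ⟨d₀, hd₀, hd₀p⟩ := stab_transitive hh hy hp₁n hp₁y
    (b := u • p₁) (fun h => hp₁y (by
      have := congrArg (fun z => u • z) h
      simp only [smul_smul, invol_mul_self hu, one_smul, hux] at this
      exact this))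
    (fun h => hp₁n (by
      have := congrArg (fun z => u • z) h
      simp only [smul_smul, invol_mul_self hu, one_smul] at this
      rw [this, se_swap_prod hu hux]))
  have hud₀ : u * d₀ = d₀⁻¹ * u := by
    rw [← swap_inverts hh hy hu hux hd₀]; group
  set v := u * d₀ with hv
  have hvpt : v • pt = y := by rw [hv, ← smul_smul, (mem_stab.1 hd₀).1, hux]
  have hvy : v • y = pt := by rw [hv, ← smul_smul, (mem_stab.1 hd₀).2, se_swap_prod hu hux]
  have hvp : v • p₁ = p₁ := by
    rw [hud₀, ← smul_smul, ← hd₀p, inv_smul_smul]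
  have hvinv : v ∈ R.comap Φ := by
    refine good v ⟨!![0, 1; 1, 0], by
      rw [Matrix.det_fin_two]
      simpa using (neg_eq_iff_add_eq_zero.2 h2F)⟩ ?_
    rintro (_ | a)
    · show σ (v • pt) = _
      have : y = ψ (some 0) := by
        show y = (ε (0 : F) : G) • y
        rw [ezero, Subgroup.coe_one, one_smul]
      rw [hvpt, this, hσ]
      symm
      refine smul_χ _ _ _ _ _ 1 ?_
      ext i; fin_cases i <;> simp [Matrix.mulVec, dotProduct, Fin.sum_univ_two]
    · by_cases ha : a = 0
      · have : ψ (some a) = y := by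
          show (ε a : G) • y = y
          rw [ha, ezero, Subgroup.coe_one, one_smul]
        rw [this, hvy, show pt = ψ none from rfl, hσ, ha]
        symm
        refine smul_χ _ _ _ _ _ 1 ?_
        ext i; fin_cases i <;> simp [Matrix.mulVec, dotProduct, Fin.sum_univ_two]
      · have hd := hδm _ (hne0 a ha)
        have h3 : v • ψ (some a) = ψ (some a⁻¹) := by
          show v • (ε a : G) • y = (ε a⁻¹ : G) • y
          have e1 : (ε a : G) • y = δ (ε a) • p₁ := by
            rw [hp₁, ← hδ _ (hne0 a ha), smul_smul, mul_smul (δ (ε a) * (s : G)) (δ (ε a))⁻¹,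
              show (δ (ε a))⁻¹ • y = y from (mem_stab.1 (inv_mem hd)).2]
          have e2 : v * δ (ε a) = (δ (ε a))⁻¹ * v := by
            have h := swap_inverts hh hy hu hux hd
            calc v * δ (ε a) = u * (d₀ * δ (ε a)) := by rw [hv, mul_assoc]
              _ = u * (δ (ε a) * d₀) := by rw [stab_comm hh hy hd₀ hd]
              _ = (u * δ (ε a) * u⁻¹) * (u * d₀) := by group
              _ = (δ (ε a))⁻¹ * v := by rw [h, hv]
          rw [e1, smul_smul, e2, ← smul_smul, hvp, einv, hivv _ (hne0 a ha), hp₁, smul_smul,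
            mul_smul ((δ (ε a))⁻¹ * (s : G)) (δ (ε a)),
            show δ (ε a) • y = y from (mem_stab.1 hd).2]
        rw [h3, hσ]
        symm
        refine smul_χ _ _ _ _ _ a ?_
        ext i; fin_cases i <;> simp [Matrix.mulVec, dotProduct, Fin.sum_univ_two, ha]
  have hHle : ∀ h : G, h ∈ nH → h ∈ R.comap Φ := fun h hmem => by
    obtain ⟨d, hd, t, ht, rfl⟩ := exists_decomp hh hy hmem
    exact mul_mem (hD d hd) (hT t ht)
  have hall : ∀ g : G, g ∈ R.comap Φ := by
    intro g
    by_cases hg : g • pt = pt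
    · exact hHle g (fix_pt.2 hg)
    · obtain ⟨t, ⟨ht, htg⟩, -⟩ := exists_unique_T hh hy hg
      have h1 : (t * v)⁻¹ * g ∈ nH := fix_pt.2 (by
        rw [← smul_smul, inv_smul_eq_iff, ← smul_smul, hvpt, htg])
      have := mul_mem (mul_mem (hT t ht) hvinv) (hHle _ h1)
      rwa [mul_inv_cancel_left] at this
  have hinj : Function.Injective Φ := by
    rw [injective_iff_map_eq_one]
    intro g hg
    have hfix : ∀ w, g • w = w := fun w => σ.injective (by
      have := congrArg (fun f : Equiv.Perm _ => f (σ w)) hg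
      simpa [hΦ] using this)
    exact fix_three hh hy.symm hp₁n.symm hp₁y.symm (hfix _) (hfix _) (hfix _)
  have hle : Φ.range ≤ R := by
    rintro _ ⟨g, rfl⟩; exact hall g
  have hcard : Nat.card R = Nat.card G := by
    rw [hR, ← Nat.card_congr (MonoidHom.ofInjective CfsgLib.Lie.ProjLine.perm_hom_injective).toEquiv]
    have h := CfsgLib.Lie.ProjLine.card_PSL_two (F := F) hFcard
    have hodd : Odd (q - 1) := by
      rw [hk]
      exact Nat.Even.sub_odd (Nat.one_le_two_pow) ((Nat.even_pow).2 ⟨even_two, hk0⟩) odd_one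
    rw [Nat.coprime_iff_gcd_eq_one.1 (Nat.coprime_two_left.2 hodd), one_mul] at h
    rw [h, card_group hh hy, ← hq]
    have e : q ^ 2 - 1 = (q + 1) * (q - 1) := by simpa using Nat.sq_sub_sq q 1
    rw [e]; ring
  have heq : Φ.range = R := Subgroup.eq_of_le_of_card_ge hle (by
    rw [hcard, ← Nat.card_congr (MonoidHom.ofInjective hinj).toEquiv])
  exact ⟨(MonoidHom.ofInjective hinj).trans ((MulEquiv.subgroupCongr heq).trans
    (MonoidHom.ofInjective CfsgLib.Lie.ProjLine.perm_hom_injective).symm)⟩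

end CfsgLib.Inv.ElemCent
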