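import Cfsg.Prelude.Def_Transfer
import Cfsg.Prelude.Def_KGroupFacts
import Mathlib.Tactic

/-!
The automorphism group of an extraspecial 2-group of order at least `2^7` does not split over
the inner automorphisms: lifts of four commuting transvections never commute.
-/

set_option autoImplicit false

namespace CfsgLib.Inv.ExtraAut

variable {Q : Type*} [Group Q]

/-- The hypotheses used: a central involution `z` with all squares and commutators in `⟨z⟩`. -/
structure Setting (z : Q) : Prop where
  ne_one : z ≠ 1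
  sq : z * z = 1
  center : ∀ x : Q, x ∈ Subgroup.center Q ↔ x = 1 ∨ x = z
  square : ∀ x : Q, x * x = 1 ∨ x * x = z
  dichot : ∀ x y : Q, x * y = y * x ∨ x * y = z * (y * x)

theorem setting_of_extraspecial [Finite Q] (hQ : Cfsg.IsExtraspecial 2 Q) : ∃ z : Q, Setting z := by
  obtain ⟨⟨-, -, hc⟩, hZ⟩ := hQ
  obtain ⟨a, b, hab, huniv⟩ := Nat.card_eq_two_iff.1 hZ
  obtain ⟨w, hw⟩ : ∃ w : Subgroup.center Q, w ≠ 1 := by
    by_cases ha : a = 1
    · exact ⟨b, fun h => hab (ha.trans h.symm)⟩
    · exact ⟨a, ha⟩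
  have hall : ∀ v : Subgroup.center Q, v = 1 ∨ v = w := by
    intro v
    have h1 : (1 : Subgroup.center Q) ∈ ({a, b} : Set _) := huniv.symm ▸ Set.mem_univ _
    have h2 : w ∈ ({a, b} : Set _) := huniv.symm ▸ Set.mem_univ _
    have h3 : v ∈ ({a, b} : Set _) := huniv.symm ▸ Set.mem_univ _
    simp only [Set.mem_insert_iff, Set.mem_singleton_iff] at h1 h2 h3
    rcases h1 with h1 | h1 <;> rcases h2 with h2 | h2 <;> rcases h3 with h3 | h3 <;>
      first
        | exact absurd (h2.trans h1.symm) hw
        | exact Or.inl (h3.trans h1.symm)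
        | exact Or.inr (h3.trans h2.symm)
  have hcz : ∀ x : Q, x ∈ Subgroup.center Q ↔ x = 1 ∨ x = (w : Q) := by
    intro x
    constructor
    · intro hx
      rcases hall ⟨x, hx⟩ with h | h
      · exact Or.inl (congrArg Subtype.val h)
      · exact Or.inr (congrArg Subtype.val h)
    · rintro (rfl | rfl)
      · exact one_mem _
      · exact w.2
  have hw1 : (w : Q) ≠ 1 := fun h => hw (Subtype.ext h)
  have hsq : (w : Q) * w = 1 := by
    rcases (hcz _).1 (mul_mem w.2 w.2) with h | h
    · exact h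
    · exact absurd (mul_eq_left.1 h) hw1
  have hd : ∀ x y : Q, x * y = y * x ∨ x * y = (w : Q) * (y * x) := by
    intro x y
    have h0 : x * y * x⁻¹ * y⁻¹ ∈ Subgroup.center Q := by
      rw [← hc]
      exact Subgroup.commutator_mem_commutator (Subgroup.mem_top x) (Subgroup.mem_top y)
    rcases (hcz _).1 h0 with h | h
    · left
      calc x * y = (x * y * x⁻¹ * y⁻¹) * (y * x) := by group
        _ = y * x := by rw [h, one_mul]
    · right
      calc x * y = (x * y * x⁻¹ * y⁻¹) * (y * x) := by group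
        _ = (w : Q) * (y * x) := by rw [h]
  refine ⟨w, hw1, hsq, hcz, fun x => (hcz _).1 (Subgroup.mem_center_iff.2 fun y => ?_), hd⟩
  have hwc := fun g => Subgroup.mem_center_iff.1 w.2 g
  rcases hd y x with h | h
  · rw [← mul_assoc, h, mul_assoc, h, ← mul_assoc]
  · rw [← mul_assoc, h, mul_assoc, mul_assoc, h, ← mul_assoc x (w : Q), hwc x, mul_assoc, ← mul_assoc,
      hsq, one_mul, mul_assoc]

variable {z : Q}

theorem Setting.comm_z (S : Setting z) (x : Q) : x * z = z * x :=
  Subgroup.mem_center_iff.1 ((S.center z).2 (Or.inr rfl)) x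

theorem Setting.inv_eq (S : Setting z) {u : Q} (hu : u * u = z) : u⁻¹ = z * u := by
  apply inv_eq_of_mul_eq_one_left
  rw [mul_assoc, hu, S.sq]

theorem Setting.not_central (S : Setting z) {u : Q} (hu : u * u = z) : ∃ x, x * u ≠ u * x := by
  by_contra h
  push Not at h
  rcases (S.center u).1 (Subgroup.mem_center_iff.2 h) with e | e <;> subst e
  · exact S.ne_one (by rw [← hu, one_mul])
  · exact S.ne_one (by rw [← hu]; exact S.sq)

/-- The product of two elements not commuting with `u` commutes with `u`. -/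
theorem Setting.mul_nc (S : Setting z) {u x y : Q} (hx : x * u ≠ u * x) (hy : y * u ≠ u * y) :
    x * y * u = u * (x * y) := by
  have e1 := (S.dichot x u).resolve_left hx
  have e2 := (S.dichot y u).resolve_left hy
  rw [mul_assoc, e2, ← mul_assoc x z, S.comm_z, mul_assoc, ← mul_assoc x u, e1, mul_assoc,
    ← mul_assoc z z, S.sq, one_mul, mul_assoc]

/-- Separation of two independent elements of order four by centralizers. -/
theorem Setting.sep (S : Setting z) {u v : Q} (hu : u * u = z) (h1 : v ≠ u) (h2 : v ≠ z * u) :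
    ∃ x, x * u ≠ u * x ∧ x * v = v * x := by
  by_contra h
  push Not at h
  obtain ⟨x₀, hx₀⟩ := S.not_central hu
  have hcen : u * v ∈ Subgroup.center Q := by
    refine Subgroup.mem_center_iff.2 fun x => ?_
    by_cases hx : x * u = u * x
    · have hxv : x * v = v * x := by
        by_contra hxv
        have h3 : x * x₀ * u ≠ u * (x * x₀) := fun e => hx₀ <| by
          rw [mul_assoc, ← mul_assoc u x, ← hx, mul_assoc] at e
          exact mul_left_cancel e
        exact h _ h3 (S.mul_nc hxv (h x₀ hx₀))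
      rw [← mul_assoc, hx, mul_assoc, hxv, ← mul_assoc]
    · have e1 := (S.dichot x u).resolve_left hx
      have e2 := (S.dichot x v).resolve_left (h x hx)
      rw [← mul_assoc, e1, mul_assoc, mul_assoc, e2, ← mul_assoc u z, S.comm_z, mul_assoc,
        ← mul_assoc z z, S.sq, one_mul, mul_assoc]
  rcases (S.center _).1 hcen with e | e
  · exact h2 (by rw [← S.inv_eq hu]; exact eq_inv_of_mul_eq_one_right e)
  · exact h1 (mul_left_cancel (e.trans hu.symm))

/-- The transvection automorphism attached to an element of order four. -/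
theorem Setting.exists_transvection [Finite Q] (S : Setting z) {u : Q} (hu : u * u = z) :
    ∃ τ : MulAut Q, (∀ x, x * u = u * x → τ x = x) ∧ ∀ x, x * u ≠ u * x → τ x = x * u := by
  classical
  let f : Q → Q := fun x => if x * u = u * x then x else x * u
  have hf : ∀ x y, f (x * y) = f x * f y := by
    intro x y
    by_cases hx : x * u = u * x <;> by_cases hy : y * u = u * y
    · have : x * y * u = u * (x * y) := by rw [mul_assoc, hy, ← mul_assoc, hx, mul_assoc]
      simp [f, hx, hy, this]
    · have : x * y * u ≠ u * (x * y) := fun e => hy <| by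
        rw [mul_assoc, ← mul_assoc u x, ← hx, mul_assoc] at e
        exact mul_left_cancel e
      simp only [f, hx, hy, this, if_false, if_true]
      rw [mul_assoc]
    · have : x * y * u ≠ u * (x * y) := fun e => hx <| by
        rw [mul_assoc, hy, ← mul_assoc, ← mul_assoc u x] at e
        exact mul_right_cancel e
      simp only [f, hx, hy, this, if_false, if_true]
      rw [mul_assoc, hy, ← mul_assoc]
    · have h := S.mul_nc hx hy
      have e2 := (S.dichot u y).resolve_left (fun e => hy e.symm)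
      simp only [f, hx, hy, h, if_false, if_true]
      rw [show x * u * (y * u) = x * (u * y) * u by group, e2,
        show x * (z * (y * u)) * u = x * z * y * (u * u) by group, hu, S.comm_z x,
        show z * x * y * z = z * (x * y * z) by group, S.comm_z (x * y), ← mul_assoc, S.sq, one_mul]
  let φ : Q →* Q := MonoidHom.mk' f hf
  have hinj : Function.Injective φ := by
    refine (injective_iff_map_eq_one φ).2 fun x hx => ?_
    change f x = 1 at hx
    by_cases h : x * u = u * x
    · simpa [f, h] using hx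
    · simp only [f, h, if_false] at hx
      exfalso
      apply h
      rw [eq_inv_of_mul_eq_one_left hx, inv_mul_cancel, mul_inv_cancel]
  refine ⟨MulEquiv.ofBijective φ ⟨hinj, Finite.injective_iff_surjective.1 hinj⟩, fun x h => ?_,
    fun x h => ?_⟩
  · exact if_pos h
  · exact if_neg h

/-- Inside the centralizer of two commuting elements of order four there is a third one. -/
theorem Setting.exists_third [Finite Q] (S : Setting z) (hbig : 2 ^ 7 ≤ Nat.card Q) {u v : Q}
    (hu : u * u = z) (huv : u * v = v * u) :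
    ∃ w, w * w = z ∧ w * u = u * w ∧ w * v = v * w ∧ w ≠ u ∧ w ≠ z * u ∧ w ≠ v ∧ w ≠ z * v := by
  classical
  let g : Q → Q → Bool := fun t x => decide (x * t = t * x)
  let φ : Q → Bool × Bool := fun x => (g u x, g v x)
  haveI := Fintype.ofFinite Q
  obtain ⟨c, hc⟩ : ∃ c : Bool × Bool, 32 ≤ (Finset.univ.filter fun x => φ x = c).card := by
    by_contra h
    push Not at h
    have := Finset.card_eq_sum_card_fiberwise (s := (Finset.univ : Finset Q))
      (t := (Finset.univ : Finset (Bool × Bool))) (f := φ) (fun x _ => Finset.mem_univ _)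
    have hle : ∑ c : Bool × Bool, (Finset.univ.filter fun x => φ x = c).card ≤ ∑ _c : Bool × Bool, 31 :=
      Finset.sum_le_sum fun c _ => Nat.le_of_lt_succ (h c)
    rw [Finset.card_univ, ← Nat.card_eq_fintype_card] at this
    simp only [Finset.sum_const, Finset.card_univ, Fintype.card_prod, Fintype.card_bool, smul_eq_mul] at hle
    omega
  set F := Finset.univ.filter fun x => φ x = c with hF
  obtain ⟨x₀, hx₀⟩ : F.Nonempty := Finset.card_pos.1 (by omega)
  have hcomm : ∀ t : Q, ∀ x y : Q, g t x = g t y → (x⁻¹ * y) * t = t * (x⁻¹ * y) := by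
    intro t x y e
    by_cases hx : x * t = t * x
    · have hy : y * t = t * y := by simpa [g, hx] using e.symm
      have hx' : x⁻¹ * t = t * x⁻¹ := (show Commute x t from hx).inv_left
      rw [mul_assoc, hy, ← mul_assoc, hx', mul_assoc]
    · have hy : y * t ≠ t * y := by simpa [g, hx] using e.symm
      have hx' : x⁻¹ * t ≠ t * x⁻¹ := fun h => hx (by
        simpa using (show Commute x⁻¹ t from h).inv_left.eq)
      exact S.mul_nc hx' hy
  by_contra hno
  push Not at hno
  let B : Finset Q := {u, z * u, v, z * v}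
  have hB : ∀ w, w * w = z → w * u = u * w → w * v = v * w → w ∈ B := by
    intro w h1 h2 h3
    by_contra hw
    simp only [B, Finset.mem_insert, Finset.mem_singleton, not_or] at hw
    exact hw.2.2.2 (hno w h1 h2 h3 hw.1 hw.2.1 hw.2.2.1)
  let B' : Finset Q := B ∪ B.image (fun b => b * u⁻¹)
  have hsub : F.image (fun y => x₀⁻¹ * y) ⊆ B' := by
    intro x hx
    obtain ⟨y, hy, rfl⟩ := Finset.mem_image.1 hx
    have hφ : φ x₀ = φ y := ((Finset.mem_filter.1 hx₀).2).trans (Finset.mem_filter.1 hy).2.symm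
    have hcu := hcomm u x₀ y (congrArg Prod.fst hφ)
    have hcv := hcomm v x₀ y (congrArg Prod.snd hφ)
    set x := x₀⁻¹ * y
    rcases S.square x with h | h
    · -- then `x * u` squares to `z`
      have h1 : x * u * (x * u) = z := by
        rw [show x * u * (x * u) = x * (u * x) * u by group, ← hcu,
          show x * (x * u) * u = x * x * (u * u) by group, h, hu, one_mul]
      have h2 : x * u * u = u * (x * u) := by rw [hcu, mul_assoc, hcu]
      have h3 : x * u * v = v * (x * u) := by
        rw [mul_assoc, huv, ← mul_assoc, hcv, mul_assoc]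
      exact Finset.mem_union_right _
        (Finset.mem_image.2 ⟨x * u, hB _ h1 h2 h3, mul_inv_cancel_right x u⟩)
    · exact Finset.mem_union_left _ (hB x h hcu hcv)
  have hc1 : (F.image fun y => x₀⁻¹ * y).card = F.card :=
    Finset.card_image_of_injective _ (mul_right_injective _)
  have hc2 := Finset.card_le_card hsub
  have hc3 : B.card ≤ 4 := Finset.card_le_four
  have hc4 : B'.card ≤ 4 + 4 := (Finset.card_union_le _ _).trans
    (Nat.add_le_add hc3 (Finset.card_image_le.trans hc3))
  omega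

/-- An automorphism equal to a transvection modulo inner automorphisms. -/
theorem Setting.lift_apply (S : Setting z) {τ l : MulAut Q} {g x : Q}
    (hl : τ = MulAut.conj g * l) : ∃ w, w ∈ Subgroup.center Q ∧ l x = w * τ x := by
  refine ⟨g⁻¹ * τ x * g * (τ x)⁻¹, ?_, ?_⟩
  · rcases S.dichot g⁻¹ (τ x) with h | h
    · rw [h]; simp
    · rw [h, show z * (τ x * g⁻¹) * g * (τ x)⁻¹ = z by group]
      exact (S.center z).2 (Or.inr rfl)
  · subst hl
    simp [MulAut.mul_apply]
    group

/-- Aut of an extraspecial 2-group of order at least `2^7` does not split over Inn. -/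
theorem not_isComplement' [Finite Q] (hQ : Cfsg.IsExtraspecial 2 Q) (hbig : 2 ^ 7 ≤ Nat.card Q)
    (L : Subgroup (MulAut Q)) : ¬ (Cfsg.Inn Q).IsComplement' L := by
  intro hL
  obtain ⟨z, S⟩ := setting_of_extraspecial hQ
  -- three commuting elements of order four
  obtain ⟨u₁, hu₁⟩ : ∃ u : Q, u * u = z := by
    by_contra h
    push Not at h
    have h1 : ∀ x : Q, x * x = 1 := fun x => (S.square x).resolve_right (h x)
    have hinv : ∀ x : Q, x⁻¹ = x := fun x => inv_eq_of_mul_eq_one_left (h1 x)
    have htop : Subgroup.center Q = ⊤ := eq_top_iff.2 fun x _ => Subgroup.mem_center_iff.2 fun y =>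
      (hinv (y * x)).symm.trans (by rw [mul_inv_rev, hinv x, hinv y])
    have := hQ.2
    rw [htop, Subgroup.card_top] at this
    omega
  obtain ⟨u₂, hu₂, h21, -, h2a, h2b, -, -⟩ := S.exists_third hbig hu₁ rfl
  obtain ⟨u₃, hu₃, h31, h32, h3a, h3b, h3c, h3d⟩ := S.exists_third hbig hu₁ h21.symm
  set u₄ := u₁ * u₂ * u₃ with hu₄def
  have h41 : u₄ * u₁ = u₁ * u₄ := by
    have c2 : Commute u₁ u₂ := h21.symm
    have c3 : Commute u₁ u₃ := h31.symm
    exact (((Commute.refl u₁).mul_right c2).mul_right c3).eq.symm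
  have hu₄ : u₄ * u₄ = z := by
    have c : (u₁ * u₂) * u₃ = u₃ * (u₁ * u₂) :=
      ((show Commute u₁ u₃ from h31.symm).mul_left (show Commute u₂ u₃ from h32.symm)).eq
    calc u₄ * u₄ = u₁ * u₂ * (u₃ * (u₁ * u₂)) * u₃ := by rw [hu₄def]; group
      _ = u₁ * u₂ * ((u₁ * u₂) * u₃) * u₃ := by rw [← c]
      _ = u₁ * (u₂ * u₁) * u₂ * (u₃ * u₃) := by group
      _ = (u₁ * u₁) * (u₂ * u₂) * (u₃ * u₃) := by rw [h21]; group
      _ = z := by rw [hu₁, hu₂, hu₃, S.sq, one_mul]
  have h4a : u₄ ≠ u₁ := by
    intro e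
    have e' : u₂ * u₃ = 1 := mul_left_cancel (a := u₁) (by rw [mul_one, ← mul_assoc, ← hu₄def, e])
    exact h3d (by rw [← S.inv_eq hu₂]; exact eq_inv_of_mul_eq_one_right e')
  have h4b : u₄ ≠ z * u₁ := by
    intro e
    have e' : u₂ * u₃ = z := mul_left_cancel (a := u₁) (by rw [← mul_assoc, ← hu₄def, e, S.comm_z])
    exact h3c (mul_left_cancel (e'.trans hu₂.symm))
  -- lifts of the transvections
  have hlift : ∀ u : Q, u * u = z → ∃ τ ∈ ({t : MulAut Q | (∀ x, x * u = u * x → t x = x) ∧
      ∀ x, x * u ≠ u * x → t x = x * u}), ∃ g, ∃ l ∈ L, τ = MulAut.conj g * l := by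
    intro u hu
    obtain ⟨τ, hτ⟩ := S.exists_transvection hu
    obtain ⟨⟨⟨a, g, rfl⟩, ⟨l, hl⟩⟩, h⟩ := hL.surjective τ
    exact ⟨τ, hτ, g, l, hl, h.symm⟩
  -- elements of `L` are determined modulo inner automorphisms
  have huniq : ∀ l ∈ L, l ∈ Cfsg.Inn Q → l = 1 := fun l h1 h2 =>
    Subgroup.mem_bot.1 (hL.disjoint.le_bot ⟨h2, h1⟩)
  have hmk : ∀ (g : Q) (l : MulAut Q),
      (QuotientGroup.mk (MulAut.conj g * l) : MulAut Q ⧸ Cfsg.Inn Q) = QuotientGroup.mk l := by
    intro g l
    rw [QuotientGroup.mk_mul, (QuotientGroup.eq_one_iff _).2 (⟨g, rfl⟩ : MulAut.conj g ∈ Cfsg.Inn Q),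
      one_mul]
  have hinv : ∀ u : Q, u * u = z → ∀ (τ : MulAut Q), ((∀ x, x * u = u * x → τ x = x) ∧
      ∀ x, x * u ≠ u * x → τ x = x * u) → τ * τ = MulAut.conj u := by
    intro u hu τ hτ
    ext x
    rw [MulAut.mul_apply, MulAut.conj_apply]
    by_cases hx : x * u = u * x
    · rw [hτ.1 x hx, hτ.1 x hx, ← hx, mul_inv_cancel_right]
    · have hxu : x * u * u ≠ u * (x * u) := fun e => hx (mul_right_cancel (e.trans (mul_assoc u x u).symm))
      rw [hτ.2 x hx, hτ.2 _ hxu, mul_assoc, hu, S.comm_z,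
        (S.dichot u x).resolve_left (fun e => hx e.symm), mul_assoc, mul_inv_cancel_right]
  have hcom : ∀ u v : Q, u * v = v * u → ∀ (s t : MulAut Q),
      ((∀ x, x * u = u * x → s x = x) ∧ ∀ x, x * u ≠ u * x → s x = x * u) →
      ((∀ x, x * v = v * x → t x = x) ∧ ∀ x, x * v ≠ v * x → t x = x * v) → s * t = t * s := by
    intro u v huv s t hs ht
    ext x
    rw [MulAut.mul_apply, MulAut.mul_apply]
    have hsv : s v = v := hs.1 v huv.symm
    have htu : t u = u := ht.1 u huv
    by_cases hxu : x * u = u * x <;> by_cases hxv : x * v = v * x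
    · simp [ht.1 x hxv, hs.1 x hxu]
    · simp [ht.2 x hxv, hs.1 x hxu, hsv]
    · simp [ht.1 x hxv, hs.2 x hxu, htu]
    · simp [ht.2 x hxv, hs.2 x hxu, hsv, htu, mul_assoc, huv]
  obtain ⟨τ₁, hτ₁, g₁, l₁, hl₁, e₁⟩ := hlift u₁ hu₁
  -- the lift of the first transvection inverts `u₁`
  have hz : ∀ l : MulAut Q, l z = z := by
    intro l
    have h1 : l z ∈ Subgroup.center Q := Subgroup.mem_center_iff.2 fun g => by
      obtain ⟨g', rfl⟩ := l.surjective g
      rw [← map_mul, ← map_mul, S.comm_z]
    rcases (S.center _).1 h1 with h | h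
    · exact absurd (l.injective (h.trans (map_one l).symm)) S.ne_one
    · exact h
  have hcenfix : ∀ l : MulAut Q, ∀ w ∈ Subgroup.center Q, l w = w := by
    intro l w hw
    rcases (S.center w).1 hw with rfl | rfl
    · exact map_one l
    · exact hz l
  have hsq : ∀ w ∈ Subgroup.center Q, w * w = 1 := by
    intro w hw
    rcases (S.center w).1 hw with rfl | rfl
    · exact one_mul 1
    · exact S.sq
  have hA : l₁ u₁ = z * u₁ := by
    have hll : l₁ * l₁ = 1 := by
      refine huniq _ (mul_mem hl₁ hl₁) ((QuotientGroup.eq_one_iff _).1 ?_)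
      rw [QuotientGroup.mk_mul, ← hmk g₁ l₁, ← e₁, ← QuotientGroup.mk_mul, hinv u₁ hu₁ τ₁ hτ₁]
      exact (QuotientGroup.eq_one_iff _).2 ⟨u₁, rfl⟩
    obtain ⟨x, hx⟩ := S.not_central hu₁
    obtain ⟨w, hw, hwx⟩ := S.lift_apply (x := x) e₁
    rw [hτ₁.2 x hx] at hwx
    have h := congrArg (fun m : MulAut Q => m x) hll
    simp only [MulAut.mul_apply, MulAut.one_apply] at h
    rw [hwx, map_mul, map_mul, hcenfix l₁ w hw, hwx,
      show w * (w * (x * u₁) * l₁ u₁) = (w * w) * (x * (u₁ * l₁ u₁)) by group, hsq w hw, one_mul,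
      mul_eq_left] at h
    rw [← S.inv_eq hu₁]
    exact eq_inv_of_mul_eq_one_right h
  -- and fixes each of the other three
  have hB : ∀ u : Q, u * u = z → u * u₁ = u₁ * u → u ≠ u₁ → u ≠ z * u₁ → l₁ u = u := by
    intro u hu huu h1 h2
    obtain ⟨τ, hτ, g, l, hl, e⟩ := hlift u hu
    have hll : l₁ * l = l * l₁ := by
      have h := huniq (l₁ * l * l₁⁻¹ * l⁻¹)
        (mul_mem (mul_mem (mul_mem hl₁ hl) (inv_mem hl₁)) (inv_mem hl)) ((QuotientGroup.eq_one_iff _).1 ?_)
      · exact commutatorElement_eq_one_iff_mul_comm.1 h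
      · simp only [QuotientGroup.mk_mul, QuotientGroup.mk_inv, ← hmk g₁ l₁, ← hmk g l, ← e₁, ← e]
        rw [← QuotientGroup.mk_mul, hcom u₁ u huu.symm τ₁ τ hτ₁ hτ, QuotientGroup.mk_mul]
        group
    obtain ⟨x, hx, hx'⟩ := S.sep hu (Ne.symm h1) (fun h => h2 (by
      rw [h, ← mul_assoc, S.sq, one_mul]))
    obtain ⟨w, hw, hwx⟩ := S.lift_apply (x := x) e₁
    obtain ⟨w', hw', hwx'⟩ := S.lift_apply (x := x) e
    rw [hτ₁.1 x hx'] at hwx
    rw [hτ.2 x hx] at hwx'
    have h := congrArg (fun m : MulAut Q => m x) hll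
    simp only [MulAut.mul_apply] at h
    rw [hwx', map_mul, map_mul, hcenfix l₁ w' hw', hwx, map_mul, hcenfix l w hw, hwx'] at h
    have hc := Subgroup.mem_center_iff.1 hw w'
    rw [← mul_assoc, ← mul_assoc, hc, mul_assoc, mul_assoc, mul_left_cancel_iff, mul_left_cancel_iff,
      mul_left_cancel_iff] at h
    exact h
  have h2 := hB u₂ hu₂ h21 h2a h2b
  have h3 := hB u₃ hu₃ h31 h3a h3b
  have h4 := hB u₄ hu₄ h41 h4a h4b
  rw [hu₄def, map_mul, map_mul, hA, h2, h3, mul_assoc, mul_assoc, mul_assoc, mul_eq_right] at h4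
  exact S.ne_one h4

end CfsgLib.Inv.ExtraAut
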