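import Cfsg.Prelude.Def_Transfer
import Cfsg.Agent.Solv.ClassTwo
import Mathlib.Tactic

/-!
Counting in extraspecial 2-groups of plus type.
-/

set_option autoImplicit false
set_option linter.style.haveILetI false

namespace CfsgLib.Inv

open scoped commutatorElement

theorem extraspecialTwo_card_order_four {E : Type*} [Group E] [Finite E] (m : ℕ)
    (hE : Cfsg.IsExtraspecial 2 E) (hcard : Nat.card E = 2 ^ (2 * m + 1))
    {A : Subgroup E} (hA : Cfsg.IsElementaryAbelian 2 A) (hAc : Nat.card A = 2 ^ (m + 1)) :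
    Nat.card {x : E // orderOf x = 4} = 2 ^ (2 * m) - 2 ^ m := by
  classical
  haveI : Fact (Nat.Prime 2) := ⟨Nat.prime_two⟩
  haveI := Fintype.ofFinite E
  obtain ⟨⟨hP, hf, hc⟩, hZ⟩ := hE
  set Z := Subgroup.center E with hZdef
  obtain ⟨z, hz, hz1⟩ : ∃ z ∈ Z, z ≠ 1 := by
    by_contra hne
    push Not at hne
    have : Z = ⊥ := (Subgroup.eq_bot_iff_forall _).2 hne
    rw [this, Subgroup.card_bot] at hZ
    omega
  have hZel : ∀ w ∈ Z, w = 1 ∨ w = z := by
    intro w hw
    obtain ⟨i, hi, rfl⟩ := CfsgLib.Solv.exists_pow_eq_of_mem hZ hz hz1 hw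
    rcases i with _ | _ | i
    · left; exact pow_zero z
    · right; exact pow_one z
    · omega
  have hcomZ : ∀ x y : E, ⁅x, y⁆ ∈ Z := fun x y =>
    hc.le (Subgroup.commutator_mem_commutator (Subgroup.mem_top x) (Subgroup.mem_top y))
  have hcm : ∀ a ∈ A, ∀ b ∈ A, a * b = b * a := fun a ha b hb =>
    congrArg Subtype.val (hA.1.is_comm.comm (⟨a, ha⟩ : A) ⟨b, hb⟩)
  have hsq : ∀ a ∈ A, a * a = 1 := fun a ha => by rw [← pow_two]; exact hA.2 a ha
  -- the number of elements of `A` not commuting with `x`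
  have hhalf : ∀ x a₀ : E, a₀ ∈ A → ⁅x, a₀⁆ ≠ 1 →
      2 * (Finset.univ.filter fun a : A => ⁅x, (a : E)⁆ ≠ 1).card = Nat.card A := by
    intro x a₀ ha₀ hne
    have hsplit : ∀ a : A, ⁅x, (a : E)⁆ ≠ 1 ↔ ⁅x, ((a * ⟨a₀, ha₀⟩ : A) : E)⁆ = 1 := by
      intro a
      have e : ⁅x, (a : E) * a₀⁆ = ⁅x, (a : E)⁆ * ⁅x, a₀⁆ := by
        have hc2 := Subgroup.mem_center_iff.1 (hcomZ x a₀) (a : E)
        calc ⁅x, (a : E) * a₀⁆ = ⁅x, (a : E)⁆ * ((a : E) * ⁅x, a₀⁆ * (a : E)⁻¹) := by
              simp only [commutatorElement_def]; group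
          _ = _ := by rw [hc2, mul_inv_cancel_right]
      have h0 : ⁅x, a₀⁆ = z := (hZel _ (hcomZ x a₀)).resolve_left hne
      have hzz : z * z = 1 := by
        rcases hZel _ (mul_mem hz hz) with h | h
        · exact h
        · exact absurd (mul_eq_left.1 h) hz1
      simp only [Subgroup.coe_mul, e, h0]
      rcases hZel _ (hcomZ x a) with h | h
      · simp [h, hz1]
      · simp [h, hz1, hzz]
    have hb : (Finset.univ.filter fun a : A => ⁅x, (a : E)⁆ ≠ 1).card =
        (Finset.univ.filter fun a : A => ¬ ⁅x, (a : E)⁆ ≠ 1).card := by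
      refine Finset.card_equiv (Equiv.mulRight (⟨a₀, ha₀⟩ : A)) fun a => ?_
      simp only [Finset.mem_filter, Finset.mem_univ, true_and, Equiv.coe_mulRight, not_not]
      exact hsplit a
    rw [two_mul]
    conv_lhs => arg 2; rw [hb]
    rw [Finset.card_filter_add_card_filter_not]
    simp [Nat.card_eq_fintype_card]
  have hhalfE : ∀ a : E, a ∉ Z → 2 * (Finset.univ.filter fun x : E => ⁅x, a⁆ ≠ 1).card = Nat.card E := by
    intro a ha
    obtain ⟨b, hb⟩ : ∃ b : E, ⁅b, a⁆ ≠ 1 := by
      by_contra hne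
      push Not at hne
      exact ha (Subgroup.mem_center_iff.2 fun b => commutatorElement_eq_one_iff_mul_comm.1 (hne b))
    have h0 : ⁅b, a⁆ = z := (hZel _ (hcomZ b a)).resolve_left hb
    have hzz : z * z = 1 := by
      rcases hZel _ (mul_mem hz hz) with h | h
      · exact h
      · exact absurd (mul_eq_left.1 h) hz1
    have hsplit : ∀ x : E, ⁅x, a⁆ ≠ 1 ↔ ⁅x * b, a⁆ = 1 := by
      intro x
      have e : ⁅x * b, a⁆ = ⁅b, a⁆ * ⁅x, a⁆ := by
        have hc2 := Subgroup.mem_center_iff.1 (hcomZ b a) x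
        calc ⁅x * b, a⁆ = (x * ⁅b, a⁆ * x⁻¹) * ⁅x, a⁆ := by simp only [commutatorElement_def]; group
          _ = _ := by rw [hc2, mul_inv_cancel_right]
      rw [e, h0]
      rcases hZel _ (hcomZ x a) with h | h
      · simp [h, hz1]
      · simp [h, hz1, hzz]
    have hb' : (Finset.univ.filter fun x : E => ⁅x, a⁆ ≠ 1).card =
        (Finset.univ.filter fun x : E => ¬ ⁅x, a⁆ ≠ 1).card := by
      refine Finset.card_equiv (Equiv.mulRight b) fun x => ?_
      simp only [Finset.mem_filter, Finset.mem_univ, true_and, Equiv.coe_mulRight, not_not]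
      exact hsplit x
    rw [two_mul]
    conv_lhs => arg 2; rw [hb']
    rw [Finset.card_filter_add_card_filter_not]
    simp [Nat.card_eq_fintype_card]
  have hdouble : ∑ x : E, (Finset.univ.filter fun a : A => ⁅x, (a : E)⁆ ≠ 1).card =
      ∑ a : A, (Finset.univ.filter fun x : E => ⁅x, (a : E)⁆ ≠ 1).card := by
    simp only [Finset.card_filter]
    exact Finset.sum_comm
  -- the centre lies in `A`
  set C := Subgroup.centralizer (A : Set E) with hCdef
  have hmemC : ∀ x : E, x ∈ C ↔ ∀ a : A, ⁅x, (a : E)⁆ = 1 := by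
    intro x
    simp only [hCdef, Subgroup.mem_centralizer_iff, commutatorElement_eq_one_iff_mul_comm]
    exact ⟨fun h a => (h a a.2).symm, fun h a ha => (h ⟨a, ha⟩).symm⟩
  have hpowA : 2 ^ (m + 1) = 2 * 2 ^ m := by ring
  have hpowE : 2 ^ (2 * m + 1) = 2 * (2 ^ m * 2 ^ m) := by ring
  have hAC : A ≤ C := fun a ha => Subgroup.mem_centralizer_iff.2 fun b hb => hcm b hb a ha
  have hL : 2 * ∑ x : E, (Finset.univ.filter fun a : A => ⁅x, (a : E)⁆ ≠ 1).card + Nat.card C * Nat.card A =
      Nat.card E * Nat.card A := by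
    have e1 : ∀ x : E, 2 * (Finset.univ.filter fun a : A => ⁅x, (a : E)⁆ ≠ 1).card +
        (if x ∈ C then Nat.card A else 0) = Nat.card A := by
      intro x
      by_cases hx : x ∈ C
      · rw [if_pos hx, Finset.filter_eq_empty_iff.2 fun a _ => not_not.2 ((hmemC x).1 hx a)]
        simp
      · rw [if_neg hx, add_zero]
        rw [hmemC x] at hx
        push Not at hx
        obtain ⟨a, ha⟩ := hx
        exact hhalf x a a.2 ha
    have e2 := Finset.sum_congr (s₁ := (Finset.univ : Finset E)) rfl fun x _ => e1 x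
    rw [Finset.sum_add_distrib, ← Finset.mul_sum, ← Finset.sum_filter, Finset.sum_const, Finset.sum_const,
      smul_eq_mul, smul_eq_mul, Finset.card_univ, ← Nat.card_eq_fintype_card] at e2
    convert e2 using 3
    rw [Nat.card_eq_fintype_card, Fintype.card_subtype]
  have hR : 2 * ∑ a : A, (Finset.univ.filter fun x : E => ⁅x, (a : E)⁆ ≠ 1).card + Nat.card ↥(Z.subgroupOf A) * Nat.card E =
      Nat.card E * Nat.card A := by
    have e1 : ∀ a : A, 2 * (Finset.univ.filter fun x : E => ⁅x, (a : E)⁆ ≠ 1).card +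
        (if (a : E) ∈ Z then Nat.card E else 0) = Nat.card E := by
      intro a
      by_cases ha : (a : E) ∈ Z
      · rw [if_pos ha, Finset.filter_eq_empty_iff.2 fun x _ => not_not.2
          (commutatorElement_eq_one_iff_mul_comm.2 (Subgroup.mem_center_iff.1 ha x))]
        simp
      · rw [if_neg ha, add_zero]
        exact hhalfE a ha
    have e2 := Finset.sum_congr (s₁ := (Finset.univ : Finset A)) rfl fun x _ => e1 x
    rw [Finset.sum_add_distrib, ← Finset.mul_sum, ← Finset.sum_filter, Finset.sum_const, Finset.sum_const,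
      smul_eq_mul, smul_eq_mul, Finset.card_univ, ← Nat.card_eq_fintype_card (α := A), mul_comm (Nat.card A)] at e2
    convert e2 using 3
    rw [Nat.card_eq_fintype_card, Fintype.card_subtype]
    simp [Subgroup.mem_subgroupOf]
  rw [hdouble] at hL
  have hk : Nat.card ↥(Z.subgroupOf A) ≤ 2 := by
    rw [← hZ]
    refine Nat.card_le_card_of_injective (fun a => (⟨((a : A) : E), a.2⟩ : Z)) fun a b h => ?_
    exact Subtype.ext (Subtype.ext (Subtype.mk.inj h))
  have hACc : Nat.card A ≤ Nat.card C := Nat.le_of_dvd Nat.card_pos (Subgroup.card_dvd_of_le hAC)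
  have hCA : Nat.card C = Nat.card A := by
    refine le_antisymm ?_ hACc
    have h3 : Nat.card C * Nat.card A ≤ Nat.card A * Nat.card A := by
      have h4 : Nat.card C * Nat.card A = Nat.card ↥(Z.subgroupOf A) * Nat.card E := by omega
      calc Nat.card C * Nat.card A = Nat.card ↥(Z.subgroupOf A) * Nat.card E := h4
        _ ≤ 2 * Nat.card E := Nat.mul_le_mul_right _ hk
        _ = _ := by rw [hcard, hAc, hpowA, hpowE]; ring
    exact Nat.le_of_mul_le_mul_right h3 Nat.card_pos
  have hself : C ≤ A := (Subgroup.eq_of_le_of_card_ge hAC hCA.le).ge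
  -- squares
  have hsqZ : ∀ x : E, x * x ∈ Z := fun x => by
    rw [← pow_two]; exact CfsgLib.Solv.sympl_pow_mem hZ hc.le x
  have hord : ∀ x : E, orderOf x = 4 ↔ x * x ≠ 1 := by
    intro x
    constructor
    · intro h h1
      have := orderOf_dvd_of_pow_eq_one (x := x) (n := 2) (by rw [pow_two, h1])
      rw [h] at this
      exact absurd (Nat.le_of_dvd (by norm_num) this) (by norm_num)
    · intro h
      refine orderOf_eq_prime_pow (p := 2) (n := 1) ?_ ?_
      · rwa [pow_one, pow_two]
      · rcases hZel _ (hsqZ x) with h2 | h2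
        · exact absurd h2 h
        · rcases hZel _ (mul_mem hz hz) with h3 | h3
          · rw [show (2 : ℕ) ^ (1 + 1) = 2 + 2 by norm_num, pow_add, pow_two, h2, h3]
          · exact absurd (mul_eq_left.1 h3) hz1
  have hcount : ∀ x : E, 2 * (Finset.univ.filter fun a : A => orderOf (x * (a : E)) = 4).card +
      (if x ∈ A then Nat.card A else 0) = Nat.card A := by
    intro x
    by_cases hx : x ∈ A
    · rw [if_pos hx, Finset.filter_eq_empty_iff.2 fun a _ => by
        rw [hord]; exact not_not.2 (hsq _ (mul_mem hx a.2))]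
      simp
    · rw [if_neg hx, add_zero]
      have hxC : x ∉ C := fun h => hx (hself h)
      rw [hmemC x] at hxC
      push Not at hxC
      obtain ⟨a₀, ha₀⟩ := hxC
      have hh := hhalf x a₀ a₀.2 ha₀
      have e : ∀ a : A, (x * (a : E)) * (x * a) = x * x * ⁅x, (a : E)⁆ := by
        intro a
        have hc1 := hcomZ x⁻¹ (a : E)
        have hc2 : ⁅x⁻¹, (a : E)⁆ = ⁅x, (a : E)⁆ := by
          have e4 : ⁅x⁻¹, (a : E)⁆ = ⁅x, (a : E)⁆⁻¹ := by
            have := Subgroup.mem_center_iff.1 (inv_mem (hcomZ x (a : E))) x⁻¹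
            calc ⁅x⁻¹, (a : E)⁆ = x⁻¹ * ⁅x, (a : E)⁆⁻¹ * x⁻¹⁻¹ := by simp only [commutatorElement_def]; group
              _ = _ := by rw [this, mul_inv_cancel_right]
          rw [e4]
          rcases hZel _ (hcomZ x (a : E)) with h | h
          · rw [h, inv_one]
          · rw [h]
            rcases hZel _ (mul_mem hz hz) with h3 | h3
            · exact inv_eq_of_mul_eq_one_right h3
            · exact absurd (mul_eq_left.1 h3) hz1
        have hainv : (a : E)⁻¹ = a := inv_eq_of_mul_eq_one_right (hsq _ a.2)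
        calc (x * (a : E)) * (x * a) = x * x * (x⁻¹ * a * x * (a : E)⁻¹) := by rw [hainv]; group
          _ = x * x * ⁅x⁻¹, (a : E)⁆ := by simp [commutatorElement_def, mul_assoc]
          _ = _ := by rw [hc2]
      rcases hZel _ (hsqZ x) with hx2 | hx2
      · simp only [hord, e, hx2, one_mul]
        exact hh
      · have e5 : (Finset.univ.filter fun a : A => orderOf (x * (a : E)) = 4) =
            Finset.univ.filter fun a : A => ¬ ⁅x, (a : E)⁆ ≠ 1 := by
          refine Finset.filter_congr fun a _ => ?_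
          rw [hord, e, hx2, not_not]
          rcases hZel _ (hcomZ x (a : E)) with h | h
          · simp [h, hz1]
          · rcases hZel _ (mul_mem hz hz) with h3 | h3
            · simp [h, hz1, h3]
            · exact absurd (mul_eq_left.1 h3) hz1
        rw [e5]
        have := Finset.card_filter_add_card_filter_not (s := (Finset.univ : Finset A))
          (fun a : A => ⁅x, (a : E)⁆ ≠ 1)
        rw [Finset.card_univ, ← Nat.card_eq_fintype_card (α := A)] at this
        omega
  have hsum : ∑ x : E, (Finset.univ.filter fun a : A => orderOf (x * (a : E)) = 4).card =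
      Nat.card A * Nat.card {x : E // orderOf x = 4} := by
    simp only [Finset.card_filter]
    rw [Finset.sum_comm]
    have e : ∀ a : A, (∑ x : E, if orderOf (x * (a : E)) = 4 then 1 else 0) =
        Nat.card {x : E // orderOf x = 4} := by
      intro a
      rw [Nat.card_eq_fintype_card, Fintype.card_subtype, Finset.card_filter]
      exact Equiv.sum_comp (Equiv.mulRight (a : E)) (fun x => if orderOf x = 4 then 1 else 0)
    rw [Finset.sum_congr rfl fun a _ => e a, Finset.sum_const, smul_eq_mul, Finset.card_univ,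
      ← Nat.card_eq_fintype_card]
  have e2 := Finset.sum_congr (s₁ := (Finset.univ : Finset E)) rfl fun x _ => hcount x
  rw [Finset.sum_add_distrib, ← Finset.mul_sum, ← Finset.sum_filter, Finset.sum_const, Finset.sum_const,
    smul_eq_mul, smul_eq_mul, Finset.card_univ, ← Nat.card_eq_fintype_card, hsum] at e2
  have hAf : (Finset.univ.filter fun x : E => x ∈ A).card = Nat.card A := by
    rw [Nat.card_eq_fintype_card, Fintype.card_subtype]
  rw [hAf] at e2
  have e3 : 2 * Nat.card {x : E // orderOf x = 4} + Nat.card A = Nat.card E := by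
    refine Nat.eq_of_mul_eq_mul_left (Nat.card_pos (α := A)) ?_
    calc Nat.card A * (2 * Nat.card {x : E // orderOf x = 4} + Nat.card A)
        = 2 * (Nat.card A * Nat.card {x : E // orderOf x = 4}) + Nat.card A * Nat.card A := by ring
      _ = _ := e2.trans (mul_comm _ _)
  rw [hcard, hAc, hpowA, hpowE] at e3
  have : 2 ^ (2 * m) = 2 ^ m * 2 ^ m := by rw [two_mul, pow_add]
  omega

end CfsgLib.Inv
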