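import Cfsg.Agent.Inv.CharP2
import Cfsg.Agent.Solv.CompBasic
import Cfsg.Agent.Solv.CoprimeAction
import Cfsg.Agent.Solv.Engel

/-!
Action of a `p`-group on a group equal to its generalized Fitting subgroup, with trivial `p`-core.
-/

set_option autoImplicit false
set_option linter.style.haveILetI false

namespace CfsgLib.Inv.FStar

open Cfsg
open scoped commutatorElement Pointwise

variable {G : Type*} [Group G] [Finite G] {p : ℕ} [hp : Fact p.Prime]

theorem genFitting_map_le {H : Type*} [Group H] (e : G ≃* H) :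
    (generalizedFittingSubgroup G).map e.toMonoidHom ≤ generalizedFittingSubgroup H := by
  rw [generalizedFittingSubgroup, Subgroup.map_sup]
  exact sup_le_sup (layer_map_le e) (CfsgLib.Solv.map_fittingSubgroup_le e.surjective)

theorem genFitting_top_congr {H : Type*} [Group H] (e : G ≃* H) (h : generalizedFittingSubgroup G = ⊤) :
    generalizedFittingSubgroup H = ⊤ := by
  rw [eq_top_iff]
  intro y _
  obtain ⟨x, rfl⟩ := e.surjective y
  exact genFitting_map_le e ⟨x, h.ge (Subgroup.mem_top x), rfl⟩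

/-- A subnormal subgroup inside `F*(G)` is its own generalized Fitting subgroup. -/
theorem genFitting_eq_top {L : Subgroup G} (hL : L.IsSubnormal) (hle : L ≤ generalizedFittingSubgroup G) :
    generalizedFittingSubgroup ↥L = ⊤ := by
  rw [eq_top_iff]
  intro x _
  obtain ⟨y, hy, hyx⟩ := (CfsgLib.Solv.genFitting_inf_subnormal hL).le
    (Subgroup.mem_inf.2 ⟨hle x.2, x.2⟩)
  obtain rfl : y = x := Subtype.ext hyx
  exact hy

theorem pCore_eq_bot {L : Subgroup G} (hL : L.IsSubnormal) (hO : pCore p G = ⊥) : pCore p ↥L = ⊥ := by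
  have hsn : ((pCore p ↥L).map L.subtype).IsSubnormal :=
    Subgroup.IsSubnormal.trans (Subgroup.map_subtype_le _)
      (by rw [Subgroup.subgroupOf, Subgroup.comap_map_eq_self_of_injective L.subtype_injective]
          exact (CfsgLib.Solv.pCore_normal ↥L p).isSubnormal) hL
  have h := subnormal_pgroup_le_pCore hsn ((CfsgLib.Solv.pCore_isPGroup ↥L p).map L.subtype)
  rw [hO, le_bot_iff] at h
  exact (Subgroup.map_eq_bot_iff_of_injective _ L.subtype_injective).1 h

theorem fitting_coprime (hO : pCore p G = ⊥) : (Nat.card ↥(fittingSubgroup G)).Coprime p := by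
  refine ((hp.out.coprime_iff_not_dvd).2 fun hdvd => ?_).symm
  obtain ⟨g, hg⟩ := exists_prime_orderOf_dvd_card' p hdvd
  have hsn := CfsgLib.Solv.isSubnormal_of_mem_fitting g.2
  have h := subnormal_pgroup_le_pCore hsn (IsPGroup.of_card (p := p) (n := 1)
    (by rw [Nat.card_zpowers, Subgroup.orderOf_coe, hg, pow_one]))
  rw [hO, le_bot_iff, Subgroup.zpowers_eq_bot] at h
  rw [← Subgroup.orderOf_coe, h, orderOf_one] at hg
  exact hp.out.one_lt.ne hg

theorem le_normalizer_map_char {L Y : Subgroup G} (hY : Y ≤ Subgroup.normalizer (L : Set G)) (C : Subgroup ↥L)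
    [hC : C.Characteristic] : Y ≤ Subgroup.normalizer ((C.map L.subtype : Subgroup G) : Set G) := fun y hy =>
  Subgroup.mem_normalizer_fintype fun z hz => by
    obtain ⟨c, hc, rfl⟩ := hz
    refine ⟨L.normalizerMonoidHom ⟨y, hY hy⟩ c,
      (Subgroup.characteristic_iff_map_eq.1 hC (L.normalizerMonoidHom ⟨y, hY hy⟩)).le ⟨c, hc, rfl⟩, rfl⟩

/-- `L = [L, Y] C_L(Y)` for a `p`-group acting on `L = F*(L)` with trivial `p`-core. -/
theorem split {L Y : Subgroup G} (hF : generalizedFittingSubgroup ↥L = ⊤) (hO : pCore p ↥L = ⊥)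
    (hY : IsPGroup p Y) (hYL : Y ≤ Subgroup.normalizer (L : Set G)) :
    ∀ x ∈ L, ∃ m ∈ ⁅L, Y⁆, ∃ c ∈ L ⊓ Subgroup.centralizer (Y : Set G), x = m * c := by
  have hM : ⁅L, Y⁆ ≤ L := CfsgLib.Solv.commutator_le_of_le_normalizer hYL
  haveI hMn : ((⁅L, Y⁆).subgroupOf L).Normal :=
    (Subgroup.normal_subgroupOf_iff_le_normalizer hM).2 (CfsgLib.Solv.left_le_normalizer_commutator L Y)
  set S : Subgroup G := ⁅L, Y⁆ ⊔ (L ⊓ Subgroup.centralizer (Y : Set G)) with hS
  have hLS : L ≤ S := by
    intro x hx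
    have hx' : (⟨x, hx⟩ : ↥L) ∈ generalizedFittingSubgroup ↥L := hF.ge (Subgroup.mem_top _)
    suffices h : generalizedFittingSubgroup ↥L ≤ S.subgroupOf L from h hx'
    refine sup_le (sSup_le fun K hK => ?_) ?_
    · rcases component_le_or_commute hK ((⁅L, Y⁆).subgroupOf L) with h | h
      · exact h.trans (fun z hz => (le_sup_left : ⁅L, Y⁆ ≤ S) hz)
      · have h1 : ⁅K.map L.subtype, ⁅L, Y⁆⁆ = ⊥ := by
          have h0 := map_commutator_eq_bot.2 h
          rwa [Subgroup.subgroupOf_map_subtype, inf_eq_left.2 hM] at h0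
        set K' := K.map L.subtype with hK'
        have hKL : K' ≤ L := Subgroup.map_subtype_le _
        have h3 : ⁅⁅K', Y⁆, K'⁆ = ⊥ := by
          rw [Subgroup.commutator_comm, ← le_bot_iff, ← h1]
          exact Subgroup.commutator_mono le_rfl (Subgroup.commutator_mono hKL le_rfl)
        have h4 : ⁅⁅Y, K'⁆, K'⁆ = ⊥ := by rwa [Subgroup.commutator_comm Y K']
        have h5 : ⁅⁅K', K'⁆, Y⁆ = ⊥ := Subgroup.commutator_commutator_eq_bot_of_rotate h3 h4
        have h6 : ⁅K', K'⁆ = K' := by rw [hK', ← Subgroup.map_commutator, component_commutator hK]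
        rw [h6] at h5
        intro z hz
        have hz' : (z : G) ∈ K' := ⟨z, hz, rfl⟩
        exact (le_sup_right : L ⊓ Subgroup.centralizer (Y : Set G) ≤ S)
          ⟨z.2, Subgroup.commutator_eq_bot_iff_le_centralizer.1 h5 hz'⟩
    · haveI := fitting_characteristic (G := ↥L)
      haveI := fitting_nilpotent (G := ↥L)
      intro z hz
      have hFY := le_normalizer_map_char hYL (fittingSubgroup ↥L)
      have hcop : (Nat.card Y).Coprime (Nat.card ↥((fittingSubgroup ↥L).map L.subtype)) := by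
        obtain ⟨n, hn⟩ := hY.exists_card_eq
        rw [hn, CfsgLib.Solv.card_map_subtype]
        exact (fitting_coprime hO).symm.pow_left n
      haveI : Group.IsNilpotent Y := hY.isNilpotent
      obtain ⟨m, hm, c, hc, e⟩ := CfsgLib.Solv.commutator_sup_inf_centralizer hFY hcop (Or.inl inferInstance) (z : G) ⟨z, hz, rfl⟩
      show (z : G) ∈ S
      rw [e]
      exact mul_mem ((le_sup_left : ⁅L, Y⁆ ≤ S) (Subgroup.commutator_mono (Subgroup.map_subtype_le _) le_rfl hm))
        ((le_sup_right : L ⊓ Subgroup.centralizer (Y : Set G) ≤ S) ⟨Subgroup.map_subtype_le _ (Subgroup.mem_inf.1 hc).1, (Subgroup.mem_inf.1 hc).2⟩)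
  intro x hx
  have hn : L ⊓ Subgroup.centralizer (Y : Set G) ≤ Subgroup.normalizer ((⁅L, Y⁆ : Subgroup G) : Set G) :=
    inf_le_left.trans (CfsgLib.Solv.left_le_normalizer_commutator L Y)
  have h : x ∈ ((⁅L, Y⁆ : Subgroup G) : Set G) * ((L ⊓ Subgroup.centralizer (Y : Set G) : Subgroup G) : Set G) := by
    rw [← Subgroup.coe_mul_of_right_le_normalizer_left _ _ hn]
    exact hLS hx
  obtain ⟨m, hm, c, hc, e⟩ := h
  exact ⟨m, hm, c, hc, e.symm⟩

/-- `[L, Y] = [L, Y, Y]`. -/
theorem commutator_twice {L Y : Subgroup G} (hF : generalizedFittingSubgroup ↥L = ⊤) (hO : pCore p ↥L = ⊥)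
    (hY : IsPGroup p Y) (hYL : Y ≤ Subgroup.normalizer (L : Set G)) : ⁅⁅L, Y⁆, Y⁆ = ⁅L, Y⁆ := by
  refine le_antisymm (Subgroup.commutator_mono (CfsgLib.Solv.commutator_le_of_le_normalizer hYL) le_rfl) ?_
  rw [Subgroup.commutator_le]
  intro x hx y hy
  obtain ⟨m, hm, c, hc, rfl⟩ := split hF hO hY hYL x hx
  have hcy : c * y = y * c := (Subgroup.mem_centralizer_iff.1 (Subgroup.mem_inf.1 hc).2 y hy).symm
  have e : ⁅m * c, y⁆ = ⁅m, y⁆ := by
    simp only [commutatorElement_def, mul_inv_rev]
    rw [show m * c * y * (c⁻¹ * m⁻¹) * y⁻¹ = m * (c * y) * c⁻¹ * m⁻¹ * y⁻¹ by group, hcy]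
    group
  rw [e]
  exact Subgroup.commutator_mem_commutator hm hy

/-- A `p`-subgroup centralizing `F*(G)` is trivial when `O_p(G) = 1`. -/
theorem pgroup_centralizing_genFitting (hO : pCore p G = ⊥) {B : Subgroup G} (hB : IsPGroup p B)
    (hc : B ≤ Subgroup.centralizer (generalizedFittingSubgroup G : Set G)) : B = ⊥ := by
  haveI := genFitting_normal (G := G)
  set F := generalizedFittingSubgroup G with hF
  haveI hFn : F.Normal := genFitting_normal
  set C := Subgroup.centralizer (F : Set G) with hC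
  have hBF : B ≤ F := hc.trans centralizer_genFitting_le
  have hsn : B.IsSubnormal := by
    refine Subgroup.IsSubnormal.trans hc ?_ (show C.Normal from inferInstance).isSubnormal
    haveI : (B.subgroupOf C).Normal := by
      refine (Subgroup.normal_subgroupOf_iff_le_normalizer hc).2 fun c hc' => ?_
      exact Subgroup.mem_normalizer_fintype fun b hb => by
        rw [← Subgroup.mem_centralizer_iff.1 hc' b (hBF hb), mul_inv_cancel_right]
        exact hb
    exact Subgroup.Normal.isSubnormal inferInstance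
  exact le_bot_iff.1 (hO ▸ subnormal_pgroup_le_pCore hsn hB)

/-- The subgroup `[F*(G), Y]` stays inside every subnormal subgroup containing `Y`. -/
theorem commutator_le_subnormal (hO : pCore p G = ⊥) {Y K : Subgroup G} (hY : IsPGroup p Y) (hK : K.IsSubnormal)
    (hYK : Y ≤ K) : ⁅generalizedFittingSubgroup G, Y⁆ ≤ K := by
  haveI := genFitting_normal (G := G)
  set F := generalizedFittingSubgroup G with hF
  have htop : generalizedFittingSubgroup ↥F = ⊤ :=
    genFitting_eq_top (genFitting_normal (G := G)).isSubnormal le_rfl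
  have h2 := commutator_twice htop (pCore_eq_bot (genFitting_normal (G := G)).isSubnormal hO) hY
    (by rw [hF, Subgroup.normalizer_eq_top]; exact le_top)
  induction hK with
  | top => exact le_top
  | step A B hAB _ hn ih =>
    have h3 := ih (hYK.trans hAB)
    rw [← h2]
    refine Subgroup.commutator_le.2 fun m hm y hy => ?_
    have hmB : m ∈ Subgroup.normalizer (A : Set G) := (Subgroup.normal_subgroupOf_iff_le_normalizer hAB).1 hn (h3 hm)
    rw [commutatorElement_def]
    exact mul_mem ((Subgroup.mem_normalizer_iff.1 hmB y).1 (hYK hy)) (inv_mem (hYK hy))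

end CfsgLib.Inv.FStar
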