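import Cfsg.Agent.Fus.Alperin
import Mathlib.GroupTheory.Sylow
import Cfsg.Agent.Fus.Generation
import Cfsg.Agent.Fus.Group

/-!
A function on a Sylow `p`-subgroup preserved by `p'`-elements normalizing centric subgroups is
preserved by all fusion.
-/

set_option autoImplicit false
set_option linter.style.haveILetI false

namespace CfsgLib.Inv

open Cfsg Cfsg.FusionSystem CfsgLib.Fus

variable {G : Type*} [Group G] [Finite G]

/-- A finite group is generated by its `p'`-elements and a Sylow `p`-subgroup. -/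
theorem closure_coprime_sup_sylow {p : ℕ} [hp : Fact p.Prime] {H : Type*} [Group H] [Finite H] (T : Sylow p H) :
    Subgroup.closure {g : H | (orderOf g).Coprime p ∨ g ∈ (T : Subgroup H)} = ⊤ := by
  set M := Subgroup.closure {g : H | (orderOf g).Coprime p ∨ g ∈ (T : Subgroup H)} with hM
  rw [← Subgroup.index_eq_one]
  by_contra hne
  obtain ⟨q, hq, hqd⟩ := Nat.exists_prime_and_dvd hne
  have hTM : (T : Subgroup H) ≤ M := fun t ht => Subgroup.subset_closure (Or.inr ht)
  have hqp : q ≠ p := fun h => T.not_dvd_index ((h ▸ hqd).trans (Subgroup.index_dvd_of_le hTM))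
  haveI : Fact q.Prime := ⟨hq⟩
  let R : Sylow q H := default
  have hRM : (R : Subgroup H) ≤ M := by
    intro r hr
    obtain ⟨k, hk⟩ := IsPGroup.iff_orderOf.1 R.2 ⟨r, hr⟩
    rw [Subgroup.orderOf_mk] at hk
    exact Subgroup.subset_closure (Or.inl (by rw [hk]; exact ((Nat.coprime_primes hq hp.out).2 hqp).pow_left k))
  exact R.not_dvd_index (hqd.trans (Subgroup.index_dvd_of_le hRM))

/-- Invariance under the odd order elements normalizing centric subgroups gives invariance under fusion. -/
theorem fusion_invariant_p {p : ℕ} [hp : Fact p.Prime] (S : Sylow p G) {α : Type*} (χ : G → α)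
    (hin : ∀ s ∈ (S : Subgroup G), ∀ x ∈ (S : Subgroup G), χ (s * x * s⁻¹) = χ x)
    (hP : ∀ P : Subgroup G, P ≤ (S : Subgroup G) →
      (∀ c ∈ (S : Subgroup G), c ∈ Subgroup.centralizer (P : Set G) → c ∈ P) →
      ∀ g ∈ Subgroup.normalizer (P : Set G), (orderOf g).Coprime p → g ∉ Subgroup.centralizer (P : Set G) →
        ∀ x ∈ P, χ (g * x * g⁻¹) = χ x)
    {x g : G} (hx : x ∈ (S : Subgroup G)) (hg : g * x * g⁻¹ ∈ (S : Subgroup G)) :
    χ (g * x * g⁻¹) = χ x := by
  set F := groupFusionSystem (S : Subgroup G) with hF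
  let E := subSystem F (fun P f => ∀ x ∈ P, χ (f x) = χ x)
    (fun P f f' h hf x hx => by rw [← h x hx]; exact hf x hx)
    (fun P a hPS ha x hx => hin a ha x (hPS hx))
    (fun P R f f' hfm hfm' hf hf' hmem x hx => (hf' (f x) (hmem x hx)).trans (hf x hx))
    (fun P f f' hfm hf hfm' hinv y hy => by
      obtain ⟨x, hx, rfl⟩ := hfm.mem_img.1 hy
      rw [hinv x hx]; exact (hf x hx).symm)
  have hsat : F.IsSaturated p := group_saturated S
  have key : ∀ P : Subgroup G, P ≤ (S : Subgroup G) → F.IsFullyNormalized P →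
      (∀ c ∈ (S : Subgroup G), c ∈ Subgroup.centralizer (P : Set G) → c ∈ P) →
      F.autGroup P ≤ E.autGroup P := by
    intro P hPS hfn hcen β hβ
    refine (mem_autGroup hPS).2 (isMap_subSystem.2 ⟨(mem_autGroup hPS).1 hβ, fun x hx => ?_⟩)
    obtain ⟨-, g, hg⟩ := isMap_group_iff.1 ((mem_autGroup hPS).1 hβ)
    have hgN : g ∈ Subgroup.normalizer (P : Set G) := mem_normalizer_of_aut fun y hy => (hg y hy).1
    rw [(hg x hx).1]
    set N := Subgroup.normalizer (P : Set G) with hN
    obtain ⟨T, hT⟩ : ∃ T : Sylow p N, (T : Subgroup N) = (normalizerIn (S : Subgroup G) P).subgroupOf N :=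
      (group_fullyNormalized_iff S hPS).1 hfn
    have conjP : ∀ n : N, ∀ y ∈ P, (n : G) * y * (n : G)⁻¹ ∈ P := fun n y hy =>
      (Subgroup.mem_normalizer_iff.1 n.2 y).1 hy
    let M : Subgroup N :=
      { carrier := {n | ∀ y ∈ P, χ ((n : G) * y * (n : G)⁻¹) = χ y}
        one_mem' := fun y _ => by simp
        mul_mem' := fun {a b} ha hb y hy => by
          rw [Subgroup.coe_mul, show (a : G) * b * y * ((a : G) * b)⁻¹ = a * (b * y * (b : G)⁻¹) * (a : G)⁻¹ by group]
          exact (ha _ (conjP b y hy)).trans (hb y hy)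
        inv_mem' := fun {a} ha y hy => by
          have h := ha _ (conjP a⁻¹ y hy)
          rw [Subgroup.coe_inv, inv_inv, show (a : G) * ((a : G)⁻¹ * y * a) * (a : G)⁻¹ = y by group] at h
          rw [Subgroup.coe_inv, inv_inv]
          exact h.symm }
    have htop : M = ⊤ := by
      rw [eq_top_iff, ← closure_coprime_sup_sylow T, Subgroup.closure_le]
      rintro n (hn | hn) y hy
      · by_cases hc : (n : G) ∈ Subgroup.centralizer (P : Set G)
        · rw [← Subgroup.mem_centralizer_iff.1 hc y hy, mul_inv_cancel_right]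
        · exact hP P hPS hcen n n.2 (by rwa [Subgroup.orderOf_coe]) hc y hy
      · have hn : n ∈ (T : Subgroup N) := hn
        rw [hT, Subgroup.mem_subgroupOf] at hn
        exact hin _ hn.1 y (hPS hy)
    exact (htop.ge (Subgroup.mem_top ⟨g, hgN⟩)) x hx
  have hle : F ≤ E := alperin S.isPGroup' hsat E fun P hP' => by
    rcases hP' with rfl | hess
    · exact key _ le_rfl fullyNormalized_top fun c hc _ => hc
    · exact key P hess.2.1.1 hess.2.1 fun c hc hcc =>
        hess.1.2 P (isConj_refl hess.2.1.1) ⟨hc, hcc⟩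
  have hmap : IsMap F (Subgroup.zpowers x) (fun y => g * y * g⁻¹) := by
    refine isMap_group_iff.2 ⟨Subgroup.zpowers_le.2 hx, g, fun y hy => ⟨rfl, ?_⟩⟩
    obtain ⟨i, rfl⟩ := Subgroup.mem_zpowers_iff.1 hy
    rw [← conj_zpow]
    exact zpow_mem hg i
  exact (isMap_subSystem.1 (le_iff.1 hle _ _ hmap)).2 x (Subgroup.mem_zpowers x)

end CfsgLib.Inv
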