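import Cfsg.Agent.Inv.AutPrime
import Cfsg.Agent.Inv.FusionInvariantP
import Cfsg.Agent.Solv.PComplement
import Cfsg.Agent.Solv.Tate
import Cfsg.Agent.Fus.Yoshida
import Cfsg.Agent.Fus.Saturation
import Cfsg.Agent.S0071
import Mathlib.GroupTheory.Focal

/-!
If all subgroups of one fixed order in a Sylow `p`-subgroup (`p` smallest) satisfy `E^g ⊓ N(E) ≤ E`, the group
is `p`-nilpotent.
-/

set_option autoImplicit false
set_option linter.style.haveILetI false

namespace CfsgLib.Inv.FixedOrder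

open scoped commutatorElement Pointwise

variable {G : Type*} [Group G] [Finite G] {p : ℕ} [hp : Fact p.Prime]

/-- Conjugation into the subgroup stays in it. -/
def SC (P E : Subgroup G) : Prop := ∀ a ∈ E, ∀ g : G, g * a * g⁻¹ ∈ P → g * a * g⁻¹ ∈ E

theorem sc_of_condition {P E : Subgroup G} (hP : IsPGroup p P) (hEP : E ≤ P)
    (h : ∀ g : G, E.map (MulAut.conj g).toMonoidHom ⊓ Subgroup.normalizer (E : Set G) ≤ E) :
    P ≤ Subgroup.normalizer (E : Set G) ∧ SC P E := by
  have hN : P ≤ Subgroup.normalizer (E : Set G) := by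
    by_contra hne
    set N₁ := Cfsg.FusionSystem.normalizerIn P E with hN₁
    have hlt : N₁ < P := lt_of_le_of_ne inf_le_left fun he => hne (he.ge.trans inf_le_right)
    obtain ⟨g, hg, hg1⟩ := SetLike.exists_of_lt (CfsgLib.Fus.lt_normalizerIn (S := P) hP hlt)
    apply hg1
    refine ⟨hg.1, Subgroup.mem_normalizer_fintype ?_⟩
    rintro e he
    refine h g ⟨Subgroup.mem_map_of_mem _ he, ?_⟩
    exact ((Subgroup.mem_normalizer_iff.1 hg.2 e).1 ⟨hEP he, Subgroup.le_normalizer he⟩).2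
  exact ⟨hN, fun a ha g hga => h g ⟨Subgroup.mem_map_of_mem _ ha, hN hga⟩⟩

variable (hmin : ∀ q : ℕ, q.Prime → q ∣ Nat.card G → p ≤ q)

include hmin in
theorem primes_above {g : G} (hg : (orderOf g).Coprime p) {U : Subgroup G}
    (hgN : g ∈ Subgroup.normalizer (U : Set G)) :
    (orderOf (U.normalizerMonoidHom ⟨g, hgN⟩)).Coprime p ∧
      ∀ q : ℕ, q.Prime → q ∣ orderOf (U.normalizerMonoidHom ⟨g, hgN⟩) → p < q := by
  have hd : orderOf (U.normalizerMonoidHom ⟨g, hgN⟩) ∣ orderOf g := by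
    have := orderOf_map_dvd U.normalizerMonoidHom ⟨g, hgN⟩
    rwa [Subgroup.orderOf_mk] at this
  refine ⟨hg.coprime_dvd_left hd, fun q hq hqd => lt_of_le_of_ne (hmin q hq ((hqd.trans hd).trans (orderOf_dvd_natCard g))) ?_⟩
  rintro rfl
  exact hq.coprime_iff_not_dvd.1 hg.symm (hqd.trans hd)

omit [Finite G] hp in
theorem normalizerHom_coe {U : Subgroup G} {g : G} (hgN : g ∈ Subgroup.normalizer (U : Set G)) (u : U) :
    ((U.normalizerMonoidHom ⟨g, hgN⟩ u : U) : G) = g * u * g⁻¹ := rfl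

include hmin in
/-- `p'`-elements normalizing a cyclic `p`-subgroup centralize it. -/
theorem cyclic_fixed {g : G} (hg : (orderOf g).Coprime p) {U : Subgroup G} (hU : IsPGroup p U)
    (hc : IsCyclic U) (hgN : ∀ u ∈ U, g * u * g⁻¹ ∈ U) : ∀ u ∈ U, g * u * g⁻¹ = u := by
  have hN : g ∈ Subgroup.normalizer (U : Set G) := Subgroup.mem_normalizer_fintype hgN
  obtain ⟨-, h2⟩ := primes_above hmin hg hN
  intro u hu
  have := congrArg (fun α : MulAut U => ((α ⟨u, hu⟩ : U) : G)) (AutPrime.cyclic_eq_one hU hc _ h2)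
  simpa [normalizerHom_coe] using this

/-- A subgroup whose elements of the cyclic part are fixed and which is generated by one more element. -/
theorem fixed_of_cyclic_quotient {g : G} (hg : (orderOf g).Coprime p) {U : Subgroup G} (hU : IsPGroup p U)
    {b c : G} (hb : b ∈ U) (hc : c ∈ U) (hbc : g * b * g⁻¹ = c * b) (hgc : g * c * g⁻¹ = c) : c = 1 := by
  have key : ∀ n : ℕ, g ^ n * b * (g ^ n)⁻¹ = c ^ n * b := by
    intro n
    induction n with
    | zero => simp
    | succ n ih =>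
      have hcn : g * c ^ n * g⁻¹ = c ^ n := by rw [← conj_pow, hgc]
      calc g ^ (n + 1) * b * (g ^ (n + 1))⁻¹ = g * (g ^ n * b * (g ^ n)⁻¹) * g⁻¹ := by rw [pow_succ']; group
        _ = (g * c ^ n * g⁻¹) * (g * b * g⁻¹) := by rw [ih]; group
        _ = c ^ (n + 1) * b := by rw [hcn, hbc, pow_succ, mul_assoc]
  have h := key (orderOf g)
  rw [pow_orderOf_eq_one, inv_one, mul_one, one_mul] at h
  obtain ⟨k, hk⟩ := IsPGroup.iff_orderOf.1 hU ⟨c, hc⟩
  rw [Subgroup.orderOf_mk] at hk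
  have h1 : orderOf c ∣ orderOf g := orderOf_dvd_of_pow_eq_one (mul_eq_right.1 h.symm)
  rw [hk] at h1
  rw [← orderOf_eq_one_iff, hk]
  exact Nat.dvd_one.1 ((hg.pow_right k).gcd_eq_one ▸ Nat.dvd_gcd h1 dvd_rfl)

omit [Finite G] in
/-- Triviality on an invariant cyclic quotient. -/
theorem quot_cyclic {U : Type*} [Group U] [Finite U] (hU : IsPGroup p U) (K : Subgroup U) [K.Normal]
    (α : MulAut U) (hK : ∀ x ∈ K, α x ∈ K) (hc : IsCyclic (U ⧸ K))
    (hα : ∀ q : ℕ, q.Prime → q ∣ orderOf α → p < q) (x : U) : α x * x⁻¹ ∈ K := by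
  have hmap : K.map α.toMonoidHom = K := by
    refine Subgroup.eq_of_le_of_card_ge (by rintro _ ⟨y, hy, rfl⟩; exact hK y hy) ?_
    rw [Subgroup.card_map_of_injective α.injective]
  let β : MulAut (U ⧸ K) := QuotientGroup.congr K K α hmap
  have hβ : ∀ y : U, β (QuotientGroup.mk y) = QuotientGroup.mk (α y) := fun y => rfl
  have hβn : ∀ (n : ℕ) (y : U), (β ^ n) (QuotientGroup.mk y) = QuotientGroup.mk ((α ^ n) y) := by
    intro n
    induction n with
    | zero => simp
    | succ n ih => intro y; rw [pow_succ, pow_succ, MulAut.mul_apply, MulAut.mul_apply, hβ, ih]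
  have hd : orderOf β ∣ orderOf α := orderOf_dvd_of_pow_eq_one (by
    ext q
    obtain ⟨y, rfl⟩ := QuotientGroup.mk_surjective q
    rw [hβn, pow_orderOf_eq_one, MulAut.one_apply, MulAut.one_apply])
  have h1 := AutPrime.cyclic_eq_one (hU.to_quotient K) hc β fun q hq hqd => hα q hq (hqd.trans hd)
  rw [← QuotientGroup.eq_one_iff, QuotientGroup.mk_mul, QuotientGroup.mk_inv, ← hβ, h1, MulAut.one_apply,
    mul_inv_cancel]

variable (P : Sylow p G) (d : ℕ)
  (hmem : ∀ E : Subgroup G, E ≤ (P : Subgroup G) → (Nat.card E = d ∨ (d = 2 ∧ Nat.card E = 4)) →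
    (P : Subgroup G) ≤ Subgroup.normalizer (E : Set G) ∧ SC (P : Subgroup G) E)
  (hd1 : 1 < d) (hdP : d ∣ Nat.card (P : Subgroup G))

include hmem hdP in
theorem exists_big_member {e b : G} (he : e ∈ (P : Subgroup G)) (heo : orderOf e = d) (hb : b ∈ (P : Subgroup G))
    (hbo : orderOf b ≤ d) : ∃ L T : Subgroup G, L ≤ Subgroup.zpowers e ∧ Nat.card T = d ∧ T ≤ (P : Subgroup G) ∧
      b ∈ T ∧ ∀ t ∈ T, ∃ l ∈ L, ∃ i : ℤ, t = l * b ^ i := by
  classical
  obtain ⟨k, hk, hdk⟩ := (Nat.dvd_prime_pow hp.out).1 ((IsPGroup.iff_card.1 P.2).choose_spec ▸ hdP)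
  set B := Subgroup.zpowers b with hB
  let L : ℕ → Subgroup G := fun j => Subgroup.zpowers (e ^ p ^ j)
  have hLe : ∀ j, L j ≤ Subgroup.zpowers e := fun j => Subgroup.zpowers_le.2 (pow_mem (Subgroup.mem_zpowers e) _)
  have hLn : ∀ j, (P : Subgroup G) ≤ Subgroup.normalizer (L j : Set G) := by
    intro j x hx
    have hE := (hmem (Subgroup.zpowers e) (Subgroup.zpowers_le.2 he) (Or.inl (by rw [Nat.card_zpowers, heo]))).1 hx
    refine Subgroup.mem_normalizer_fintype fun n hn => ?_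
    obtain ⟨i, rfl⟩ := Subgroup.mem_zpowers_iff.1 hn
    obtain ⟨m, hm⟩ := Subgroup.mem_zpowers_iff.1 ((Subgroup.mem_normalizer_iff.1 hE e).1 (Subgroup.mem_zpowers e))
    refine Subgroup.mem_zpowers_iff.2 ⟨m * i, ?_⟩
    rw [← conj_zpow, ← conj_pow, ← hm, ← zpow_natCast, ← zpow_natCast, ← zpow_mul, ← zpow_mul, ← zpow_mul]
    congr 1
    ring
  let T : ℕ → Subgroup G := fun j => L j ⊔ B
  have hTP : ∀ j, T j ≤ (P : Subgroup G) := fun j =>
    sup_le ((hLe j).trans (Subgroup.zpowers_le.2 he)) (Subgroup.zpowers_le.2 hb)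
  have hTel : ∀ j, ∀ t ∈ T j, ∃ l ∈ L j, ∃ i : ℤ, t = l * b ^ i := by
    intro j t ht
    have hset := Subgroup.coe_mul_of_right_le_normalizer_left (L j) B ((Subgroup.zpowers_le.2 hb).trans (hLn j))
    have ht' : t ∈ ((L j : Set G) * (B : Set G)) := hset.symm ▸ ht
    obtain ⟨l, hl, y, hy, rfl⟩ := ht'
    obtain ⟨i, rfl⟩ := Subgroup.mem_zpowers_iff.1 hy
    exact ⟨l, hl, i, rfl⟩
  have hstep : ∀ j, Nat.card (T j) ≤ p * Nat.card (T (j + 1)) := by
    intro j
    let f : T (j + 1) × Fin p → T j := fun x => ⟨(e ^ p ^ j) ^ (x.2 : ℕ) * x.1, mul_mem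
      (Subgroup.mem_sup_left (pow_mem (Subgroup.mem_zpowers _) _))
      (sup_le_sup_right (Subgroup.zpowers_le.2 (by
        rw [pow_succ, pow_mul]; exact pow_mem (Subgroup.mem_zpowers _) _)) B x.1.2)⟩
    have hf : Function.Surjective f := by
      rintro ⟨t, ht⟩
      obtain ⟨l, hl, i, rfl⟩ := hTel j t ht
      obtain ⟨m, rfl⟩ := Subgroup.mem_zpowers_iff.1 hl
      have hp0 : (p : ℤ) ≠ 0 := Int.natCast_ne_zero.2 hp.out.ne_zero
      obtain ⟨r, hr⟩ := Int.eq_ofNat_of_zero_le (Int.emod_nonneg m hp0)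
      have hrp : r < p := by have := Int.emod_lt_of_pos m (Int.natCast_pos.2 hp.out.pos); omega
      refine ⟨(⟨(e ^ p ^ (j + 1)) ^ (m / (p : ℤ)) * b ^ i, mul_mem (Subgroup.mem_sup_left (zpow_mem (Subgroup.mem_zpowers _) _))
        (Subgroup.mem_sup_right (zpow_mem (Subgroup.mem_zpowers _) _))⟩, ⟨r, hrp⟩), Subtype.ext ?_⟩
      show (e ^ p ^ j) ^ r * ((e ^ p ^ (j + 1)) ^ (m / (p : ℤ)) * b ^ i) = (e ^ p ^ j) ^ m * b ^ i
      rw [← mul_assoc, pow_succ, pow_mul, ← zpow_natCast _ r, ← zpow_natCast (e ^ p ^ j) p, ← zpow_mul, ← zpow_add, ← hr]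
      congr 2
      exact Int.emod_add_mul_ediv m p
    have := Nat.card_le_card_of_surjective f hf
    rwa [Nat.card_prod, Nat.card_fin, mul_comm] at this
  have hex : ∃ j, Nat.card (T j) ≤ d := ⟨k, by
    have : e ^ p ^ k = 1 := by rw [← hdk, ← heo, pow_orderOf_eq_one]
    show Nat.card ↥(Subgroup.zpowers (e ^ p ^ k) ⊔ B) ≤ d
    rw [this, Subgroup.zpowers_one_eq_bot, bot_sup_eq, Nat.card_zpowers]
    exact hbo⟩
  refine ⟨L (Nat.find hex), T (Nat.find hex), hLe _, ?_, hTP _, Subgroup.mem_sup_right (Subgroup.mem_zpowers b), hTel _⟩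
  have hle := Nat.find_spec hex
  refine le_antisymm hle ?_
  rcases Nat.eq_zero_or_pos (Nat.find hex) with h0 | h0
  · rw [h0]
    calc d = Nat.card (Subgroup.zpowers e) := by rw [Nat.card_zpowers, heo]
      _ ≤ _ := Subgroup.card_le_of_le (le_sup_of_le_left (by simp [L]))
  · obtain ⟨j, hj⟩ := Nat.exists_eq_succ_of_ne_zero h0.ne'
    have h1 : ¬ Nat.card (T j) ≤ d := Nat.find_min hex (by omega)
    rw [hj]
    obtain ⟨a, ha⟩ := IsPGroup.iff_card.1 (P.2.to_le (hTP j))
    obtain ⟨c, hc⟩ := IsPGroup.iff_card.1 (P.2.to_le (hTP (j + 1)))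
    have h2 := hstep j
    rw [ha, hc, ← pow_succ'] at h2
    rw [ha, hdk, not_le] at h1
    rw [hc, hdk]
    have e1 := (Nat.pow_lt_pow_iff_right hp.out.one_lt).1 h1
    have e2 := (Nat.pow_le_pow_iff_right hp.out.one_lt).1 h2
    exact Nat.pow_le_pow_right hp.out.pos (by omega)

include hmin hmem hd1 hdP in
/-- With a cyclic member, `p'`-elements normalizing subgroups of `P` centralize them. -/
theorem frob_of_cyclic_member {e : G} (he : e ∈ (P : Subgroup G)) (heo : orderOf e = d)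
    (R : Subgroup G) (hR : R ≤ (P : Subgroup G)) {g : G} (hgN : g ∈ Subgroup.normalizer (R : Set G))
    (hg : (orderOf g).Coprime p) : ∀ r ∈ R, g * r * g⁻¹ = r := by
  induction R using WellFoundedLT.induction with
  | ind U ih =>
  by_contra hne
  push Not at hne
  obtain ⟨r, hr, hr1⟩ := hne
  have hUp : IsPGroup p U := P.2.to_le hR
  have hgU : ∀ u ∈ U, g * u * g⁻¹ ∈ U := fun u hu => (Subgroup.mem_normalizer_iff.1 hgN u).1 hu
  obtain ⟨hcop, -⟩ := primes_above hmin hg hgN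
  set α := U.normalizerMonoidHom ⟨g, hgN⟩ with hα
  have hsmall := AutPrime.exists_small_moved hUp α hcop (fun W hW hWt x hx => ?_) (fun h => hr1 (by
    simpa [hα, normalizerHom_coe] using congrArg (fun β : MulAut U => ((β ⟨r, hr⟩ : U) : G)) h))
  swap
  · have hlt : W.map U.subtype < U := by
      refine lt_of_le_of_ne (Subgroup.map_subtype_le W) fun he => hWt ?_
      refine eq_top_iff.2 fun y _ => ?_
      obtain ⟨z, hz, hzy⟩ := he.ge y.2
      rwa [← Subtype.ext hzy]
    refine Subtype.ext (ih _ hlt (hlt.le.trans hR) ?_ _ (Subgroup.mem_map_of_mem _ hx))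
    refine Subgroup.mem_normalizer_fintype fun n hn => ?_
    obtain ⟨w, hw, rfl⟩ := hn
    exact ⟨α w, hW w hw, normalizerHom_coe hgN w⟩
  obtain ⟨⟨b, hb⟩, hbm, hbp⟩ := hsmall
  have hbm' : g * b * g⁻¹ ≠ b := fun h => hbm (Subtype.ext h)
  have hbp' : b ^ p = 1 ∨ (p = 2 ∧ b ^ 4 = 1) :=
    hbp.imp (fun h => congrArg Subtype.val h) (fun h => ⟨h.1, congrArg Subtype.val h.2⟩)
  have hfix : ∀ E : Subgroup G, E ≤ (P : Subgroup G) → (Nat.card E = d ∨ (d = 2 ∧ Nat.card E = 4)) →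
      ∀ x ∈ U ⊓ E, g * x * g⁻¹ ∈ U ⊓ E := fun E hE hEc x hx =>
    ⟨hgU x hx.1, (hmem E hE hEc).2 x hx.2 g (hR (hgU x hx.1))⟩
  by_cases hbd : orderOf b ≤ d
  · obtain ⟨L, T, hL, hTc, hTP, hbT, hTel⟩ := exists_big_member P d hmem hdP he heo (hR hb) hbd
    by_cases hUT : U ≤ T
    · -- `U = (U ⊓ L) ⟨b⟩`
      have heP : Subgroup.zpowers e ≤ (P : Subgroup G) := Subgroup.zpowers_le.2 he
      have hec : Nat.card (Subgroup.zpowers e) = d := by rw [Nat.card_zpowers, heo]
      have hEcyc := hfix _ heP (Or.inl hec)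
      have hc0 : IsCyclic ↥(U ⊓ Subgroup.zpowers e) := Subgroup.isCyclic_of_le inf_le_right
      have hcf := cyclic_fixed hmin hg (hUp.to_le inf_le_left) hc0 hEcyc
      set K : Subgroup U := (Subgroup.zpowers e).subgroupOf U with hK
      haveI : K.Normal := ⟨fun x hx y =>
        (Subgroup.mem_normalizer_iff.1 ((hmem _ heP (Or.inl hec)).1 (hR y.2)) _).1 hx⟩
      have hcyc : IsCyclic (U ⧸ K) := by
        refine isCyclic_iff_exists_zpowers_eq_top.2 ⟨QuotientGroup.mk ⟨b, hb⟩, eq_top_iff.2 fun q _ => ?_⟩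
        obtain ⟨y, rfl⟩ := QuotientGroup.mk_surjective q
        obtain ⟨l, hl, i, hyi⟩ := hTel _ (hUT y.2)
        refine Subgroup.mem_zpowers_iff.2 ⟨i, ?_⟩
        rw [← QuotientGroup.mk_zpow, QuotientGroup.eq, Subgroup.mem_subgroupOf]
        push_cast
        rw [hyi, ← mul_assoc]
        exact (Subgroup.mem_normalizer_iff'.1 ((hmem _ heP (Or.inl hec)).1 (zpow_mem (hR hb) i)) _).2
          (by simpa [mul_assoc] using hL hl)
      have hc := quot_cyclic hUp K α (fun x hx => (hEcyc x ⟨x.2, hx⟩).2) hcyc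
        (primes_above hmin hg hgN).2 ⟨b, hb⟩
      rw [Subgroup.mem_subgroupOf] at hc
      have hcE : g * b * g⁻¹ * b⁻¹ ∈ Subgroup.zpowers e := hc
      have hcU : g * b * g⁻¹ * b⁻¹ ∈ U := mul_mem (hgU b hb) (inv_mem hb)
      have h1 := fixed_of_cyclic_quotient hg hUp hb hcU (inv_mul_cancel_right _ b).symm (hcf _ ⟨hcU, hcE⟩)
      exact hbm' (mul_inv_eq_one.1 h1)
    · have hlt : U ⊓ T < U := lt_of_le_of_ne inf_le_left fun h => hUT (h.ge.trans inf_le_right)
      exact hbm' (ih _ hlt (hlt.le.trans hR) (Subgroup.mem_normalizer_fintype (hfix T hTP (Or.inl hTc))) b ⟨hb, hbT⟩)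
  · have h4 : d = 2 ∧ orderOf b = 4 := by
      have hpd : p ≤ d := Nat.le_of_dvd (by omega) (by
        obtain ⟨k, hk, hdk⟩ := (Nat.dvd_prime_pow hp.out).1 ((IsPGroup.iff_card.1 P.2).choose_spec ▸ hdP)
        rcases k with _ | k
        · rw [hdk, pow_zero] at hd1; omega
        · rw [hdk]; exact dvd_pow_self p k.succ_ne_zero)
      rcases hbp' with h | ⟨rfl, h⟩
      · exact absurd (Nat.le_of_dvd hp.out.pos (orderOf_dvd_of_pow_eq_one h)) (by omega)
      · have h4 := orderOf_dvd_of_pow_eq_one h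
        have := Nat.le_of_dvd (by norm_num) h4
        obtain ⟨k, hk, hbk⟩ := (Nat.dvd_prime_pow Nat.prime_two).1 (show orderOf b ∣ 2 ^ 2 by simpa using h4)
        rw [hbk] at hbd ⊢
        have hd3 : d ≠ 3 := by
          rintro rfl
          obtain ⟨m, hm⟩ := IsPGroup.iff_card.1 P.2
          rw [hm] at hdP
          exact absurd ((Nat.prime_dvd_prime_iff_eq Nat.prime_three Nat.prime_two).1
            (Nat.prime_three.dvd_of_dvd_pow hdP)) (by norm_num)
        interval_cases k <;> norm_num at hbd ⊢ <;> omega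
    have hB : Subgroup.zpowers b ≤ (P : Subgroup G) := Subgroup.zpowers_le.2 (hR hb)
    have hinv := hfix _ hB (Or.inr ⟨h4.1, by rw [Nat.card_zpowers, h4.2]⟩)
    exact hbm' (cyclic_fixed hmin hg (hUp.to_le inf_le_left) (Subgroup.isCyclic_of_le inf_le_right) hinv b
      ⟨hb, Subgroup.mem_zpowers b⟩)

include hmem hd1 in
/-- Without a cyclic member, all subgroups of order at least `d` are closed. -/
theorem sc_of_large (hsmall : ∀ x ∈ (P : Subgroup G), orderOf x < d) :
    ∀ (n : ℕ) (H : Subgroup G), Nat.card H ≤ n → H ≤ (P : Subgroup G) → d ∣ Nat.card H →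
      SC (P : Subgroup G) H := by
  intro n
  induction n with
  | zero => intro H hn; have : 0 < Nat.card H := Nat.card_pos; omega
  | succ n ih =>
    intro H hn hHP hdH a ha g hga
    by_cases heq : Nat.card H = d
    · exact (hmem H hHP (Or.inl heq)).2 a ha g hga
    have hHp : IsPGroup p H := P.2.to_le hHP
    have hne : Subgroup.zpowers (⟨a, ha⟩ : H) ≠ ⊤ := fun e => by
      have h1 : Nat.card H = orderOf a := by
        rw [← Subgroup.card_top (G := H), ← e, Nat.card_zpowers, Subgroup.orderOf_mk]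
      have h2 := hsmall a (hHP ha)
      have h3 := Nat.le_of_dvd Nat.card_pos hdH
      omega
    obtain ⟨M, hM, haM⟩ := (eq_top_or_exists_le_coatom (Subgroup.zpowers (⟨a, ha⟩ : H))).resolve_left hne
    have hidx := CfsgLib.Fus.index_coatom hHp hM
    have hcM : Nat.card (M.map H.subtype) * p = Nat.card H := by
      rw [Subgroup.card_map_of_injective H.subtype_injective, ← hidx, Subgroup.card_mul_index]
    have hle : M.map H.subtype ≤ H := Subgroup.map_subtype_le M
    have hdM : d ∣ Nat.card (M.map H.subtype) := by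
      obtain ⟨k, hk⟩ := IsPGroup.iff_card.1 hHp
      obtain ⟨i, hi, hdi⟩ := (Nat.dvd_prime_pow hp.out).1 (hk ▸ hdH)
      obtain ⟨j, hj⟩ := IsPGroup.iff_card.1 (hHp.to_subgroup M)
      rw [Subgroup.card_map_of_injective H.subtype_injective, hj] at hcM ⊢
      rw [← pow_succ, hk] at hcM
      have hjk := Nat.pow_right_injective hp.out.two_le hcM
      have hik : i ≠ k := fun e => heq (by rw [hk, hdi, e])
      rw [hdi]
      exact pow_dvd_pow p (by omega)
    have hlt : Nat.card (M.map H.subtype) ≤ n := by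
      have := hp.out.two_le
      have h0 : 0 < Nat.card (M.map H.subtype) := Nat.card_pos
      nlinarith
    exact hle (ih _ hlt (hle.trans hHP) hdM a ⟨⟨a, ha⟩, haM (Subgroup.mem_zpowers _), rfl⟩ g hga)

include hmin hmem hd1 hdP in
theorem focal_le_of_no_cyclic (hdlt : d < Nat.card (P : Subgroup G))
    (hsmall : ∀ x ∈ (P : Subgroup G), orderOf x < d) :
    (P : Subgroup G).focalSubgroup ≤ (frattini (P : Subgroup G)).map (P : Subgroup G).subtype := by
  set F := (frattini (P : Subgroup G)).map (P : Subgroup G).subtype with hF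
  let χ : G → Set G := fun x => x • (F : Set G)
  have hχ : ∀ x y : G, χ x = χ y ↔ x⁻¹ * y ∈ F := fun x y => leftCoset_eq_iff F
  have hin : ∀ s ∈ (P : Subgroup G), ∀ x ∈ (P : Subgroup G), χ (s * x * s⁻¹) = χ x := by
    intro s hs x hx
    rw [hχ]
    refine ⟨⁅(⟨s, hs⟩ : (P : Subgroup G)), (⟨x, hx⟩ : (P : Subgroup G))⁻¹⁆,
      CfsgLib.Solv.commutator_le_frattini P.2 (Subgroup.commutator_mem_commutator (Subgroup.mem_top _) (Subgroup.mem_top _)), ?_⟩
    simp [commutatorElement_def, mul_assoc]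
  have hP : ∀ R : Subgroup G, R ≤ (P : Subgroup G) →
      (∀ c ∈ (P : Subgroup G), c ∈ Subgroup.centralizer (R : Set G) → c ∈ R) →
      ∀ g ∈ Subgroup.normalizer (R : Set G), (orderOf g).Coprime p → g ∉ Subgroup.centralizer (R : Set G) →
        ∀ x ∈ R, χ (g * x * g⁻¹) = χ x := by
    intro R hR _ g hgN hg _ x hx
    have hy : g * x * g⁻¹ ∈ R := (Subgroup.mem_normalizer_iff.1 hgN x).1 hx
    rw [hχ]
    refine ⟨(⟨g * x * g⁻¹, hR hy⟩ : (P : Subgroup G))⁻¹ * ⟨x, hR hx⟩, ?_, rfl⟩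
    simp only [frattini, Order.radical, SetLike.mem_coe, Subgroup.mem_iInf]
    intro M hM
    haveI := CfsgLib.Fus.coatom_normal P.2 hM
    have hidx := CfsgLib.Fus.index_coatom P.2 hM
    set M' := M.map (P : Subgroup G).subtype with hM'
    have hle : M' ≤ (P : Subgroup G) := Subgroup.map_subtype_le M
    have hdM : d ∣ Nat.card M' := by
      obtain ⟨k, hk⟩ := IsPGroup.iff_card.1 P.2
      obtain ⟨i, hi, hdi⟩ := (Nat.dvd_prime_pow hp.out).1 (hk ▸ hdP)
      obtain ⟨j, hj⟩ := IsPGroup.iff_card.1 (P.2.to_subgroup M)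
      rw [hM', Subgroup.card_map_of_injective (P : Subgroup G).subtype_injective, hj]
      have hcM := Subgroup.card_mul_index M
      rw [hj, hidx, ← pow_succ, hk] at hcM
      have hjk := Nat.pow_right_injective hp.out.two_le hcM
      rw [hdi, hk] at hdlt
      have := (Nat.pow_lt_pow_iff_right hp.out.one_lt).1 hdlt
      rw [hdi]
      exact pow_dvd_pow p (by omega)
    have hsc := sc_of_large P d hmem hd1 hsmall _ M' le_rfl hle hdM
    -- the quotient of `R` is cyclic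
    let ι : R →* (P : Subgroup G) := Subgroup.inclusion hR
    set K := M.comap ι with hK
    let f : R ⧸ K →* (P : Subgroup G) ⧸ M := QuotientGroup.map K M ι le_rfl
    have hf : Function.Injective f := by
      refine (injective_iff_map_eq_one f).2 fun q hq => ?_
      obtain ⟨y, rfl⟩ := QuotientGroup.mk_surjective q
      rw [QuotientGroup.map_mk, QuotientGroup.eq_one_iff] at hq
      exact (QuotientGroup.eq_one_iff y).2 hq
    haveI : IsCyclic ((P : Subgroup G) ⧸ M) := isCyclic_of_prime_card (p := p) hidx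
    have hc : IsCyclic (R ⧸ K) := isCyclic_of_injective f hf
    set α := R.normalizerMonoidHom ⟨g, hgN⟩
    have hinv : ∀ z ∈ K, α z ∈ K := by
      intro z hz
      have h1 : (z : G) ∈ M' := ⟨ι z, hz, rfl⟩
      obtain ⟨w, hw, hwe⟩ := hsc _ h1 g (hR ((Subgroup.mem_normalizer_iff.1 hgN _).1 z.2))
      have e : ι (α z) = w := Subtype.ext (by rw [← normalizerHom_coe hgN z] at hwe; exact hwe.symm)
      rw [hK, Subgroup.mem_comap, e]
      exact hw
    have h2 := quot_cyclic (P.2.to_le hR) K α hinv hc (primes_above hmin hg hgN).2 ⟨x, hx⟩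
    have h3 : (⟨g * x * g⁻¹, hR hy⟩ : (P : Subgroup G)) * (⟨x, hR hx⟩ : (P : Subgroup G))⁻¹ ∈ M := h2
    have h4 := inv_mem ((inferInstance : M.Normal).mem_comm h3)
    rw [mul_inv_rev, inv_inv] at h4
    exact h4
  rw [Subgroup.focalSubgroup_def, Subgroup.closure_le]
  rintro _ ⟨hmemP, x, hx, u, rfl⟩
  have hxi : u * x⁻¹ * u⁻¹ ∈ (P : Subgroup G) := by
    have := mul_mem (inv_mem hx) hmemP
    simpa [commutatorElement_def, mul_assoc] using this
  have h := (hχ _ _).1 (CfsgLib.Inv.fusion_invariant_p P χ hin hP (inv_mem hx) hxi).symm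
  rw [inv_inv] at h
  simpa [commutatorElement_def, mul_assoc] using h

include hmin in
theorem hnpc_main (h : IsCyclic (P : Subgroup G) ∨ ∃ D : ℕ, 1 < D ∧ D < Nat.card (P : Subgroup G) ∧
    D ∣ Nat.card (P : Subgroup G) ∧ ∀ E : Subgroup G, E ≤ (P : Subgroup G) →
      (Nat.card E = D ∨ (D = 2 ∧ Nat.card E = 4)) →
        ∀ g : G, E.map (MulAut.conj g).toMonoidHom ⊓ Subgroup.normalizer (E : Set G) ≤ E) :
    Cfsg.HasNormalPComplement p G := by
  have hloc : (∀ R : Subgroup G, R ≤ (P : Subgroup G) → ∀ g ∈ Subgroup.normalizer (R : Set G),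
      Nat.Coprime (orderOf g) p → ∀ r ∈ R, g * r * g⁻¹ = r) → Cfsg.HasNormalPComplement p G := by
    intro hl
    obtain ⟨N, hN⟩ := (Cfsg.Agent.S0071.result P).2 fun R hR g hg hgc =>
      Subgroup.mem_centralizer_iff.2 fun r hr => (mul_inv_eq_iff_eq_mul.1 (hl R hR g hg hgc r hr)).symm
    exact ⟨P, N, hN⟩
  rcases h with hc | ⟨D, hD1, hDlt, hDd, hE⟩
  · exact hloc fun R hR g hg hgc => cyclic_fixed hmin hgc (P.2.to_le hR) (Subgroup.isCyclic_of_le hR)
      fun r hr => (Subgroup.mem_normalizer_iff.1 hg r).1 hr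
  have hmem' : ∀ E : Subgroup G, E ≤ (P : Subgroup G) → (Nat.card E = D ∨ (D = 2 ∧ Nat.card E = 4)) →
      (P : Subgroup G) ≤ Subgroup.normalizer (E : Set G) ∧ SC (P : Subgroup G) E :=
    fun E hEP hEc => sc_of_condition P.2 hEP (hE E hEP hEc)
  by_cases hex : ∃ x ∈ (P : Subgroup G), D ≤ orderOf x
  · obtain ⟨x, hx, hxo⟩ := hex
    obtain ⟨a, ha⟩ := IsPGroup.iff_orderOf.1 P.2 ⟨x, hx⟩
    rw [Subgroup.orderOf_mk] at ha
    obtain ⟨k, hk⟩ := IsPGroup.iff_card.1 P.2
    obtain ⟨i, hi, hdi⟩ := (Nat.dvd_prime_pow hp.out).1 (hk ▸ hDd)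
    have hdx : D ∣ orderOf x := by
      rw [ha, hdi] at hxo ⊢
      exact pow_dvd_pow p ((Nat.pow_le_pow_iff_right hp.out.one_lt).1 hxo)
    obtain ⟨e, he, heo⟩ : ∃ e ∈ (P : Subgroup G), orderOf e = D :=
      ⟨x ^ (orderOf x / D), pow_mem hx _, orderOf_pow_orderOf_div (orderOf_pos x).ne' hdx⟩
    exact hloc fun R hR g hg hgc => frob_of_cyclic_member hmin P D hmem' hD1 hDd he heo R hR hg hgc
  · push Not at hex
    have hfoc := focal_le_of_no_cyclic hmin P D hmem' hD1 hDd hDlt hex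
    set K := (P : Subgroup G).transferFocal.ker
    refine CfsgLib.Solv.tate P K inferInstance ?_ ?_
    · rw [← Subgroup.index_eq_one]
      by_contra hne
      obtain ⟨q, hq, hqd⟩ := Nat.exists_prime_and_dvd hne
      have h1 : q ∣ (P : Subgroup G).index := hqd.trans (Subgroup.index_dvd_of_le le_sup_left)
      have h2 : q ∣ K.index := hqd.trans (Subgroup.index_dvd_of_le le_sup_right)
      obtain ⟨m, hm⟩ : ∃ m, K.index = p ^ m := by
        rw [Subgroup.index, Nat.card_congr (Subgroup.transferFocal.quotientKerMulEquivQuotientFocalSubroupOf P).toEquiv]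
        exact IsPGroup.iff_card.1 (P.2.to_quotient _)
      rw [hm] at h2
      exact P.not_dvd_index ((Nat.prime_dvd_prime_iff_eq hq hp.out).1 (hq.dvd_of_dvd_pow h2) ▸ h1)
    · rw [inf_comm, Subgroup.ker_transferFocal_inf_eq_focalSubgroup]
      exact hfoc

end CfsgLib.Inv.FixedOrder
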