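import Cfsg.Agent.Inv.NormalFixedOrder
import Cfsg.Agent.Inv.FixedOrderClosed
import Cfsg.Agent.Solv.PComplement

/-!
Supersolvability from fixed-order subgroups closed in their normalizers, for the Sylow subgroups of a normal
subgroup with supersolvable quotient.
-/

set_option autoImplicit false
set_option linter.style.haveILetI false
set_option linter.unusedSectionVars false

namespace CfsgLib.Inv.FixedOrderSupersolvable

open CfsgLib.Solv
open CfsgLib.Inv.NormalFixedOrder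

universe u

/-- Every subgroup of order `d` (or `4` if `d = 2`) of the given subgroup is closed in its normalizer. -/
def Closed {G : Type u} [Group G] (P : Subgroup G) (d : ℕ) : Prop :=
  ∀ F : Subgroup G, F ≤ P → (Nat.card F = d ∨ (d = 2 ∧ Nat.card F = 4)) →
    ∀ g : G, F.map (MulAut.conj g).toMonoidHom ⊓ Subgroup.normalizer (F : Set G) ≤ F

/-- The hypothesis on the Sylow subgroups of `E`. -/
def Hyp {G : Type u} [Group G] (E : Subgroup G) : Prop :=
  ∀ (p : ℕ), p.Prime → ∀ P : Subgroup G, P ≤ E → IsPGroup p P → ¬ p ∣ P.relIndex E → ¬ IsCyclic P →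
    ∃ d : ℕ, 1 < d ∧ d < Nat.card P ∧ d ∣ Nat.card P ∧ Closed P d

theorem mem_map_conj {G : Type u} [Group G] {F : Subgroup G} {g x : G} :
    x ∈ F.map (MulAut.conj g).toMonoidHom ↔ ∃ a ∈ F, g * a * g⁻¹ = x := by
  constructor
  · rintro ⟨a, ha, rfl⟩
    exact ⟨a, ha, rfl⟩
  · rintro ⟨a, ha, rfl⟩
    exact ⟨a, ha, rfl⟩

theorem isCyclic_map_subtype {G : Type u} [Group G] {K : Subgroup G} {H : Subgroup K}
    (h : IsCyclic H) : IsCyclic (H.map K.subtype) :=
  (H.equivMapOfInjective K.subtype K.subtype_injective).isCyclic.1 h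

/-- A normal Hall subgroup of `E` has a normal Sylow subgroup for its largest prime. -/
theorem exists_normal_sylow_aux {G : Type u} [Group G] [Finite G] {E : Subgroup G} (h : Hyp E) :
    ∀ (n : ℕ) (K : Subgroup G), Nat.card K = n → K ≤ E → K ≠ ⊥ →
      (∀ r : ℕ, r.Prime → r ∣ Nat.card K → ¬ r ∣ K.relIndex E) →
      ∃ (q : ℕ) (Q : Subgroup G), q.Prime ∧ Q ≤ K ∧ Q ≠ ⊥ ∧ IsPGroup q Q ∧ ¬ q ∣ Q.relIndex K ∧
        K ≤ Subgroup.normalizer (Q : Set G) := by
  intro n
  induction n using Nat.strong_induction_on with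
  | _ n IH =>
    intro K hn hKE hKb hKh
    have hK1 : Nat.card K ≠ 1 := fun e => hKb (Subgroup.card_eq_one.1 e)
    set p := (Nat.card K).minFac with hp
    have hpp : p.Prime := Nat.minFac_prime hK1
    haveI : Fact p.Prime := ⟨hpp⟩
    have hpd : p ∣ Nat.card K := Nat.minFac_dvd _
    obtain ⟨P⟩ : Nonempty (Sylow p K) := inferInstance
    set P' := (P : Subgroup K).map K.subtype with hP'
    have hP'K : P' ≤ K := Subgroup.map_subtype_le _
    have hcp : Nat.card P' = Nat.card (P : Subgroup K) := Subgroup.card_map_of_injective K.subtype_injective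
    have hnd : ¬ p ∣ P'.relIndex E := by
      rw [← Subgroup.relIndex_mul_relIndex P' K E hP'K hKE]
      intro hd
      rcases hpp.dvd_mul.1 hd with h1 | h1
      · rw [Subgroup.relIndex, Subgroup.subgroupOf, hP',
          Subgroup.comap_map_eq_self_of_injective K.subtype_injective] at h1
        exact P.not_dvd_index h1
      · exact hKh p hpp hpd h1
    have hcl : IsCyclic (P : Subgroup K) ∨ ∃ D : ℕ, 1 < D ∧ D < Nat.card (P : Subgroup K) ∧
        D ∣ Nat.card (P : Subgroup K) ∧ ∀ F : Subgroup K, F ≤ (P : Subgroup K) →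
          (Nat.card F = D ∨ (D = 2 ∧ Nat.card F = 4)) →
            ∀ g : K, F.map (MulAut.conj g).toMonoidHom ⊓ Subgroup.normalizer (F : Set K) ≤ F := by
      by_cases hc : IsCyclic (P : Subgroup K)
      · exact Or.inl hc
      right
      obtain ⟨d, h1, h2, h3, h4⟩ := h p hpp P' (hP'K.trans hKE) (P.2.map _) hnd fun hcy =>
        hc (((P : Subgroup K).equivMapOfInjective K.subtype K.subtype_injective).isCyclic.2 hcy)
      refine ⟨d, h1, hcp ▸ h2, hcp ▸ h3, fun F hF hFc g x hx => ?_⟩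
      obtain ⟨hx1, hx2⟩ := Subgroup.mem_inf.1 hx
      obtain ⟨a, ha, rfl⟩ := mem_map_conj.1 hx1
      have h5 := h4 (F.map K.subtype) (Subgroup.map_mono hF)
        (by rwa [Subgroup.card_map_of_injective K.subtype_injective]) (g : G)
        (x := ((g * a * g⁻¹ : K) : G)) ⟨mem_map_conj.2 ⟨_, Subgroup.mem_map_of_mem _ ha, rfl⟩, ?_⟩
      · obtain ⟨y, hy, hye⟩ := h5
        have e : y = g * a * g⁻¹ := Subtype.ext hye
        rwa [← e]
      · refine Subgroup.mem_normalizer_iff.2 fun y => ?_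
        constructor
        · rintro ⟨z, hz, rfl⟩
          exact ⟨_, (Subgroup.mem_normalizer_iff.1 hx2 z).1 hz, rfl⟩
        · rintro ⟨z, hz, hze⟩
          have hyK : y ∈ K := by
            have e : y = ((g * a * g⁻¹ : K) : G)⁻¹ * (z : G) * ((g * a * g⁻¹ : K) : G) := by
              rw [show (z : G) = K.subtype z from rfl, hze]; group
            rw [e]
            exact mul_mem (mul_mem (inv_mem (SetLike.coe_mem _)) z.2) (SetLike.coe_mem _)
          refine ⟨⟨y, hyK⟩, (Subgroup.mem_normalizer_iff.1 hx2 _).2 ?_, rfl⟩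
          rwa [show (g * a * g⁻¹) * ⟨y, hyK⟩ * (g * a * g⁻¹)⁻¹ = z from K.subtype_injective hze.symm]
    have hh := CfsgLib.Inv.FixedOrder.hnpc_main (fun r hr hrd => Nat.minFac_le_of_dvd hr.two_le hrd) P hcl
    obtain ⟨S, N, hNn, hNS⟩ := hh
    by_cases hNb : N = ⊥
    · -- `K` is a `p`-group
      refine ⟨p, K, hpp, le_rfl, hKb, ?_, ?_, Subgroup.le_normalizer⟩
      · have hStop : (S : Subgroup K) = ⊤ := by
          have h1 := hNS.card_mul
          rw [hNb, Subgroup.card_bot, one_mul] at h1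
          exact Subgroup.eq_top_of_card_eq _ h1
        exact IsPGroup.of_equiv S.2 ((MulEquiv.subgroupCongr hStop).trans Subgroup.topEquiv)
      · rw [Subgroup.relIndex_self]
        exact hpp.not_dvd_one
    set N' := N.map K.subtype with hN'
    have hN'K : N' ≤ K := Subgroup.map_subtype_le _
    have hcN : Nat.card N' = Nat.card N := Subgroup.card_map_of_injective K.subtype_injective
    have hNcop : ¬ p ∣ Nat.card N := fun hd => by
      rw [← hNS.index_eq_card] at hd
      exact S.not_dvd_index hd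
    have hlt : Nat.card N' < n := by
      rw [hcN, ← hn]
      refine lt_of_le_of_ne (Subgroup.card_le_card_group N) fun e => hNcop ?_
      rw [e]; exact hpd
    have hrel : N'.relIndex K = Nat.card (S : Subgroup K) := by
      rw [Subgroup.relIndex, Subgroup.subgroupOf, hN',
        Subgroup.comap_map_eq_self_of_injective K.subtype_injective, hNS.symm.index_eq_card]
    obtain ⟨k, hk⟩ := IsPGroup.iff_card.1 S.2
    obtain ⟨q, Q, hq, hQN, hQb, hQp, hQd, hQn⟩ := IH _ hlt N' rfl (hN'K.trans hKE)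
      (fun e => hNb ((Subgroup.map_eq_bot_iff_of_injective _ K.subtype_injective).1 e)) (fun r hr hrd hd => by
        rw [← Subgroup.relIndex_mul_relIndex N' K E hN'K hKE] at hd
        rcases hr.dvd_mul.1 hd with h1 | h1
        · rw [hrel, hk] at h1
          exact hNcop (hcN ▸ (Nat.prime_dvd_prime_iff_eq hr hpp).1 (hr.dvd_of_dvd_pow h1) ▸ hrd)
        · exact hKh r hr (hrd.trans (Subgroup.card_dvd_of_le hN'K)) h1)
    haveI : Fact q.Prime := ⟨hq⟩
    have hqp : q ≠ p := fun e => by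
      obtain ⟨l, hl⟩ := IsPGroup.iff_card.1 hQp
      have hl0 : l ≠ 0 := fun e0 => hQb (Subgroup.eq_bot_of_card_eq _ (by rw [hl, e0, pow_zero]))
      exact hNcop (hcN ▸ e ▸ (hl ▸ dvd_pow_self q hl0).trans (Subgroup.card_dvd_of_le hQN))
    refine ⟨q, Q, hq, hQN.trans hN'K, hQb, hQp, ?_, ?_⟩
    · rw [← Subgroup.relIndex_mul_relIndex Q N' K hQN hN'K, hrel, hk]
      intro hd
      rcases hq.dvd_mul.1 hd with h1 | h1
      · exact hQd h1
      · exact hqp ((Nat.prime_dvd_prime_iff_eq hq hpp).1 (hq.dvd_of_dvd_pow h1))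
    · -- `Q` is the unique Sylow `q`-subgroup of `N'`
      intro c hc
      refine Subgroup.mem_normalizer_fintype fun x hx => ?_
      have hN'c : ∀ y ∈ N', c * y * c⁻¹ ∈ N' := by
        rintro _ ⟨z, hz, rfl⟩
        exact ⟨_, hNn.conj_mem z hz ⟨c, hc⟩, rfl⟩
      have hxN : c * x * c⁻¹ ∈ N' := hN'c x (hQN hx)
      let Qs : Sylow q N' := (hQp.of_equiv (Subgroup.subgroupOfEquivOfLe hQN).symm).toSylow hQd
      haveI : (Qs : Subgroup N').Normal := by
        show (Q.subgroupOf N').Normal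
        exact Subgroup.normal_subgroupOf_iff_le_normalizer hQN |>.2 hQn
      obtain ⟨l, hl⟩ := hQp ⟨x, hx⟩
      have hxp : IsPGroup q (Subgroup.zpowers (⟨c * x * c⁻¹, hxN⟩ : N')) := by
        have hpow : (⟨c * x * c⁻¹, hxN⟩ : N') ^ q ^ l = 1 := Subtype.ext (by
          rw [SubmonoidClass.coe_pow, conj_pow, show x ^ q ^ l = 1 by simpa using congrArg Subtype.val hl]
          simp)
        obtain ⟨i, -, hi⟩ := (Nat.dvd_prime_pow hq).1 (orderOf_dvd_of_pow_eq_one hpow)
        exact IsPGroup.of_card (n := i) (by rw [Nat.card_zpowers, hi])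
      obtain ⟨R, hR⟩ := hxp.exists_le_sylow
      haveI := Sylow.unique_of_normal Qs inferInstance
      have hmem : (⟨c * x * c⁻¹, hxN⟩ : N') ∈ (Qs : Subgroup N') :=
        Subsingleton.elim R Qs ▸ hR (Subgroup.mem_zpowers _)
      exact hmem

/-- Conjugating a `p`-element normalizing `F ⊔ Q` into the normalizer of `F`. -/
theorem exists_conj_mem_normalizer {G : Type u} [Group G] [Finite G] {p : ℕ} [Fact p.Prime]
    {H F : Subgroup G} (hFH : F ≤ H) (hF : IsPGroup p F) (hFd : ¬ p ∣ F.relIndex H) {y : G}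
    (hy : y ∈ Subgroup.normalizer (H : Set G)) (hyp : ∃ k : ℕ, y ^ p ^ k = 1) :
    ∃ c ∈ H, c⁻¹ * y * c ∈ Subgroup.normalizer (F : Set G) := by
  set N := Subgroup.normalizer (H : Set G) with hN
  have hHN : H ≤ N := Subgroup.le_normalizer
  set H' := H.subgroupOf N with hH'
  haveI : H'.Normal := Subgroup.normal_subgroupOf_iff_le_normalizer hHN |>.2 le_rfl
  obtain ⟨k, hk⟩ := hyp
  have hyp' : IsPGroup p (Subgroup.zpowers (⟨y, hy⟩ : N)) := by
    have hpow : (⟨y, hy⟩ : N) ^ p ^ k = 1 := Subtype.ext (by simpa using hk)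
    obtain ⟨i, -, hi⟩ := (Nat.dvd_prime_pow Fact.out).1 (orderOf_dvd_of_pow_eq_one hpow)
    exact IsPGroup.of_card (n := i) (by rw [Nat.card_zpowers, hi])
  obtain ⟨S, hS⟩ := hyp'.exists_le_sylow
  set T := ((S : Subgroup N) ⊓ H').map N.subtype with hT
  have hTH : T ≤ H := by
    rintro _ ⟨z, hz, rfl⟩
    exact hz.2
  have hTp : IsPGroup p T := (S.2.to_le inf_le_left).map _
  have hTd : ¬ p ∣ T.relIndex H := by
    have e : T.relIndex H = ((S : Subgroup N) ⊓ H').relIndex H' := by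
      have h1 := Subgroup.relIndex_map_map_of_injective ((S : Subgroup N) ⊓ H') H' N.subtype_injective
      rw [show H'.map N.subtype = H from Subgroup.map_subgroupOf_eq_of_le hHN] at h1
      rw [hT]
      exact h1
    rw [e, Subgroup.inf_relIndex_right]
    intro hd
    exact S.not_dvd_index (hd.trans (relIndex_normal_dvd_index _ _))
  let FS : Sylow p H := (hF.of_equiv (Subgroup.subgroupOfEquivOfLe hFH).symm).toSylow hFd
  let TS : Sylow p H := (hTp.of_equiv (Subgroup.subgroupOfEquivOfLe hTH).symm).toSylow hTd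
  obtain ⟨c, hc⟩ := MulAction.exists_smul_eq H FS TS
  have hmem : ∀ z : G, z ∈ T ↔ (c : G)⁻¹ * z * c ∈ F := by
    intro z
    have h1 : ∀ w : H, w ∈ (TS : Subgroup H) ↔ c⁻¹ * w * c ∈ (FS : Subgroup H) := by
      intro w
      rw [← hc, Sylow.coe_subgroup_smul, mem_conj_smul_iff]
    constructor
    · intro hz
      exact (h1 ⟨z, hTH hz⟩).1 hz
    · intro hz
      have hzH : z ∈ H := by
        have := mul_mem (mul_mem c.2 (hFH hz)) (inv_mem c.2)
        simpa [mul_assoc] using this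
      exact (h1 ⟨z, hzH⟩).2 hz
  refine ⟨c, c.2, Subgroup.mem_normalizer_fintype fun z hz => ?_⟩
  have hzT : (c : G) * z * (c : G)⁻¹ ∈ T := (hmem _).2 (by simpa [mul_assoc] using hz)
  obtain ⟨w, hw, hwe⟩ := hzT
  have hyw : y * ((c : G) * z * (c : G)⁻¹) * y⁻¹ ∈ T := by
    refine ⟨⟨y, hy⟩ * w * ⟨y, hy⟩⁻¹, ⟨?_, ?_⟩, ?_⟩
    · have hyS : (⟨y, hy⟩ : N) ∈ (S : Subgroup N) := hS (Subgroup.mem_zpowers _)
      show (⟨y, hy⟩ * w * ⟨y, hy⟩⁻¹ : N) ∈ (S : Subgroup N)
      exact mul_mem (mul_mem hyS (Subgroup.mem_inf.1 hw).1) (inv_mem hyS)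
    · exact (inferInstance : H'.Normal).conj_mem w hw.2 _
    · rw [← hwe]; rfl
  have := (hmem _).1 hyw
  simpa [mul_assoc] using this

/-- The quotient by a normal Sylow subgroup of `E` inherits the hypothesis. -/
theorem hyp_quotient {G : Type u} [Group G] [Finite G] {E Q : Subgroup G} [Q.Normal] {q : ℕ} [Fact q.Prime]
    (hQE : Q ≤ E) (hQ : IsPGroup q Q) (hQd : ¬ q ∣ Q.relIndex E) (h : Hyp E) :
    Hyp (E.map (QuotientGroup.mk' Q)) := by
  intro p hp P hPE hP hPd hnc
  haveI : Fact p.Prime := ⟨hp⟩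
  set f := QuotientGroup.mk' Q with hf
  have hfs : Function.Surjective f := QuotientGroup.mk'_surjective Q
  have hEc : (E.map f).comap f = E :=
    Subgroup.comap_map_eq_self (by rw [QuotientGroup.ker_mk']; exact hQE)
  set H := P.comap f with hH
  have hHE : H ≤ E := hEc ▸ Subgroup.comap_mono hPE
  have hQH : Q ≤ H := fun x hx => by
    show f x ∈ P
    rw [show f x = 1 from (QuotientGroup.eq_one_iff x).2 hx]
    exact one_mem P
  have hQrel : Q.relIndex E = Nat.card (E.map f) := by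
    have h1 := card_comap_mk' Q (E.map f)
    rw [hEc, ← relIndex_mul_card hQE] at h1
    exact Nat.eq_of_mul_eq_mul_right Nat.card_pos ((mul_comm _ _).trans h1)
  have hpq : p ≠ q := fun e => by
    obtain ⟨k, hk⟩ := IsPGroup.iff_card.1 hP
    have hk0 : k ≠ 0 := fun e0 => hnc (by
      rw [e0, pow_zero] at hk
      rw [Subgroup.card_eq_one.1 hk]
      infer_instance)
    refine hQd (hQrel ▸ ?_)
    rw [← e]
    exact (hk ▸ dvd_pow_self p hk0).trans (Subgroup.card_dvd_of_le hPE)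
  obtain ⟨S⟩ : Nonempty (Sylow p H) := inferInstance
  set P₀ := (S : Subgroup H).map H.subtype with hP₀
  have hP₀H : P₀ ≤ H := Subgroup.map_subtype_le _
  have hP₀p : IsPGroup p P₀ := S.2.map _
  have hQP : ∀ {A : Subgroup G}, A ≤ P₀ → A ⊓ Q = ⊥ := fun {A} hA => by
    rw [eq_bot_iff]
    exact fun x hx => (IsPGroup.disjoint_of_ne p q hpq _ _ hP₀p hQ).le_bot ⟨hA hx.1, hx.2⟩
  have hcardimg : ∀ {A : Subgroup G}, A ≤ P₀ → Nat.card (A.map f) = Nat.card A := fun {A} hA => by
    have h1 := card_comap_mk' Q (A.map f)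
    rw [Subgroup.comap_map_eq, QuotientGroup.ker_mk', ← mul_one (Nat.card (A ⊔ Q : Subgroup G)),
      ← Subgroup.card_bot (G := G), ← hQP hA, card_sup_mul_card_inf] at h1
    exact (Nat.eq_of_mul_eq_mul_right Nat.card_pos h1).symm
  have hP₀d : ¬ p ∣ P₀.relIndex H := by
    rw [Subgroup.relIndex, Subgroup.subgroupOf, hP₀, Subgroup.comap_map_eq_self_of_injective H.subtype_injective]
    exact S.not_dvd_index
  have himg : P₀.map f = P := by
    have hle : P₀.map f ≤ P := Subgroup.map_le_iff_le_comap.2 hP₀H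
    refine Subgroup.eq_of_le_of_card_ge hle ?_
    have h1 := relIndex_mul_card hP₀H
    rw [hH, card_comap_mk' Q P, ← hcardimg le_rfl] at h1
    have h2 : Nat.card P ∣ Nat.card (P₀.map f) := by
      refine Nat.Coprime.dvd_of_dvd_mul_right ?_ (h1.symm ▸ dvd_mul_right _ _ : Nat.card P ∣ _)
      obtain ⟨k, hk⟩ := IsPGroup.iff_card.1 hP
      rw [hk]
      exact (hp.coprime_iff_not_dvd.2 hP₀d).pow_left k
    exact Nat.le_of_dvd Nat.card_pos h2
  have hd : ¬ p ∣ P₀.relIndex E := by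
    rw [← Subgroup.relIndex_mul_relIndex P₀ H E hP₀H hHE]
    intro hd
    rcases hp.dvd_mul.1 hd with h1 | h1
    · exact hP₀d h1
    · refine hPd ?_
      rwa [← hEc, hH, Subgroup.relIndex_comap, Subgroup.map_comap_eq_self_of_surjective hfs] at h1
  have hnc₀ : ¬ IsCyclic P₀ := fun hc => hnc (by
    rw [← himg]
    haveI := hc
    exact isCyclic_of_surjective (f.subgroupMap P₀) (f.subgroupMap_surjective P₀))
  obtain ⟨d, h1, h2, h3, h4⟩ := h p hp P₀ (hP₀H.trans hHE) hP₀p hd hnc₀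
  refine ⟨d, h1, ?_, ?_, fun F hF hFc => ?_⟩
  · rw [← himg, hcardimg le_rfl]; exact h2
  · rw [← himg, hcardimg le_rfl]; exact h3
  rintro γ v ⟨hv1, hv2⟩
  obtain ⟨g, rfl⟩ := hfs γ
  set F₀ := F.comap f ⊓ P₀ with hF₀
  have hF₀P : F₀ ≤ P₀ := inf_le_right
  have hF₀img : F₀.map f = F := by
    refine le_antisymm (Subgroup.map_le_iff_le_comap.2 inf_le_left) fun z hz => ?_
    obtain ⟨w, hw, rfl⟩ := (himg.ge (hF hz) : z ∈ P₀.map f)
    exact ⟨w, ⟨hz, hw⟩, rfl⟩
  obtain ⟨_, ha, rfl⟩ := mem_map_conj.1 hv1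
  rw [← hF₀img] at ha
  obtain ⟨a, ha, rfl⟩ := ha
  set y := g * a * g⁻¹ with hy
  have hfy : f g * f a * (f g)⁻¹ = f y := by rw [hy, map_mul, map_mul, map_inv]
  rw [hfy] at hv2 ⊢
  set HF := F.comap f with hHF
  have hyN : y ∈ Subgroup.normalizer (HF : Set G) := by
    refine Subgroup.mem_normalizer_iff.2 fun z => ?_
    show f z ∈ F ↔ f (y * z * y⁻¹) ∈ F
    rw [map_mul, map_mul, map_inv]
    exact Subgroup.mem_normalizer_iff.1 hv2 (f z)
  have hF₀H : F₀ ≤ HF := inf_le_left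
  have hFd : ¬ p ∣ F₀.relIndex HF := by
    have h5 := relIndex_mul_card hF₀H
    rw [hHF, card_comap_mk' Q F, ← hcardimg hF₀P, hF₀img, mul_comm (Nat.card F)] at h5
    rw [Nat.eq_of_mul_eq_mul_right Nat.card_pos (h5.trans (mul_comm _ _))]
    obtain ⟨l, hl⟩ := IsPGroup.iff_card.1 hQ
    rw [hl]
    exact fun hd => hpq ((Nat.prime_dvd_prime_iff_eq hp Fact.out).1 (hp.dvd_of_dvd_pow hd))
  have hyp : ∃ k : ℕ, y ^ p ^ k = 1 := by
    obtain ⟨k, hk⟩ := hP₀p ⟨a, hF₀P ha⟩
    exact ⟨k, by rw [hy, conj_pow, show a ^ p ^ k = 1 by simpa using congrArg Subtype.val hk]; simp⟩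
  obtain ⟨c, hc, hcN⟩ := exists_conj_mem_normalizer hF₀H (hP₀p.to_le hF₀P) hFd hyN hyp
  have hFc' : Nat.card F₀ = d ∨ (d = 2 ∧ Nat.card F₀ = 4) := by
    rw [← hcardimg hF₀P, hF₀img]; exact hFc
  have h6 := h4 F₀ hF₀P hFc' (c⁻¹ * g) (x := c⁻¹ * y * c)
    ⟨mem_map_conj.2 ⟨a, ha, by rw [hy]; group⟩, hcN⟩
  have h7 : c⁻¹ * y * c ∈ HF := hF₀H h6
  have h8 := mul_mem (mul_mem hc h7) (inv_mem hc)
  show y ∈ HF
  simpa [mul_assoc] using h8

theorem ssg_of_hyp_aux : ∀ (n : ℕ) (G : Type u) [Group G] [Finite G], Nat.card G = n →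
    ∀ E : Subgroup G, ∀ [E.Normal], SSG (G ⧸ E) → Hyp E → SSG G := by
  intro n
  induction n using Nat.strong_induction_on with
  | _ n IH =>
    intro G _ _ hn E _ hGE h
    by_cases hEb : E = ⊥
    · subst hEb
      exact ssg_mulEquiv QuotientGroup.quotientBot hGE
    obtain ⟨q, Q, hq, hQE, hQb, hQ, hQd, hQn⟩ := exists_normal_sylow_aux h _ E rfl le_rfl hEb
      fun r hr _ => by rw [Subgroup.relIndex_self]; exact hr.not_dvd_one
    haveI : Fact q.Prime := ⟨hq⟩
    haveI : Q.Normal := by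
      refine ⟨fun x hx g => ?_⟩
      have hxE : g * x * g⁻¹ ∈ E := (‹E.Normal›).conj_mem x (hQE hx) g
      let Qs : Sylow q E := (hQ.of_equiv (Subgroup.subgroupOfEquivOfLe hQE).symm).toSylow hQd
      haveI : (Qs : Subgroup E).Normal := by
        show (Q.subgroupOf E).Normal
        exact Subgroup.normal_subgroupOf_iff_le_normalizer hQE |>.2 hQn
      obtain ⟨l, hl⟩ := hQ ⟨x, hx⟩
      have hxp : IsPGroup q (Subgroup.zpowers (⟨g * x * g⁻¹, hxE⟩ : E)) := by
        have hpow : (⟨g * x * g⁻¹, hxE⟩ : E) ^ q ^ l = 1 := Subtype.ext (by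
          rw [SubmonoidClass.coe_pow, conj_pow, show x ^ q ^ l = 1 by simpa using congrArg Subtype.val hl]
          simp)
        obtain ⟨i, -, hi⟩ := (Nat.dvd_prime_pow hq).1 (orderOf_dvd_of_pow_eq_one hpow)
        exact IsPGroup.of_card (n := i) (by rw [Nat.card_zpowers, hi])
      obtain ⟨R, hR⟩ := hxp.exists_le_sylow
      haveI := Sylow.unique_of_normal Qs inferInstance
      have hmem : (⟨g * x * g⁻¹, hxE⟩ : E) ∈ (Qs : Subgroup E) :=
        Subsingleton.elim R Qs ▸ hR (Subgroup.mem_zpowers _)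
      exact hmem
    set f := QuotientGroup.mk' Q with hf
    haveI : (E.map f).Normal := (‹E.Normal›).map f (QuotientGroup.mk'_surjective Q)
    have hGQ : SSG (G ⧸ Q) := by
      refine IH _ (hn ▸ card_quotient_lt hQb) (G ⧸ Q) rfl (E.map f) ?_ (hyp_quotient hQE hQ hQd h)
      refine ssg_of_surjective (f := QuotientGroup.map E (E.map f) f (Subgroup.le_comap_map f E)) ?_ hGE
      intro y
      obtain ⟨y, rfl⟩ := QuotientGroup.mk_surjective y
      obtain ⟨y, rfl⟩ := QuotientGroup.mk'_surjective Q y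
      exact ⟨y, rfl⟩
    by_cases hc : IsCyclic Q
    · exact ssg_of_cyclic_normal Q hGQ
    obtain ⟨d, h1, h2, h3, h4⟩ := h q hq Q hQE hQ hQd hc
    refine ssg_of_fixedNormal_aux _ G rfl Q hQ hGQ d h1 h2 h3 fun F hF hFc => ?_
    obtain ⟨hN, hsc⟩ := CfsgLib.Inv.FixedOrder.sc_of_condition (p := q) hQ hF (h4 F hF hFc)
    exact ⟨fun a ha g => hsc a ha g ((‹Q.Normal›).conj_mem a (hF ha) g)⟩

end CfsgLib.Inv.FixedOrderSupersolvable
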