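import Cfsg.Prelude.Def_LocalStructure
import Cfsg.Agent.Inv.CharP2
import Cfsg.Agent.S2802

/-!
Basic properties of the largest p-reduced normal subgroup.
-/

set_option autoImplicit false
set_option linter.style.haveILetI false

namespace CfsgLib.Inv

open Cfsg

variable {G : Type*} [Group G] {p : ℕ}

theorem largestPReduced_spec [Finite G] [hp : Fact p.Prime] :
    IsPReducedNormal p (largestPReduced p G) ∧
      ∀ V : Subgroup G, IsPReducedNormal p V → V ≤ largestPReduced p G := by
  obtain ⟨Y, hY, hmax⟩ := reduced_largest (G := G) (p := p)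
  have h : largestPReduced p G = Y := le_antisymm (sSup_le fun V hV => hmax V hV) (le_sSup hY)
  rw [h]; exact ⟨hY, hmax⟩

theorem largestPReducedOf_normal [Finite G] [hp : Fact p.Prime] (L : Subgroup G) :
    L ≤ Subgroup.normalizer (largestPReducedOf p L : Set G) := by
  haveI := (largestPReduced_spec (G := L) (p := p)).1.1
  refine le_trans ?_ (Subgroup.le_normalizer_map L.subtype)
  rw [Subgroup.normalizer_eq_top, ← MonoidHom.range_eq_map, Subgroup.range_subtype]

theorem mem_centralizer_map_subtype {L : Subgroup G} {Y : Subgroup L} {x : L} :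
    (x : G) ∈ Subgroup.centralizer ((Y.map L.subtype : Subgroup G) : Set G) ↔
      x ∈ Subgroup.centralizer (Y : Set L) := by
  constructor
  · exact fun h => Subgroup.mem_centralizer_iff.2 fun y hy =>
      Subtype.ext (Subgroup.mem_centralizer_iff.1 h y (Subgroup.mem_map.2 ⟨y, hy, rfl⟩))
  · intro h
    refine Subgroup.mem_centralizer_iff.2 ?_
    rintro _ ⟨y, hy, rfl⟩
    exact congrArg Subtype.val (Subgroup.mem_centralizer_iff.1 h y hy)

theorem largestPReducedOf_facts [Finite G] [hp : Fact p.Prime] (L : Subgroup G) :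
    largestPReducedOf p L ≤ pCoreOf p L ∧
      pCoreOf p L ≤ Subgroup.centralizer (largestPReducedOf p L : Set G) ∧
      (∀ a ∈ largestPReducedOf p L, a ^ p = 1) := by
  obtain ⟨hY, -⟩ := largestPReduced_spec (G := L) (p := p)
  haveI := hY.1
  haveI := CfsgLib.Solv.pCore_normal L p
  refine ⟨Subgroup.map_mono (CfsgLib.Solv.le_pCore (reduced_isPGroup hY)), ?_, ?_⟩
  · rintro _ ⟨x, hx, rfl⟩
    exact mem_centralizer_map_subtype.2 (reduced_pgroup_le hY (CfsgLib.Solv.pCore_isPGroup L p) hx)
  · rintro _ ⟨a, ha, rfl⟩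
    rw [← map_pow, hY.2.1.2 a ha, map_one]

/-- The centralizer part of a Sylow subgroup generates a p-reduced normal subgroup. -/
theorem sylowCenter_le_largest [Finite G] [hp : Fact p.Prime]
    (hchar : Subgroup.centralizer (pCore p G : Set G) ≤ pCore p G) (T : Sylow p G) :
    omegaOne p ((T : Subgroup G) ⊓ Subgroup.centralizer ((T : Subgroup G) : Set G)) ≤
      largestPReduced p G := by
  set Z := omegaOne p ((T : Subgroup G) ⊓ Subgroup.centralizer ((T : Subgroup G) : Set G)) with hZ
  have hle : Z ≤ (T : Subgroup G) ⊓ Subgroup.centralizer ((T : Subgroup G) : Set G) :=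
    (Subgroup.closure_le _).2 fun x hx => hx.1
  have hZT : Z ≤ (T : Subgroup G) := hle.trans inf_le_left
  have hcen : ∀ z ∈ Z, ∀ t ∈ (T : Subgroup G), t * z = z * t := fun z hz t ht =>
    Subgroup.mem_centralizer_iff.1 (Subgroup.mem_inf.1 (hle hz)).2 t ht
  have hexp : ∀ a ∈ Z, a ^ p = 1 := by
    intro a ha
    have key : a ∈ (T : Subgroup G) ⊓ Subgroup.centralizer ((T : Subgroup G) : Set G) ∧ a ^ p = 1 := by
      rw [hZ, omegaOne] at ha
      induction ha using Subgroup.closure_induction with
      | mem a ha => exact ha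
      | one => exact ⟨one_mem _, one_pow _⟩
      | mul a b _ _ iha ihb =>
        exact ⟨mul_mem iha.1 ihb.1, by
          rw [Commute.mul_pow (Subgroup.mem_centralizer_iff.1 (Subgroup.mem_inf.1 ihb.1).2 a
            (Subgroup.mem_inf.1 iha.1).1), iha.2, ihb.2, one_mul]⟩
      | inv a _ iha => exact ⟨inv_mem iha.1, by rw [inv_pow, iha.2, inv_one]⟩
    exact key.2
  have hred : IsPReducedNormal p (Z.subgroupOf (T : Subgroup G)) := by
    refine reduced_iff.2 ⟨⟨fun z hz t => ?_⟩, ⟨⟨⟨fun a b => Subtype.ext (Subtype.ext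
        (hcen _ b.2 _ (hZT a.2)))⟩⟩, fun a ha => Subtype.ext (hexp _ ha)⟩,
      fun N _ _ _ x _ => Subgroup.mem_centralizer_iff.2 fun z hz => Subtype.ext (hcen _ hz _ x.2).symm⟩
    rw [Subgroup.mem_subgroupOf] at hz ⊢
    simp only [Subgroup.coe_mul, Subgroup.coe_inv]
    rw [hcen _ hz _ t.2, mul_inv_cancel_right]; exact hz
  have h := Cfsg.Agent.S2802.result hchar T (T : Subgroup G) le_rfl _ hred
  rw [Subgroup.map_subgroupOf_eq_of_le hZT] at h
  exact Subgroup.subset_normalClosure.trans ((largestPReduced_spec (G := G) (p := p)).2 _ h)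

end CfsgLib.Inv
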