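import Cfsg.Agent.Inv.LargeSub
import Cfsg.Agent.Inv.PClosed
import Cfsg.Agent.Inv.YL

/-! Structure of the members of `ℌ_G(O_p(M))`. -/

set_option autoImplicit false
set_option linter.style.haveILetI false

namespace CfsgLib.Inv.FH

open Cfsg
open scoped commutatorElement

variable {G : Type*} [Group G] [Finite G] {p : ℕ} [hp : Fact p.Prime]

/-- A `p'`-element of `K = N·P` lies in `N`. -/
theorem coprime_mem {N P K : Subgroup G} (hNK : N ≤ K) (hn : K ≤ Subgroup.normalizer (N : Set G))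
    (hP : IsPGroup p P) (hPK : P ≤ K) (hK : K ≤ N ⊔ P) {x : G} (hx : x ∈ K)
    (hxo : (orderOf x).Coprime p) : x ∈ N := by
  haveI : (N.subgroupOf K).Normal := (Subgroup.normal_subgroupOf_iff_le_normalizer hNK).2 hn
  have h : pResidual p ↥K ≤ P.subgroupOf K ⊔ N.subgroupOf K := by
    rw [← Subgroup.subgroupOf_sup hPK hNK, sup_comm, Subgroup.subgroupOf_eq_top.2 hK]
    exact le_top
  exact pResidual_le_of_sup (N := N.subgroupOf K) (Y := P.subgroupOf K) hP.comap_subtype h
    (show (⟨x, hx⟩ : K) ∈ pResidual p ↥K from Subgroup.subset_closure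
      (show (orderOf (⟨x, hx⟩ : K)).Coprime p by rwa [Subgroup.orderOf_mk]))

theorem residual_le {K N : Subgroup G} (h : ∀ x ∈ K, (orderOf x).Coprime p → x ∈ N) :
    (pResidual p ↥K).map K.subtype ≤ N := by
  rw [Subgroup.map_le_iff_le_comap, pResidual, Subgroup.closure_le]
  intro x hx
  exact h x x.2 (by rw [Subgroup.orderOf_coe]; exact hx)

theorem mem_residual {K : Subgroup G} {x : G} (hx : x ∈ K) (hxo : (orderOf x).Coprime p) :
    x ∈ (pResidual p ↥K).map K.subtype :=
  ⟨⟨x, hx⟩, Subgroup.subset_closure (show (orderOf (⟨x, hx⟩ : K)).Coprime p by rwa [Subgroup.orderOf_mk]), rfl⟩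

/-- A normal `p`-subgroup of a normal subgroup lies in the core. -/
theorem le_core {N H D : Subgroup G} (hNH : N ≤ H) (hn : H ≤ Subgroup.normalizer (N : Set G))
    (hD : IsPGroup p D) (hDN : D ≤ N) (hnD : N ≤ Subgroup.normalizer (D : Set G)) : D ≤ pCoreOf p H :=
  (le_pCoreOf hDN hD hnD).trans (pCoreOf_le hNH hn)

/-- The hypothesis `H ∈ ℌ_G(O_p(M))` in the form used here. -/
structure HData (p : ℕ) (O Y H : Subgroup G) : Prop where
  le : O ≤ H
  pgroup : IsPGroup p O
  y_le : Y ≤ O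
  not_le : ¬ Y ≤ pCoreOf p H
  proper : ∀ P : Subgroup G, O ≤ P → P < H → Y ≤ pCoreOf p P

theorem hdata {M H : Subgroup G} (hH : IsInFrakH p M H) :
    HData p (pCoreOf p M) (largestPReducedOf p M) H :=
  ⟨hH.2.1, pCoreOf_pgroup M, (largestPReducedOf_facts M).1, hH.2.2.1, hH.2.2.2⟩

variable {O Y H : Subgroup G}

theorem HData.sup_eq_of_y_le (h : HData p O Y H) {N : Subgroup G} (hNH : N ≤ H)
    (hn : H ≤ Subgroup.normalizer (N : Set G)) (hYN : Y ≤ N) : N ⊔ O = H := by
  by_contra hne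
  have hX := h.proper _ le_sup_right (lt_of_le_of_ne (sup_le hNH h.le) hne)
  refine h.not_le (le_trans (le_inf hX hYN) (le_core hNH hn ((pCoreOf_pgroup _).to_le inf_le_left) inf_le_right ?_))
  exact CfsgLib.Solv.le_normalizer_inf_of_le (le_sup_left.trans (le_normalizer_pCoreOf _)) Subgroup.le_normalizer

/-- The normal closure of `Y` in `H`. -/
def wcl (Y H : Subgroup G) : Subgroup G := Subgroup.closure {x : G | ∃ h ∈ H, ∃ y ∈ Y, x = h * y * h⁻¹}

omit [Finite G] in
theorem wcl_normal (Y H : Subgroup G) : H ≤ Subgroup.normalizer (wcl Y H : Set G) := by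
  rw [CfsgLib.Solv.le_normalizer_iff_forall_conj_mem]
  intro l hl x hx
  have hle : wcl Y H ≤ (wcl Y H).comap (MulAut.conj l).toMonoidHom := (Subgroup.closure_le _).2 (by
    rintro _ ⟨l', hl', y, hy, rfl⟩
    exact Subgroup.subset_closure ⟨l * l', mul_mem hl hl', y, hy, by simp [mul_assoc]⟩)
  exact hle hx

omit [Finite G] in
theorem le_wcl (Y H : Subgroup G) : Y ≤ wcl Y H := fun y hy =>
  Subgroup.subset_closure ⟨1, one_mem _, y, hy, by simp⟩

theorem HData.wcl_le (h : HData p O Y H) : wcl Y H ≤ H := (Subgroup.closure_le _).2 (by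
  rintro _ ⟨l, hl, y, hy, rfl⟩
  exact mul_mem (mul_mem hl (h.le (h.y_le hy))) (inv_mem hl))

theorem HData.wcl_sup (h : HData p O Y H) : wcl Y H ⊔ O = H :=
  h.sup_eq_of_y_le h.wcl_le (wcl_normal Y H) (le_wcl Y H)

theorem HData.coprime_mem_wcl (h : HData p O Y H) {x : G} (hx : x ∈ H) (hxo : (orderOf x).Coprime p) :
    x ∈ wcl Y H :=
  coprime_mem h.wcl_le (wcl_normal Y H) h.pgroup h.le h.wcl_sup.ge hx hxo

/-- A normal subgroup of `H` contains `O^p(H)` or is `p`-closed. -/
theorem HData.dichotomy (h : HData p O Y H) {N : Subgroup G} (hNH : N ≤ H)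
    (hn : H ≤ Subgroup.normalizer (N : Set G)) :
    (∀ x ∈ H, (orderOf x).Coprime p → x ∈ N) ∨
      ∀ T : Subgroup G, IsPGroup p T → T ≤ N → T ≤ pCoreOf p H := by
  by_cases hres : ∀ x ∈ H, (orderOf x).Coprime p → x ∈ N
  · exact Or.inl hres
  right
  set A := pCoreOf p H with hA
  have hAH : H ≤ Subgroup.normalizer (A : Set G) := le_normalizer_pCoreOf H
  have hlt : N ⊔ O < H := lt_of_le_of_ne (sup_le hNH h.le) fun e =>
    hres fun x hx hxo => coprime_mem hNH hn h.pgroup h.le e.ge hx hxo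
  have hYD := h.proper _ le_sup_right hlt
  have hyn : ∀ y ∈ Y, ∀ n ∈ N, ⁅y, n⁆ ∈ A := by
    intro y hy n hn'
    have hle : pCoreOf p (N ⊔ O) ⊓ N ≤ A := le_core hNH hn ((pCoreOf_pgroup _).to_le inf_le_left) inf_le_right
      (CfsgLib.Solv.le_normalizer_inf_of_le (le_sup_left.trans (le_normalizer_pCoreOf _)) Subgroup.le_normalizer)
    exact hle (Subgroup.mem_inf.2 ⟨comm_mem_left (hYD hy) (le_normalizer_pCoreOf _ (Subgroup.mem_sup_left hn')),
      comm_mem_right hn' (hn (h.le (h.y_le hy)))⟩)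
  have hwn : ∀ w ∈ wcl Y H, ∀ n ∈ N, ⁅w, n⁆ ∈ A := by
    intro w hw
    induction hw using Subgroup.closure_induction with
    | mem w hw =>
      obtain ⟨l, hl, y, hy, rfl⟩ := hw
      intro n hn'
      have h1 := hyn y hy (l⁻¹ * n * l) (by simpa using (Subgroup.mem_normalizer_iff.1 (hn (inv_mem hl)) n).1 hn')
      have h2 := (Subgroup.mem_normalizer_iff.1 (hAH hl) _).1 h1
      convert h2 using 1
      simp only [commutatorElement_def]
      group
    | one => intro n _; simp
    | mul a b ha _ iha ihb =>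
      intro n hn'
      have h2 := mul_mem ((Subgroup.mem_normalizer_iff.1 (hAH (h.wcl_le ha)) _).1 (ihb n hn')) (iha n hn')
      convert h2 using 1
      simp only [commutatorElement_def]
      group
    | inv a ha iha =>
      intro n hn'
      have h2 := (Subgroup.mem_normalizer_iff.1 (hAH (inv_mem (h.wcl_le ha))) _).1 (inv_mem (iha n hn'))
      convert h2 using 1
      simp only [commutatorElement_def]
      group
  -- every Sylow subgroup of `N` is normal in `N`
  have hAN : A ⊓ N ≤ A := inf_le_left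
  intro T hT hTN
  obtain ⟨R, hR⟩ := (hT.comap_subtype (K := N)).exists_le_sylow
  have hRn : (R : Subgroup N).Normal := by
    rw [← Subgroup.normalizer_eq_top_iff]
    refine eq_top_of_sylow_coprime R Subgroup.le_normalizer fun x hx => ?_
    have hR' : (A.subgroupOf N) ≤ (R : Subgroup N) := by
      haveI : (A.subgroupOf N).Normal := Subgroup.normal_subgroupOf_of_le_normalizer (hNH.trans hAH)
      exact (CfsgLib.Solv.le_pCore (N := A.subgroupOf N) ((pCoreOf_pgroup (p := p) H).comap_subtype)).trans (CfsgLib.Solv.pCore_le_sylow R)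
    refine Subgroup.mem_normalizer_fintype fun t ht => ?_
    have h1 : ⁅(x : G), (t : G)⁆ ∈ A :=
      hwn x (h.coprime_mem_wcl (hNH x.2) (by rw [Subgroup.orderOf_coe]; exact hx)) t t.2
    have h2 : x * t * x⁻¹ * t⁻¹ ∈ (R : Subgroup N) := hR' h1
    have h3 := mul_mem h2 ht
    rw [inv_mul_cancel_right] at h3
    exact h3
  haveI := hRn
  intro t ht
  have h4 : (⟨t, hTN ht⟩ : N) ∈ pCore p ↥N := CfsgLib.Solv.le_pCore R.2 (hR (show (⟨t, hTN ht⟩ : N) ∈ T.comap N.subtype from ht))
  exact pCoreOf_le hNH hn (Subgroup.mem_map_of_mem N.subtype h4)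

/-- `H` is the normal closure of `O_p(M)` in `H`. -/
theorem HData.wcl_o_eq (h : HData p O Y H) : wcl O H = H := by
  have hle : wcl O H ≤ H := (Subgroup.closure_le _).2 (by
    rintro _ ⟨l, hl, y, hy, rfl⟩
    exact mul_mem (mul_mem hl (h.le hy)) (inv_mem hl))
  have := h.sup_eq_of_y_le hle (wcl_normal O H) (h.y_le.trans (le_wcl O H))
  rwa [sup_eq_left.2 (le_wcl O H)] at this

/-- Commutators with the normal closure of `Y`. -/
theorem HData.comm_wcl (h : HData p O Y H) {N : Subgroup G} (hn : H ≤ Subgroup.normalizer (N : Set G))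
    (hyn : ∀ y ∈ Y, ∀ n ∈ N, ⁅y, n⁆ ∈ pCoreOf p H) :
    ∀ w ∈ wcl Y H, ∀ n ∈ N, ⁅w, n⁆ ∈ pCoreOf p H := by
  have hAH : H ≤ Subgroup.normalizer (pCoreOf p H : Set G) := le_normalizer_pCoreOf H
  intro w hw
  induction hw using Subgroup.closure_induction with
  | mem w hw =>
    obtain ⟨l, hl, y, hy, rfl⟩ := hw
    intro n hn'
    have h1 := hyn y hy (l⁻¹ * n * l) (by simpa using (Subgroup.mem_normalizer_iff.1 (hn (inv_mem hl)) n).1 hn')
    have h2 := (Subgroup.mem_normalizer_iff.1 (hAH hl) _).1 h1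
    convert h2 using 1
    simp only [commutatorElement_def]
    group
  | one => intro n _; simp
  | mul a b ha _ iha ihb =>
    intro n hn'
    have h2 := mul_mem ((Subgroup.mem_normalizer_iff.1 (hAH (h.wcl_le ha)) _).1 (ihb n hn')) (iha n hn')
    convert h2 using 1
    simp only [commutatorElement_def]
    group
  | inv a ha iha =>
    intro n hn'
    have h2 := (Subgroup.mem_normalizer_iff.1 (hAH (inv_mem (h.wcl_le ha))) _).1 (inv_mem (iha n hn'))
    convert h2 using 1
    simp only [commutatorElement_def]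
    group

/-- A normal subgroup whose `p'`-elements are central modulo `O_p(H)` is `p`-closed. -/
theorem closed_of_comm {K : Subgroup G} (hKH : K ≤ H) (hn : H ≤ Subgroup.normalizer (K : Set G))
    (hc : ∀ x ∈ K, (orderOf x).Coprime p → ∀ t ∈ K, ⁅x, t⁆ ∈ pCoreOf p H) :
    ∀ T : Subgroup G, IsPGroup p T → T ≤ K → T ≤ pCoreOf p H := by
  set A := pCoreOf p H with hA
  intro T hT hTK
  obtain ⟨R, hR⟩ := (hT.comap_subtype (K := K)).exists_le_sylow
  have hRn : (R : Subgroup K).Normal := by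
    rw [← Subgroup.normalizer_eq_top_iff]
    refine eq_top_of_sylow_coprime R Subgroup.le_normalizer fun x hx => ?_
    have hR' : (A.subgroupOf K) ≤ (R : Subgroup K) := by
      haveI : (A.subgroupOf K).Normal := Subgroup.normal_subgroupOf_of_le_normalizer (hKH.trans (le_normalizer_pCoreOf H))
      exact (CfsgLib.Solv.le_pCore (N := A.subgroupOf K) ((pCoreOf_pgroup (p := p) H).comap_subtype)).trans
        (CfsgLib.Solv.pCore_le_sylow R)
    refine Subgroup.mem_normalizer_fintype fun t ht => ?_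
    have h2 : x * t * x⁻¹ * t⁻¹ ∈ (R : Subgroup K) :=
      hR' (hc x x.2 (by rw [Subgroup.orderOf_coe]; exact hx) t t.2)
    have h3 := mul_mem h2 ht
    rw [inv_mul_cancel_right] at h3
    exact h3
  haveI := hRn
  intro t ht
  exact pCoreOf_le hKH hn (Subgroup.mem_map_of_mem K.subtype
    (CfsgLib.Solv.le_pCore R.2 (hR (show (⟨t, hTK ht⟩ : K) ∈ T.comap K.subtype from ht))))

theorem residual_normal (H : Subgroup G) :
    H ≤ Subgroup.normalizer ((pResidual p ↥H).map H.subtype : Set G) := by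
  intro l hl
  refine Subgroup.mem_normalizer_iff_map_conj_eq.2 (Subgroup.eq_of_le_of_card_ge ?_
    (Subgroup.card_map_of_injective (MulAut.conj l).injective).ge)
  rw [Subgroup.map_le_iff_le_comap]
  refine residual_le fun x hx hxo => mem_residual ?_ ?_
  · exact mul_mem (mul_mem hl hx) (inv_mem hl)
  · have h := MulEquiv.orderOf_eq (MulAut.conj l) x
    show (orderOf (MulAut.conj l x)).Coprime p
    rwa [h]

/-- `H = O^p(H) O_p(M)`. -/
theorem HData.residual_sup (h : HData p O Y H) : (pResidual p ↥H).map H.subtype ⊔ O = H := by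
  set R := (pResidual p ↥H).map H.subtype with hR
  have hRH : R ≤ H := Subgroup.map_subtype_le _
  by_contra hne
  have hX := h.proper _ le_sup_right (lt_of_le_of_ne (sup_le hRH h.le) hne)
  have hRn : H ≤ Subgroup.normalizer (R : Set G) := residual_normal H
  have hyn : ∀ y ∈ Y, ∀ n ∈ R, ⁅y, n⁆ ∈ pCoreOf p H := fun y hy n hn' =>
    le_core hRH hRn ((pCoreOf_pgroup _).to_le inf_le_left) inf_le_right
      (CfsgLib.Solv.le_normalizer_inf_of_le (le_sup_left.trans (le_normalizer_pCoreOf _)) Subgroup.le_normalizer)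
      (Subgroup.mem_inf.2 ⟨comm_mem_left (hX hy) (le_normalizer_pCoreOf (R ⊔ O) (Subgroup.mem_sup_left hn')),
        comm_mem_right hn' (hRn (h.le (h.y_le hy)))⟩)
  refine h.not_le ((closed_of_comm h.wcl_le (wcl_normal Y H) (fun x hx hxo t ht => ?_)) Y
    (h.pgroup.to_le h.y_le) (le_wcl Y H))
  rw [← commutatorElement_inv]
  exact inv_mem (h.comm_wcl hRn hyn t ht x (mem_residual (h.wcl_le hx) hxo))

end CfsgLib.Inv.FH
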