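import Cfsg.Agent.Inv.CharPLocal
import Cfsg.Agent.Inv.YL
import Cfsg.Agent.Inv.LargeSub
import Cfsg.Agent.Solv.PComplement
import Cfsg.Agent.Solv.CoprimeSylow
import Mathlib.Tactic

/-! The basic property: existence of members of `𝔐_H(T)`. -/

set_option autoImplicit false
set_option linter.style.haveILetI false

namespace CfsgLib.Inv.FM

open Cfsg CfsgLib.Inv

variable {G : Type*} [Group G] [Finite G] {p : ℕ} [hp : Fact p.Prime]

/-- `Y` is `p`-reduced for `L`, phrased inside the ambient group. -/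
def RedIn (p : ℕ) (L Y : Subgroup G) : Prop :=
  IsElementaryAbelian p Y ∧ L ≤ Subgroup.normalizer (Y : Set G) ∧
    ∀ N : Subgroup G, N ≤ L → L ≤ Subgroup.normalizer (N : Set G) →
      (∀ x ∈ N, (orderOf x).Coprime p → x ∈ Subgroup.centralizer (Y : Set G)) →
      N ≤ Subgroup.centralizer (Y : Set G)

theorem red_largest (L : Subgroup G) : RedIn p L (largestPReducedOf p L) := by
  obtain ⟨hY, -⟩ := largestPReduced_spec (G := ↥L) (p := p)
  refine ⟨⟨⟨⟨?_⟩⟩, (largestPReducedOf_facts L).2.2⟩, largestPReducedOf_normal L, fun N hNL hn hel x hx => ?_⟩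
  · rintro ⟨_, a, ha, rfl⟩ ⟨_, b, hb, rfl⟩
    have h : a * b = b * a := congrArg Subtype.val (hY.2.1.1.is_comm.comm (⟨a, ha⟩ : largestPReduced p ↥L) ⟨b, hb⟩)
    exact Subtype.ext (congrArg L.subtype h)
  · haveI : (N.subgroupOf L).Normal := (Subgroup.normal_subgroupOf_iff_le_normalizer hNL).2 hn
    exact mem_centralizer_map_subtype.2 (reduced_le hY (N := N.subgroupOf L) inferInstance
      (fun y hy hyo => mem_centralizer_map_subtype.1 (hel y hy (by rwa [Subgroup.orderOf_coe])))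
      (show (⟨x, hNL hx⟩ : L) ∈ N.subgroupOf L from hx))

theorem red_le {L Y : Subgroup G} (hYL : Y ≤ L) (h : RedIn p L Y) : Y ≤ largestPReducedOf p L := by
  obtain ⟨⟨hc, hexp⟩, hn, hN⟩ := h
  haveI : (Y.subgroupOf L).Normal := (Subgroup.normal_subgroupOf_iff_le_normalizer hYL).2 hn
  have hcen : ∀ x : L, (x : G) ∈ Subgroup.centralizer (Y : Set G) ↔
      x ∈ Subgroup.centralizer ((Y.subgroupOf L : Subgroup L) : Set L) := by
    intro x
    rw [← mem_centralizer_map_subtype, Subgroup.map_subgroupOf_eq_of_le hYL]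
  have hred : IsPReducedNormal p (Y.subgroupOf L) := by
    refine reduced_iff.2 ⟨inferInstance, ⟨⟨⟨fun a b => Subtype.ext (Subtype.ext ?_)⟩⟩,
      fun a ha => Subtype.ext (by simpa using hexp a ha)⟩, fun N hN' _ hel x hx => ?_⟩
    · have h := hc.is_comm.comm (⟨((a : L) : G), a.2⟩ : Y) ⟨((b : L) : G), b.2⟩
      exact congrArg (Subtype.val : Y → G) h
    · refine (hcen x).1 (hN (N.map L.subtype) (Subgroup.map_subtype_le N) ?_ ?_ ⟨x, hx, rfl⟩)
      · haveI := hN'
        refine le_trans ?_ (Subgroup.le_normalizer_map L.subtype)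
        rw [Subgroup.normalizer_eq_top, ← MonoidHom.range_eq_map, Subgroup.range_subtype]
      · rintro _ ⟨y, hy, rfl⟩ hyo
        exact (hcen y).2 (hel y hy (by rwa [Subgroup.coe_subtype, Subgroup.orderOf_coe] at hyo))
  have := Subgroup.map_mono (f := L.subtype) (largestPReduced_spec.2 _ hred)
  rwa [Subgroup.map_subgroupOf_eq_of_le hYL] at this

theorem mem_centralizer_conj {Y : Subgroup G} {m x : G} (hx : m⁻¹ * x * m ∈ Subgroup.centralizer (Y : Set G)) :
    x ∈ Subgroup.centralizer ((Y.map (MulAut.conj m).toMonoidHom : Subgroup G) : Set G) := by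
  refine Subgroup.mem_centralizer_iff.2 ?_
  rintro _ ⟨y, hy, rfl⟩
  have h := Subgroup.mem_centralizer_iff.1 hx y hy
  calc m * y * m⁻¹ * x = m * (y * (m⁻¹ * x * m)) * m⁻¹ := by group
    _ = m * ((m⁻¹ * x * m) * y) * m⁻¹ := by rw [h]
    _ = x * (m * y * m⁻¹) := by group

theorem centralizer_normal_in {L Y : Subgroup G} (h : L ≤ Subgroup.normalizer (Y : Set G)) :
    L ≤ Subgroup.normalizer ((Subgroup.centralizer (Y : Set G) : Subgroup G) : Set G) := by
  rw [CfsgLib.Solv.le_normalizer_iff_forall_conj_mem]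
  intro m hm c hc
  refine Subgroup.mem_centralizer_iff.2 fun w hw => ?_
  have hw' := (Subgroup.mem_normalizer_iff.1 (h (inv_mem hm)) w).1 hw
  rw [inv_inv] at hw'
  calc w * (m * c * m⁻¹) = m * (m⁻¹ * w * m * c) * m⁻¹ := by group
    _ = m * (c * (m⁻¹ * w * m)) * m⁻¹ := by rw [Subgroup.mem_centralizer_iff.1 hc _ hw']
    _ = _ := by group

theorem sylow_conj_mem {N : Subgroup G} {M : Subgroup G} (hn : M ≤ Subgroup.normalizer (N : Set G)) {m x : G}
    (hm : m ∈ M) (hx : x ∈ N) : m⁻¹ * x * m ∈ N := by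
  simpa using (Subgroup.mem_normalizer_iff.1 (hn (inv_mem hm)) x).1 hx

/-- The key criterion for membership in `Y_M`. -/
theorem core {M Y : Subgroup G} (T : Sylow p G) (hTM : (T : Subgroup G) ≤ M)
    (hM : Subgroup.centralizer (pCore p ↥M : Set ↥M) ≤ pCore p ↥M) (hYT : Y ≤ (T : Subgroup G))
    (hexp : ∀ y ∈ Y, y ^ p = 1) (hO : pCoreOf p M ≤ Subgroup.centralizer (Y : Set G))
    (hyp : ∀ N : Subgroup G, N ≤ M → M ≤ Subgroup.normalizer (N : Set G) →
      (∀ x ∈ N, (orderOf x).Coprime p → ∀ m ∈ M, m⁻¹ * x * m ∈ Subgroup.centralizer (Y : Set G)) →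
      (T : Subgroup G) ⊓ N ≤ Subgroup.centralizer (Y : Set G)) :
    Y ≤ largestPReducedOf p M := by
  set W := ⨆ m : M, Y.map (MulAut.conj (m : G)).toMonoidHom with hW
  have hYM : Y ≤ M := hYT.trans hTM
  set O := pCoreOf p M with hOdef
  have hYO : Y ≤ O := fun y hy => by
    refine Subgroup.mem_map.2 ⟨⟨y, hYM hy⟩, hM (Subgroup.mem_centralizer_iff.2 fun r hr => Subtype.ext ?_), rfl⟩
    exact (Subgroup.mem_centralizer_iff.1 (hO (Subgroup.mem_map.2 ⟨r, hr, rfl⟩)) y hy).symm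
  have hconj : ∀ m ∈ M, ∀ x ∈ O, m⁻¹ * x * m ∈ O := fun m hm x hx =>
    sylow_conj_mem (le_normalizer_pCoreOf M) hm hx
  have hWO : W ≤ O := iSup_le fun m => by
    rintro _ ⟨y, hy, rfl⟩
    exact (Subgroup.mem_normalizer_iff.1 (le_normalizer_pCoreOf M m.2) y).1 (hYO hy)
  have hOW : O ≤ Subgroup.centralizer (W : Set G) := by
    rw [Subgroup.le_centralizer_iff]
    exact iSup_le fun m => Subgroup.le_centralizer_iff.1 fun x hx => mem_centralizer_conj (hO (hconj m m.2 x hx))
  have hcomm : ∀ a ∈ W, ∀ b ∈ W, a * b = b * a := fun a ha b hb =>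
    (Subgroup.mem_centralizer_iff.1 (hOW (hWO hb)) a ha)
  have hWexp : ∀ w ∈ W, w ^ p = 1 := by
    let E : Subgroup G :=
      { carrier := {w | w ∈ W ∧ w ^ p = 1}
        mul_mem' := fun {a b} ha hb => ⟨mul_mem ha.1 hb.1, by
          rw [Commute.mul_pow (hcomm a ha.1 b hb.1), ha.2, hb.2, one_mul]⟩
        one_mem' := ⟨one_mem _, one_pow _⟩
        inv_mem' := fun {a} ha => ⟨inv_mem ha.1, by rw [inv_pow, ha.2, inv_one]⟩ }
    have h : W ≤ E := iSup_le fun m => by
      rintro _ ⟨y, hy, rfl⟩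
      refine ⟨le_iSup (fun m : M => Y.map (MulAut.conj (m : G)).toMonoidHom) m ⟨y, hy, rfl⟩, ?_⟩
      rw [← map_pow, hexp y hy, map_one]
    exact fun w hw => (h hw).2
  have hYW : Y ≤ W := fun y hy =>
    le_iSup (fun m : M => Y.map (MulAut.conj (m : G)).toMonoidHom) 1 ⟨y, hy, by simp⟩
  have hMW : M ≤ Subgroup.normalizer (W : Set G) := by
    rw [CfsgLib.Solv.le_normalizer_iff_forall_conj_mem]
    intro g hg w hw
    suffices h : W ≤ W.comap (MulAut.conj g).toMonoidHom by simpa using h hw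
    refine iSup_le fun m => ?_
    rintro _ ⟨y, hy, rfl⟩
    exact le_iSup (fun m : M => Y.map (MulAut.conj (m : G)).toMonoidHom) (⟨g, hg⟩ * m) ⟨y, hy, by simp [mul_assoc]⟩
  refine hYW.trans (red_le (hWO.trans (pCoreOf_le_self M))
    ⟨⟨⟨⟨fun a b => Subtype.ext (hcomm a a.2 b b.2)⟩⟩, hWexp⟩, hMW, fun N hNM hn hel => ?_⟩)
  have hel' : ∀ x ∈ N, (orderOf x).Coprime p → ∀ m ∈ M, m⁻¹ * x * m ∈ Subgroup.centralizer (Y : Set G) :=
    fun x hx hxo m hm => Subgroup.centralizer_le (SetLike.coe_subset_coe.2 hYW)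
      (sylow_conj_mem (centralizer_normal_in hMW) hm (hel x hx hxo))
  have hTY := hyp N hNM hn hel'
  haveI : (N.subgroupOf M).Normal := (Subgroup.normal_subgroupOf_iff_le_normalizer hNM).2 hn
  obtain ⟨P, hP⟩ := sylow_inf_normal (T.subtype hTM) (N.subgroupOf M)
  have hNY : N ≤ Subgroup.centralizer (Y : Set G) := by
    intro x hx
    obtain ⟨s, hs, c, hc, -, hsc⟩ := CfsgLib.Solv.exists_mul_of_pElements P
      (C := (Subgroup.centralizer (W : Set G)).subgroupOf M)
      (fun y hy hyo => hel y hy (by rwa [Subgroup.orderOf_coe]))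
      (show (⟨x, hNM hx⟩ : M) ∈ N.subgroupOf M from hx)
    have hs' : (s : M) ∈ ((T.subtype hTM : Sylow p M) : Subgroup M) ⊓ N.subgroupOf M :=
      hP ▸ Subgroup.mem_map.2 ⟨s, hs, rfl⟩
    obtain ⟨hsT, hsN⟩ := Subgroup.mem_inf.1 hs'
    have e : ((s : M) : G) * (c : G) = x := congrArg Subtype.val hsc
    rw [← e]
    exact mul_mem (hTY (Subgroup.mem_inf.2 ⟨hsT, hsN⟩))
      (Subgroup.centralizer_le (SetLike.coe_subset_coe.2 hYW) hc)
  rw [Subgroup.le_centralizer_iff]
  exact iSup_le fun m => Subgroup.le_centralizer_iff.1 fun x hx =>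
    mem_centralizer_conj (hNY (sylow_conj_mem hn m.2 hx))

theorem pCoreOf_le_sylow (T : Sylow p G) {M : Subgroup G} (hTM : (T : Subgroup G) ≤ M) :
    pCoreOf p M ≤ (T : Subgroup G) := by
  rintro _ ⟨x, hx, rfl⟩
  exact CfsgLib.Solv.pCore_le_sylow (T.subtype hTM) hx

theorem largest_le_sylow (T : Sylow p G) {M : Subgroup G} (hTM : (T : Subgroup G) ≤ M) :
    largestPReducedOf p M ≤ (T : Subgroup G) :=
  (largestPReducedOf_facts M).1.trans (pCoreOf_le_sylow T hTM)

/-- `Y_L ≤ Y_M` for parabolic `L ≤ M`. -/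
theorem mono {L M : Subgroup G} (T : Sylow p G) (hTL : (T : Subgroup G) ≤ L) (hLM : L ≤ M)
    (hM : Subgroup.centralizer (pCore p ↥M : Set ↥M) ≤ pCore p ↥M) :
    largestPReducedOf p L ≤ largestPReducedOf p M := by
  have hTM := hTL.trans hLM
  have hOL : pCoreOf p M ≤ pCoreOf p L := le_pCoreOf ((pCoreOf_le_sylow T hTM).trans hTL) (pCoreOf_pgroup M)
    (hLM.trans (le_normalizer_pCoreOf M))
  obtain ⟨-, hOY, hexp⟩ := largestPReducedOf_facts (p := p) L
  refine core T hTM hM (largest_le_sylow T hTL) hexp (hOL.trans hOY) fun N hNM hn hel => ?_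
  have h := (red_largest (p := p) L).2.2 (L ⊓ N) inf_le_left
    (CfsgLib.Solv.le_normalizer_inf_of_le Subgroup.le_normalizer (hLM.trans hn)) fun x hx hxo => by
      simpa using hel x (Subgroup.mem_inf.1 hx).2 hxo 1 (one_mem M)
  exact (inf_le_inf_right N hTL).trans h

theorem mul_pow_mem {C : Subgroup G} {n c : G} (hn : n ∈ Subgroup.normalizer (C : Set G)) (hc : c ∈ C) (k : ℕ) :
    (n ^ k)⁻¹ * (n * c) ^ k ∈ C := by
  induction k with
  | zero => simp
  | succ k ih =>
    have h1 := (Subgroup.mem_normalizer_iff''.1 hn _).1 ih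
    have e : (n ^ (k + 1))⁻¹ * (n * c) ^ (k + 1) = (n⁻¹ * ((n ^ k)⁻¹ * (n * c) ^ k) * n) * c := by
      rw [pow_succ n, pow_succ (n * c)]; group
    rw [e]; exact mul_mem h1 hc

/-- Reducedness depends on the image in the automizer only. -/
theorem red_cover {L Ls Y : Subgroup G} (hY : RedIn p L Y) (hLs : Ls ≤ Subgroup.normalizer (Y : Set G))
    (heq : L ⊔ Subgroup.centralizer (Y : Set G) = Ls ⊔ Subgroup.centralizer (Y : Set G)) : RedIn p Ls Y := by
  obtain ⟨he, hn, hN⟩ := hY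
  refine ⟨he, hLs, fun N hNLs hnN hel => ?_⟩
  set C := Subgroup.centralizer (Y : Set G) with hC
  have hLsC : Ls ≤ Subgroup.normalizer (C : Set G) := centralizer_normal_in hLs
  have hNC : N ≤ Subgroup.normalizer (C : Set G) := hNLs.trans hLsC
  have hnorm : Ls ⊔ C ≤ Subgroup.normalizer ((N ⊔ C : Subgroup G) : Set G) := by
    refine sup_le (fun g hg => CfsgLib.Solv.mem_normalizer_of_conj_smul_eq ?_)
      (le_sup_right.trans Subgroup.le_normalizer)
    rw [CfsgLib.Solv.conj_smul_eq_map, Subgroup.map_sup, ← CfsgLib.Solv.conj_smul_eq_map,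
      ← CfsgLib.Solv.conj_smul_eq_map, CfsgLib.Solv.conj_smul_eq_self_of_mem_normalizer (hnN hg),
      CfsgLib.Solv.conj_smul_eq_self_of_mem_normalizer (hLsC hg)]
  have h1 := hN (L ⊓ (N ⊔ C)) inf_le_left (CfsgLib.Solv.le_normalizer_inf_of_le Subgroup.le_normalizer
    ((le_sup_left.trans heq.le).trans hnorm)) fun x hx hxo => by
    obtain ⟨c, hc, n, hnn, hxe⟩ := CfsgLib.Solv.exists_mul_of_mem_sup hNC (Subgroup.mem_inf.1 hx).2
    have hc' : n⁻¹ * c * n ∈ C := (Subgroup.mem_normalizer_iff''.1 (hNC hnn) c).1 hc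
    set a := (orderOf n).factorization p with ha
    have h2 : n ^ p ^ a ∈ C := by
      refine hel _ (pow_mem hnn _) ?_
      rw [orderOf_pow_of_dvd (pow_ne_zero _ hp.out.ne_zero) (Nat.ordProj_dvd _ _)]
      exact (Nat.coprime_ordCompl hp.out (orderOf_pos n).ne').symm
    have h3 : x ^ p ^ a ∈ C := by
      have h4 := mul_pow_mem (hNC hnn) hc' (p ^ a)
      rw [show n * (n⁻¹ * c * n) = x by rw [hxe]; group] at h4
      simpa using mul_mem h2 h4
    obtain ⟨m, hm⟩ := exists_pow_eq_self_of_coprime (x := x) (n := p ^ a) ((hxo.pow_right a).symm)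
    rw [← hm]; exact pow_mem h3 m
  intro n hnn
  have h5 : n ∈ L ⊔ C := heq.ge (Subgroup.mem_sup_left (hNLs hnn))
  obtain ⟨c, hc, l, hl, hle⟩ := CfsgLib.Solv.exists_mul_of_mem_sup (centralizer_normal_in hn) h5
  have h6 : l ∈ L ⊓ (N ⊔ C) := Subgroup.mem_inf.2 ⟨hl, by
    have := mul_mem (Subgroup.mem_sup_right (S := N) (inv_mem hc)) (Subgroup.mem_sup_left (T := C) hnn)
    simpa [hle] using this⟩
  rw [hle]; exact mul_mem hc (h1 h6)

/-- The lemma on `N_M(C_T(Y_L))`. -/
theorem lstar {L M : Subgroup G} (T : Sylow p G) (hTL : (T : Subgroup G) ≤ L) (hTM : (T : Subgroup G) ≤ M)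
    (hL : Subgroup.centralizer (pCore p ↥L : Set ↥L) ≤ pCore p ↥L)
    (hfac : M ⊔ Subgroup.centralizer (largestPReducedOf p L : Set G) =
      L ⊔ Subgroup.centralizer (largestPReducedOf p L : Set G))
    {Ls : Subgroup G} (hLs : Ls = M ⊓ Subgroup.normalizer
      (((T : Subgroup G) ⊓ Subgroup.centralizer (largestPReducedOf p L : Set G) : Subgroup G) : Set G)) :
    (T : Subgroup G) ≤ Ls ∧ largestPReducedOf p Ls = largestPReducedOf p L ∧
      L ⊔ Subgroup.centralizer (largestPReducedOf p L : Set G) =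
        Ls ⊔ Subgroup.centralizer (largestPReducedOf p L : Set G) := by
  set Y := largestPReducedOf p L with hY
  set C := Subgroup.centralizer (Y : Set G) with hC
  set T0 := (T : Subgroup G) ⊓ C with hT0
  have hLY : L ≤ Subgroup.normalizer (Y : Set G) := largestPReducedOf_normal L
  have hCY : C ≤ Subgroup.normalizer (Y : Set G) := Subgroup.centralizer_le_normalizer _
  have hMY : M ≤ Subgroup.normalizer (Y : Set G) := le_sup_left.trans (hfac.le.trans (sup_le hLY hCY))
  have hTLs : (T : Subgroup G) ≤ Ls := hLs ▸ le_inf hTM (CfsgLib.Solv.le_normalizer_inf_of_le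
    Subgroup.le_normalizer (centralizer_normal_in (hTL.trans hLY)))
  have hcov : M ≤ Ls ⊔ C := by
    haveI : (C.subgroupOf M).Normal := by
      rw [← Subgroup.inf_subgroupOf_right C M]
      exact (Subgroup.normal_subgroupOf_iff_le_normalizer inf_le_right).2
        (CfsgLib.Solv.le_normalizer_inf_of_le (centralizer_normal_in hMY) Subgroup.le_normalizer)
    obtain ⟨P, hP⟩ := sylow_inf_normal (T.subtype hTM) (C.subgroupOf M)
    intro m hm
    have h := (Sylow.normalizer_sup_eq_top P).ge (Subgroup.mem_top (⟨m, hm⟩ : M))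
    refine (show _ ≤ (Ls ⊔ C).subgroupOf M from sup_le (fun x hx => ?_) (fun x hx => Subgroup.mem_sup_right hx)) h
    refine Subgroup.mem_sup_left (hLs ▸ Subgroup.mem_inf.2 ⟨x.2, ?_⟩)
    have e : ((P : Subgroup _).map (C.subgroupOf M).subtype).map M.subtype = T0 := by
      rw [hP, Subgroup.map_inf _ _ _ M.subtype_injective]
      show ((T : Subgroup G).subgroupOf M).map M.subtype ⊓ _ = _
      rw [Subgroup.map_subgroupOf_eq_of_le hTM, Subgroup.subgroupOf_map_subtype, hT0, ← inf_assoc, inf_right_comm,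
        inf_eq_left.2 hTM]
    have h2 := Subgroup.le_normalizer_map M.subtype (Subgroup.mem_map_of_mem _ hx)
    rw [e] at h2; exact h2
  have heq : L ⊔ C = Ls ⊔ C := by
    rw [← hfac]
    exact le_antisymm (sup_le hcov le_sup_right) (sup_le_sup_right (hLs ▸ inf_le_left) _)
  refine ⟨hTLs, le_antisymm ?_ ?_, heq⟩
  · obtain ⟨-, hOY, hexp⟩ := largestPReducedOf_facts (p := p) Ls
    have hT0O : T0 ≤ pCoreOf p Ls :=
      le_pCoreOf (inf_le_left.trans hTLs) (T.2.to_le inf_le_left) (hLs ▸ inf_le_right)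
    have hYLs : Y ≤ largestPReducedOf p Ls :=
      red_le ((largest_le_sylow T hTL).trans hTLs)
        (red_cover (red_largest L) ((hLs ▸ inf_le_left : Ls ≤ M).trans hMY) heq)
    have hOL : pCoreOf p L ≤ T0 := le_inf (pCoreOf_le_sylow T hTL) (largestPReducedOf_facts L).2.1
    refine core T hTL hL (largest_le_sylow T hTLs) hexp (hOL.trans (hT0O.trans hOY)) fun N hNL hn hel => ?_
    have h := (red_largest (p := p) L).2.2 N hNL hn fun x hx hxo =>
      Subgroup.centralizer_le (SetLike.coe_subset_coe.2 hYLs) (by simpa using hel x hx hxo 1 (one_mem L))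
    exact (le_inf inf_le_left (inf_le_right.trans h) : (T : Subgroup G) ⊓ N ≤ T0).trans (hT0O.trans hOY)
  · exact red_le ((largest_le_sylow T hTL).trans hTLs)
      (red_cover (red_largest L) ((hLs ▸ inf_le_left : Ls ≤ M).trans hMY) heq)

theorem charP_of_frakL {L : Subgroup G} (hL : L ∈ charPSubgroups p G) :
    Subgroup.centralizer (pCore p ↥L : Set ↥L) ≤ pCore p ↥L := by
  intro x hx
  have h1 : (x : G) ∈ Subgroup.centralizer (((pCore p ↥L).map L.subtype : Subgroup G) : Set G) :=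
    mem_centralizer_map_subtype.2 hx
  obtain ⟨w, hw, hwe⟩ := hL.2 h1
  exact Subtype.ext hwe ▸ hw

theorem frakL_sub (T : Sylow p G) {M Z : Subgroup G} (hM : M ∈ charPSubgroups p G)
    (hTZ : (T : Subgroup G) ≤ Z) (hZM : Z ≤ M) : Z ∈ charPSubgroups p G := by
  have hle : pCoreOf p M ≤ pCoreOf p Z := le_pCoreOf ((pCoreOf_le_sylow T (hTZ.trans hZM)).trans hTZ)
    (pCoreOf_pgroup M) (hZM.trans (le_normalizer_pCoreOf M))
  refine ⟨fun h => hM.1 ?_, (Subgroup.centralizer_le (SetLike.coe_subset_coe.2 hle)).trans (hM.2.trans hle)⟩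
  refine (Subgroup.map_eq_bot_iff_of_injective _ M.subtype_injective).1 (le_bot_iff.1 (hle.trans (le_of_eq ?_)))
  show (pCore p ↥Z).map Z.subtype = ⊥
  rw [h, Subgroup.map_bot]

theorem largest_ne_bot (T : Sylow p G) {L : Subgroup G} (hTL : (T : Subgroup G) ≤ L)
    (hL : L ∈ charPSubgroups p G) : largestPReducedOf p L ≠ ⊥ := by
  intro hb
  have hT1 : ((T.subtype hTL : Sylow p L) : Subgroup L) ≠ ⊥ := fun h =>
    hL.1 (le_bot_iff.1 ((CfsgLib.Solv.pCore_le_sylow (T.subtype hTL)).trans h.le))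
  haveI : Nontrivial ↥((T.subtype hTL : Sylow p L) : Subgroup L) := (Subgroup.nontrivial_iff_ne_bot _).2 hT1
  haveI := (T.subtype hTL).2.center_nontrivial
  obtain ⟨z, hz⟩ := exists_prime_orderOf_dvd_card' p
    (((T.subtype hTL).2.to_subgroup (Subgroup.center _)).nontrivial_iff_card.1 inferInstance |>.elim
      fun n h => h.2 ▸ dvd_pow_self p h.1.ne')
  have hzp : ((z : (T.subtype hTL : Subgroup L)) : L) ^ p = 1 := by
    have h := pow_orderOf_eq_one z
    rw [hz] at h
    exact congrArg (fun w => ((Subtype.val w : (T.subtype hTL : Subgroup L)) : L)) h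
  have hmem : ((z : (T.subtype hTL : Subgroup L)) : L) ∈
      omegaOne p (((T.subtype hTL : Sylow p L) : Subgroup L) ⊓
        Subgroup.centralizer (((T.subtype hTL : Sylow p L) : Subgroup L) : Set L)) :=
    Subgroup.subset_closure ⟨Subgroup.mem_inf.2 ⟨(z : (T.subtype hTL : Subgroup L)).2,
      Subgroup.mem_centralizer_iff.2 fun t ht =>
        congrArg Subtype.val (Subgroup.mem_center_iff.1 z.2 ⟨t, ht⟩)⟩, hzp⟩
  have h2 := sylowCenter_le_largest (charP_of_frakL hL) (T.subtype hTL) hmem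
  have h3 : (((z : (T.subtype hTL : Subgroup L)) : L) : G) ∈ largestPReducedOf p L := ⟨_, h2, rfl⟩
  rw [hb, Subgroup.mem_bot] at h3
  have hz1 : z = 1 := Subtype.ext (Subtype.ext (Subtype.ext h3))
  rw [hz1, orderOf_one] at hz
  exact hp.out.ne_one hz.symm

theorem normalizer_mem (hH : IsOfParabolicCharacteristic p G) (T : Sylow p G) {L : Subgroup G}
    (hTL : (T : Subgroup G) ≤ L) (hL : L ∈ charPSubgroups p G) :
    Subgroup.normalizer (largestPReducedOf p L : Set G) ∈ charPSubgroups p G := by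
  set Y := largestPReducedOf p L with hY
  set N := Subgroup.normalizer (Y : Set G) with hN
  have hYp : IsPGroup p Y := T.2.to_le (largest_le_sylow T hTL)
  have hY1 := largest_ne_bot T hTL hL
  have hle : Y ≤ pCoreOf p N := le_pCoreOf Subgroup.le_normalizer hYp le_rfl
  refine ⟨fun h => hY1 (le_bot_iff.1 (hle.trans (le_of_eq ?_))), fun x hx => ?_⟩
  · show (pCore p ↥N).map N.subtype = ⊥
    rw [h, Subgroup.map_bot]
  · have hxN : x ∈ N := Subgroup.centralizer_le_normalizer _ (Subgroup.centralizer_le (SetLike.coe_subset_coe.2 hle) hx)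
    exact ⟨⟨x, hxN⟩, hH Y hYp hY1 ⟨T, hTL.trans (largestPReducedOf_normal L)⟩
      (mem_centralizer_map_subtype.1 hx), rfl⟩

/-- Existence for the basic property. -/
theorem exists_frakM (hH : IsOfParabolicCharacteristic p G) (T : Sylow p G) (L : Subgroup G)
    (hTL : (T : Subgroup G) ≤ L) (hL : L ∈ charPSubgroups p G) :
    ∃ M Ls : Subgroup G, (T : Subgroup G) ≤ M ∧ IsInFrakM p M ∧ (T : Subgroup G) ≤ Ls ∧ Ls ≤ M ∧
      Ls ∈ charPSubgroups p G ∧ largestPReducedOf p L = largestPReducedOf p Ls ∧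
      largestPReducedOf p L ≤ largestPReducedOf p M ∧
      L ⊔ Subgroup.centralizer (largestPReducedOf p L : Set G) =
        Ls ⊔ Subgroup.centralizer (largestPReducedOf p L : Set G) := by
  classical
  set Y := largestPReducedOf p L with hY
  set C := Subgroup.centralizer (Y : Set G) with hC
  have hexmax : ∀ Z ∈ charPSubgroups p G, ∃ X ∈ maxCharPSubgroups p G, Z ≤ X := fun Z hZ => by
    obtain ⟨X, ⟨hX, hZX⟩, hmax⟩ := Set.exists_max_image {X | X ∈ charPSubgroups p G ∧ Z ≤ X}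
      (fun X => Nat.card X) (Set.toFinite _) ⟨Z, hZ, le_rfl⟩
    exact ⟨X, ⟨hX, fun X' hX' hle => (Subgroup.eq_of_le_of_card_ge hle (hmax X' ⟨hX', hZX.trans hle⟩)).symm⟩, hZX⟩
  let P : Set (Subgroup G) := {X | X ∈ maxCharPSubgroups p G ∧ (T : Subgroup G) ≤ X ∧
    ∃ L' : Subgroup G, (T : Subgroup G) ≤ L' ∧ L' ≤ X ∧ L' ∈ charPSubgroups p G ∧
      largestPReducedOf p L' = Y ∧ L' ⊔ C = L ⊔ C}
  obtain ⟨X0, hX0, hNX0⟩ := hexmax _ (normalizer_mem hH T hTL hL)
  have hLX0 : L ≤ X0 := (largestPReducedOf_normal L).trans hNX0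
  obtain ⟨X, ⟨hXmax, hTX, L', hTL', hL'X, hL', hYL', hcov'⟩, hbest⟩ :=
    Set.exists_max_image P (fun X => Nat.card ↥(largestPReducedOf p X)) (Set.toFinite _)
      ⟨X0, hX0, hTL.trans hLX0, L, hTL, hLX0, hL, rfl, rfl⟩
  set YX := largestPReducedOf p X with hYX
  set CX := Subgroup.centralizer (YX : Set G) with hCX
  have hYYX : Y ≤ YX := hYL' ▸ mono T hTL' hL'X (charP_of_frakL hXmax.1)
  have hXY : X ≤ Subgroup.normalizer (YX : Set G) := largestPReducedOf_normal X
  have hNX : Subgroup.normalizer (YX : Set G) = X := hXmax.2 _ (normalizer_mem hH T hTX hXmax.1) hXY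
  have hCXX : CX ≤ X := (Subgroup.centralizer_le_normalizer _).trans hNX.le
  have hCXC : CX ≤ C := Subgroup.centralizer_le (SetLike.coe_subset_coe.2 hYYX)
  set T1 := (T : Subgroup G) ⊓ CX with hT1
  obtain ⟨hT0', -, hcovX⟩ := lstar (L := X) (M := X) T hTX hTX (charP_of_frakL hXmax.1) rfl rfl
  obtain ⟨M, ⟨hTM, hMle, hXM⟩, hmin⟩ := Set.exists_min_image
    {Z : Subgroup G | (T : Subgroup G) ≤ Z ∧ Z ≤ X ⊓ Subgroup.normalizer (T1 : Set G) ∧ X ≤ Z ⊔ CX}
    (fun Z => Nat.card Z) (Set.toFinite _)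
    ⟨_, hT0', le_rfl, le_sup_left.trans hcovX.le⟩
  have hMX : M ≤ X := hMle.trans inf_le_left
  have hMT1 : M ≤ Subgroup.normalizer (T1 : Set G) := hMle.trans inf_le_right
  have hMeq : M ⊔ CX = X := le_antisymm (sup_le hMX hCXX) hXM
  have hM : M ∈ charPSubgroups p G := frakL_sub T hXmax.1 hTM hMX
  have hYM : largestPReducedOf p M = YX := by
    refine le_antisymm (mono T hTM hMX (charP_of_frakL hXmax.1)) (red_le ((largest_le_sylow T hTX).trans hTM) ?_)
    refine red_cover (red_largest X) (hMX.trans hXY) ?_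
    show X ⊔ CX = M ⊔ CX
    rw [hMeq]; exact sup_eq_left.2 hCXX
  -- the subgroup covering `L`
  set L2 := M ⊓ (L' ⊔ C) with hL2
  have hTL2 : (T : Subgroup G) ≤ L2 := le_inf hTM (hTL'.trans le_sup_left)
  have hMCX : M ≤ Subgroup.normalizer (CX : Set G) := centralizer_normal_in (hMX.trans hXY)
  have hL2cov : L2 ⊔ C = L' ⊔ C := by
    refine le_antisymm (sup_le inf_le_right le_sup_right) (sup_le (fun l hl => ?_) le_sup_right)
    obtain ⟨c, hc, m, hm, hle⟩ := CfsgLib.Solv.exists_mul_of_mem_sup hMCX (hMeq.ge (hL'X hl))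
    have hm' : m ∈ L2 := by
      refine Subgroup.mem_inf.2 ⟨hm, ?_⟩
      have := mul_mem (Subgroup.mem_sup_right (S := L') (inv_mem (hCXC hc))) (Subgroup.mem_sup_left (T := C) hl)
      simpa [hle] using this
    rw [hle]
    exact mul_mem (Subgroup.mem_sup_right (hCXC hc)) (Subgroup.mem_sup_left hm')
  obtain ⟨hTLs, hYLs, hLscov⟩ := lstar (L := L) (M := L2) T hTL hTL2 (charP_of_frakL hL)
    (hL2cov.trans hcov') rfl
  set Ls := L2 ⊓ Subgroup.normalizer (((T : Subgroup G) ⊓ C : Subgroup G) : Set G) with hLs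
  have hLsM : Ls ≤ M := inf_le_left.trans inf_le_left
  have hLsL : Ls ∈ charPSubgroups p G := frakL_sub T hM hTLs hLsM
  refine ⟨M, Ls, hTM, ⟨hM, ?_, ?_, ?_, ?_, ?_⟩, hTLs, hLsM, hLsL, hYLs.symm, hYM.symm ▸ hYYX, hLscov⟩
  · rw [hYM]; show M ⊔ CX ∈ _; rw [hMeq]; exact hXmax
  · intro X' hX' hMX'
    rw [hYM]
    show X' = M ⊔ CX
    rw [hMeq]
    have hb := hbest X' ⟨hX', hTM.trans hMX', Ls, hTLs, hLsM.trans hMX', hLsL, hYLs, hLscov.symm⟩
    have h1 : YX ≤ largestPReducedOf p X' := hYM ▸ mono T hTM hMX' (charP_of_frakL hX'.1)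
    have h2 := Subgroup.eq_of_le_of_card_ge h1 hb
    have h3 : X' ≤ X := hNX ▸ h2 ▸ largestPReducedOf_normal X'
    exact (hX'.2 X hXmax.1 h3).symm
  · conv_rhs => rw [hYM, show M ⊔ Subgroup.centralizer (YX : Set G) = X from hMeq]
    exact hYM
  · rw [hYM]
    intro P0
    have hKM : M ≤ Subgroup.normalizer ((M ⊓ CX : Subgroup G) : Set G) :=
      CfsgLib.Solv.le_normalizer_inf_of_le Subgroup.le_normalizer hMCX
    have hP0 : IsPGroup p (((P0 : Subgroup ↥(M ⊓ CX)).map (M ⊓ CX).subtype).subgroupOf M) :=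
      (P0.2.map _).comap_subtype
    obtain ⟨R, hR⟩ := hP0.exists_le_sylow
    obtain ⟨m, hm⟩ := MulAction.exists_smul_eq M (T.subtype hTM) R
    have hle : (P0 : Subgroup ↥(M ⊓ CX)) ≤ T1.subgroupOf (M ⊓ CX) := by
      intro x hx
      obtain ⟨hxM, hxC⟩ := Subgroup.mem_inf.1 x.2
      have h1 : (⟨x, hxM⟩ : M) ∈ (R : Subgroup M) := hR (Subgroup.mem_subgroupOf.2 ⟨x, hx, rfl⟩)
      rw [← hm, Sylow.coe_subgroup_smul, CfsgLib.Solv.mem_conj_smul_iff] at h1
      have h2 : (m : G)⁻¹ * x * m ∈ T1 := Subgroup.mem_inf.2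
        ⟨h1, (Subgroup.mem_normalizer_iff''.1 (hMCX m.2) _).1 hxC⟩
      show (x : G) ∈ T1
      simpa [mul_assoc] using (Subgroup.mem_normalizer_iff.1 (hMT1 m.2) _).1 h2
    have hT1le : T1 ≤ M ⊓ CX := inf_le_inf_right _ hTM
    rw [← P0.3 (T.2.to_le inf_le_left).comap_subtype hle]
    exact (Subgroup.normal_subgroupOf_iff_le_normalizer hT1le).2 (inf_le_left.trans hMT1)
  · rw [hYM]
    haveI := CfsgLib.Solv.pCore_normal ↥M p
    set π := QuotientGroup.mk' (pCore p ↥M)
    set K := (M ⊓ CX).subgroupOf M with hK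
    haveI : K.Normal := (Subgroup.normal_subgroupOf_iff_le_normalizer inf_le_left).2
      (CfsgLib.Solv.le_normalizer_inf_of_le Subgroup.le_normalizer hMCX)
    show K.map π ≤ Order.radical _
    refine le_iInf₂ fun U hU => ?_
    rw [Subgroup.map_le_iff_le_comap]
    by_contra hne
    set V := U.comap π with hV
    have hVtop : V ⊔ K = ⊤ := by
      have h1 : U ⊔ K.map π = ⊤ := hU.2 _ (lt_of_le_of_ne le_sup_left fun e =>
        hne (Subgroup.map_le_iff_le_comap.1 (le_sup_right.trans e.ge)))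
      have h2 := congrArg (Subgroup.comap π) h1
      rw [Subgroup.comap_top] at h2
      rw [← h2, ← Subgroup.comap_sup_eq π U (K.map π) (QuotientGroup.mk'_surjective _), Subgroup.comap_map_eq,
        QuotientGroup.ker_mk']
      refine le_antisymm (sup_le_sup_left le_sup_left _) (sup_le le_sup_left (sup_le le_sup_right ?_))
      exact le_trans (fun x hx => by
        show π x ∈ U
        rw [show π x = 1 from (QuotientGroup.eq_one_iff x).2 hx]; exact one_mem U) le_sup_left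
    have hT1V : T1.subgroupOf M ≤ V := by
      intro x hx
      show π x ∈ U
      have hc : x ∈ pCore p ↥M := by
        haveI : (T1.subgroupOf M).Normal :=
          (Subgroup.normal_subgroupOf_iff_le_normalizer (inf_le_left.trans hTM)).2 hMT1
        exact CfsgLib.Solv.le_pCore (N := T1.subgroupOf M) (T.2.to_le (inf_le_left : T1 ≤ _)).comap_subtype hx
      rw [show π x = 1 from (QuotientGroup.eq_one_iff x).2 hc]; exact one_mem U
    have hTKV : ((T.subtype hTM : Sylow p M) : Subgroup M) ⊓ K ≤ V := fun x hx => hT1V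
      (Subgroup.mem_subgroupOf.2 (Subgroup.mem_inf.2 ⟨(Subgroup.mem_inf.1 hx).1,
        (Subgroup.mem_inf.1 (Subgroup.mem_subgroupOf.1 (Subgroup.mem_inf.1 hx).2)).2⟩))
    have hidx : ¬ p ∣ V.index := by
      intro hd
      rw [← CfsgLib.Solv.relIndex_eq_index_of_sup_eq_top V K hVtop] at hd
      have h1 := Subgroup.relIndex_dvd_of_le_left K hTKV
      rw [Subgroup.inf_relIndex_right] at h1
      exact (T.subtype hTM).not_dvd_index
        ((hd.trans h1).trans (CfsgLib.Solv.relIndex_normal_dvd_index _ K))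
    obtain ⟨R⟩ : Nonempty (Sylow p V) := inferInstance
    have hRidx : ¬ p ∣ ((R : Subgroup V).map V.subtype).index := by
      rw [Subgroup.index_map_subtype]
      exact fun hd => ((Nat.Prime.dvd_mul hp.out).1 hd).elim R.not_dvd_index hidx
    obtain ⟨g, hg⟩ := MulAction.exists_smul_eq M ((R.2.map V.subtype).toSylow hRidx) (T.subtype hTM)
    set U' := (V.map (MulAut.conj g).toMonoidHom).map M.subtype with hU'
    have hTU' : (T : Subgroup G) ≤ U' := by
      intro t ht
      have h1 : (⟨t, hTM ht⟩ : M) ∈ ((T.subtype hTM : Sylow p M) : Subgroup M) := ht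
      rw [← hg, Sylow.coe_subgroup_smul, CfsgLib.Solv.conj_smul_eq_map] at h1
      exact Subgroup.mem_map.2 ⟨_, Subgroup.map_mono (Subgroup.map_subtype_le _) h1, rfl⟩
    have hU'M : U' ≤ M := Subgroup.map_subtype_le _
    have hKfix : K.map (MulAut.conj g).toMonoidHom = K := Subgroup.Normal.map_conj_eq (H := K) g
    have hU'cov : X ≤ U' ⊔ CX := by
      rw [← hMeq]
      refine sup_le ?_ le_sup_right
      have h1 := congrArg (fun S => (Subgroup.map (MulAut.conj g).toMonoidHom S).map M.subtype) hVtop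
      simp only [Subgroup.map_sup, hKfix] at h1
      rw [Subgroup.map_top_of_surjective _ (MulAut.conj g).surjective, ← MonoidHom.range_eq_map,
        Subgroup.range_subtype] at h1
      refine h1.symm.le.trans (sup_le_sup_left ?_ _)
      rintro _ ⟨x, hx, rfl⟩
      exact (Subgroup.mem_inf.1 (Subgroup.mem_subgroupOf.1 hx)).2
    have h2 := Subgroup.eq_of_le_of_card_ge hU'M (hmin U' ⟨hTU', hU'M.trans hMle, hU'cov⟩)
    have h3 : V.map (MulAut.conj g).toMonoidHom = ⊤ := by
      rw [← Subgroup.map_subtype_inj, ← MonoidHom.range_eq_map, Subgroup.range_subtype]; exact h2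
    have h4 : V = ⊤ := by
      apply Subgroup.map_injective (f := (MulAut.conj g).toMonoidHom) (MulAut.conj g).injective
      rw [h3, Subgroup.map_top_of_surjective _ (MulAut.conj g).surjective]
    refine hU.1 (top_le_iff.1 fun q _ => ?_)
    obtain ⟨x, rfl⟩ := QuotientGroup.mk'_surjective (pCore p ↥M) q
    exact (h4.ge (Subgroup.mem_top x) : x ∈ V)

end CfsgLib.Inv.FM
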