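import Cfsg.Agent.Inv.QuadEven
import Cfsg.Agent.Inv.ZJApp
import Cfsg.Agent.Fus.QdStable

/-!
An odd prime element is inverted in a group exactly when one is inverted in the normalizer of the center of the
Thompson subgroup of a Sylow subgroup.
-/

set_option autoImplicit false
set_option linter.style.haveILetI false
set_option linter.unusedSectionVars false
set_option linter.deprecated false

open Cfsg
open scoped commutatorElement Pointwise

namespace CfsgLib.Inv.ZJ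

open CfsgLib.Glau CfsgLib.Inv.QP

universe u

variable {p : ℕ} [hp : Fact p.Prime] {e : ℕ}

/-- Some nontrivial `p`-element of `H` is inverted inside `H`. -/
def InvIn {G : Type*} [Group G] (p : ℕ) (H : Subgroup G) : Prop :=
  ∃ u ∈ H, ∃ g ∈ H, u ≠ 1 ∧ (∃ k : ℕ, u ^ p ^ k = 1) ∧ g * u * g⁻¹ = u⁻¹

theorem InvIn.mono {G : Type*} [Group G] {H K : Subgroup G} (h : InvIn p H) (hle : H ≤ K) : InvIn p K := by
  obtain ⟨u, hu, g, hg, h1⟩ := h
  exact ⟨u, hle hu, g, hle hg, h1⟩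

theorem InvIn.map {G G' : Type*} [Group G] [Group G'] {f : G →* G'} (hf : Function.Injective f) {H : Subgroup G}
    (h : InvIn p H) : InvIn p (H.map f) := by
  obtain ⟨u, hu, g, hg, hu1, ⟨k, hk⟩, hgu⟩ := h
  exact ⟨f u, ⟨u, hu, rfl⟩, f g, ⟨g, hg, rfl⟩, fun h => hu1 (hf (h.trans (map_one f).symm)),
    ⟨k, by rw [← map_pow, hk, map_one]⟩, by rw [← map_inv, ← map_inv, ← map_mul, ← map_mul, hgu]⟩

/-- Replace an inverting element by one of two-power order. -/
theorem exists_two_inverter {G : Type*} [Group G] [Finite G] {u g : G} (h : g * u * g⁻¹ = u⁻¹) :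
    ∃ t ∈ Subgroup.zpowers g, (∃ j : ℕ, t ^ 2 ^ j = 1) ∧ t * u * t⁻¹ = u⁻¹ := by
  obtain ⟨j, m, hm, hjm⟩ := Nat.exists_eq_two_pow_mul_odd (orderOf_pos g).ne'
  refine ⟨g ^ m, Subgroup.npow_mem_zpowers g m, ⟨j, by rw [← pow_mul, mul_comm, ← hjm, pow_orderOf_eq_one]⟩, ?_⟩
  have h2 : g ^ 2 * u * (g ^ 2)⁻¹ = u := by
    rw [pow_two, show g * g * u * (g * g)⁻¹ = g * (g * u * g⁻¹) * g⁻¹ by group, h, ← conj_inv, h, inv_inv]
  have hc : Commute (g ^ 2) u := mul_inv_eq_iff_eq_mul.1 h2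
  obtain ⟨i, rfl⟩ := hm
  rw [pow_succ', pow_mul, show g * (g ^ 2) ^ i * u * (g * (g ^ 2) ^ i)⁻¹ =
    g * ((g ^ 2) ^ i * u * ((g ^ 2) ^ i)⁻¹) * g⁻¹ by group, (hc.pow_left i).eq, mul_inv_cancel_right, h]

/-- An element acting as a nontrivial `2`-element on a `p`-subgroup inverts one of its elements. -/
theorem inv_of_moves {G : Type*} [Group G] [Finite G] (t : G) : ∀ (j : ℕ) (U H : Subgroup G), IsPGroup p U →
    U ≤ H → t ∈ H → t ∈ Subgroup.normalizer (U : Set G) → (∀ v ∈ U, t ^ 2 ^ j * v = v * t ^ 2 ^ j) →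
    (∃ v ∈ U, t * v ≠ v * t) → InvIn p H := by
  intro j
  induction j with
  | zero =>
    intro U H _ _ _ _ h ⟨v, hv, hne⟩
    exact absurd (by simpa using h v hv) hne
  | succ j ih =>
    intro U H hU hUH htH htN h hne
    by_cases hj : ∀ v ∈ U, t ^ 2 ^ j * v = v * t ^ 2 ^ j
    · exact ih U H hU hUH htH htN hj hne
    push Not at hj
    obtain ⟨v, hv, hvne⟩ := hj
    set s := t ^ 2 ^ j with hs
    have hsN : s ∈ Subgroup.normalizer (U : Set G) := Subgroup.pow_mem _ htN _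
    have hsv : s * v * s⁻¹ ∈ U := (Subgroup.mem_normalizer_iff.1 hsN v).1 hv
    set u := v⁻¹ * (s * v * s⁻¹) with hu
    have huU : u ∈ U := U.mul_mem (U.inv_mem hv) hsv
    obtain ⟨k, hk⟩ := hU ⟨u, huU⟩
    refine ⟨u, hUH huU, s, H.pow_mem htH _, fun h1 => hvne ?_, ⟨k, congrArg Subtype.val hk⟩, ?_⟩
    · rw [hu, inv_mul_eq_one] at h1
      exact (mul_inv_eq_iff_eq_mul.1 h1.symm)
    · have h2 : s * (s * v * s⁻¹) * s⁻¹ = v := by
        have h3 := h v hv
        rw [show t ^ 2 ^ (j + 1) = s * s by rw [hs, ← pow_add, pow_succ, mul_two]] at h3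
        rw [show s * (s * v * s⁻¹) * s⁻¹ = (s * s * v) * (s * s)⁻¹ by group, h3, mul_inv_cancel_right]
      calc s * u * s⁻¹ = (s * v * s⁻¹)⁻¹ * (s * (s * v * s⁻¹) * s⁻¹) := by rw [hu]; group
        _ = u⁻¹ := by rw [h2, hu]; group

/-- Inversion lifts along homomorphisms. -/
theorem inv_lift (hp2 : p ≠ 2) {G G' : Type*} [Group G] [Finite G] [Group G'] [Finite G'] (f : G →* G') {H : Subgroup G}
    (h : InvIn p (H.map f)) : InvIn p H := by
  obtain ⟨_, ⟨u₀, hu₀, rfl⟩, _, ⟨g₀, hg₀, rfl⟩, hu1, ⟨k, hk⟩, hgu⟩ := h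
  set L := H ⊓ (Subgroup.zpowers (f u₀)).comap f with hL
  have hu₀L : u₀ ∈ L := ⟨hu₀, Subgroup.mem_comap.2 (Subgroup.mem_zpowers _)⟩
  obtain ⟨Y, -, hY⟩ := exists_syl (p := p) L (bot_le : (⊥ : Subgroup G) ≤ L) IsPGroup.of_bot
  have hmapL : L.map f = Subgroup.zpowers (f u₀) :=
    le_antisymm ((Subgroup.map_mono inf_le_right).trans (Subgroup.map_comap_le _ _))
      (Subgroup.zpowers_le.2 ⟨u₀, hu₀L, rfl⟩)
  have hzp : IsPGroup p ↥(Subgroup.zpowers (f u₀)) := by
    rintro ⟨v, hv⟩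
    obtain ⟨i, rfl⟩ := Subgroup.mem_zpowers_iff.1 hv
    exact ⟨k, Subtype.ext (by
      show (f u₀ ^ i) ^ p ^ k = 1
      rw [← zpow_natCast, ← zpow_mul, mul_comm, zpow_mul, zpow_natCast, hk, one_zpow])⟩
  obtain ⟨y, hy, hye⟩ : f u₀ ∈ Y.map f := by
    have h1 := hY.map f
    rw [hmapL] at h1
    rw [← h1.eq_of_le h1.le le_rfl hzp]
    exact Subgroup.mem_zpowers _
  -- Frattini
  have hcj : cj g₀ Y ≤ L := by
    rintro _ ⟨v, hv, rfl⟩
    refine ⟨H.mul_mem (H.mul_mem hg₀ (hY.le hv).1) (H.inv_mem hg₀), Subgroup.mem_comap.2 ?_⟩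
    obtain ⟨i, hi⟩ := Subgroup.mem_zpowers_iff.1 (Subgroup.mem_comap.1 (hY.le hv).2)
    show f (g₀ * v * g₀⁻¹) ∈ Subgroup.zpowers (f u₀)
    rw [map_mul, map_mul, map_inv, ← hi, ← conj_zpow, hgu]
    exact Subgroup.zpow_mem _ (Subgroup.inv_mem _ (Subgroup.mem_zpowers _)) i
  obtain ⟨c, hc, hcY⟩ := hY.exists_conj_le hcj (isPGroup_cj g₀ hY.pg)
  rw [← cj_mul] at hcY
  set n := c * g₀ with hn
  have hnN : n ∈ Subgroup.normalizer (Y : Set G) :=
    mem_normalizer_iff_cj.2 (Subgroup.eq_of_le_of_card_ge hcY (card_cj n Y).ge)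
  have hnH : n ∈ H := H.mul_mem hc.1 hg₀
  have hnu : f n * f u₀ * (f n)⁻¹ = (f u₀)⁻¹ := by
    obtain ⟨i, hi⟩ := Subgroup.mem_zpowers_iff.1 (Subgroup.mem_comap.1 hc.2)
    rw [hn, map_mul, ← hi, show f u₀ ^ i * f g₀ * f u₀ * (f u₀ ^ i * f g₀)⁻¹ =
      f u₀ ^ i * (f g₀ * f u₀ * (f g₀)⁻¹) * (f u₀ ^ i)⁻¹ by group, hgu]
    group
  haveI : Finite ↥(f.range) := Finite.of_surjective _ f.rangeRestrict_surjective
  obtain ⟨j, m, hm, hjm⟩ := Nat.exists_eq_two_pow_mul_odd (orderOf_pos n).ne'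
  set t := n ^ m with ht
  have htu : f t * f u₀ * (f t)⁻¹ = (f u₀)⁻¹ := by
    have h2 : Commute (f n ^ 2) (f u₀) := mul_inv_eq_iff_eq_mul.1 (by
      rw [pow_two, show f n * f n * f u₀ * (f n * f n)⁻¹ = f n * (f n * f u₀ * (f n)⁻¹) * (f n)⁻¹ by group, hnu,
        ← conj_inv, hnu, inv_inv])
    obtain ⟨i, rfl⟩ := hm
    rw [ht, map_pow, pow_succ', pow_mul, show f n * (f n ^ 2) ^ i * f u₀ * (f n * (f n ^ 2) ^ i)⁻¹ =
      f n * ((f n ^ 2) ^ i * f u₀ * ((f n ^ 2) ^ i)⁻¹) * (f n)⁻¹ by group, (h2.pow_left i).eq, mul_inv_cancel_right,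
      hnu]
  refine inv_of_moves t j Y H hY.pg (hY.le.trans inf_le_left) (H.pow_mem hnH m) (Subgroup.pow_mem _ hnN m)
    (fun v _ => by rw [ht, ← pow_mul, mul_comm m, ← hjm, pow_orderOf_eq_one, one_mul, mul_one]) ⟨y, hy, fun hty => ?_⟩
  -- the lift is not centralized
  have h3 : (f u₀)⁻¹ = f u₀ := by
    rw [← htu, ← hye, ← map_inv, ← map_mul, ← map_mul, hty, mul_inv_cancel_right]
  have h4 : f u₀ ^ 2 = 1 := by
    rw [pow_two]
    nth_rewrite 1 [← h3]
    rw [inv_mul_cancel]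
  exact hu1 (orderOf_eq_one_iff.1 (Nat.eq_one_of_dvd_coprimes
    (Nat.Coprime.pow_left k ((Nat.coprime_primes hp.out Nat.prime_two).2 hp2))
    (orderOf_dvd_of_pow_eq_one hk) (orderOf_dvd_of_pow_eq_one h4)))

theorem exists_lt_pgroup_normalizer {G : Type*} [Group G] [Finite G] {T T₂ : Subgroup G} (hT₂ : IsPGroup p T₂)
    (hlt : T < T₂) : T < T₂ ⊓ Subgroup.normalizer (T : Set G) := by
  haveI := hT₂.isNilpotent
  have hlt' : T.subgroupOf T₂ < ⊤ := lt_top_iff_ne_top.2 fun ht => hlt.not_ge (Subgroup.subgroupOf_eq_top.1 ht)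
  obtain ⟨⟨g, hg⟩, hgN, hgn⟩ := SetLike.exists_of_lt
    (Group.normalizerCondition_of_isNilpotent (G := ↥T₂) _ hlt')
  refine lt_of_le_of_ne (le_inf hlt.le Subgroup.le_normalizer) fun he => hgn ?_
  show g ∈ T
  rw [he]
  exact ⟨hg, Subgroup.mem_normalizer_fintype fun y hy => (Subgroup.mem_normalizer_iff.1 hgN ⟨y, hlt.le hy⟩).1 hy⟩

set_option maxHeartbeats 1000000 in
/-- Inversion is detected in the normalizer of the center of the Thompson subgroup. -/
theorem inv_zJ (hp2 : p ≠ 2) (he : e = 0 ∨ e = p) :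
    ∀ (Γ : Type u) [Group Γ] [Finite Γ] (S : Subgroup Γ), Syl p S ⊤ → InvIn p (⊤ : Subgroup Γ) →
      InvIn p (Subgroup.normalizer (zJ e S : Set Γ)) := by
  suffices key : ∀ (n : ℕ) (Γ : Type u) [Group Γ] [Finite Γ], Nat.card Γ = n → ∀ S : Subgroup Γ, Syl p S ⊤ →
      InvIn p (⊤ : Subgroup Γ) → InvIn p (Subgroup.normalizer (zJ e S : Set Γ)) from
    fun Γ _ _ S hS h => key _ Γ rfl S hS h
  intro n
  induction n using Nat.strong_induction_on with
  | _ n ih =>
  intro Γ _ _ hn S hS hinv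
  subst hn
  set N := Subgroup.normalizer (zJ e S : Set Γ) with hN
  have hSN : S ≤ N := Subgroup.le_normalizer.trans (normalizer_le_zJ S)
  have hsub : ∀ (H T : Subgroup Γ), H ≠ ⊤ → Syl p T H → InvIn p H →
      InvIn p (H ⊓ Subgroup.normalizer (zJ e T : Set Γ)) := by
    intro H T hne hT hi
    have hlt : Nat.card H < Nat.card Γ :=
      lt_of_le_of_ne (Nat.card_le_card_of_injective _ H.subtype_injective) fun he' =>
        hne (Subgroup.eq_top_of_card_eq _ he')
    have hi' : InvIn p (⊤ : Subgroup H) := by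
      obtain ⟨u, hu, g, hg, hu1, ⟨k, hk⟩, hgu⟩ := hi
      exact ⟨⟨u, hu⟩, trivial, ⟨g, hg⟩, trivial, fun h => hu1 (congrArg Subtype.val h), ⟨k, Subtype.ext hk⟩,
        Subtype.ext hgu⟩
    have h := (ih _ hlt ↥H rfl _ hT.subgroupOf hi').map H.subtype_injective
    rw [← top_inf_eq (Subgroup.normalizer _), map_inf_normalizer H.subtype_injective, map_zJ H.subtype_injective,
      ← MonoidHom.range_eq_map, H.range_subtype, Subgroup.map_subgroupOf_eq_of_le hT.le] at h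
    exact h
  by_contra hno
  have hover : ∀ H : Subgroup Γ, H ≠ ⊤ → S ≤ H → ¬ InvIn p H := fun H hH hSH hi =>
    hno ((hsub H S hH (hS.mono hSH le_top) hi).mono inf_le_right)
  -- a normal subgroup
  have hP : Cfsg.pCore p Γ ≠ ⊥ := by
    obtain ⟨u, -, g, -, hu1, ⟨k, hk⟩, hgu⟩ := hinv
    set bad : Set (Subgroup Γ) := {R | IsPGroup p R ∧ R ≠ ⊥ ∧ InvIn p (Subgroup.normalizer (R : Set Γ))}
      with hbad
    have hne : bad.Nonempty := by
      refine ⟨Subgroup.zpowers u, ?_, Subgroup.zpowers_ne_bot.2 hu1, u, ?_, g, ?_, hu1, ⟨k, hk⟩, hgu⟩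
      · rintro ⟨v, hv⟩
        obtain ⟨i, rfl⟩ := Subgroup.mem_zpowers_iff.1 hv
        exact ⟨k, Subtype.ext (by
          show (u ^ i) ^ p ^ k = 1
          rw [← zpow_natCast, ← zpow_mul, mul_comm, zpow_mul, zpow_natCast, hk, one_zpow])⟩
      · exact Subgroup.le_normalizer (Subgroup.mem_zpowers u)
      · refine Subgroup.mem_normalizer_fintype fun v hv => ?_
        obtain ⟨i, rfl⟩ := Subgroup.mem_zpowers_iff.1 hv
        rw [← conj_zpow, hgu]
        exact Subgroup.zpow_mem _ (Subgroup.inv_mem _ (Subgroup.mem_zpowers u)) i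
    obtain ⟨R, ⟨hR, hRne, hRi⟩, hmax⟩ := Set.exists_max_image bad
      (fun R => p ^ (Nat.card ↥(Subgroup.normalizer (R : Set Γ))).factorization p) (Set.toFinite _) hne
    by_cases htop : Subgroup.normalizer (R : Set Γ) = ⊤
    · exact fun hb => hRne (le_bot_iff.1 (hb ▸ CfsgLib.Solv.le_pCore (hN := Subgroup.normalizer_eq_top_iff.1 htop) hR))
    exfalso
    obtain ⟨T, hRT, hT⟩ := exists_syl (p := p) _ (Subgroup.le_normalizer : R ≤ Subgroup.normalizer (R : Set Γ)) hR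
    have hi := (hsub _ T htop hT hRi).mono inf_le_right
    have hTne : T ≠ ⊥ := fun h => hRne (le_bot_iff.1 (h ▸ hRT))
    have hb := hmax (zJ e T) ⟨hT.pg.to_le (zJ_le T), zJ_ne_bot (p := p) he hT.pg hTne, hi⟩
    rw [← hT.card] at hb
    obtain ⟨T₂, hTT₂, hT₂⟩ := exists_syl (p := p) (⊤ : Subgroup Γ) (le_top : T ≤ ⊤) hT.pg
    by_cases hfull : T = T₂
    · subst hfull
      obtain ⟨a, -, ha⟩ := hS.exists_conj_le (le_top : T ≤ ⊤) hT.pg
      have he' : cj a T = S := Subgroup.eq_of_le_of_card_ge ha (by rw [card_cj, hT₂.card, hS.card])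
      refine hno ?_
      have := hi.map (f := (MulAut.conj a).toMonoidHom) (MulAut.conj a).injective
      rw [show (Subgroup.normalizer (zJ e T : Set Γ)).map (MulAut.conj a).toMonoidHom =
        cj a (Subgroup.normalizer (zJ e T : Set Γ)) from rfl, cj_normalizer,
        show cj a (zJ e T) = zJ e S by rw [← he']; exact map_zJ (MulAut.conj a).injective T] at this
      exact this
    · have hlt := exists_lt_pgroup_normalizer hT₂.pg (lt_of_le_of_ne hTT₂ hfull)
      obtain ⟨T₃, hT₃, hsyl⟩ := exists_syl (p := p) (Subgroup.normalizer (zJ e T : Set Γ))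
        (inf_le_right.trans (normalizer_le_zJ T) : T₂ ⊓ Subgroup.normalizer (T : Set Γ) ≤ _)
        (hT₂.pg.to_le inf_le_left)
      rw [← hsyl.card] at hb
      exact (hlt.trans_le hT₃).ne (Subgroup.eq_of_le_of_card_ge (hlt.le.trans hT₃) hb)
  -- quotients
  by_cases hK : pPrimeCore p Γ ≠ ⊥
  · haveI := CfsgLib.Solv.pPrimeCore_normal Γ p
    set K := pPrimeCore p Γ with hKdef
    have hKc : ¬ p ∣ Nat.card K := CfsgLib.Solv.not_dvd_card_pPrimeCore
    let π := QuotientGroup.mk' K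
    have hπ : Function.Surjective π := QuotientGroup.mk'_surjective K
    have hlt : Nat.card (Γ ⧸ K) < Nat.card Γ := by
      rw [← K.index_eq_card, ← K.card_mul_index]
      exact lt_mul_left K.index_ne_zero_of_finite.bot_lt ((Subgroup.one_lt_card_iff_ne_bot K).2 hK)
    have hSb := hS.map π
    rw [Subgroup.map_top_of_surjective π hπ] at hSb
    have hinj : Set.InjOn π (S : Set Γ) := fun x hx y hy he' => by
      have : x⁻¹ * y ∈ S ⊓ K := ⟨S.mul_mem (S.inv_mem hx) hy, QuotientGroup.eq.1 he'⟩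
      rw [inf_eq_bot_of_card hS.pg hKc, Subgroup.mem_bot, inv_mul_eq_one] at this
      exact this
    obtain ⟨u, -, g, -, hu1, ⟨k, hk⟩, hgu⟩ := hinv
    have hπu : π u ≠ 1 := by
      intro h
      obtain ⟨i, hi, hio⟩ := (Nat.dvd_prime_pow hp.out).1 (orderOf_dvd_of_pow_eq_one hk)
      have h1 : orderOf u ∣ Nat.card K :=
        Subgroup.orderOf_dvd_natCard K ((QuotientGroup.eq_one_iff u).1 h)
      rcases i with - | i
      · exact hu1 (orderOf_eq_one_iff.1 (hio.trans (pow_zero p)))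
      · exact hKc ((dvd_pow_self p (Nat.succ_ne_zero i)).trans (hio ▸ h1))
    have hb := ih _ hlt (Γ ⧸ K) rfl _ hSb ⟨π u, trivial, π g, trivial, hπu, ⟨k, by rw [← map_pow, hk, map_one]⟩,
      by rw [← map_inv, ← map_inv, ← map_mul, ← map_mul, hgu]⟩
    rw [← map_zJ_injOn π hinj] at hb
    refine hno (inv_lift hp2 π (hb.mono ?_))
    haveI : Group.IsNilpotent ↥(zJ e S) := (hS.pg.to_le (zJ_le S)).isNilpotent
    refine CfsgLib.Solv.normalizer_map_mk'_le ?_ inferInstance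
    obtain ⟨i, hi⟩ := (hS.pg.to_le (zJ_le S) : IsPGroup p ↥(zJ e S)).exists_card_eq
    rw [hi]
    exact (hp.out.coprime_iff_not_dvd.2 hKc).pow_left i
  rw [not_not] at hK
  haveI := CfsgLib.Solv.pCore_normal Γ p
  set P := pCore p Γ with hPdef
  have hPp : IsPGroup p ↥P := CfsgLib.Solv.pCore_isPGroup Γ p
  have hPN : (⊤ : Subgroup Γ) ≤ Subgroup.normalizer (P : Set Γ) :=
    (Subgroup.normalizer_eq_top_iff.2 inferInstance).ge
  have hPS : P ≤ S := hS.normal_le le_top hPp hPN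
  set C := Subgroup.centralizer (P : Set Γ) with hCdef
  haveI : C.Normal := Subgroup.normalizer_eq_top_iff.1 (eq_top_iff.2
    (hPN.trans (normalizer_le_centralizer_normalizer P)))
  by_cases hCP : C ≤ P
  · -- the constrained case
    have hnst : ¬ ∀ (V : Subgroup Γ) [V.Normal], IsPGroup p V → IsPStableOn p V := by
      intro hst
      have hP' : ∃ P' : Sylow p Γ, (P' : Subgroup Γ) = S :=
        ⟨⟨S, hS.pg, fun {Q} hQ hle => (hS.eq_of_le hle le_top hQ)⟩, rfl⟩
      obtain ⟨P', hP'⟩ := hP'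
      have hn := zJ_normal (e := e) hp2 he P' (stronglyClosed_self _) hst hCP
      rw [hP'] at hn
      exact hno (by rw [hN, Subgroup.normalizer_eq_top_iff.2 hn]; exact hinv)
    apply hnst
    intro V hVn hV a hq
    by_contra hna
    haveI hCVn : (Subgroup.centralizer (V : Set Γ)).Normal := inferInstance
    obtain ⟨U, V₀, hc, hUV, u, hu, hau⟩ : ∃ U V₀, IsChiefFactor U V₀ ∧ U ≤ V ∧ ∃ u ∈ U, ⁅a, u⁆ ∉ V₀ := by
      by_contra hcon
      push Not at hcon
      haveI := CfsgLib.Glau.stab_normal V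
      haveI : ((CfsgLib.Glau.stab V).map (QuotientGroup.mk' (Subgroup.centralizer (V : Set Γ)))).Normal :=
        (CfsgLib.Glau.stab_normal V).map _ (QuotientGroup.mk'_surjective _)
      refine hna (CfsgLib.Solv.le_pCore (N := (CfsgLib.Glau.stab V).map (QuotientGroup.mk' _)) ?_ ⟨a, hcon, rfl⟩)
      rintro ⟨_, b, hb, rfl⟩
      refine ⟨(orderOf b).factorization p, Subtype.ext ?_⟩
      show QuotientGroup.mk' _ b ^ p ^ _ = 1
      rw [← map_pow]
      refine (QuotientGroup.eq_one_iff _).2 (CfsgLib.Glau.stab_coprime ?_ hVn hV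
        ((CfsgLib.Glau.stab V).pow_mem hb _))
      rw [orderOf_pow' _ (pow_ne_zero _ hp.out.ne_zero), Nat.gcd_eq_right (Nat.ordProj_dvd _ p)]
      exact (Nat.coprime_ordCompl hp.out (orderOf_pos b).ne').symm
    have hUp : IsPGroup p U := hV.to_le hUV
    obtain ⟨hel, hcom⟩ := CfsgLib.Glau.chief_elementary (p := p) hc hUp
    haveI hUn := hc.2.1
    haveI hV₀n := hc.2.2.1
    let π := QuotientGroup.mk' V₀
    have hπ1 : ∀ x : Γ, π x = 1 ↔ x ∈ V₀ := fun x => QuotientGroup.eq_one_iff x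
    set W := U.map π with hW
    haveI hWn : W.Normal := hUn.map π (QuotientGroup.mk'_surjective V₀)
    letI : CommGroup W :=
      { (inferInstance : Group W) with
        mul_comm := by
          rintro ⟨_, x, hx, rfl⟩ ⟨_, y, hy, rfl⟩
          refine Subtype.ext ?_
          exact (commutatorElement_eq_one_iff_commute.1
            ((map_commutatorElement π x y).symm.trans ((hπ1 _).2 (hcom x hx y hy)))).eq }
    let θ : Γ →* MulAut W := (MulAut.conjNormal (H := W)).comp π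
    set φ := θ.rangeRestrict with hφ
    have hφs : Function.Surjective φ := θ.rangeRestrict_surjective
    let ι : θ.range →* MulAut W := θ.range.subtype
    have hι : Function.Injective ι := Subtype.val_injective
    have hθ : ∀ (x v : Γ) (hv : v ∈ U), ((ι (φ x) ⟨π v, ⟨v, hv, rfl⟩⟩ : W) : Γ ⧸ V₀) = π (x * v * x⁻¹) :=
      fun x v hv => by
        show (((MulAut.conjNormal (π x)) ⟨π v, ⟨v, hv, rfl⟩⟩ : W) : Γ ⧸ V₀) = _
        rw [MulAut.conjNormal_apply, map_mul, map_mul, map_inv]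
    have hker : ∀ x, φ x = 1 ↔ ∀ v ∈ U, ⁅x, v⁆ ∈ V₀ := by
      intro x
      constructor
      · intro h v hv
        have h1 := hθ x v hv
        rw [h, map_one, MulAut.one_apply] at h1
        rw [← hπ1, commutatorElement_def, map_mul, ← h1, map_inv, mul_inv_cancel]
      · intro h
        refine hι (MulEquiv.ext fun w => Subtype.ext ?_)
        obtain ⟨_, v, hv, rfl⟩ := w
        rw [hθ x v hv, map_one, MulAut.one_apply]
        have h2 := (hπ1 _).2 (h v hv)
        rw [commutatorElement_def, map_mul, map_inv, mul_inv_eq_one] at h2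
        exact h2
    have heW : ∀ w : W, w ^ p = 1 := by
      rintro ⟨_, v, hv, rfl⟩
      refine Subtype.ext ?_
      rw [Subgroup.coe_pow, ← map_pow]
      exact (hπ1 _).2 (hel v hv)
    set x := φ a with hx
    have hxq : Qe ι x := by
      rintro ⟨_, v, hv, rfl⟩
      have h1 : ⁅a, ⁅a, v⁻¹⁆⁆ = 1 := Subgroup.mem_bot.1 (quad_mem_of_le hq.le (hUV (U.inv_mem hv)))
      have hd : v⁻¹ * (a * v * a⁻¹) ∈ U := U.mul_mem (U.inv_mem hv) (hUn.conj_mem v hv a)
      have e1 : (⟨π v, ⟨v, hv, rfl⟩⟩ : W)⁻¹ * ι x ⟨π v, ⟨v, hv, rfl⟩⟩ =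
          ⟨π (v⁻¹ * (a * v * a⁻¹)), ⟨_, hd, rfl⟩⟩ :=
        Subtype.ext (by rw [Subgroup.coe_mul, Subgroup.coe_inv, hθ a v hv]; simp only [map_mul, map_inv])
      rw [e1]
      refine Subtype.ext ?_
      rw [hθ a _ hd]
      have h2 : Commute a ⁅a, v⁻¹⁆ := commutatorElement_eq_one_iff_commute.1 h1
      have e2 : (⁅a, v⁻¹⁆)⁻¹ = v⁻¹ * (a * v * a⁻¹) := by rw [commutatorElement_def]; group
      have h3 := h2.inv_right
      rw [e2] at h3
      rw [h3.eq, mul_inv_cancel_right]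
    have hx1 : x ≠ 1 := fun h => hau ((hker a).1 h u hu)
    have hxp : x ^ p = 1 := qe_pow hι heW hxq
    have hO1 : ∀ Y : Subgroup θ.range, Y.Normal → IsPGroup p Y → Y = ⊥ := by
      intro Y hYn hY
      haveI : (Y.comap φ).Normal := hYn.comap φ
      refine eq_bot_iff.2 fun y hy => ?_
      obtain ⟨y₀, rfl⟩ := hφs y
      refine Subgroup.mem_bot.2 ((hker y₀).2 ?_)
      refine CfsgLib.Glau.trivial_of_pgroup_on_chief (K := Y.comap φ) hc hUp (fun z hz => ?_) y₀ hy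
      obtain ⟨i, hi⟩ := hY ⟨_, hz⟩
      exact ⟨i, (hker _).1 (by rw [map_pow]; exact congrArg Subtype.val hi)⟩
    obtain ⟨g₀, hnp⟩ : ∃ g₀ : θ.range, ¬ IsPGroup p ↥(Subgroup.closure ({x, g₀ * x * g₀⁻¹} : Set θ.range)) := by
      by_contra hcon
      push Not at hcon
      have h1 := isPGroup_sSup_of_pairs x hcon
      rw [hO1 _ (CfsgLib.Solv.pCore_normal _ p) (CfsgLib.Solv.pCore_isPGroup _ p), Subgroup.mem_bot] at h1
      exact hx1 h1
    have heven : 2 ∣ Nat.card θ.range := (two_dvd_of_pair hp2 hι heW hxq (qe_conj hxq g₀) hnp).trans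
      (Subgroup.card_subgroup_dvd_card _)
    have hSX := hS.map φ
    rw [Subgroup.map_top_of_surjective φ hφs] at hSX
    have h2 := two_dvd_normalizer_qOf (θ := ι) hp2 hι heW _ ⊤ rfl (by rwa [Subgroup.card_top]) _ hSX
    rw [top_inf_eq] at h2
    set M := (Subgroup.normalizer (qOf ι (S.map φ) : Set θ.range)).comap φ with hM
    have hSM : S ≤ M := fun s hs => normalizer_le_qOf _ (Subgroup.le_normalizer ⟨s, hs, rfl⟩)
    have hMtop : M ≠ ⊤ := by
      intro htop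
      have hqn : (qOf ι (S.map φ)).Normal := Subgroup.normalizer_eq_top_iff.1 (eq_top_iff.2 fun y _ => by
        obtain ⟨y₀, rfl⟩ := hφs y
        exact (htop.ge (Subgroup.mem_top y₀) : y₀ ∈ M))
      have hb := hO1 _ hqn (hSX.pg.to_le (qOf_le _))
      obtain ⟨c, -, hc'⟩ := hSX.exists_conj_le (le_top : Subgroup.zpowers x ≤ ⊤) (by
        rintro ⟨v, hv⟩
        obtain ⟨i, rfl⟩ := Subgroup.mem_zpowers_iff.1 hv
        exact ⟨1, Subtype.ext (by
          show (x ^ i) ^ p ^ 1 = 1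
          rw [pow_one, ← zpow_natCast, ← zpow_mul, mul_comm, zpow_mul, zpow_natCast, hxp, one_zpow])⟩)
      have h4 : c * x * c⁻¹ ∈ qOf ι (S.map φ) :=
        mem_qOf (hc' ⟨x, Subgroup.mem_zpowers x, rfl⟩) (qe_conj hxq c)
      rw [hb, Subgroup.mem_bot, mul_inv_eq_one, mul_eq_left] at h4
      exact hx1 h4
    haveI : Fact (Nat.Prime 2) := ⟨Nat.prime_two⟩
    obtain ⟨⟨τ, hτM⟩, hτ⟩ := exists_prime_orderOf_dvd_card' 2 h2
    rw [Subgroup.orderOf_mk] at hτ
    obtain ⟨t₀, rfl⟩ := hφs τ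
    obtain ⟨j, m, hm, hjm⟩ := Nat.exists_eq_two_pow_mul_odd (orderOf_pos t₀).ne'
    set t := t₀ ^ m with ht
    have htτ : φ t = φ t₀ := by
      obtain ⟨i, rfl⟩ := hm
      rw [ht, map_pow, pow_succ, pow_mul, ← hτ, pow_orderOf_eq_one, one_pow, one_mul]
    refine hover M hMtop hSM (inv_of_moves t j U M hUp ((hS.normal_le le_top hUp
      ((Subgroup.normalizer_eq_top_iff.2 hUn).ge)).trans hSM) ?_
      ((Subgroup.normalizer_eq_top_iff.2 hUn).ge (Subgroup.mem_top t))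
      (fun v _ => by rw [ht, ← pow_mul, mul_comm m, ← hjm, pow_orderOf_eq_one, one_mul, mul_one]) ?_)
    · show φ t ∈ Subgroup.normalizer (qOf ι (S.map φ) : Set θ.range)
      rw [htτ]
      exact hτM
    · by_contra hcon
      push Not at hcon
      have h5 : φ t = 1 := (hker t).2 fun v hv => by
        rw [commutatorElement_eq_one_iff_commute.2 (hcon v hv)]
        exact V₀.one_mem
      rw [htτ] at h5
      rw [h5, orderOf_one] at hτ
      omega
  -- the centralizer of `P` is not inside `P`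
  set R := S ⊓ (P ⊔ C) with hR
  have hRn : Subgroup.normalizer (R : Set Γ) ≠ ⊤ := by
    intro htop
    have hRP : R ≤ P := CfsgLib.Solv.le_pCore (hN := Subgroup.normalizer_eq_top_iff.1 htop)
      (hS.pg.to_le inf_le_left)
    have hRc : ∀ r ∈ S ⊓ C, ∀ c ∈ C, r * c = c * r := fun r hr c hc =>
      hc r (hRP ⟨hr.1, Subgroup.mem_sup_right hr.2⟩)
    exact hCP (CfsgLib.Glau.le_of_central_sylow hK hS hRc ((inf_le_inf_left S le_sup_right).trans hRP))
  have hSR : S ≤ Subgroup.normalizer (R : Set Γ) := fun s hs => mem_normalizer_iff_cj.2 (by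
    rw [hR, cj_inf, cj_eq_of_mem hs, mem_normalizer_iff_cj.1 (by
      rw [Subgroup.normalizer_eq_top_iff.2 inferInstance]; trivial : s ∈ Subgroup.normalizer ((P ⊔ C : Subgroup Γ) : Set Γ))])
  by_cases hmove : ∃ t : Γ, (∃ j : ℕ, t ^ 2 ^ j = 1) ∧ t ∉ C
  · obtain ⟨t, ⟨j, hj⟩, htC⟩ := hmove
    obtain ⟨n, hn, k, hk, rfl⟩ := frattini hS (N := P ⊔ C)
      (Subgroup.normalizer_eq_top_iff.2 inferInstance).ge (Subgroup.mem_top t)
    obtain ⟨v, hv, c, hc, rfl⟩ := Subgroup.mem_sup_of_normal_left.1 hn.2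
    set k' := v * k with hk'
    have hk'R : k' ∈ Subgroup.normalizer (R : Set Γ) := mul_mem (hSR (hPS hv)) hk.2
    have hc' : k'⁻¹ * (v * c * k) ∈ C := by
      rw [hk', show (v * k)⁻¹ * (v * c * k) = k⁻¹ * c * k⁻¹⁻¹ by group]
      exact (inferInstance : C.Normal).conj_mem c hc k⁻¹
    refine hover _ hRn hSR (inv_of_moves k' j P _ hPp (hPS.trans hSR) hk'R (hPN (Subgroup.mem_top _)) ?_ ?_)
    · have h1 : k' ^ 2 ^ j ∈ C := by
        rw [← QuotientGroup.eq_one_iff (N := C), QuotientGroup.mk_pow, QuotientGroup.eq.2 hc', ← QuotientGroup.mk_pow,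
          hj, QuotientGroup.mk_one]
      exact fun w hw => (h1 w hw).symm
    · by_contra hcon
      push Not at hcon
      refine htC ?_
      have h2 : k' ∈ C := fun w hw => (hcon w hw).symm
      have h3 := C.mul_mem h2 hc'
      rwa [mul_inv_cancel_left] at h3
  push Not at hmove
  obtain ⟨u, -, g, -, hu1, ⟨k, hk⟩, hgu⟩ := hinv
  obtain ⟨t, -, ⟨j, hj⟩, htu⟩ := exists_two_inverter hgu
  have htC : t ∈ C := hmove t ⟨j, hj⟩
  have huC : u ∈ C := by
    have h1 : u ^ 2 ∈ C := by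
      have h2 : t * (u * t⁻¹ * u⁻¹) ∈ C :=
        C.mul_mem htC ((inferInstance : C.Normal).conj_mem _ (C.inv_mem htC) u)
      rw [show t * (u * t⁻¹ * u⁻¹) = (t * u * t⁻¹) * u⁻¹ by group, htu, ← mul_inv_rev, ← pow_two] at h2
      simpa using C.inv_mem h2
    obtain ⟨i, hi⟩ := exists_pow_eq_self_of_coprime (x := u) (n := 2)
      ((Nat.Coprime.pow_right k ((Nat.coprime_primes Nat.prime_two hp.out).2 (Ne.symm hp2))).coprime_dvd_right
        (orderOf_dvd_of_pow_eq_one hk))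
    rw [← hi]
    exact C.pow_mem h1 i
  by_cases hM : C ⊔ S ≠ ⊤
  · exact hover _ hM le_sup_right ⟨u, Subgroup.mem_sup_left huC, t, Subgroup.mem_sup_left htC, hu1, ⟨k, hk⟩, htu⟩
  have huP : u ∉ P := by
    intro hu
    have h1 : u * t = t * u := htC u hu
    rw [← h1, mul_inv_cancel_right] at htu
    exact hu1 (orderOf_eq_one_iff.1 (Nat.eq_one_of_dvd_coprimes
      (Nat.Coprime.pow_left k ((Nat.coprime_primes hp.out Nat.prime_two).2 hp2))
      (orderOf_dvd_of_pow_eq_one hk) (orderOf_dvd_of_pow_eq_one (show u ^ 2 = 1 by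
        rw [pow_two]; nth_rewrite 1 [htu]; rw [inv_mul_cancel]))))
  let π := QuotientGroup.mk' P
  have hπ : Function.Surjective π := QuotientGroup.mk'_surjective P
  have hlt : Nat.card (Γ ⧸ P) < Nat.card Γ := by
    rw [← P.index_eq_card, ← P.card_mul_index]
    exact lt_mul_left P.index_ne_zero_of_finite.bot_lt ((Subgroup.one_lt_card_iff_ne_bot P).2 hP)
  have hSb := hS.map π
  rw [Subgroup.map_top_of_surjective π hπ] at hSb
  have hb := ih _ hlt (Γ ⧸ P) rfl _ hSb ⟨π u, trivial, π t, trivial, fun h => huP ((QuotientGroup.eq_one_iff u).1 h),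
    ⟨k, by rw [← map_pow, hk, map_one]⟩, by rw [← map_inv, ← map_inv, ← map_mul, ← map_mul, htu]⟩
  set M := (Subgroup.normalizer (zJ e (S.map π) : Set (Γ ⧸ P))).comap π with hMdef
  have hSM : S ≤ M := fun s hs => normalizer_le_zJ (S.map π) (Subgroup.le_normalizer ⟨s, hs, rfl⟩)
  have hMtop : M ≠ ⊤ := by
    intro htop
    have hYn : (zJ e (S.map π)).Normal := Subgroup.normalizer_eq_top_iff.1 (by
      rw [← Subgroup.map_comap_eq_self_of_surjective hπ (Subgroup.normalizer _), ← hMdef, htop,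
        Subgroup.map_top_of_surjective π hπ])
    refine zJ_ne_bot (p := p) he (hS.pg.map π) (fun h => huP ?_) ?_
    · rw [Subgroup.map_eq_bot_iff, QuotientGroup.ker_mk'] at h
      obtain ⟨a, -, ha⟩ := hS.exists_conj_le (le_top : Subgroup.zpowers u ≤ ⊤) (by
        rintro ⟨v, hv⟩
        obtain ⟨i, rfl⟩ := Subgroup.mem_zpowers_iff.1 hv
        exact ⟨k, Subtype.ext (by
          show (u ^ i) ^ p ^ k = 1
          rw [← zpow_natCast, ← zpow_mul, mul_comm, zpow_mul, zpow_natCast, hk, one_zpow])⟩)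
      have h1 := (inferInstance : P.Normal).conj_mem _ (h (ha ⟨u, Subgroup.mem_zpowers u, rfl⟩)) a⁻¹
      rwa [show a⁻¹ * (MulAut.conj a).toMonoidHom u * a⁻¹⁻¹ = u by
        show a⁻¹ * (a * u * a⁻¹) * a⁻¹⁻¹ = u
        group] at h1
    · have hYP : (zJ e (S.map π)).comap π ≤ P := CfsgLib.Solv.le_pCore (hN := hYn.comap π) (hS.pg.to_le (by
        refine (Subgroup.comap_mono (zJ_le (S.map π))).trans ?_
        rw [Subgroup.comap_map_eq, QuotientGroup.ker_mk']
        exact sup_le le_rfl hPS))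
      rw [← Subgroup.map_comap_eq_self_of_surjective hπ (zJ e (S.map π)), Subgroup.map_eq_bot_iff,
        QuotientGroup.ker_mk']
      exact hYP
  refine hover M hMtop hSM (inv_lift hp2 π ?_)
  rw [hMdef, Subgroup.map_comap_eq_self_of_surjective hπ]
  exact hb

end CfsgLib.Inv.ZJ
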