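import Cfsg.Agent.Inv.Inversion
import Cfsg.Prelude.Def_LocalEven

/-!
Two-closed groups and inversion of elements of odd prime power order.
-/

set_option autoImplicit false
set_option linter.style.haveILetI false
set_option linter.unusedSectionVars false
set_option linter.deprecated false

open Cfsg

namespace CfsgLib.Inv.ZJ

open CfsgLib.Glau CfsgLib.Inv.QP

universe u

variable {G : Type u} [Group G] [Finite G]

/-- A group with a normal Sylow `2`-subgroup inverts no element of odd prime power order. -/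
theorem not_inv_of_two_closed [Fact (Nat.Prime 2)] (P : Sylow 2 G) (hP : (P : Subgroup G).Normal) {q : ℕ}
    [Fact q.Prime] (hq : q ≠ 2) (H : Subgroup G) : ¬ InvIn q H := by
  rintro ⟨u, -, g, -, hu1, ⟨k, hk⟩, hgu⟩
  obtain ⟨t, -, ⟨j, hj⟩, htu⟩ := exists_two_inverter hgu
  have ht : t ∈ (P : Subgroup G) := by
    have h2 : IsPGroup 2 ↥(Subgroup.zpowers t) := by
      rintro ⟨v, hv⟩
      obtain ⟨i, rfl⟩ := Subgroup.mem_zpowers_iff.1 hv
      exact ⟨j, Subtype.ext (by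
        show (t ^ i) ^ 2 ^ j = 1
        rw [← zpow_natCast, ← zpow_mul, mul_comm, zpow_mul, zpow_natCast, hj, one_zpow])⟩
    obtain ⟨c, -, hc⟩ := (syl_top P).exists_conj_le (le_top : Subgroup.zpowers t ≤ ⊤) h2
    have h3 := hP.conj_mem _ (hc ⟨t, Subgroup.mem_zpowers t, rfl⟩) c⁻¹
    rwa [show c⁻¹ * (MulAut.conj c).toMonoidHom t * c⁻¹⁻¹ = t by
      show c⁻¹ * (c * t * c⁻¹) * c⁻¹⁻¹ = t
      group] at h3
  have h1 : u⁻¹ * u⁻¹ ∈ (P : Subgroup G) := by
    have h4 := mul_mem ht (hP.conj_mem _ (inv_mem ht) u)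
    rwa [show t * (u * t⁻¹ * u⁻¹) = (t * u * t⁻¹) * u⁻¹ by group, htu] at h4
  obtain ⟨i, hi⟩ := P.isPGroup' ⟨_, h1⟩
  have h5 : (u ^ 2) ^ 2 ^ i = 1 := by
    have h6 : (u⁻¹ * u⁻¹) ^ 2 ^ i = 1 := congrArg Subtype.val hi
    rwa [← mul_inv_rev, inv_pow, inv_eq_one, ← pow_two] at h6
  rw [← pow_mul, ← pow_succ'] at h5
  exact hu1 (orderOf_eq_one_iff.1 (Nat.eq_one_of_dvd_coprimes
    (Nat.Coprime.pow k (i + 1) ((Nat.coprime_primes (Fact.out : q.Prime) Nat.prime_two).2 hq))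
    (orderOf_dvd_of_pow_eq_one hk) (orderOf_dvd_of_pow_eq_one h5)))

/-- A group without a normal Sylow `2`-subgroup inverts an element of odd prime power order. -/
theorem exists_inv_of_not_two_closed [Fact (Nat.Prime 2)] (P : Sylow 2 G) (hP : ¬ (P : Subgroup G).Normal) :
    ∃ q : ℕ, q.Prime ∧ q ≠ 2 ∧ q ∣ Nat.card G ∧ InvIn q (⊤ : Subgroup G) := by
  classical
  set O := Cfsg.pCore 2 G with hO
  haveI : O.Normal := CfsgLib.Solv.pCore_normal G 2
  let π := QuotientGroup.mk' O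
  have hπ : Function.Surjective π := QuotientGroup.mk'_surjective O
  have hne : (P : Subgroup G).map π ≠ ⊥ := by
    intro h
    rw [Subgroup.map_eq_bot_iff, QuotientGroup.ker_mk'] at h
    refine hP ?_
    rw [le_antisymm h (CfsgLib.Solv.pCore_le_sylow P)]
    infer_instance
  haveI : Nontrivial ↥((P : Subgroup G).map π) := (Subgroup.nontrivial_iff_ne_bot _).2 hne
  have h2 : 2 ∣ Nat.card ↥((P : Subgroup G).map π) := by
    obtain ⟨i, hi⟩ := (P.isPGroup'.map π).exists_card_eq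
    rcases i with - | i
    · exact absurd (Subgroup.card_eq_one.1 (hi.trans (pow_zero 2))) hne
    · exact hi ▸ dvd_pow_self 2 (Nat.succ_ne_zero i)
  obtain ⟨⟨τ, hτP⟩, hτ⟩ := exists_prime_orderOf_dvd_card' 2 h2
  rw [Subgroup.orderOf_mk] at hτ
  have hτ2 : τ * τ = 1 := by rw [← pow_two, ← hτ, pow_orderOf_eq_one]
  have hτ1 : τ ≠ 1 := fun h => by rw [h, orderOf_one] at hτ; omega
  have hO1 : ∀ N : Subgroup (G ⧸ O), N.Normal → IsPGroup 2 N → N = ⊥ := by
    intro N hN hNp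
    haveI := hN.comap π
    have h1 : N.comap π ≤ O := CfsgLib.Solv.le_pCore (hNp.comap_of_ker_isPGroup π (by
      rw [QuotientGroup.ker_mk']; exact CfsgLib.Solv.pCore_isPGroup G 2))
    rw [← Subgroup.map_comap_eq_self_of_surjective hπ N, Subgroup.map_eq_bot_iff, QuotientGroup.ker_mk']
    exact h1
  obtain ⟨g, hg⟩ : ∃ g : G ⧸ O, ¬ IsPGroup 2 ↥(Subgroup.closure ({τ, g * τ * g⁻¹} : Set (G ⧸ O))) := by
    by_contra hcon
    push Not at hcon
    have h1 := isPGroup_sSup_of_pairs τ hcon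
    rw [hO1 _ (CfsgLib.Solv.pCore_normal _ 2) (CfsgLib.Solv.pCore_isPGroup _ 2), Subgroup.mem_bot] at h1
    exact hτ1 h1
  set τ' := g * τ * g⁻¹ with hτ'
  have hτ'2 : τ' * τ' = 1 := by rw [hτ']; simp [mul_assoc, ← mul_assoc τ τ, hτ2]
  set y := τ * τ' with hy
  have hty : τ * y * τ⁻¹ = y⁻¹ := by
    rw [hy, mul_inv_rev, inv_eq_of_mul_eq_one_right hτ2, inv_eq_of_mul_eq_one_right hτ'2, ← mul_assoc τ τ, hτ2,
      one_mul]
  obtain ⟨j, n, hn, hjn⟩ := Nat.exists_eq_two_pow_mul_odd (orderOf_pos y).ne'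
  have hn1 : n ≠ 1 := by
    intro hn1
    apply hg
    have hyp : IsPGroup 2 ↥(Subgroup.zpowers y) := by
      refine IsPGroup.of_card (n := j) ?_
      rw [Nat.card_zpowers, hjn, hn1, mul_one]
    have htp : IsPGroup 2 ↥(Subgroup.zpowers τ) := by
      refine IsPGroup.of_card (n := 1) ?_
      rw [Nat.card_zpowers, hτ, pow_one]
    have hnorm : Subgroup.zpowers τ ≤ Subgroup.normalizer (Subgroup.zpowers y : Set (G ⧸ O)) := by
      rw [Subgroup.zpowers_le]
      refine Subgroup.mem_normalizer_fintype fun z hz => ?_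
      obtain ⟨i, rfl⟩ := Subgroup.mem_zpowers_iff.1 hz
      rw [← conj_zpow, hty]
      exact Subgroup.zpow_mem _ (Subgroup.inv_mem _ (Subgroup.mem_zpowers y)) i
    refine ((hyp.to_sup_of_normal_left' htp hnorm)).to_le ((Subgroup.closure_le _).2 ?_)
    rintro z (rfl | rfl)
    · exact Subgroup.mem_sup_right (Subgroup.mem_zpowers _)
    · rw [show τ' = τ * y by rw [hy, ← mul_assoc, hτ2, one_mul]]
      exact mul_mem (Subgroup.mem_sup_right (Subgroup.mem_zpowers τ))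
        (Subgroup.mem_sup_left (Subgroup.mem_zpowers y))
  obtain ⟨q, hq, hqn⟩ := Nat.exists_prime_and_dvd hn1
  have hq2 : q ≠ 2 := fun h => by
    obtain ⟨i, rfl⟩ := hn
    subst h
    omega
  haveI : Fact q.Prime := ⟨hq⟩
  have hqy : q ∣ orderOf y := hqn.trans (Dvd.intro_left _ hjn.symm)
  obtain ⟨m, hm⟩ := hqy
  have hu : orderOf (y ^ m) = q := by
    rw [orderOf_pow' y (by rintro rfl; rw [mul_zero] at hm; exact (orderOf_pos y).ne' hm), hm,
      Nat.gcd_eq_right (Dvd.intro_left q rfl), Nat.mul_div_cancel _ (by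
        rcases Nat.eq_zero_or_pos m with rfl | h
        · rw [mul_zero] at hm; exact absurd hm (orderOf_pos y).ne'
        · exact h)]
  refine ⟨q, hq, hq2, (hu ▸ orderOf_dvd_natCard (y ^ m)).trans (Subgroup.card_quotient_dvd_card O), ?_⟩
  refine inv_lift hq2 π ⟨y ^ m, ?_, τ, ?_, fun h => ?_, ⟨1, by rw [pow_one, ← hu, pow_orderOf_eq_one]⟩, ?_⟩
  · rw [Subgroup.map_top_of_surjective π hπ]; trivial
  · rw [Subgroup.map_top_of_surjective π hπ]; trivial
  · rw [h, orderOf_one] at hu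
    exact hq.ne_one hu.symm
  · rw [← conj_pow, hty, inv_pow]

/-- The criterion of the statement. -/
theorem two_closed_criteria :
    ((∀ P : Sylow 2 G, (P : Subgroup G).Normal) ↔ ∀ (q : ℕ) [Fact q.Prime], q ≠ 2 → q ∣ Nat.card G →
      ∀ T : Sylow q G, ∀ P : Sylow 2 ↥(Subgroup.normalizer (centerThompsonAOf (T : Subgroup G) : Set G)),
        (P : Subgroup ↥(Subgroup.normalizer (centerThompsonAOf (T : Subgroup G) : Set G))).Normal) ∧
    ((∀ P : Sylow 2 G, (P : Subgroup G).Normal) ↔ ∀ (q : ℕ) [Fact q.Prime], q ≠ 2 → ∀ T : Sylow q G,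
      ∀ x ∈ (T : Subgroup G), x ≠ 1 → ∀ g ∈ Subgroup.normalizer (centerThompsonAOf (T : Subgroup G) : Set G),
        g * x * g⁻¹ ≠ x⁻¹) := by
  haveI : Fact (Nat.Prime 2) := ⟨Nat.prime_two⟩
  have hback : (∀ (q : ℕ) [Fact q.Prime], q ≠ 2 → q ∣ Nat.card G → ∀ T : Sylow q G,
      ¬ InvIn q (Subgroup.normalizer (zJ 0 (T : Subgroup G) : Set G))) →
      ∀ P : Sylow 2 G, (P : Subgroup G).Normal := by
    intro h P
    by_contra hP
    obtain ⟨q, hq, hq2, hqd, hi⟩ := exists_inv_of_not_two_closed P hP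
    haveI : Fact q.Prime := ⟨hq⟩
    obtain ⟨T⟩ : Nonempty (Sylow q G) := inferInstance
    exact h q hq2 hqd T (inv_zJ hq2 (Or.inl rfl) G (T : Subgroup G) (syl_top T) hi)
  refine ⟨⟨fun h q _ _ _ T P => ?_, fun h => hback ?_⟩,
    ⟨fun h q _ hq T x hx hx1 g _ hgx => ?_, fun h => hback ?_⟩⟩
  · obtain ⟨P₀, hP₀⟩ := P.exists_comap_eq_of_injective (Subgroup.subtype_injective _)
    haveI := h P₀
    rw [← hP₀]
    exact Subgroup.Normal.comap inferInstance _
  · intro q _ hq hqd T hi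
    obtain ⟨P⟩ : Nonempty (Sylow 2 ↥(Subgroup.normalizer (centerThompsonAOf (T : Subgroup G) : Set G))) := inferInstance
    rw [← centerThompsonAOf_eq] at hi
    refine not_inv_of_two_closed P (h q hq hqd T P) hq ⊤ ?_
    obtain ⟨u, hu, g, hg, hu1, ⟨k, hk⟩, hgu⟩ := hi
    exact ⟨⟨u, hu⟩, trivial, ⟨g, hg⟩, trivial, fun h => hu1 (congrArg Subtype.val h), ⟨k, Subtype.ext hk⟩,
      Subtype.ext hgu⟩
  · obtain ⟨P⟩ : Nonempty (Sylow 2 G) := inferInstance
    obtain ⟨k, hk⟩ := T.isPGroup' ⟨x, hx⟩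
    exact not_inv_of_two_closed P (h P) hq ⊤ ⟨x, trivial, g, trivial, hx1, ⟨k, congrArg Subtype.val hk⟩, hgx⟩
  · intro q _ hq _ T hi
    obtain ⟨u, hu, g, hg, hu1, ⟨k, hk⟩, hgu⟩ := hi
    set N := Subgroup.normalizer (zJ 0 (T : Subgroup G) : Set G) with hN
    have hTN : (T : Subgroup G) ≤ N := Subgroup.le_normalizer.trans (normalizer_le_zJ _)
    obtain ⟨c, hc, hle⟩ := ((syl_top T).mono hTN le_top).exists_conj_le (Subgroup.zpowers_le.2 hu) (by
      rintro ⟨v, hv⟩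
      obtain ⟨i, rfl⟩ := Subgroup.mem_zpowers_iff.1 hv
      exact ⟨k, Subtype.ext (by
        show (u ^ i) ^ q ^ k = 1
        rw [← zpow_natCast, ← zpow_mul, mul_comm, zpow_mul, zpow_natCast, hk, one_zpow])⟩)
    have hcN : c * g * c⁻¹ ∈ N := N.mul_mem (N.mul_mem hc hg) (N.inv_mem hc)
    refine h q hq T (c * u * c⁻¹) (hle ⟨u, Subgroup.mem_zpowers u, rfl⟩) (fun h => hu1 (by simpa using h))
      (c * g * c⁻¹) (by rw [centerThompsonAOf_eq]; exact hcN) ?_
    rw [show c * g * c⁻¹ * (c * u * c⁻¹) * (c * g * c⁻¹)⁻¹ = c * (g * u * g⁻¹) * c⁻¹ by group, hgu, conj_inv]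

end CfsgLib.Inv.ZJ
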