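import Cfsg.Agent.S5045
import Cfsg.Agent.Inv.Dihedral
import Cfsg.Agent.Inv.BaerSuzuki

/-!
Root involutions with the same partners of odd order commute with the same root involutions.
-/

set_option autoImplicit false
set_option linter.unusedSectionVars false

namespace CfsgLib.Inv.InvolPartners

open Cfsg
open scoped commutatorElement

variable {G : Type*} [Group G] {D : Set G}

theorem sq1 (hD : IsRootInvolutionSet D) {a : G} (ha : a ∈ D) : a * a = 1 := invol_mul_self (hD.orderOf_eq a ha)

theorem inv_eq (hD : IsRootInvolutionSet D) {a : G} (ha : a ∈ D) : a⁻¹ = a := invol_inv (hD.orderOf_eq a ha)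

theorem conj' (hD : IsRootInvolutionSet D) {a b : G} (ha : a ∈ D) (hb : b ∈ D) : a * b * a ∈ D := by
  have h := hD.conj_mem b hb a
  rwa [inv_eq hD ha] at h

theorem cases3 (hD : IsRootInvolutionSet D) {a b : G} (ha : a ∈ D) (hb : b ∈ D) :
    a * b = b * a ∨ b ∈ oddPartners D a ∨ orderOf (a * b) = 4 := by
  rcases hD.pair a ha b hb with h | h | h
  · exact Or.inl h
  · rcases eq_or_ne b a with rfl | hne
    · exact Or.inl rfl
    · exact Or.inr (Or.inl ⟨hb, hne, h⟩)
  · exact Or.inr (Or.inr h.1)

theorem comm_sq (hD : IsRootInvolutionSet D) {a b : G} (ha : a ∈ D) (hb : b ∈ D) (h : a * b = b * a) :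
    (a * b) ^ 2 = 1 := by
  rw [pow_two]
  calc a * b * (a * b) = a * (b * a) * b := by group
    _ = (a * a) * (b * b) := by rw [← h]; group
    _ = 1 := by rw [sq1 hD ha, sq1 hD hb, one_mul]

theorem not_comm_of_partner (hD : IsRootInvolutionSet D) {a b : G} (ha : a ∈ D) (h : b ∈ oddPartners D a) :
    a * b ≠ b * a := fun hc => by
  have h1 : orderOf (a * b) = 1 :=
    Nat.eq_one_of_dvd_coprimes h.2.2.coprime_two_right dvd_rfl (orderOf_dvd_of_pow_eq_one (comm_sq hD ha h.1 hc))
  rw [orderOf_eq_one_iff] at h1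
  exact h.2.1 (by rw [← inv_eq hD ha]; exact (inv_eq_of_mul_eq_one_right h1).symm)

theorem not_comm_of_four (hD : IsRootInvolutionSet D) {a b : G} (ha : a ∈ D) (hb : b ∈ D) (h : orderOf (a * b) = 4) :
    a * b ≠ b * a := fun hc => by
  have := Nat.le_of_dvd (by norm_num) (orderOf_dvd_of_pow_eq_one (comm_sq hD ha hb hc))
  omega

theorem not_four_of_partner {a b : G} (h : b ∈ oddPartners D a) : orderOf (a * b) ≠ 4 := fun e => by
  have h1 := h.2.2
  rw [e] at h1
  exact absurd h1 (by decide)

theorem order_swap (hD : IsRootInvolutionSet D) {a b : G} (ha : a ∈ D) (hb : b ∈ D) :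
    orderOf (b * a) = orderOf (a * b) := by
  rw [← orderOf_inv (a * b), mul_inv_rev, inv_eq hD ha, inv_eq hD hb]

theorem partner_symm (hD : IsRootInvolutionSet D) {a b : G} (ha : a ∈ D) (h : b ∈ oddPartners D a) :
    a ∈ oddPartners D b := ⟨ha, h.2.1.symm, by rw [order_swap hD ha h.1]; exact h.2.2⟩

/-- The square of a product of order four. -/
theorem sq_facts (hD : IsRootInvolutionSet D) {a b : G} (ha : a ∈ D) (hb : b ∈ D) (h : orderOf (a * b) = 4) :
    a * b * a * b ∈ D ∧ a * b * a * b = b * a * b * a ∧ Commute a (a * b * a * b) ∧ Commute b (a * b * a * b) := by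
  have h2 : (a * b) ^ 2 = a * b * a * b := by rw [pow_two]; group
  have hDm : a * b * a * b ∈ D := by
    rcases hD.pair a ha b hb with hh | hh | hh
    · exact absurd hh (not_comm_of_four hD ha hb h)
    · rw [h] at hh; exact absurd hh (by decide)
    · rw [← h2]; exact hh.2
  have hsw : a * b * a * b = b * a * b * a := by
    calc a * b * a * b = (a * b * a * b)⁻¹ := (inv_eq hD hDm).symm
      _ = b⁻¹ * a⁻¹ * b⁻¹ * a⁻¹ := by group
      _ = _ := by rw [inv_eq hD ha, inv_eq hD hb]
  refine ⟨hDm, hsw, ?_, ?_⟩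
  · show a * (a * b * a * b) = a * b * a * b * a
    conv_lhs => rw [show a * (a * b * a * b) = (a * a) * (b * a * b) by group, sq1 hD ha, one_mul]
    rw [hsw, mul_assoc (b * a * b) a a, sq1 hD ha, mul_one]
  · show b * (a * b * a * b) = a * b * a * b * b
    conv_lhs => rw [hsw, show b * (b * a * b * a) = (b * b) * (a * b * a) by group, sq1 hD hb, one_mul]
    rw [mul_assoc (a * b * a) b b, sq1 hD hb, mul_one]

/-- No translate by an element centralising a pair of partners. -/
theorem translate (hD : IsRootInvolutionSet D) {a x z : G} (ha : a ∈ D) (hx : x ∈ oddPartners D a)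
    (hza : z * a = a * z) (hzx : z * x = x * z) (hz : z * a ∈ D) : z = 1 := by
  by_contra hz1
  have hz2 : z * z = 1 := by
    have h := sq1 hD hz
    rwa [show z * a * (z * a) = z * (a * z) * a by group, ← hza, show z * (z * a) * a = z * z * (a * a) by group,
      sq1 hD ha, mul_one] at h
  have hzo : orderOf z = 2 := invol_iff.2 ⟨hz1, hz2⟩
  have hc : Commute z (a * x) := Commute.mul_right hza hzx
  have hcop : (orderOf z).Coprime (orderOf (a * x)) := by rw [hzo]; exact hx.2.2.coprime_two_left
  have hord : orderOf (z * a * x) = 2 * orderOf (a * x) := by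
    rw [mul_assoc, hc.orderOf_mul_eq_mul_orderOf_of_coprime hcop, hzo]
  rcases hD.pair _ hz x hx.1 with h | h | h
  · have h1 := orderOf_dvd_of_pow_eq_one (comm_sq hD hz hx.1 h)
    rw [hord] at h1
    have h2 : orderOf (a * x) = 1 := by
      have h3 : orderOf (a * x) ∣ 1 := Nat.dvd_of_mul_dvd_mul_left (by norm_num : 0 < 2) (by simpa using h1)
      exact Nat.dvd_one.1 h3
    rw [orderOf_eq_one_iff] at h2
    exact hx.2.1 (by rw [← inv_eq hD ha]; exact (inv_eq_of_mul_eq_one_right h2).symm)
  · rw [hord] at h; exact absurd h (by simp [parity_simps])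
  · obtain ⟨k, hk⟩ := hx.2.2
    have := h.1
    omega

/-- A member commuting with `a` and with the square of `a x` is no partner of `x`. -/
theorem no_partner_of_comm (hD : IsRootInvolutionSet D) {a u x : G} (ha : a ∈ D) (hu : u ∈ D)
    (hax : orderOf (a * x) = 4) (hua : u * a = a * u) (hug : Commute u (a * x * a * x))
    (hx : x ∈ oddPartners D u) : False := by
  have hxD := hx.1
  have h1 : Commute u (x * a * x) := by
    have := (show Commute u a from hua).mul_right hug
    rwa [show a * (a * x * a * x) = (a * a) * (x * a * x) by group, sq1 hD ha, one_mul] at this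
  have h2 : Commute a (x * u * x) := by
    have h3 := h1.map (MulAut.conj x).toMonoidHom
    simp only [MulEquiv.coe_toMonoidHom, MulAut.conj_apply, inv_eq hD hxD] at h3
    rw [show x * (x * a * x) * x = (x * x) * a * (x * x) by group, sq1 hD hxD, one_mul, mul_one] at h3
    exact h3.symm
  have h4 : Commute a ((u * x) ^ 2) := by
    rw [pow_two, show u * x * (u * x) = u * (x * u * x) by group]
    exact (show Commute a u from hua.symm).mul_right h2
  obtain ⟨n, hn⟩ := hx.2.2
  have e : u * x = ((u * x) ^ 2) ^ (n + 1) := by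
    rw [← pow_mul, show 2 * (n + 1) = orderOf (u * x) + 1 by omega, pow_succ, pow_orderOf_eq_one, one_mul]
  have h5 : Commute a (u * x) := by rw [e]; exact h4.pow_right _
  have h6 : Commute a x := by
    have := (show Commute a u from hua.symm).mul_right h5
    rwa [← mul_assoc, sq1 hD hu, one_mul] at this
  exact not_comm_of_four hD ha hxD hax h6

theorem triangle' (hD : IsRootInvolutionSet D) {a b x : G} (ha : a ∈ D) (hb : b ∈ D) (hab : a * b = b * a)
    (hc : a * b ∈ D) (hx : x ∈ oddPartners D a) : x ∈ oddPartners D b ∨ x ∈ oddPartners D (a * b) := by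
  rcases Cfsg.Agent.S5045.triangle hD ha hb hab hc ⟨ha, hx.1, hx.2.1.symm, hx.2.2⟩ with h | h
  · exact Or.inl ⟨h.2.1, h.2.2.1.symm, h.2.2.2⟩
  · exact Or.inr ⟨h.2.1, h.2.2.1.symm, h.2.2.2⟩

theorem conj_partner (hD : IsRootInvolutionSet D) {a x : G} (hx : x ∈ oddPartners D a) (g : G) :
    g * x * g⁻¹ ∈ oddPartners D (g * a * g⁻¹) := by
  refine ⟨hD.conj_mem x hx.1 g, fun e => hx.2.1 (mul_left_cancel (mul_right_cancel e)), ?_⟩
  rw [show g * a * g⁻¹ * (g * x * g⁻¹) = g * (a * x) * g⁻¹ by group]
  have := MulEquiv.orderOf_eq (MulAut.conj g) (a * x)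
  rw [MulAut.conj_apply] at this
  rw [this]
  exact hx.2.2

theorem partners_conj (hD : IsRootInvolutionSet D) (a g : G) :
    oddPartners D (g * a * g⁻¹) = (fun x => g * x * g⁻¹) '' oddPartners D a := by
  refine Set.Subset.antisymm (fun x hx => ⟨g⁻¹ * x * g, ?_, by group⟩) ?_
  · have h := conj_partner hD hx g⁻¹
    rwa [inv_inv, show g⁻¹ * (g * a * g⁻¹) * g = a by group] at h
  · rintro _ ⟨x, hx, rfl⟩
    exact conj_partner hD hx g

theorem partners_conj_congr (hD : IsRootInvolutionSet D) {a b : G} (h : oddPartners D a = oddPartners D b) (g : G) :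
    oddPartners D (g * a * g⁻¹) = oddPartners D (g * b * g⁻¹) := by
  rw [partners_conj hD, partners_conj hD, h]

theorem conj_of_connected (hD : IsRootInvolutionSet D) (hc : IsConnectedSet (OddAdj D) D) :
    ∀ a ∈ D, ∀ b ∈ D, ∃ g : G, b = g * a * g⁻¹ := by
  intro a ha b hb
  have h := hc a ha b hb
  clear hb
  induction h with
  | refl => exact ⟨1, by simp⟩
  | tail _ hbc ih =>
    obtain ⟨g, rfl⟩ := ih
    obtain ⟨k, hk⟩ := isConj_iff.1 (isConj_of_odd (hD.orderOf_eq _ hbc.1) (hD.orderOf_eq _ hbc.2.1) hbc.2.2.2)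
    exact ⟨k * g, by rw [← hk]; group⟩

variable [Finite G]

theorem eq_of_subset (hD : IsRootInvolutionSet D) (hcl : ∀ a ∈ D, ∀ b ∈ D, ∃ g : G, b = g * a * g⁻¹) {a b : G}
    (ha : a ∈ D) (hb : b ∈ D) (h : oddPartners D a ⊆ oddPartners D b) : oddPartners D a = oddPartners D b := by
  refine Set.eq_of_subset_of_ncard_le h ?_ (Set.toFinite _)
  obtain ⟨g, rfl⟩ := hcl a ha b hb
  rw [partners_conj hD]
  exact Set.ncard_image_le (Set.toFinite _)

theorem partners_product (hD : IsRootInvolutionSet D) (hcl : ∀ a ∈ D, ∀ b ∈ D, ∃ g : G, b = g * a * g⁻¹) {a b : G}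
    (ha : a ∈ D) (hb : b ∈ D) (hab : a * b = b * a) (hc : a * b ∈ D) (h : oddPartners D a = oddPartners D b) :
    oddPartners D (a * b) = oddPartners D a := by
  refine eq_of_subset hD hcl hc ha fun x hx => ?_
  have e1 : a * b * a = b := by rw [hab, mul_assoc, sq1 hD ha, mul_one]
  have e2 : a * b * a = a * (a * b) := by rw [mul_assoc, ← hab]
  rcases triangle' hD hc ha e2 (by rw [e1]; exact hb) hx with h' | h'
  · exact h'
  · rw [e1] at h'; exact h ▸ h'

/-- Root involutions with the same partners commute. -/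
theorem same_partners_comm (hD : IsRootInvolutionSet D) (hcl : ∀ a ∈ D, ∀ b ∈ D, ∃ g : G, b = g * a * g⁻¹) {d e : G}
    (hd : d ∈ D) (he : e ∈ D) (hde : oddPartners D d = oddPartners D e) : d * e = e * d := by
  set M : Set G := {m | m ∈ D ∧ oddPartners D m = oddPartners D d} with hM
  have hconjM : ∀ u ∈ M, ∀ v ∈ M, u * v * u⁻¹ ∈ M := fun u hu v hv => ⟨hD.conj_mem v hv.1 u, by
    rw [partners_conj_congr hD (hv.2.trans hu.2.symm) u, mul_inv_cancel_right, hu.2]⟩
  have hpair : ∀ u ∈ M, ∀ v ∈ M, u * v = v * u ∨ orderOf (u * v) = 4 ∧ u * v * u * v ∈ M := by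
    intro u hu v hv
    rcases cases3 hD hu.1 hv.1 with h | h | h
    · exact Or.inl h
    · rw [hu.2, ← hv.2] at h
      exact absurd rfl h.2.1
    · refine Or.inr ⟨h, (sq_facts hD hu.1 hv.1 h).1, ?_⟩
      obtain ⟨hc, hsw, hcu, -⟩ := sq_facts hD hu.1 hv.1 h
      have hv' : v * u * v⁻¹ ∈ M := hconjM v hv u hu
      rw [inv_eq hD hv.1] at hv'
      have e2 : u * (v * u * v) = u * v * u * v := by group
      have e3 : v * u * v = u * (u * v * u * v) := by
        rw [show u * (u * v * u * v) = (u * u) * (v * u * v) by group, sq1 hD hu.1, one_mul]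
      have h1 := partners_product hD hcl hu.1 hv'.1 (by
        rw [e2]
        calc u * v * u * v = v * u * v * u := hsw
          _ = _ := by group) (e2 ▸ hc) (hu.2.trans hv'.2.symm)
      rw [e2] at h1
      rw [h1, hu.2]
  set N := Subgroup.closure M with hN
  have hNnorm : ∀ n ∈ N, ∀ v ∈ M, n * v * n⁻¹ ∈ M := by
    intro n hn
    induction hn using Subgroup.closure_induction'' with
    | mem u hu => exact hconjM u hu
    | inv_mem u hu => rw [inv_eq hD hu.1]; exact hconjM u hu
    | one => intro v hv; simpa using hv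
    | mul p q _ _ ihp ihq =>
      intro v hv
      rw [show p * q * v * (p * q)⁻¹ = p * (q * v * q⁻¹) * p⁻¹ by group]
      exact ihp _ (ihq v hv)
  haveI : Fact (Nat.Prime 2) := ⟨Nat.prime_two⟩
  have hP : IsPGroup 2 ↥N := by
    have h := baer_suzuki (p := 2) (G := ↥N) ((fun v => Subgroup.zpowers v) '' {v : ↥N | (v : G) ∈ M}) ?_ ?_
    · have htop : sSup ((fun v => Subgroup.zpowers v) '' {v : ↥N | (v : G) ∈ M}) = ⊤ := by
        rw [eq_top_iff]
        have h1 : ∀ n (hn : n ∈ N), (⟨n, hn⟩ : ↥N) ∈ sSup ((fun v => Subgroup.zpowers v) '' {v : ↥N | (v : G) ∈ M}) := by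
          intro n hn
          induction hn using Subgroup.closure_induction with
          | mem u hu => exact (le_sSup (Set.mem_image_of_mem _ (show (⟨u, Subgroup.subset_closure hu⟩ : ↥N) ∈
              {v : ↥N | (v : G) ∈ M} from hu)) : Subgroup.zpowers _ ≤ _) (Subgroup.mem_zpowers _)
          | one => exact one_mem _
          | mul p q _ _ ihp ihq => exact mul_mem ihp ihq
          | inv p _ ih => exact inv_mem ih
        exact fun n _ => h1 n n.2
      rw [htop] at h
      exact h.of_equiv Subgroup.topEquiv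
    · rintro _ ⟨v, hv, rfl⟩ n
      exact ⟨n * v * n⁻¹, hNnorm n n.2 v hv, by rw [MonoidHom.map_zpowers]; simp⟩
    · rintro _ ⟨u, hu, rfl⟩ _ ⟨v, hv, rfl⟩
      have hord : ∀ {w : ↥N}, (w : G) ∈ M → orderOf w = 2 := fun {w} hw => by
        rw [← Subgroup.orderOf_coe]; exact hD.orderOf_eq _ hw.1
      refine (Cfsg.Agent.S5045.pair_two_group (hord hu) (hord hv) ?_).to_le (sup_le
        (Subgroup.zpowers_le.2 (Subgroup.subset_closure (Or.inl rfl)))
        (Subgroup.zpowers_le.2 (Subgroup.subset_closure (Or.inr rfl))))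
      apply Subtype.ext
      show ((u : G) * v) ^ 4 = 1
      rcases hpair _ hu _ hv with h' | ⟨h', -⟩
      · rw [show (4 : ℕ) = 2 * 2 from rfl, pow_mul, comm_sq hD hu.1 hv.1 h', one_pow]
      · exact h' ▸ pow_orderOf_eq_one _
  haveI : Group.IsNilpotent ↥N := hP.isNilpotent
  obtain ⟨k, hk⟩ := (Subgroup.isNilpotent_iff_lowerCentralSeries (S := N)).1 inferInstance
  have hcentre : ∀ (j i : ℕ), i + j = k → (∃ m ∈ M, m ∈ N.lowerCentralSeries i) →
      ∃ m ∈ M, ∀ w ∈ M, m * w = w * m := by
    intro j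
    induction j with
    | zero =>
      rintro i hi ⟨m, hm, hmi⟩
      rw [show i = k by omega, hk, Subgroup.mem_bot] at hmi
      exact absurd hmi (invol_ne_one (hD.orderOf_eq m hm.1))
    | succ j ih =>
      rintro i hi ⟨m, hm, hmi⟩
      by_cases hall : ∀ w ∈ M, m * w = w * m
      · exact ⟨m, hm, hall⟩
      push Not at hall
      obtain ⟨w, hw, hne⟩ := hall
      refine ih (i + 1) (by omega) ⟨m * w * m * w, ((hpair m hm w hw).resolve_left hne).2, ?_⟩
      rw [Subgroup.lowerCentralSeries_succ]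
      have h1 := Subgroup.commutator_mem_commutator hmi (Subgroup.subset_closure hw : w ∈ N)
      rwa [commutatorElement_def, inv_eq hD hm.1, inv_eq hD hw.1] at h1
  obtain ⟨m₀, hm₀, hcen⟩ := hcentre k 0 (by omega) ⟨d, ⟨hd, rfl⟩, by
    rw [Subgroup.lowerCentralSeries_zero]; exact Subgroup.subset_closure ⟨hd, rfl⟩⟩
  obtain ⟨g, hg⟩ := hcl m₀ hm₀.1 d hd
  have hgM : ∀ w ∈ M, g⁻¹ * w * g ∈ M := fun w hw => by
    have h1 := partners_conj_congr hD hw.2 g⁻¹
    rw [inv_inv] at h1
    refine ⟨by simpa using hD.conj_mem w hw.1 g⁻¹, ?_⟩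
    rw [h1, hg, show g⁻¹ * (g * m₀ * g⁻¹) * g = m₀ by group, hm₀.2, hg]
  have h1 := hcen _ (hgM e ⟨he, hde.symm⟩)
  rw [hg]
  calc g * m₀ * g⁻¹ * e = g * (m₀ * (g⁻¹ * e * g)) * g⁻¹ := by group
    _ = g * ((g⁻¹ * e * g) * m₀) * g⁻¹ := by rw [h1]
    _ = _ := by group

/-- The elements on the line through `c` moved by a partner `x` of `c`. -/
def Dom (D : Set G) (c x a : G) : Prop := a ∈ D ∧ a * c = c * a ∧ a * c ∈ D ∧ orderOf (a * x) = 4

theorem dom_map (hD : IsRootInvolutionSet D) {c x a : G} (hc : c ∈ D) (hx : x ∈ oddPartners D c) (h : Dom D c x a) :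
    Dom D x c (a * x * a * x) := by
  obtain ⟨ha, hac, hacD, hax⟩ := h
  obtain ⟨hg, -, hga, hgx⟩ := sq_facts hD ha hx.1 hax
  refine ⟨hg, hgx.eq.symm, ?_, ?_⟩
  · rw [mul_assoc (a * x * a) x x, sq1 hD hx.1, mul_one]; exact conj' hD ha hx.1
  · rw [order_swap hD hc hg]
    rcases cases3 hD hc hg with h' | h' | h'
    · exact (no_partner_of_comm hD ha hc hax hac.symm h' hx).elim
    · exact absurd (translate hD hc h' hac hga.eq hacD) (invol_ne_one (hD.orderOf_eq a ha))
    · exact h'

theorem dom_inj (hD : IsRootInvolutionSet D) {c x a a' : G} (hc : c ∈ D) (hx : x ∈ oddPartners D c) (h : Dom D c x a)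
    (h' : Dom D c x a') (e : a * x * a * x = a' * x * a' * x) : a = a' := by
  obtain ⟨ha, hac, hacD, hax⟩ := h
  obtain ⟨ha', hac', hacD', -⟩ := h'
  have hzx : Commute (a' * a) x := by
    have e1 : a * x * a = a' * x * a' := mul_right_cancel e
    show a' * a * x = x * (a' * a)
    calc a' * a * x = a' * (a * x * a) * a := by
          rw [show a' * (a * x * a) * a = a' * a * x * (a * a) by group, sq1 hD ha, mul_one]
      _ = x * (a' * a) := by
          rw [e1, show a' * (a' * x * a') * a = (a' * a') * x * a' * a by group, sq1 hD ha', one_mul, mul_assoc]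
  have hxac : x ∈ oddPartners D (a * c) := by
    rcases triangle' hD hc ha hac.symm (hac ▸ hacD) hx with h1 | h1
    · exact absurd hax (not_four_of_partner h1)
    · rwa [hac]
  have hzc : Commute (a' * a) c := (show Commute a' c from hac').mul_left hac
  rcases cases3 hD ha ha' with h1 | h1 | h1
  · have hza : Commute (a' * a) a := (show Commute a' a from h1.symm).mul_left (Commute.refl a)
    have e3 : a' * a * (a * c) = a' * c := by
      rw [show a' * a * (a * c) = a' * (a * a) * c by group, sq1 hD ha, mul_one]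
    have h2 := translate hD hacD hxac (hza.mul_right hzc).eq hzx.eq (e3.symm ▸ hacD')
    rw [← inv_eq hD ha', eq_inv_of_mul_eq_one_right h2]
  · exact absurd (translate hD ha h1 hac.symm hac'.symm (hac ▸ hacD)) (invol_ne_one (hD.orderOf_eq c hc))
  · exfalso
    obtain ⟨hq, hsw, hqa, -⟩ := sq_facts hD ha ha' h1
    have hqx : Commute (a * a' * a * a') x := by
      rw [hsw, show a' * a * a' * a = (a' * a) * (a' * a) by group]; exact hzx.mul_left hzx
    have hqc : Commute (a * a' * a * a') c := by
      rw [hsw, show a' * a * a' * a = (a' * a) * (a' * a) by group]; exact hzc.mul_left hzc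
    refine invol_ne_one (hD.orderOf_eq _ hq) (translate hD hacD hxac (hqa.symm.mul_right hqc).eq hqx.eq ?_)
    rw [hsw, show a' * a * a' * a * (a * c) = a' * a * (a' * ((a * a) * c)) by group, sq1 hD ha, one_mul, hac',
      show a' * a * (c * a') = a' * (a * c) * a' by group]
    exact conj' hD ha' hacD

theorem dom_preimage (hD : IsRootInvolutionSet D) {c x a : G} (hc : c ∈ D) (hx : x ∈ oddPartners D c)
    (h : Dom D c x a) : ∃ g, Dom D x c g ∧ g * c * g * c = a := by
  have hc' := partner_symm hD hc hx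
  let T : {a // Dom D c x a} → {a // Dom D c x a} := fun a => ⟨_, dom_map hD hx.1 hc' (dom_map hD hc hx a.2)⟩
  have hinj : Function.Injective T := fun p q e => Subtype.ext (dom_inj hD hc hx p.2 q.2
    (dom_inj hD hx.1 hc' (dom_map hD hc hx p.2) (dom_map hD hc hx q.2) (congrArg Subtype.val e)))
  obtain ⟨p, hp⟩ := (Finite.injective_iff_surjective.1 hinj) ⟨a, h⟩
  exact ⟨_, dom_map hD hc hx p.2, congrArg Subtype.val hp⟩

/-- Root involutions with the same partners have the same commuting members. -/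
theorem comm_of_same_partners (hD : IsRootInvolutionSet D) (hcl : ∀ a ∈ D, ∀ b ∈ D, ∃ g : G, b = g * a * g⁻¹)
    {d e y : G} (hd : d ∈ D) (he : e ∈ D) (hde : oddPartners D d = oddPartners D e) (hy : y ∈ D)
    (hyd : y * d = d * y) : y * e = e * y := by
  by_contra hne
  have hy4 : orderOf (e * y) = 4 := by
    rcases cases3 hD he hy with h | h | h
    · exact absurd h.symm hne
    · exact absurd hyd.symm (not_comm_of_partner hD hd (hde ▸ h))
    · exact h
  obtain ⟨hcD, hsw, hce, hcy⟩ := sq_facts hD he hy hy4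
  set c := e * y * e * y with hcdef
  have hA' : oddPartners D (y * e * y) = oddPartners D e := by
    have h1 := partners_conj_congr hD hde y
    rw [inv_eq hD hy, hyd, mul_assoc, sq1 hD hy, mul_one] at h1
    rw [← h1, hde]
  have e1 : e * (y * e * y) = c := by rw [hcdef]; group
  have hAc : oddPartners D c = oddPartners D e := by
    have h1 := partners_product hD hcl he (conj' hD hy he) (e1.trans hsw) (e1 ▸ hcD) hA'.symm
    rwa [e1] at h1
  have hycD : y * c ∈ D := by
    rw [hsw, show y * (y * e * y * e) = (y * y) * (e * y * e) by group, sq1 hD hy, one_mul]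
    exact conj' hD he hy
  obtain ⟨x, hx, hxy⟩ : ∃ x, x ∈ oddPartners D c ∧ x ∉ oddPartners D y := by
    by_contra hno
    push Not at hno
    exact hne (same_partners_comm hD hcl hy he ((eq_of_subset hD hcl hcD hy hno).symm.trans hAc))
  have hdom : Dom D c x y := by
    refine ⟨hy, hcy.eq, hycD, ?_⟩
    rcases cases3 hD hy hx.1 with h | h | h
    · exact absurd (translate hD hcD hx hcy.eq h hycD) (invol_ne_one (hD.orderOf_eq y hy))
    · exact absurd h hxy
    · exact h
  obtain ⟨g, hg, hgy⟩ := dom_preimage hD hcD hx hdom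
  obtain ⟨hgD, -, -, hgc⟩ := hg
  have hgc' : orderOf (c * g) = 4 := (order_swap hD hgD hcD).trans hgc
  set c' := g * c * g with hc'def
  have hc'D : c' ∈ D := conj' hD hgD hcD
  have hcc' : Commute c c' := by
    obtain ⟨-, hs, -, -⟩ := sq_facts hD hcD hgD hgc'
    show c * (g * c * g) = g * c * g * c
    rw [← hs]; group
  have hee' : Commute e (g * e * g) := by
    rcases cases3 hD he hgD with h | h | h
    · show e * (g * e * g) = g * e * g * e
      rw [show g * e * g = e by rw [← h, mul_assoc, sq1 hD hgD, mul_one]]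
    · exact absurd hgc' (not_four_of_partner (hAc.symm ▸ h))
    · obtain ⟨-, hs, -, -⟩ := sq_facts hD he hgD h
      show e * (g * e * g) = g * e * g * e
      rw [← hs]; group
  have hAe' : oddPartners D c' = oddPartners D (g * e * g) := by
    have h1 := partners_conj_congr hD hAc g
    rwa [inv_eq hD hgD] at h1
  have hce' : Commute e c' := by
    rcases cases3 hD he hc'D with h | h | h
    · exact h
    · exact absurd hcc'.eq (not_comm_of_partner hD hcD (hAc.symm ▸ h))
    · exfalso
      obtain ⟨hq, hs, -, -⟩ := sq_facts hD he hc'D h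
      have hA1 : oddPartners D (c' * e * c') = oddPartners D e := by
        have h1 := partners_conj_congr hD hAc c'
        rw [inv_eq hD hc'D, ← hcc'.eq, mul_assoc, sq1 hD hc'D, mul_one] at h1
        rw [← h1, hAc]
      have hA2 : oddPartners D (e * c' * e) = oddPartners D c' := by
        have h1 := partners_conj_congr hD hAe' e
        rw [inv_eq hD he, hee'.eq, mul_assoc (g * e * g), sq1 hD he, mul_one] at h1
        rw [h1, hAe']
      have q1 : e * (c' * e * c') = e * c' * e * c' := by group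
      have h1 := partners_product hD hcl he (conj' hD hc'D he) (q1.trans hs) (q1 ▸ hq) hA1.symm
      rw [q1] at h1
      have q2 : c' * (e * c' * e) = e * c' * e * c' := by rw [hs]; group
      have h2 := partners_product hD hcl hc'D (conj' hD he hc'D) (by rw [q2]) (q2 ▸ hq) hA2.symm
      rw [q2] at h2
      exact not_comm_of_four hD he hc'D h (same_partners_comm hD hcl he hc'D (h1.symm.trans h2))
  have hfin : Commute e y := by
    rw [← hgy, show g * c * g * c = c' * c by rw [hc'def]]
    exact hce'.mul_right hce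
  exact hne hfin.eq.symm

theorem main (hD : IsRootInvolutionSet D) (hc : IsConnectedSet (OddAdj D) D) {d : G} (hd : d ∈ D) :
    sameCommutingClass D d =
      {e | e ∈ D ∧ commutingMembers D d ∪ fourPartners D d = commutingMembers D e ∪ fourPartners D e} := by
  have hcl := conj_of_connected hD hc
  have key : ∀ {a}, a ∈ D → commutingMembers D a ∪ fourPartners D a = D \ oddPartners D a := by
    intro a ha
    ext x
    constructor
    · rintro (⟨hx, h⟩ | ⟨hx, h⟩)
      · exact ⟨hx, fun hA => not_comm_of_partner hD ha hA h.symm⟩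
      · exact ⟨hx, fun hA => not_four_of_partner hA h⟩
    · rintro ⟨hx, hA⟩
      rcases cases3 hD ha hx with h | h | h
      · exact Or.inl ⟨hx, h.symm⟩
      · exact absurd h hA
      · exact Or.inr ⟨hx, h⟩
  have hback : ∀ {a}, a ∈ D → oddPartners D a = D \ (D \ oddPartners D a) := fun {a} _ => by
    rw [Set.sdiff_sdiff_right_self, Set.inter_eq_self_of_subset_right (fun x hx => hx.1)]
  ext e
  constructor
  · rintro ⟨he, hE⟩
    refine ⟨he, ?_⟩
    rw [key hd, key he]
    congr 1
    have main : ∀ {a b}, a ∈ D → b ∈ D → commutingMembers D a = commutingMembers D b →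
        oddPartners D a ⊆ oddPartners D b := by
      intro a b ha hb h x hx
      rcases cases3 hD hb hx.1 with h' | h' | h'
      · have : x ∈ commutingMembers D a := h ▸ ⟨hx.1, h'.symm⟩
        exact absurd this.2.symm (not_comm_of_partner hD ha hx)
      · exact h'
      · exfalso
        obtain ⟨-, hs, -, -⟩ := sq_facts hD hb hx.1 h'
        have h1 : x * b * x ∈ commutingMembers D a := by
          rw [h]
          refine ⟨conj' hD hx.1 hb, ?_⟩
          rw [← hs]; group
        have h2 : x * a * x ∈ commutingMembers D b := by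
          refine ⟨conj' hD hx.1 ha, ?_⟩
          have h3 : Commute (x * b * x) a := h1.2
          have h4 := h3.map (MulAut.conj x).toMonoidHom
          simp only [MulEquiv.coe_toMonoidHom, MulAut.conj_apply, inv_eq hD hx.1] at h4
          rw [show x * (x * b * x) * x = (x * x) * b * (x * x) by group, sq1 hD hx.1, one_mul, mul_one] at h4
          exact h4.symm.eq
        rw [← h] at h2
        obtain ⟨k, hk⟩ := hx.2.2
        have h5 : ((a * x) ^ 2) ^ 2 = 1 := by
          rw [show (a * x) ^ 2 = a * (x * a * x) by rw [pow_two]; group]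
          exact comm_sq hD ha h2.1 h2.2.symm
        rw [← pow_mul] at h5
        have h6 : orderOf (a * x) = 1 :=
          Nat.eq_one_of_dvd_coprimes (hx.2.2.coprime_two_right.pow_right 2) dvd_rfl (orderOf_dvd_of_pow_eq_one h5)
        rw [orderOf_eq_one_iff] at h6
        exact hx.2.1 (by rw [← inv_eq hD ha]; exact (inv_eq_of_mul_eq_one_right h6).symm)
    exact Set.Subset.antisymm (main hd he hE) (main he hd hE.symm)
  · rintro ⟨he, hE⟩
    rw [key hd, key he] at hE
    have hA : oddPartners D d = oddPartners D e := by rw [hback hd, hE, ← hback he]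
    exact ⟨he, Set.ext fun y =>
      ⟨fun hy => ⟨hy.1, comm_of_same_partners hD hcl hd he hA hy.1 hy.2⟩,
        fun hy => ⟨hy.1, comm_of_same_partners hD hcl he hd hA.symm hy.1 hy.2⟩⟩⟩

/-- Two squares in a row give a product of order three. -/
theorem order_three (hD : IsRootInvolutionSet D) {a z f : G} (ha : a ∈ D) (hz : z ∈ D) (hf : f ∈ D)
    (h1 : orderOf (a * z) = 4) (h2 : orderOf (a * z * a * z * f) = 4)
    (h3 : a * z * a * z * f * (a * z * a * z) * f = z) : orderOf (a * f) = 3 := by
  haveI : Fact (Nat.Prime 3) := ⟨Nat.prime_three⟩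
  obtain ⟨hb, hsw, hab, hzb⟩ := sq_facts hD ha hz h1
  obtain ⟨-, -, -, hfz⟩ := sq_facts hD hb hf h2
  rw [h3] at hfz
  set b := a * z * a * z with hbdef
  have cz : a * z * a = z * b := by
    rw [hsw, show z * (z * a * z * a) = (z * z) * (a * z * a) by group, sq1 hD hz, one_mul]
  have cb : a * b * a = b := by rw [hab.eq, mul_assoc, sq1 hD ha, mul_one]
  have fz : f * z * f = z := by rw [hfz.eq, mul_assoc, sq1 hD hf, mul_one]
  have fb : f * b * f = b * z := by
    calc f * b * f = (b * b) * (f * b * f) := by rw [sq1 hD hb, one_mul]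
      _ = b * (b * f * b * f) := by group
      _ = b * z := by rw [h3]
  set R := a * f with hR
  have Rinv : R⁻¹ = f * a := by rw [hR, mul_inv_rev, inv_eq hD hf, inv_eq hD ha]
  have Rz : R * z * R⁻¹ = z * b := by
    rw [Rinv, hR, show a * f * z * (f * a) = a * (f * z * f) * a by group, fz, cz]
  have Rb : R * b * R⁻¹ = z := by
    rw [Rinv, hR, show a * f * b * (f * a) = a * (f * b * f) * a by group, fb, show a * (b * z) * a = (a * b * a) * (a * z * a) by
      rw [show a * b * a * (a * z * a) = a * b * (a * a) * z * a by group, sq1 hD ha, mul_one]; group, cb, cz,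
      ← mul_assoc, ← hzb.eq, mul_assoc, sq1 hD hb, mul_one]
  have R2z : R * (R * z * R⁻¹) * R⁻¹ = b := by
    rw [Rz, show R * (z * b) * R⁻¹ = (R * z * R⁻¹) * (R * b * R⁻¹) by group, Rz, Rb, hzb.eq, mul_assoc, sq1 hD hz,
      mul_one]
  have R3z : Commute (R ^ 3) z := by
    refine mul_inv_eq_iff_eq_mul.1 ?_
    rw [show R ^ 3 * z * (R ^ 3)⁻¹ = R * (R * (R * z * R⁻¹) * R⁻¹) * R⁻¹ by
      simp [pow_succ, mul_assoc, mul_inv_rev], R2z, Rb]
  have R3b : Commute (R ^ 3) b := by
    refine mul_inv_eq_iff_eq_mul.1 ?_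
    rw [show R ^ 3 * b * (R ^ 3)⁻¹ = R * (R * (R * b * R⁻¹) * R⁻¹) * R⁻¹ by
      simp [pow_succ, mul_assoc, mul_inv_rev], Rb, R2z]
  have hz1 := invol_ne_one (hD.orderOf_eq z hz)
  have hb1 := invol_ne_one (hD.orderOf_eq b hb)
  have hbz : b ≠ z := fun e => not_comm_of_four hD ha hz h1 (e ▸ hab.eq)
  rcases cases3 hD ha hf with h | h | h
  · exfalso
    have e := comm_sq hD ha hf h
    rw [← hR, pow_two] at e
    exact hbz (by
      calc b = R * R * z * (R * R)⁻¹ := by rw [← R2z]; group
        _ = z := by rw [e]; group)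
  · have hr : a * R ^ 3 ∈ D := by
      have e : a * R ^ 3 = (f * a) * f * (f * a)⁻¹ := by
        rw [hR, mul_inv_rev, inv_eq hD ha, inv_eq hD hf]
        calc a * (a * f) ^ 3 = (a * a) * (f * a * f * a * f) := by simp [pow_succ, mul_assoc]
          _ = _ := by rw [sq1 hD ha, one_mul]; group
      rw [e]; exact hD.conj_mem f hf _
    by_cases hR3 : R ^ 3 = 1
    · refine orderOf_eq_prime hR3 fun e => h.2.1 ?_
      rw [hR] at e
      rw [← inv_eq hD ha]
      exact (inv_eq_of_mul_eq_one_right e).symm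
    exfalso
    have hp : a * R ^ 3 ∈ oddPartners D a := by
      refine ⟨hr, fun e => hR3 (mul_eq_left.1 e), ?_⟩
      rw [← mul_assoc, sq1 hD ha, one_mul]
      exact Odd.of_dvd_nat h.2.2 (orderOf_pow_dvd _)
    refine hb1 (translate hD ha hp hab.eq.symm (Commute.mul_right (show Commute b a from hab.symm) R3b.symm).eq ?_)
    rw [← hab.eq, hbdef, show a * (a * z * a * z) = (a * a) * (z * a * z) by group, sq1 hD ha, one_mul]
    exact conj' hD hz ha
  · exfalso
    have e4 : R ^ 4 = 1 := h ▸ pow_orderOf_eq_one _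
    have e5 : R * z * R⁻¹ = z := by
      calc R * z * R⁻¹ = R * (R ^ 3 * z * (R ^ 3)⁻¹) * R⁻¹ := by rw [R3z.eq, mul_inv_cancel_right]
        _ = R ^ 4 * z * (R ^ 4)⁻¹ := by simp [pow_succ, mul_assoc, mul_inv_rev]
        _ = z := by rw [e4]; group
    rw [Rz] at e5
    exact hb1 (mul_eq_left.1 e5)

theorem exists_three (hD : IsRootInvolutionSet D) (hc : IsConnectedSet (OddAdj D) D) {a b : G} (ha : a ∈ D)
    (hb : b ∈ productPartners D a) (hbE : b ∉ sameCommutingClass D a) :
    ∃ x ∈ fourPartners D b, orderOf (a * x) = 3 := by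
  have hcl := conj_of_connected hD hc
  obtain ⟨⟨hbD, hba, -⟩, hbaD⟩ := hb
  obtain ⟨x, hx, hxb⟩ : ∃ x, x ∈ oddPartners D a ∧ x ∉ oddPartners D b := by
    by_contra hno
    push Not at hno
    have h := eq_of_subset hD hcl ha hbD hno
    exact hbE ⟨hbD, Set.ext fun y =>
      ⟨fun hy => ⟨hy.1, comm_of_same_partners hD hcl ha hbD h hy.1 hy.2⟩,
        fun hy => ⟨hy.1, comm_of_same_partners hD hcl hbD ha h.symm hy.1 hy.2⟩⟩⟩
  have hdom : Dom D a x b := by
    refine ⟨hbD, hba, hbaD, ?_⟩
    rcases cases3 hD hbD hx.1 with h | h | h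
    · exact absurd (translate hD ha hx hba h hbaD) (invol_ne_one (hD.orderOf_eq b hbD))
    · exact absurd h hxb
    · exact h
  obtain ⟨z, hz, hzb⟩ := dom_preimage hD ha hx hdom
  obtain ⟨hzD, -, -, hza⟩ := hz
  have haz : orderOf (a * z) = 4 := (order_swap hD hzD ha).trans hza
  obtain ⟨-, hs, hab', hzb'⟩ := sq_facts hD ha hzD haz
  have hb' : a * z * a * z = b := hs.trans hzb
  rw [hb'] at hzb' hab'
  have hzbD : z * b ∈ D := by
    rw [← hzb, show z * (z * a * z * a) = (z * z) * (a * z * a) by group, sq1 hD hzD, one_mul]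
    exact conj' hD ha hzD
  obtain ⟨x', hx', hxz⟩ : ∃ x', x' ∈ oddPartners D b ∧ x' ∉ oddPartners D z := by
    by_contra hno
    push Not at hno
    have h := eq_of_subset hD hcl hbD hzD hno
    exact not_comm_of_four hD ha hzD haz (comm_of_same_partners hD hcl hbD hzD h ha hab'.eq)
  have hdom' : Dom D b x' z := by
    refine ⟨hzD, hzb'.eq, hzbD, ?_⟩
    rcases cases3 hD hzD hx'.1 with h | h | h
    · exact absurd (translate hD hbD hx' hzb'.eq h hzbD) (invol_ne_one (hD.orderOf_eq z hzD))
    · exact absurd h hxz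
    · exact h
  obtain ⟨f, hf, hfz⟩ := dom_preimage hD hbD hx' hdom'
  obtain ⟨hfD, -, -, hfb⟩ := hf
  have hbf : orderOf (b * f) = 4 := (order_swap hD hfD hbD).trans hfb
  obtain ⟨-, hs', -, -⟩ := sq_facts hD hbD hfD hbf
  exact ⟨f, ⟨hfD, hbf⟩, order_three hD ha hzD hfD haz (hb'.symm ▸ hbf) (by rw [hb', hs', hfz])⟩

end CfsgLib.Inv.InvolPartners
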