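import Cfsg.Agent.Inv.InvolPartners
import Cfsg.Agent.Inv.CharP2
import Cfsg.Prelude.Def_QuasithinSetup

/-!
The solvable radical of a group generated by root involutions with a connected graph.
-/

set_option autoImplicit false
set_option linter.unusedSectionVars false

namespace CfsgLib.Inv.InvolRadical

open Cfsg CfsgLib.Inv.InvolPartners
open scoped commutatorElement

variable {G : Type*} [Group G] [Finite G] {D : Set G}

theorem main (hD : IsRootInvolutionSet D) (hc : IsConnectedSet (OddAdj D) D)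
    (hDD : (D ∩ commutingProducts D).Nonempty) :
    solvableRadical G = twoZCore G ∧ IsSimpleGroup (G ⧸ twoZCore G) := by
  have hcl := conj_of_connected hD hc
  haveI : Fact (Nat.Prime 2) := ⟨Nat.prime_two⟩
  haveI hQn : (pCore 2 G).Normal := CfsgLib.Solv.pCore_normal G 2
  obtain ⟨a, haD, p, hp, q, hq, hpq, hpq1, rfl⟩ := hDD
  have hqp : q ≠ p := fun e => hpq1 (by rw [e, sq1 hD hp])
  have hgen : ∀ N : Subgroup G, N.Normal → ∀ m ∈ D, m ∈ N → N = ⊤ := by
    intro N hN m hm hmN
    rw [eq_top_iff, ← hD.generates, Subgroup.closure_le]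
    intro x hx
    obtain ⟨g, rfl⟩ := hcl m hm x hx
    exact hN.conj_mem m hmN g
  have hperf : commutator G = ⊤ := by
    rw [commutator_def]
    refine hgen _ (Subgroup.commutator_normal _ _) (p * q) haD ?_
    obtain ⟨g, hg⟩ := hcl p hp q hq
    have e : p * q = ⁅p, g⁆ := by
      rw [commutatorElement_def, inv_eq hD hp, hg]; group
    rw [e]
    exact Subgroup.commutator_mem_commutator (Subgroup.mem_top p) (Subgroup.mem_top g)
  have hline : ∀ d ∈ D, ∃ u ∈ D, d * u = u * d ∧ d * u ∈ D := by
    intro d hd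
    obtain ⟨g, rfl⟩ := hcl p hp d hd
    refine ⟨g * q * g⁻¹, hD.conj_mem q hq g, ?_, ?_⟩
    · rw [show g * p * g⁻¹ * (g * q * g⁻¹) = g * (p * q) * g⁻¹ by group, hpq]; group
    · rw [show g * p * g⁻¹ * (g * q * g⁻¹) = g * (p * q) * g⁻¹ by group]
      exact hD.conj_mem _ haD g
  have hbig : ∀ N : Subgroup G, N.Normal → N = ⊤ ∨ N ≤ twoZCore G := by
    intro N hN
    rcases Classical.em (∃ m ∈ D, m ∈ N) with ⟨m, hm, hmN⟩ | hno
    · exact Or.inl (hgen N hN m hm hmN)
    push Not at hno
    right
    have hcomm : ∀ d ∈ D, ∀ n ∈ N, d * (n * d * n⁻¹) = n * d * n⁻¹ * d := by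
      intro d hd n hn
      have he : n * d * n⁻¹ ∈ D := hD.conj_mem d hd n
      have hr : d * (n * d * n⁻¹) ∈ N := by
        rw [show d * (n * d * n⁻¹) = (d * n * d⁻¹) * (d * d) * n⁻¹ by group, sq1 hD hd, mul_one]
        exact mul_mem (hN.conj_mem n hn d) (inv_mem hn)
      rcases cases3 hD hd he with h | h | h
      · exact h
      · exfalso
        haveI := hN
        let π := QuotientGroup.mk' N
        have hed : π (n * d * n⁻¹) = π d := by
          rw [map_mul, map_mul, show π n = 1 from (QuotientGroup.eq_one_iff n).2 hn, map_inv,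
            show π n = 1 from (QuotientGroup.eq_one_iff n).2 hn, one_mul, inv_one, mul_one]
        obtain ⟨u, hu, hdu, hduD⟩ := hline d hd
        have key : ∀ w ∈ D, n * d * n⁻¹ ∈ oddPartners D w → π (w * (n * d * n⁻¹)) ^ 2 = 1 →
            π (w * (n * d * n⁻¹)) = 1 := by
          intro w hw hA h2
          refine orderOf_eq_one_iff.1 (Nat.eq_one_of_dvd_coprimes hA.2.2.coprime_two_right
            (orderOf_map_dvd π _) (orderOf_dvd_of_pow_eq_one h2))
        rcases triangle' hD hd hu hdu hduD h with h' | h'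
        · have e : π (u * (n * d * n⁻¹)) = π (d * u) := by rw [map_mul, hed, ← map_mul, hdu]
          have h1 := key u hu h' (by rw [e, ← map_pow, comm_sq hD hd hu hdu, map_one])
          rw [e] at h1
          exact hno _ hduD ((QuotientGroup.eq_one_iff _).1 h1)
        · have e : π (d * u * (n * d * n⁻¹)) = π u := by
            rw [map_mul, hed, ← map_mul, hdu, mul_assoc, sq1 hD hd, mul_one]
          have h1 := key (d * u) hduD h' (by rw [e, ← map_pow, pow_two, sq1 hD hu, map_one])
          rw [e] at h1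
          exact hno _ hu ((QuotientGroup.eq_one_iff _).1 h1)
      · obtain ⟨hsD, -, -, -⟩ := sq_facts hD hd he h
        refine absurd ?_ (hno _ hsD)
        rw [show d * (n * d * n⁻¹) * d * (n * d * n⁻¹) = d * (n * d * n⁻¹) * (d * (n * d * n⁻¹)) by group]
        exact mul_mem hr hr
    have hd2 : ∀ d ∈ D, ∀ n ∈ N, d * n * d⁻¹ * n⁻¹ ∈ pCore 2 G := by
      intro d hd n hn
      set T : Set G := (fun m => m * d * m⁻¹) '' (N : Set G) with hT
      set K := Subgroup.closure T with hK
      have hTc : ∀ x ∈ T, ∀ y ∈ T, x * y = y * x := by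
        rintro _ ⟨m, hm, rfl⟩ _ ⟨m', hm', rfl⟩
        have h1 := hcomm d hd (m⁻¹ * m') (mul_mem (inv_mem hm) hm')
        calc m * d * m⁻¹ * (m' * d * m'⁻¹) = m * (d * (m⁻¹ * m' * d * (m⁻¹ * m')⁻¹)) * m⁻¹ := by group
          _ = m * (m⁻¹ * m' * d * (m⁻¹ * m')⁻¹ * d) * m⁻¹ := by rw [h1]
          _ = _ := by group
      have hKc : ∀ x ∈ K, ∀ y ∈ K, x * y = y * x := by
        intro x hx y hy
        have h1 : K ≤ Subgroup.centralizer T := (Subgroup.closure_le _).2 fun z hz w hw => hTc w hw z hz
        have h2 : K ≤ Subgroup.centralizer ({x} : Set G) := (Subgroup.closure_le _).2 fun z hz =>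
          Subgroup.mem_centralizer_singleton_iff.2 (h1 hx z hz)
        exact (Subgroup.mem_centralizer_singleton_iff.1 (h2 hy)).symm
      have hK2 : IsPGroup 2 ↥K := by
        intro x
        refine ⟨1, Subtype.ext ?_⟩
        show (x : G) ^ (2 ^ 1) = 1
        obtain ⟨x, hx⟩ := x
        induction hx using Subgroup.closure_induction with
        | mem z hz =>
          obtain ⟨m, hm, rfl⟩ := hz
          rw [pow_one, pow_two, sq1 hD (hD.conj_mem d hd m)]
        | one => exact one_pow _
        | mul u v hu hv ihu ihv =>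
          show (u * v) ^ 2 ^ 1 = 1
          rw [(show Commute u v from hKc u hu v hv).mul_pow, ihu, ihv, mul_one]
        | inv u _ ih => show u⁻¹ ^ 2 ^ 1 = 1; rw [inv_pow, ih, inv_one]
      have hnorm : ∀ m ∈ N, ∀ x ∈ K, m * x * m⁻¹ ∈ K := by
        intro m hm x hx
        have h : K.map (MulAut.conj m).toMonoidHom ≤ K := by
          rw [hK, MonoidHom.map_closure, Subgroup.closure_le]
          rintro _ ⟨_, ⟨m', hm', rfl⟩, rfl⟩
          refine Subgroup.subset_closure ⟨m * m', mul_mem hm hm', ?_⟩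
          show m * m' * d * (m * m')⁻¹ = m * (m' * d * m'⁻¹) * m⁻¹
          group
        exact h ⟨x, hx, rfl⟩
      haveI : ((N ⊓ K).subgroupOf N).Normal := ⟨fun x hx m => by
        rw [Subgroup.mem_subgroupOf] at hx ⊢
        exact Subgroup.mem_inf.2 ⟨hN.conj_mem _ hx.1 m, hnorm m m.2 _ hx.2⟩⟩
      have hsub : (N ⊓ K).IsSubnormal :=
        Subgroup.IsSubnormal.trans inf_le_left (Subgroup.Normal.isSubnormal inferInstance) hN.isSubnormal
      have hle := CfsgLib.Inv.subnormal_pgroup_le_pCore (p := 2) hsub (hK2.to_le inf_le_right)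
      refine hle (Subgroup.mem_inf.2 ⟨mul_mem (hN.conj_mem n hn d) (inv_mem hn), ?_⟩)
      rw [show d * n * d⁻¹ * n⁻¹ = d * (n * d⁻¹ * n⁻¹) by group, inv_eq hD hd]
      exact mul_mem (Subgroup.subset_closure ⟨1, one_mem N, by group⟩) (Subgroup.subset_closure ⟨n, hn, rfl⟩)
    intro n hn
    rw [twoZCore, Subgroup.mem_comap, Subgroup.mem_center_iff]
    intro y
    obtain ⟨g, rfl⟩ := QuotientGroup.mk'_surjective _ y
    have hle : (⊤ : Subgroup G) ≤
        (Subgroup.centralizer ({QuotientGroup.mk' (pCore 2 G) n} : Set (G ⧸ pCore 2 G))).comap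
          (QuotientGroup.mk' (pCore 2 G)) := by
      rw [← hD.generates, Subgroup.closure_le]
      intro d hd
      rw [SetLike.mem_coe, Subgroup.mem_comap, Subgroup.mem_centralizer_singleton_iff]
      have h1 : QuotientGroup.mk' (pCore 2 G) (d * n * d⁻¹ * n⁻¹) = 1 :=
        (QuotientGroup.eq_one_iff _).2 (hd2 d hd n hn)
      rw [map_mul, map_mul, map_mul, map_inv, map_inv, mul_inv_eq_one, mul_inv_eq_iff_eq_mul] at h1
      exact h1
    exact Subgroup.mem_centralizer_singleton_iff.1 (hle (Subgroup.mem_top g))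
  have hnontriv : Nontrivial G := ⟨⟨p * q, 1, hpq1⟩⟩
  have hnotsol : ¬ Group.IsSolvable G := fun h => (Group.IsSolvable.commutator_lt_top_of_nontrivial G).ne hperf
  have hsol : Group.IsSolvable ↥(twoZCore G) := by
    haveI : Group.IsNilpotent ↥(pCore 2 G) := (CfsgLib.Solv.pCore_isPGroup G 2).isNilpotent
    let g := (QuotientGroup.mk' (pCore 2 G)).subgroupComap (Subgroup.center (G ⧸ pCore 2 G))
    have hle : pCore 2 G ≤ twoZCore G := fun x hx => by
      rw [twoZCore, Subgroup.mem_comap, show QuotientGroup.mk' (pCore 2 G) x = 1 from (QuotientGroup.eq_one_iff x).2 hx]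
      exact one_mem _
    haveI : Group.IsSolvable ↥(Subgroup.center (G ⧸ pCore 2 G)) :=
      Group.isSolvable_of_comm fun a b => Subtype.ext ((Subgroup.mem_center_iff.1 b.2) a)
    refine Group.isSolvable_of_ker_le_range (Subgroup.inclusion hle) g fun x hx => ?_
    exact ⟨⟨x, (QuotientGroup.eq_one_iff (x : G)).1 (congrArg Subtype.val hx)⟩, Subtype.ext rfl⟩
  have hne : twoZCore G ≠ ⊤ := fun e => hnotsol (by
    rw [e] at hsol
    exact Group.isSolvable_of_surjective (f := (Subgroup.topEquiv : (⊤ : Subgroup G) ≃* G).toMonoidHom)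
      Subgroup.topEquiv.surjective)
  refine ⟨le_antisymm (sSup_le ?_) (le_sSup ⟨inferInstance, hsol⟩), ?_⟩
  · rintro N ⟨hN, hNs⟩
    rcases hbig N hN with e | e
    · exfalso
      subst e
      exact hnotsol (Group.isSolvable_of_surjective (f := (Subgroup.topEquiv : (⊤ : Subgroup G) ≃* G).toMonoidHom)
        Subgroup.topEquiv.surjective)
    · exact e
  · haveI : Nontrivial (G ⧸ twoZCore G) := QuotientGroup.nontrivial_iff.2 hne
    refine ⟨fun H hH => ?_⟩
    rcases hbig (H.comap (QuotientGroup.mk' (twoZCore G))) (hH.comap _) with e | e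
    · exact Or.inr (Subgroup.comap_injective (QuotientGroup.mk'_surjective _) (e.trans (Subgroup.comap_top _).symm))
    · refine Or.inl ((Subgroup.eq_bot_iff_forall _).2 fun y hy => ?_)
      obtain ⟨x, rfl⟩ := QuotientGroup.mk'_surjective _ y
      exact (QuotientGroup.eq_one_iff x).2 (e hy)

end CfsgLib.Inv.InvolRadical
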