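import Cfsg.Agent.Inv.Dihedral
import Cfsg.Prelude.Def_LocalEven
import Mathlib.Tactic
import Mathlib.GroupTheory.Sylow

/-!
When is the dihedral group of order `2p` involved in a finite group.
-/

set_option autoImplicit false
set_option linter.style.haveILetI false

namespace CfsgLib.Inv.InvolvesDih

variable {G : Type*} [Group G] [Finite G] {p : ℕ} [hp : Fact p.Prime]

theorem exists_normalizing (hp2 : p ≠ 2) (h : Cfsg.Involves (DihedralGroup p) G) :
    ∃ (x : G) (P : Subgroup G), (∃ k : ℕ, orderOf x = 2 ^ k) ∧ IsPGroup p ↥P ∧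
      x ∈ Subgroup.normalizer (P : Set G) ∧ x ∉ Subgroup.centralizer (P : Set G) := by
  obtain ⟨K, R, hR, ⟨e⟩⟩ := h
  haveI : NeZero p := ⟨hp.out.ne_zero⟩
  let φ : K →* DihedralGroup p := e.toMonoidHom.comp (QuotientGroup.mk' (R.subgroupOf K))
  have hφ : Function.Surjective φ := e.surjective.comp (QuotientGroup.mk'_surjective _)
  let rot : Subgroup (DihedralGroup p) := Subgroup.zpowers (DihedralGroup.r 1)
  haveI : rot.Normal := Subgroup.normal_of_index_eq_two (by
    have h := Subgroup.card_mul_index rot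
    rw [Nat.card_zpowers, DihedralGroup.orderOf_r_one, DihedralGroup.nat_card, mul_comm 2 p] at h
    exact Nat.eq_of_mul_eq_mul_left hp.out.pos h)
  obtain ⟨P⟩ : Nonempty (Sylow p ↥(rot.comap φ)) := inferInstance
  obtain ⟨k, hk⟩ : ∃ k, k ∈ Subgroup.normalizer (((P : Subgroup ↥(rot.comap φ)).map (rot.comap φ).subtype :
      Subgroup K) : Set K) ∧ φ k = DihedralGroup.sr 0 := by
    obtain ⟨k, hk⟩ := hφ (DihedralGroup.sr 0)
    obtain ⟨a, ha, b, hb, rfl⟩ := Subgroup.mem_sup_of_normal_right.1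
      ((Sylow.normalizer_sup_eq_top P).ge (Subgroup.mem_top k))
    obtain ⟨j, hj⟩ := Subgroup.mem_zpowers_iff.1 hb
    rw [map_mul, ← hj, DihedralGroup.r_one_zpow] at hk
    rcases hca : φ a with i | i
    · rw [hca, DihedralGroup.r_mul_r] at hk; cases hk
    · -- the Sylow subgroup contains an element over the rotation
      rw [hca, DihedralGroup.sr_mul_r] at hk
      injection hk with hk
      obtain ⟨t, ht, htt⟩ : ∃ t ∈ ((P : Subgroup ↥(rot.comap φ)).map (rot.comap φ).subtype),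
          φ t = DihedralGroup.r (j : ZMod p) := by
        let f : ↥(rot.comap φ) →* rot := (φ.comp (rot.comap φ).subtype).codRestrict rot (fun x => x.2)
        have hf : Function.Surjective f := fun ⟨d, hd⟩ => by
          obtain ⟨u, rfl⟩ := hφ d
          exact ⟨⟨u, hd⟩, rfl⟩
        have hrc : Nat.card rot = p := by rw [Nat.card_zpowers, DihedralGroup.orderOf_r_one]
        haveI : Fact (Nat.card rot).Prime := ⟨hrc.symm ▸ hp.out⟩
        have htop : (P : Subgroup ↥(rot.comap φ)).map f = ⊤ := by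
          refine ((Subgroup.map f (P : Subgroup ↥(rot.comap φ))).eq_bot_or_eq_top_of_prime_card).resolve_left
            fun hb => P.not_dvd_index ?_
          have hle := (Subgroup.map_eq_bot_iff _).1 hb
          refine dvd_trans ?_ (Subgroup.index_dvd_of_le hle)
          rw [Subgroup.index, Nat.card_congr (QuotientGroup.quotientKerEquivOfSurjective f hf).toEquiv, hrc]
        obtain ⟨u, hu, hue⟩ := (htop.ge (Subgroup.mem_top (⟨DihedralGroup.r (j : ZMod p),
          Subgroup.mem_zpowers_iff.2 ⟨j, DihedralGroup.r_one_zpow j⟩⟩ : rot)))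
        exact ⟨u, Subgroup.mem_map_of_mem _ hu, congrArg Subtype.val hue⟩
      exact ⟨a * t, mul_mem ha (Subgroup.le_normalizer ht), by
        rw [map_mul, hca, htt, DihedralGroup.sr_mul_r, hk]⟩
  -- take the 2-part of `k`
  set P' := ((P : Subgroup ↥(rot.comap φ)).map (rot.comap φ).subtype) with hP'
  set n := orderOf k with hn
  set m := n / 2 ^ n.factorization 2 with hm
  have hn0 : n ≠ 0 := (orderOf_pos k).ne'
  have hmo : ¬ 2 ∣ m := Nat.not_dvd_ordCompl Nat.prime_two hn0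
  have hkm : φ (k ^ m) = DihedralGroup.sr 0 := by
    obtain ⟨j, hj⟩ : ∃ j, m = 2 * j + 1 := ⟨m / 2, by omega⟩
    rw [map_pow, hk.2, hj, pow_succ, pow_mul, pow_two, DihedralGroup.sr_mul_self, one_pow, one_mul]
  refine ⟨((k ^ m : K) : G), P'.map K.subtype, ⟨n.factorization 2, ?_⟩, (P.2.map _).map _, ?_, ?_⟩
  · have hm0 : m ≠ 0 := fun h => hmo (by rw [h]; exact dvd_zero 2)
    rw [Subgroup.orderOf_coe, orderOf_pow_of_dvd hm0 (Nat.ordCompl_dvd n 2)]
    exact Nat.div_div_self (Nat.ordProj_dvd n 2) hn0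
  · exact Subgroup.le_normalizer_map K.subtype ⟨k ^ m, pow_mem hk.1 m, rfl⟩
  · intro hc
    obtain ⟨t, ht, htt⟩ : ∃ t ∈ P', φ t ≠ 1 := by
      by_contra hall
      push Not at hall
      refine P.not_dvd_index ?_
      let f : ↥(rot.comap φ) →* rot := (φ.comp (rot.comap φ).subtype).codRestrict rot (fun x => x.2)
      have hf : Function.Surjective f := fun ⟨d, hd⟩ => by
        obtain ⟨u, rfl⟩ := hφ d
        exact ⟨⟨u, hd⟩, rfl⟩
      have hle : (P : Subgroup ↥(rot.comap φ)) ≤ f.ker := fun u hu =>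
        Subtype.ext (hall _ (Subgroup.mem_map_of_mem _ hu))
      refine dvd_trans ?_ (Subgroup.index_dvd_of_le hle)
      rw [Subgroup.index, Nat.card_congr (QuotientGroup.quotientKerEquivOfSurjective f hf).toEquiv,
        Nat.card_zpowers, DihedralGroup.orderOf_r_one]
    obtain ⟨i, hi⟩ := Subgroup.mem_zpowers_iff.1 (show φ t ∈ rot from by
      obtain ⟨u, -, rfl⟩ := ht
      exact u.2)
    have hcm : (k ^ m) * t = t * (k ^ m) := Subtype.ext
      (Subgroup.mem_centralizer_iff.1 hc (t : G) (Subgroup.mem_map_of_mem K.subtype ht)).symm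
    have h2 := congrArg φ hcm
    rw [map_mul, map_mul, hkm, ← hi, DihedralGroup.r_one_zpow, DihedralGroup.sr_mul_r, DihedralGroup.r_mul_sr,
      DihedralGroup.sr.injEq, zero_add, zero_sub, eq_neg_iff_add_eq_zero, ← two_mul, mul_eq_zero] at h2
    rcases h2 with h2 | h2
    · have : p ∣ 2 := (ZMod.natCast_eq_zero_iff 2 p).1 (by exact_mod_cast h2)
      exact hp2 ((Nat.prime_dvd_prime_iff_eq hp.out Nat.prime_two).1 this)
    · exact htt (by rw [← hi, DihedralGroup.r_one_zpow, h2, DihedralGroup.r_zero])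

theorem exists_inverted (hp2 : p ≠ 2) {x : G} {P : Subgroup G} (hx : ∃ k : ℕ, orderOf x = 2 ^ k)
    (hP : IsPGroup p ↥P) (hN : x ∈ Subgroup.normalizer (P : Set G))
    (hC : x ∉ Subgroup.centralizer (P : Set G)) :
    ∃ x y : G, (∃ k : ℕ, orderOf x = 2 ^ k) ∧ (∃ k : ℕ, orderOf y = p ^ k) ∧ y ≠ 1 ∧ x * y * x⁻¹ = y⁻¹ := by
  obtain ⟨k, hk⟩ := hx
  classical
  have hex : ∃ i, x ^ 2 ^ i ∈ Subgroup.centralizer (P : Set G) :=
    ⟨k, by rw [← hk, pow_orderOf_eq_one]; exact one_mem _⟩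
  obtain ⟨i, hi⟩ : ∃ i, Nat.find hex = i + 1 := Nat.exists_eq_succ_of_ne_zero fun h0 => hC (by
    have := Nat.find_spec hex
    rwa [h0, pow_zero, pow_one] at this)
  have h1 := Nat.find_spec hex
  have h2 : x ^ 2 ^ i ∉ Subgroup.centralizer (P : Set G) := Nat.find_min hex (by omega)
  rw [hi] at h1
  set z := x ^ 2 ^ i with hz
  have hzz : x ^ 2 ^ (i + 1) = z * z := by rw [hz, ← pow_add, pow_succ, mul_two]
  rw [hzz] at h1
  obtain ⟨u, hu, hne⟩ : ∃ u ∈ P, z * u * z⁻¹ ≠ u := by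
    by_contra h
    push Not at h
    exact h2 (Subgroup.mem_centralizer_iff.2 fun t ht => (mul_inv_eq_iff_eq_mul.1 (h t ht)).symm)
  have hzN : z ∈ Subgroup.normalizer (P : Set G) := pow_mem hN _
  refine ⟨z, u⁻¹ * (z * u * z⁻¹), ?_, ?_, fun h => hne (inv_mul_eq_one.1 h).symm, ?_⟩
  · obtain ⟨j, -, hj⟩ := (Nat.dvd_prime_pow Nat.prime_two).1 (hk ▸ orderOf_pow_dvd (x := x) (2 ^ i))
    exact ⟨j, hj⟩
  · have hy : u⁻¹ * (z * u * z⁻¹) ∈ P := mul_mem (inv_mem hu) ((Subgroup.mem_normalizer_iff.1 hzN u).1 hu)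
    obtain ⟨j, hj⟩ := IsPGroup.iff_orderOf.1 hP ⟨_, hy⟩
    exact ⟨j, by rwa [Subgroup.orderOf_mk] at hj⟩
  · have hc := Subgroup.mem_centralizer_iff.1 h1 u hu
    calc z * (u⁻¹ * (z * u * z⁻¹)) * z⁻¹ = (z * u * z⁻¹)⁻¹ * (z * z * u * (z * z)⁻¹) := by group
      _ = (z * u * z⁻¹)⁻¹ * u := by rw [← hc]; group
      _ = (u⁻¹ * (z * u * z⁻¹))⁻¹ := by group

theorem involves_of_inverted (hp2 : p ≠ 2) {x y : G} (hx : ∃ k : ℕ, orderOf x = 2 ^ k)
    (hy : ∃ k : ℕ, orderOf y = p ^ k) (hy1 : y ≠ 1) (h : x * y * x⁻¹ = y⁻¹) :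
    Cfsg.Involves (DihedralGroup p) G := by
  obtain ⟨k, hk⟩ := hy
  obtain ⟨j, rfl⟩ : ∃ j, k = j + 1 := Nat.exists_eq_succ_of_ne_zero fun h0 => hy1 (by
    rwa [h0, pow_zero, orderOf_eq_one_iff] at hk)
  -- an element of order `p` inverted by `x`
  set u := y ^ p ^ j with hu
  have huo : orderOf u = p := by
    rw [hu, orderOf_pow_of_dvd (pow_ne_zero _ hp.out.ne_zero) (hk ▸ pow_dvd_pow p j.le_succ), hk, pow_succ,
      Nat.mul_div_cancel_left _ (pow_pos hp.out.pos j)]
  have hxu : x * u * x⁻¹ = u⁻¹ := by rw [hu, ← conj_pow, h, inv_pow]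
  obtain ⟨m, hm⟩ := hx
  set K := Subgroup.closure ({x, u} : Set G) with hK
  have hxK : x ∈ K := Subgroup.subset_closure (by simp)
  have huK : u ∈ K := Subgroup.subset_closure (by simp)
  set R := Subgroup.zpowers (x * x) with hR
  have hxxu : x * x * u * (x * x)⁻¹ = u := by
    rw [show x * x * u * (x * x)⁻¹ = x * (x * u * x⁻¹) * x⁻¹ by group, hxu,
      show x * u⁻¹ * x⁻¹ = (x * u * x⁻¹)⁻¹ by group, hxu, inv_inv]
  have hRK : R ≤ K := Subgroup.zpowers_le.2 (mul_mem hxK hxK)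
  haveI hRn : (R.subgroupOf K).Normal := by
    rw [Subgroup.normal_subgroupOf_iff_le_normalizer hRK, hK, Subgroup.closure_le]
    have hc : ∀ g : G, g * (x * x) = (x * x) * g → g ∈ Subgroup.normalizer (R : Set G) := fun g hg => by
      refine Subgroup.mem_normalizer_iff.2 fun t => ?_
      have hcomm : ∀ s ∈ R, g * s * g⁻¹ = s := fun s hs => by
        obtain ⟨i, rfl⟩ := Subgroup.mem_zpowers_iff.1 hs
        exact mul_inv_eq_iff_eq_mul.2 ((show Commute g (x * x) from hg).zpow_right i).eq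
      refine ⟨fun ht => (hcomm t ht).symm ▸ ht, fun ht => ?_⟩
      have := hcomm _ ht
      rw [show g * (g * t * g⁻¹) * g⁻¹ = g * (g * t * g⁻¹) * g⁻¹ from rfl] at this
      have e : g * t * g⁻¹ = t := mul_left_cancel (mul_right_cancel this)
      rwa [e] at ht
    rintro g (rfl | rfl)
    · exact hc _ (mul_assoc g g g).symm
    · exact hc _ (mul_inv_eq_iff_eq_mul.1 hxxu).symm
  let π := QuotientGroup.mk' (R.subgroupOf K)
  set a := π ⟨x, hxK⟩ with ha
  set b := π ⟨u, huK⟩ with hb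
  have hone : ∀ g : K, π g = 1 ↔ (g : G) ∈ R := fun g => by
    rw [QuotientGroup.mk'_apply, QuotientGroup.eq_one_iff, Subgroup.mem_subgroupOf]
  have ha2 : orderOf a = 2 := by
    refine CfsgLib.Inv.invol_iff.2 ⟨fun h0 => ?_, ?_⟩
    · obtain ⟨i, hi⟩ := Subgroup.mem_zpowers_iff.1 ((hone _).1 h0)
      simp only [show x * x = x ^ (2 : ℤ) from (zpow_two x).symm, ← zpow_mul] at hi
      have hd : (orderOf x : ℤ) ∣ 2 * i - 1 := by
        rw [orderOf_dvd_iff_zpow_eq_one, zpow_sub, zpow_one, hi, mul_inv_cancel]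
      rcases m with _ | m
      · rw [pow_zero, orderOf_eq_one_iff] at hm
        rw [hm, one_mul, inv_one, mul_one] at hxu
        have h2 : u ^ 2 = 1 := by rw [pow_two]; nth_rewrite 2 [hxu]; exact mul_inv_cancel u
        have := orderOf_dvd_of_pow_eq_one h2
        rw [huo] at this
        exact hp2 ((Nat.prime_dvd_prime_iff_eq hp.out Nat.prime_two).1 this)
      · rw [hm, pow_succ] at hd
        have : (2 : ℤ) ∣ 2 * i - 1 := (Int.natCast_dvd_natCast.2 (dvd_mul_left 2 (2 ^ m))).trans hd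
        omega
    · rw [ha, ← map_mul, hone]; exact Subgroup.mem_zpowers (x * x)
  have hb1 : orderOf b = p := by
    refine ((Nat.dvd_prime hp.out).1 ((orderOf_map_dvd π _).trans (dvd_of_eq (by
      rw [Subgroup.orderOf_mk, huo])))).resolve_left fun h1 => ?_
    rw [orderOf_eq_one_iff, hone] at h1
    have hd1 : orderOf u ∣ orderOf (x * x) := by
      rw [← Nat.card_zpowers (x * x)]; exact Subgroup.orderOf_dvd_natCard _ h1
    rw [huo, ← pow_two] at hd1
    exact hp2 ((Nat.prime_dvd_prime_iff_eq hp.out Nat.prime_two).1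
      (hp.out.dvd_of_dvd_pow (hm ▸ hd1.trans (orderOf_pow_dvd 2))))
  have hab : a * b * a⁻¹ = b⁻¹ := by
    rw [ha, hb, ← map_inv, ← map_mul, ← map_mul, ← map_inv]
    exact congrArg π (Subtype.ext hxu)
  have haa : a * a = 1 := CfsgLib.Inv.invol_mul_self ha2
  have hai : a⁻¹ = a := CfsgLib.Inv.invol_inv ha2
  have hab2 : orderOf (a * b) = 2 := by
    refine CfsgLib.Inv.invol_iff.2 ⟨fun h1 => ?_, ?_⟩
    · have : b = a := by rw [← hai]; exact eq_inv_of_mul_eq_one_right h1
      rw [this, ha2] at hb1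
      exact hp2 hb1.symm
    · rw [show a * b * (a * b) = a * b * a * b by group]
      nth_rewrite 2 [← hai]
      rw [hab, inv_mul_cancel]
  obtain ⟨e⟩ := CfsgLib.Inv.dihedral_equiv ha2 hab2
  have hord : orderOf (a * (a * b)) = p := by rw [← mul_assoc, haa, one_mul, hb1]
  have htop : Subgroup.closure ({a, a * b} : Set (↥K ⧸ R.subgroupOf K)) = ⊤ := by
    rw [eq_top_iff]
    rintro q -
    obtain ⟨⟨g, hg⟩, rfl⟩ := QuotientGroup.mk'_surjective _ q
    induction hg using Subgroup.closure_induction with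
    | mem t ht =>
      rcases ht with rfl | rfl
      · exact Subgroup.subset_closure (Or.inl rfl)
      · have : π ⟨u, huK⟩ = a * (a * b) := by rw [← hb, ← mul_assoc, haa, one_mul]
        show π _ ∈ _
        rw [this]
        exact mul_mem (Subgroup.subset_closure (Or.inl rfl)) (Subgroup.subset_closure (Or.inr rfl))
    | one => exact (map_one π).symm ▸ one_mem _
    | mul s t hs ht ihs iht => exact by rw [show (⟨s * t, mul_mem hs ht⟩ : K) = ⟨s, hs⟩ * ⟨t, ht⟩ from rfl, map_mul]; exact mul_mem ihs iht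
    | inv s hs ihs => exact by rw [show (⟨s⁻¹, inv_mem hs⟩ : K) = ⟨s, hs⟩⁻¹ from rfl, map_inv]; exact inv_mem ihs
  exact ⟨K, R, hRn, ⟨(Subgroup.topEquiv.symm.trans ((MulEquiv.subgroupCongr htop.symm).trans e)).trans
    (by rw [hord])⟩⟩

end CfsgLib.Inv.InvolvesDih
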