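import Cfsg.Agent.Base.ZStar.Holds
import Cfsg.Agent.Solv.CoprimeSylow

/-!
Sylow subgroups invariant under an isolated involution.
-/

set_option autoImplicit false

namespace CfsgLib.Inv

open CfsgLib.Solv
open scoped Pointwise

variable {G : Type*} [Group G] [Finite G] {p : ℕ} [hp : Fact p.Prime]

omit hp in
theorem iso_comm_mem {z : G} (hz : Cfsg.IsIsolatedInvolution z) (g : G) :
    z * g * z⁻¹ * g⁻¹ ∈ Cfsg.oddCore G :=
  CfsgLib.Base.ZStar.of_isolated CfsgLib.Base.ZStar.holds hz.1 hz.2 g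

omit hp in
theorem iso_normalizes_sup {z : G} (hz : Cfsg.IsIsolatedInvolution z) (P : Subgroup G) :
    z ∈ Subgroup.normalizer ((Cfsg.oddCore G ⊔ P : Subgroup G) : Set G) := by
  haveI : (Cfsg.oddCore G).Normal := CfsgLib.Fus.normal_pPrimeCore 2
  have hle : Cfsg.oddCore G ⊔ P ≤ (Cfsg.oddCore G ⊔ P).comap (MulAut.conj z).toMonoidHom := by
    refine sup_le (fun o ho => ?_) (fun x hx => ?_)
    · exact Subgroup.mem_sup_left (Subgroup.Normal.conj_mem inferInstance o ho z)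
    · show z * x * z⁻¹ ∈ Cfsg.oddCore G ⊔ P
      have e : z * x * z⁻¹ = (z * x * z⁻¹ * x⁻¹) * x := by group
      rw [e]
      exact mul_mem (Subgroup.mem_sup_left (iso_comm_mem hz x)) (Subgroup.mem_sup_right hx)
  refine Subgroup.mem_normalizer_iff.2 fun x => ⟨fun hx => hle hx, fun hx => ?_⟩
  have h2 := hle hx
  have e : (MulAut.conj z).toMonoidHom (z * x * z⁻¹) = x := by
    show z * (z * x * z⁻¹) * z⁻¹ = x
    have hzz : z * z = 1 := invol_mul_self hz.1
    calc z * (z * x * z⁻¹) * z⁻¹ = (z * z) * x * (z * z)⁻¹ := by group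
      _ = x := by simp [hzz]
  rw [Subgroup.mem_comap, e] at h2
  exact h2

omit hp in
theorem iso_exists_cent_mul {z : G} (hz : Cfsg.IsIsolatedInvolution z) (g : G) :
    ∃ k ∈ Cfsg.oddCore G, ∃ c : G, Commute c z ∧ g = k * c := by
  haveI : (Cfsg.oddCore G).Normal := CfsgLib.Fus.normal_pPrimeCore 2
  obtain ⟨k, hk, -, -, he⟩ := rep_exists hz.1 (invol_conj hz.1 g) (isolated_odd' hz.1 hz.2 g)
  have hvz : g * z * g⁻¹ * z ∈ Cfsg.oddCore G := by
    have h := inv_mem (iso_comm_mem hz g)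
    have e : (z * g * z⁻¹ * g⁻¹)⁻¹ = g * z * g⁻¹ * z := by
      rw [invol_inv hz.1]
      simp only [mul_inv_rev, invol_inv hz.1, inv_inv, mul_assoc]
    rwa [e] at h
  refine ⟨k, Subgroup.zpowers_le.2 hvz hk, k⁻¹ * g, ?_, by group⟩
  show k⁻¹ * g * z = z * (k⁻¹ * g)
  calc k⁻¹ * g * z = k⁻¹ * (g * z * g⁻¹) * g := by group
    _ = k⁻¹ * (k * z * k⁻¹) * g := by rw [he]
    _ = z * (k⁻¹ * g) := by group

theorem odd_card_oddCore_sup {P : Subgroup G} (hP : IsPGroup p P) (hp2 : p ≠ 2) :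
    Odd (Nat.card (Cfsg.oddCore G ⊔ P : Subgroup G)) := by
  haveI : (Cfsg.oddCore G).Normal := CfsgLib.Fus.normal_pPrimeCore 2
  obtain ⟨n, hn⟩ := IsPGroup.iff_card.1 hP
  have hoP : Odd (Nat.card P) := by rw [hn]; exact (hp.out.odd_of_ne_two hp2).pow
  have h := card_sup_mul_card_inf P (Cfsg.oddCore G)
  rw [sup_comm] at h
  exact (hoP.mul CfsgLib.Base.ZStar.odd_card_oddCore).of_dvd_nat (Dvd.intro _ h)

omit hp in
theorem coprime_zpowers_invol {z : G} (hz : orderOf z = 2) {K : Subgroup G} (hK : Odd (Nat.card K)) :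
    (Nat.card (Subgroup.zpowers z)).Coprime (Nat.card K) := by
  rw [Nat.card_zpowers, hz]
  exact Nat.coprime_two_left.2 hK

theorem iso_maximal_eq_sylow {z : G} (hz : Cfsg.IsIsolatedInvolution z) {Q : Subgroup G}
    (hQ : IsPGroup p Q) (hzQ : z ∈ Subgroup.normalizer (Q : Set G))
    (hmax : ∀ R : Subgroup G, IsPGroup p R → z ∈ Subgroup.normalizer (R : Set G) → Q ≤ R → R = Q) :
    ∃ P : Sylow p G, (P : Subgroup G) = Q := by
  obtain ⟨P, hQP⟩ := hQ.exists_le_sylow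
  refine ⟨P, ?_⟩
  by_cases hp2 : p = 2
  · subst hp2
    have hzp : IsPGroup 2 (Subgroup.zpowers z) :=
      IsPGroup.of_card (n := 1) (by rw [Nat.card_zpowers, hz.1, pow_one])
    have h := hmax _ (IsPGroup.to_sup_of_normal_right' hzp hQ (Subgroup.zpowers_le.2 hzQ))
      (Subgroup.le_normalizer (Subgroup.mem_sup_left (Subgroup.mem_zpowers z))) le_sup_right
    have hzQ' : z ∈ Q := h ▸ Subgroup.mem_sup_left (Subgroup.mem_zpowers z)
    exact hmax _ P.2 (Subgroup.le_normalizer (hQP hzQ')) hQP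
  · set K := Cfsg.oddCore G ⊔ (P : Subgroup G) with hK
    obtain ⟨S, hQS, hS⟩ := exists_invariant_sylow_ge (p := p) (A := Subgroup.zpowers z) (K := K)
      (Subgroup.zpowers_le.2 (iso_normalizes_sup hz _)) (coprime_zpowers_invol hz.1 (odd_card_oddCore_sup P.2 hp2))
      (Or.inl inferInstance) (hQP.trans le_sup_right) hQ (Subgroup.zpowers_le.2 hzQ)
    have h := hmax _ (S.2.map _) (hS (Subgroup.mem_zpowers z)) hQS
    have hPK : (P : Subgroup G).subgroupOf K = (S : Subgroup K) := by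
      obtain ⟨T, hT⟩ := ((P.2.comap_of_injective K.subtype K.subtype_injective :
        IsPGroup p ((P : Subgroup G).subgroupOf K))).exists_le_sylow
      refine (Subgroup.eq_of_le_of_card_ge ?_ ?_).symm
      · intro x hx
        exact hQP (h.le ⟨x, hx, rfl⟩)
      · calc Nat.card ((P : Subgroup G).subgroupOf K) ≤ Nat.card (T : Subgroup K) :=
              Subgroup.card_le_of_le hT
          _ = Nat.card (S : Subgroup K) := by
              rw [T.card_eq_multiplicity, S.card_eq_multiplicity]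
    rw [← h, ← hPK, Subgroup.map_subgroupOf_eq_of_le le_sup_right]

theorem exists_invariant_sylow_ge_of_iso {z : G} (hz : Cfsg.IsIsolatedInvolution z) {U : Subgroup G}
    (hU : IsPGroup p U) (hzU : z ∈ Subgroup.normalizer (U : Set G)) :
    ∃ P : Sylow p G, U ≤ P ∧ z ∈ Subgroup.normalizer ((P : Subgroup G) : Set G) := by
  obtain ⟨M, hM⟩ := (Set.toFinite {M : Subgroup G | U ≤ M ∧ IsPGroup p M ∧
    z ∈ Subgroup.normalizer (M : Set G)}).exists_maximal ⟨U, le_rfl, hU, hzU⟩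
  obtain ⟨hUM, hMp, hzM⟩ := hM.1
  obtain ⟨P, hP⟩ := iso_maximal_eq_sylow hz hMp hzM fun R hR hzR hMR =>
    le_antisymm (hM.2 ⟨hUM.trans hMR, hR, hzR⟩ hMR) hMR
  exact ⟨P, hP ▸ hUM, hP ▸ hzM⟩

theorem iso_sylow_inf_centralizer {z : G} (hz : Cfsg.IsIsolatedInvolution z) (hp2 : p ≠ 2) (P : Sylow p G)
    (hzP : z ∈ Subgroup.normalizer ((P : Subgroup G) : Set G)) :
    ¬ p ∣ ((P : Subgroup G) ⊓ Subgroup.centralizer ({z} : Set G)).relIndex
      (Subgroup.centralizer ({z} : Set G)) := by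
  haveI : (Cfsg.oddCore G).Normal := CfsgLib.Fus.normal_pPrimeCore 2
  set C := Subgroup.centralizer ({z} : Set G) with hC
  obtain ⟨R⟩ : Nonempty (Sylow p C) := inferInstance
  set R0 := (R : Subgroup C).map C.subtype with hR0
  have hR0C : R0 ≤ C := Subgroup.map_subtype_le _
  have hzR : z ∈ Subgroup.normalizer (R0 : Set G) := by
    refine Subgroup.centralizer_le_normalizer _ (Subgroup.mem_centralizer_iff.2 fun r hr => ?_)
    exact (Subgroup.mem_centralizer_iff.1 (hR0C hr) z rfl).symm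
  obtain ⟨P', hRP', hzP'⟩ := exists_invariant_sylow_ge_of_iso hz (R.2.map C.subtype) hzR
  obtain ⟨g, hg⟩ := MulAction.exists_smul_eq G P P'
  obtain ⟨k, hk, c, hc, rfl⟩ := iso_exists_cent_mul hz g
  have hcz : z ∈ Subgroup.normalizer (((c • P : Sylow p G) : Subgroup G) : Set G) := by
    rw [Sylow.coe_subgroup_smul, Subgroup.mem_normalizer_iff]
    intro x
    rw [mem_conj_smul_iff, mem_conj_smul_iff]
    have e : c⁻¹ * (z * x * z⁻¹) * c = z * (c⁻¹ * x * c) * z⁻¹ := by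
      have h1 : c⁻¹ * z = z * c⁻¹ := hc.inv_left.eq
      have h2 : z⁻¹ * c = c * z⁻¹ := hc.inv_right.eq.symm
      calc c⁻¹ * (z * x * z⁻¹) * c = (c⁻¹ * z) * x * (z⁻¹ * c) := by group
        _ = (z * c⁻¹) * x * (c * z⁻¹) := by rw [h1, h2]
        _ = _ := by group
    rw [e]
    exact Subgroup.mem_normalizer_iff.1 hzP _
  set K := Cfsg.oddCore G ⊔ ((c • P : Sylow p G) : Subgroup G) with hK
  have hkK : k ∈ K := Subgroup.mem_sup_left hk
  have hP'eq : MulAut.conj k • ((c • P : Sylow p G) : Subgroup G) = (P' : Subgroup G) := by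
    rw [← hg, mul_smul, ← Sylow.coe_subgroup_smul]
  obtain ⟨d, hd, hdP⟩ := exists_centralizing_conj (A := Subgroup.zpowers z) (K := K)
    (Subgroup.zpowers_le.2 (iso_normalizes_sup hz _))
    (coprime_zpowers_invol hz.1 (odd_card_oddCore_sup (c • P).2 hp2)) (Or.inl inferInstance)
    (Subgroup.zpowers_le.2 hcz) (Subgroup.zpowers_le.2 hzP') hkK hP'eq
  have hdz : Commute d z := (Subgroup.mem_centralizer_iff.1 (Subgroup.mem_inf.1 hd).2 z
    (Subgroup.mem_zpowers z)).symm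
  have hle : R0 ≤ MulAut.conj (d * c) • ((P : Subgroup G) ⊓ C) := by
    intro r hr
    rw [mem_conj_smul_iff]
    refine Subgroup.mem_inf.2 ⟨?_, ?_⟩
    · have h1 : r ∈ MulAut.conj d • ((c • P : Sylow p G) : Subgroup G) := hdP ▸ hRP' hr
      rw [mem_conj_smul_iff, Sylow.coe_subgroup_smul, mem_conj_smul_iff] at h1
      simpa [mul_assoc] using h1
    · refine Subgroup.mem_centralizer_singleton_iff.2 ?_
      have hrz : Commute r z := (Subgroup.mem_centralizer_iff.1 (hR0C hr) z rfl).symm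
      have hdc : Commute (d * c) z := hdz.mul_left hc
      exact ((hdc.inv_left.mul_left hrz).mul_left hdc).eq
  have hcard : Nat.card R0 ≤ Nat.card ((P : Subgroup G) ⊓ C : Subgroup G) :=
    (Subgroup.card_le_of_le hle).trans (card_conj_smul _ _).le
  obtain ⟨T, hT⟩ := (((P.2.to_le inf_le_left : IsPGroup p ((P : Subgroup G) ⊓ C : Subgroup G))).comap_of_injective
    C.subtype C.subtype_injective : IsPGroup p (((P : Subgroup G) ⊓ C).subgroupOf C)).exists_le_sylow
  have hTeq : ((P : Subgroup G) ⊓ C).subgroupOf C = (T : Subgroup C) := by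
    refine Subgroup.eq_of_le_of_card_ge hT ?_
    rw [card_subgroupOf inf_le_right]
    refine le_trans ?_ hcard
    rw [hR0, card_map_subtype, T.card_eq_multiplicity, R.card_eq_multiplicity]
  show ¬ p ∣ (((P : Subgroup G) ⊓ C).subgroupOf C).index
  rw [hTeq]
  exact T.not_dvd_index

omit hp in
theorem relIndex_eq_card_inverted {z : G} (hz : orderOf z = 2) {P : Subgroup G} (hP : Odd (Nat.card P))
    (hzP : z ∈ Subgroup.normalizer (P : Set G)) :
    (P ⊓ Subgroup.centralizer ({z} : Set G)).relIndex P =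
      Nat.card {x : G // x ∈ P ∧ z * x * z⁻¹ = x⁻¹} := by
  set C := (P ⊓ Subgroup.centralizer ({z} : Set G)).subgroupOf P with hC
  show Nat.card (P ⧸ C) = _
  refine (Nat.card_congr (Equiv.ofBijective
    (fun x : {x : G // x ∈ P ∧ z * x * z⁻¹ = x⁻¹} => (QuotientGroup.mk ⟨x.1, x.2.1⟩ : P ⧸ C)) ⟨?_, ?_⟩)).symm
  · intro a b hab
    have h := QuotientGroup.eq.1 hab
    rw [hC, Subgroup.mem_subgroupOf] at h
    simp only [Subgroup.coe_mul, Subgroup.coe_inv, Subgroup.mem_inf] at h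
    have h2 : (a.1⁻¹ * b.1) * z = z * (a.1⁻¹ * b.1) := Subgroup.mem_centralizer_singleton_iff.1 h.2
    have h3 : a.1 * b.1⁻¹ = a.1⁻¹ * b.1 := by
      calc a.1 * b.1⁻¹ = (z * a.1 * z⁻¹)⁻¹ * (z * b.1 * z⁻¹) := by rw [a.2.2, b.2.2, inv_inv]
        _ = (z * (a.1⁻¹ * b.1)) * z⁻¹ := by group
        _ = a.1⁻¹ * b.1 := by rw [← h2, mul_inv_cancel_right]
    have h4 : a.1 ^ 2 = b.1 ^ 2 := by
      calc a.1 ^ 2 = a.1 * (a.1 * b.1⁻¹) * b.1 := by rw [pow_two]; group
        _ = a.1 * (a.1⁻¹ * b.1) * b.1 := by rw [h3]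
        _ = b.1 ^ 2 := by rw [pow_two]; group
    exact Subtype.ext (eq_of_sq_eq (hP.of_dvd_nat (Subgroup.orderOf_dvd_natCard P a.2.1))
      (hP.of_dvd_nat (Subgroup.orderOf_dvd_natCard P b.2.1)) h4)
  · intro q
    obtain ⟨x, rfl⟩ := QuotientGroup.mk_surjective q
    set v := (x : G) * (z * x * z⁻¹)⁻¹ with hv
    have hvP : v ∈ P := mul_mem x.2 (inv_mem ((Subgroup.mem_normalizer_iff.1 hzP _).1 x.2))
    have hvinv : z * v * z⁻¹ = v⁻¹ := by
      have hzz : z * z = 1 := invol_mul_self hz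
      calc z * v * z⁻¹ = (z * x * z⁻¹) * ((z * z) * (x : G)⁻¹ * (z * z)⁻¹) := by rw [hv]; group
        _ = v⁻¹ := by rw [hzz, hv]; group
    obtain ⟨m, hm⟩ := hP.of_dvd_nat (Subgroup.orderOf_dvd_natCard P hvP)
    set y := v ^ (m + 1) with hy
    have hy2 : y * y = v := by
      rw [hy, ← pow_add, show m + 1 + (m + 1) = orderOf v + 1 by omega, pow_succ, pow_orderOf_eq_one, one_mul]
    have hyinv : z * y * z⁻¹ = y⁻¹ := inv_of_mem_zpowers hvinv (pow_mem (Subgroup.mem_zpowers v) _)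
    refine ⟨⟨y, pow_mem hvP _, hyinv⟩, QuotientGroup.eq.2 ?_⟩
    rw [hC, Subgroup.mem_subgroupOf]
    simp only [Subgroup.coe_mul, Subgroup.coe_inv, Subgroup.mem_inf]
    refine ⟨mul_mem (inv_mem (pow_mem hvP _)) x.2, Subgroup.mem_centralizer_singleton_iff.2 ?_⟩
    have h5 : z * (x : G) * z⁻¹ = v⁻¹ * x := by rw [hv]; group
    have h6 : z * (y⁻¹ * (x : G)) * z⁻¹ = y⁻¹ * x := by
      calc z * (y⁻¹ * (x : G)) * z⁻¹ = (z * y * z⁻¹)⁻¹ * (z * x * z⁻¹) := by group
        _ = y * (y * y)⁻¹ * x := by rw [hyinv, h5, inv_inv, hy2]; group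
        _ = y⁻¹ * x := by group
    exact (mul_inv_eq_iff_eq_mul.1 h6).symm

end CfsgLib.Inv
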