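import Cfsg.Prelude.Def_IsolatedElements
import Cfsg.Agent.Inv.CharP2
import Cfsg.Agent.Inv.Isolated
import Cfsg.Agent.Solv.Basic

/-!
Isolated elements of prime power order.
-/

set_option autoImplicit false

namespace CfsgLib.Inv

open scoped Pointwise

variable {G : Type*} [Group G] {p : ℕ}

theorem isPGroup_zpowers_of_pow {x : G} (h : ∃ k : ℕ, orderOf x = p ^ k) :
    IsPGroup p (Subgroup.zpowers x) := by
  obtain ⟨k, hk⟩ := h
  exact IsPGroup.of_card (n := k) (by rw [Nat.card_zpowers, hk])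

/-- Two `p`-elements of `K` lie in a common Sylow subgroup of `G` after conjugating one in `K`. -/
theorem exists_conj_common_sylow [Finite G] [hp : Fact p.Prime] {K : Subgroup G} {x y : G}
    (hxK : x ∈ K) (hyK : y ∈ K) (hx : IsPGroup p (Subgroup.zpowers x)) (hy : IsPGroup p (Subgroup.zpowers y)) :
    ∃ k ∈ K, ∃ P : Sylow p G, x ∈ (P : Subgroup G) ∧ k * y * k⁻¹ ∈ (P : Subgroup G) := by
  have hxK' : Subgroup.zpowers x ≤ K := Subgroup.zpowers_le.2 hxK
  have hyK' : Subgroup.zpowers y ≤ K := Subgroup.zpowers_le.2 hyK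
  obtain ⟨S, hS⟩ := (hx.comap_subtype (H := Subgroup.zpowers x) (K := K)).exists_le_sylow
  obtain ⟨T, hT⟩ := (hy.comap_subtype (H := Subgroup.zpowers y) (K := K)).exists_le_sylow
  obtain ⟨k, hk⟩ := MulAction.exists_smul_eq K T S
  obtain ⟨P, hP⟩ := (S.2.map K.subtype).exists_le_sylow
  refine ⟨k, k.2, P, hP (Subgroup.mem_map.2 ⟨⟨x, hxK⟩, hS (Subgroup.mem_zpowers x : x ∈ Subgroup.zpowers x), rfl⟩), ?_⟩
  have h1 : k * (⟨y, hyK⟩ : K) * k⁻¹ ∈ (S : Subgroup K) := by
    rw [← hk, Sylow.coe_subgroup_smul, CfsgLib.Solv.mem_conj_smul_iff]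
    rw [show k⁻¹ * (k * (⟨y, hyK⟩ : K) * k⁻¹) * k = (⟨y, hyK⟩ : K) by group]
    exact hT (Subgroup.mem_zpowers y : y ∈ Subgroup.zpowers y)
  exact hP (Subgroup.mem_map.2 ⟨_, h1, rfl⟩)

/-- An isolated element of a `p`-subgroup is central in it. -/
theorem iso_commute [Finite G] [hp : Fact p.Prime] {x : G} (hiso : Cfsg.IsIsolated x) {P : Subgroup G}
    (hP : IsPGroup p P) (hxP : x ∈ P) {y : G} (hy : y ∈ P) : y * x = x * y := by
  set C : Subgroup P := (Subgroup.centralizer ({x} : Set G)).subgroupOf P with hC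
  by_cases htop : C = ⊤
  · have : (⟨y, hy⟩ : P) ∈ C := htop ▸ Subgroup.mem_top _
    exact Subgroup.mem_centralizer_singleton_iff.1 this
  haveI := hP.isNilpotent
  obtain ⟨g, hg, hgC⟩ := SetLike.exists_of_lt
    (Group.normalizerCondition_of_isNilpotent C (lt_top_iff_ne_top.2 htop))
  have hxC : (⟨x, hxP⟩ : P) ∈ C := Subgroup.mem_centralizer_singleton_iff.2 rfl
  have h1 : g * ⟨x, hxP⟩ * g⁻¹ ∈ C := (Subgroup.mem_normalizer_iff.1 hg _).1 hxC
  have h2 : ((g : G) * x * (g : G)⁻¹) * x = x * ((g : G) * x * (g : G)⁻¹) :=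
    Subgroup.mem_centralizer_singleton_iff.1 h1
  have h3 := hiso (g : G) h2.symm
  refine absurd (Subgroup.mem_centralizer_singleton_iff.2 ?_ : (g : G) ∈ Subgroup.centralizer ({x} : Set G)) hgC
  calc (g : G) * x = (g : G) * x * (g : G)⁻¹ * (g : G) := by group
    _ = x * (g : G) := by rw [h3]

/-- An isolated element is the only conjugate of itself in a `p`-subgroup containing it. -/
theorem iso_eq [Finite G] [hp : Fact p.Prime] {x : G} (hiso : Cfsg.IsIsolated x) {P : Subgroup G}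
    (hP : IsPGroup p P) (hxP : x ∈ P) {g : G} (hg : g * x * g⁻¹ ∈ P) : g * x * g⁻¹ = x :=
  hiso g (iso_commute hiso hP hxP hg).symm

/-- Fusion of powers of an isolated `p`-element inside a `p`-subgroup is trivial. -/
theorem iso_pow_eq [Finite G] [hp : Fact p.Prime] {x : G} (hx : IsPGroup p (Subgroup.zpowers x))
    (hiso : Cfsg.IsIsolated x) {P : Subgroup G} (hP : IsPGroup p P) (hxP : x ∈ P) {y : G}
    (hy : y ∈ Subgroup.zpowers x) {g : G} (hg : g * y * g⁻¹ ∈ P) : g * y * g⁻¹ = y := by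
  set z := g * y * g⁻¹ with hz
  have hxz : x ∈ Subgroup.centralizer ({z} : Set G) :=
    Subgroup.mem_centralizer_singleton_iff.2 (iso_commute hiso hP hxP hg).symm
  obtain ⟨i, rfl⟩ := hy
  have hx'z : g * x * g⁻¹ ∈ Subgroup.centralizer ({z} : Set G) := by
    rw [Subgroup.mem_centralizer_singleton_iff, hz]
    calc g * x * g⁻¹ * (g * x ^ i * g⁻¹) = g * (x * x ^ i) * g⁻¹ := by group
      _ = g * (x ^ i * x) * g⁻¹ := by rw [(Commute.self_zpow x i).eq]
      _ = _ := by group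
  have hx' : IsPGroup p (Subgroup.zpowers (g * x * g⁻¹)) := by
    rw [show g * x * g⁻¹ = MulAut.conj g x by simp, show Subgroup.zpowers (MulAut.conj g x) =
      (Subgroup.zpowers x).map (MulAut.conj g).toMonoidHom by rw [MonoidHom.map_zpowers]; rfl]
    exact hx.map _
  obtain ⟨k, hk, Q, hxQ, hkQ⟩ := exists_conj_common_sylow hxz hx'z hx hx'
  have e : k * g * x * (k * g)⁻¹ = x :=
    iso_eq hiso Q.2 hxQ (by rw [show k * g * x * (k * g)⁻¹ = k * (g * x * g⁻¹) * k⁻¹ by group]; exact hkQ)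
  have e2 : k * z * k⁻¹ = x ^ i := by
    conv_rhs => rw [← e]
    rw [hz, conj_zpow]; group
  rwa [Subgroup.mem_centralizer_singleton_iff.1 hk, mul_inv_cancel_right] at e2

end CfsgLib.Inv
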