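import Cfsg.Prelude.Def_IsolatedElements
import Cfsg.Agent.Inv.IsolatedP
import Cfsg.Agent.Inv.Component
import Cfsg.Agent.Inv.CharP2
import Cfsg.Agent.Fus.CoreBasic
import Cfsg.Agent.Solv.PGroups
import Cfsg.Agent.Solv.PComplement

/-!
An isolated element of odd prime order in rank at most two.
-/

set_option autoImplicit false

namespace CfsgLib.Inv.IsoTwo

open Cfsg

variable {G : Type*} [Group G] [Finite G] {p : ℕ} [hp : Fact p.Prime]

/-- Sylow subgroup of `L` inside a Sylow subgroup of a group normalising `L`. -/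
theorem exists_conj_inf {L P : Subgroup G} (hP : IsPGroup p P) (hPmax : ∀ Q : Subgroup G, IsPGroup p Q →
      Q ≤ Subgroup.normalizer (L : Set G) → P ≤ Q → Q = P) (hPN : P ≤ Subgroup.normalizer (L : Set G))
    {Q : Subgroup G} (hQ : IsPGroup p Q) (hQL : Q ≤ L) :
    ∃ h ∈ L, ∀ q ∈ Q, h * q * h⁻¹ ∈ P ⊓ L := by
  set N := Subgroup.normalizer (L : Set G) with hN
  have hLN : L ≤ N := Subgroup.le_normalizer
  haveI : (L.subgroupOf N).Normal := Subgroup.normal_in_normalizer
  obtain ⟨S, hS⟩ := (hP.comap_subtype (H := P) (K := N)).exists_le_sylow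
  have hSeq : (S : Subgroup N).map N.subtype = P := by
    refine hPmax _ (S.2.map _) (Subgroup.map_subtype_le _) fun y hy => ?_
    exact Subgroup.mem_map.2 ⟨⟨y, hPN hy⟩, hS (Subgroup.mem_subgroupOf.2 hy), rfl⟩
  obtain ⟨T, hT⟩ := sylow_inf_normal S (L.subgroupOf N)
  have hQ' : IsPGroup p ↥((Q.subgroupOf N).subgroupOf (L.subgroupOf N)) :=
    (hQ.comap_subtype (H := Q) (K := N)).comap_subtype (H := Q.subgroupOf N) (K := L.subgroupOf N)
  obtain ⟨T', hT'⟩ := hQ'.exists_le_sylow
  obtain ⟨h, hh⟩ := MulAction.exists_smul_eq (↥(L.subgroupOf N)) T' T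
  refine ⟨((h : N) : G), h.2, fun q hq => ?_⟩
  have h1 : h * (⟨⟨q, hLN (hQL hq)⟩, hQL hq⟩ : ↥(L.subgroupOf N)) * h⁻¹ ∈
      (T : Subgroup (L.subgroupOf N)) := by
    rw [← hh, Sylow.coe_subgroup_smul, CfsgLib.Solv.mem_conj_smul_iff]
    simp only [mul_assoc, inv_mul_cancel_left, inv_mul_cancel, mul_one]
    exact hT' hq
  have h2 := hT ▸ Subgroup.mem_map.2 ⟨_, h1, rfl⟩
  obtain ⟨h3, h4⟩ := Subgroup.mem_inf.1 h2
  refine Subgroup.mem_inf.2 ⟨?_, h4⟩
  rw [← hSeq]
  exact Subgroup.mem_map.2 ⟨_, h3, rfl⟩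

/-- A perfect group whose `p'`-elements centralise the elements of order `p` of the
`p`-subgroups they normalise has order prime to `p`. -/
theorem not_dvd_of_omega (hp2 : p ≠ 2) {L : Subgroup G} (hperf : ⁅L, L⁆ = L) (T : Subgroup G)
    (hT : ∀ Q : Subgroup G, IsPGroup p Q → Q ≤ L → ∃ h ∈ L, ∀ q ∈ Q, h * q * h⁻¹ ∈ T)
    (hcond : ∀ Q : Subgroup G, Q ≤ T → ∀ g ∈ L, g ∈ Subgroup.normalizer (Q : Set G) →
      ∀ w ∈ Q, w ^ p = 1 → g * w * g⁻¹ = w) :
    ¬ p ∣ Nat.card L := by
  have hfrob : CfsgLib.Solv.FrobCond p L := by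
    intro Q hQ g hg hc
    have key : (Q.normalizerMonoidHom ⟨g, hg⟩ : MulAut Q) = 1 := by
      refine CfsgLib.Solv.aut_eq_one_of_fix_omega hp2 hQ ?_ ?_
      · have hd : orderOf (Q.normalizerMonoidHom ⟨g, hg⟩ : MulAut Q) ∣ orderOf g := by
          have := orderOf_map_dvd (Q.normalizerMonoidHom) (⟨g, hg⟩ : Subgroup.normalizer (Q : Set L))
          rwa [← Subgroup.orderOf_coe (⟨g, hg⟩ : Subgroup.normalizer (Q : Set L))] at this
        exact hc.coprime_dvd_left hd
      · intro w hw
        obtain ⟨h, hhL, hh⟩ := hT (Q.map L.subtype) (hQ.map _) (Subgroup.map_subtype_le _)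
        set Q' := (Q.map L.subtype).map (MulAut.conj h).toMonoidHom with hQ'
        have hle : Q' ≤ T := by
          rintro _ ⟨q, hq, rfl⟩
          exact hh q hq
        have hg' : h * (g : G) * h⁻¹ ∈ Subgroup.normalizer (Q' : Set G) := by
          rw [Subgroup.mem_normalizer_iff]
          intro y
          have hgn := Subgroup.mem_normalizer_iff.1 hg
          constructor
          · rintro ⟨_, ⟨q, hq, rfl⟩, rfl⟩
            exact ⟨_, Subgroup.mem_map.2 ⟨g * q * g⁻¹, (hgn q).1 hq, rfl⟩, by simp [mul_assoc]⟩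
          · rintro ⟨_, ⟨q, hq, rfl⟩, he⟩
            refine ⟨_, Subgroup.mem_map.2 ⟨g⁻¹ * q * g, (hgn _).2 (by simpa [mul_assoc] using hq), rfl⟩, ?_⟩
            simp [mul_assoc] at he ⊢
            calc h * ((g : G)⁻¹ * ((q : G) * ((g : G) * h⁻¹)))
                = h * (g : G)⁻¹ * h⁻¹ * (h * ((q : G) * h⁻¹)) * (h * (g : G) * h⁻¹) := by group
              _ = y := by rw [he]; group
        have h1 := hcond Q' hle _ (L.mul_mem (L.mul_mem hhL g.2) (L.inv_mem hhL)) hg'
          (h * ((w : L) : G) * h⁻¹) ⟨_, Subgroup.mem_map.2 ⟨w, w.2, rfl⟩, rfl⟩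
          (by
            rw [conj_pow, ← Subgroup.coe_pow, ← Subgroup.coe_pow, hw]
            simp)
        have h2 : (g : G) * ((w : L) : G) * (g : G)⁻¹ = ((w : L) : G) :=
          (MulAut.conj h).injective (by simpa [mul_assoc] using h1)
        exact Subtype.ext (Subtype.ext (by simpa using h2))
    rw [Subgroup.mem_centralizer_iff]
    intro q hq
    have h3 := congrArg Subtype.val (DFunLike.congr_fun key (⟨q, hq⟩ : Q))
    simp at h3
    have h4 : g * q * g⁻¹ = q := h3
    calc q * g = g * q * g⁻¹ * g := by rw [h4]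
      _ = g * q := by group
  obtain ⟨P, N, hN, hcompl⟩ := CfsgLib.Solv.hnpc_iff_frobCond.2 hfrob
  haveI := hN
  intro hdvd
  have hidx : N.index = Nat.card (P : Subgroup L) := hcompl.symm.index_eq_card
  haveI : Group.IsNilpotent (↥L ⧸ N) := by
    refine IsPGroup.isNilpotent (p := p) ?_
    obtain ⟨n, hn⟩ := IsPGroup.iff_card.1 P.2
    exact IsPGroup.of_card (n := n) (by rw [← Subgroup.index_eq_card, hidx, hn])
  have hperf' : commutator ↥L = ⊤ := by
    refine Subgroup.map_injective (Subgroup.subtype_injective L) ?_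
    rw [commutator_def, Subgroup.map_commutator, ← MonoidHom.range_eq_map, Subgroup.range_subtype]
    exact hperf
  have htop : N = ⊤ := by
    by_contra hne
    haveI : Nontrivial (↥L ⧸ N) := QuotientGroup.nontrivial_iff.2 hne
    refine (Group.IsSolvable.commutator_lt_top_of_nontrivial (↥L ⧸ N)).ne ?_
    rw [commutator_def, ← Subgroup.map_top_of_surjective _ (QuotientGroup.mk'_surjective N),
      ← Subgroup.map_commutator, ← commutator_def, hperf']
  rw [htop, Subgroup.index_top] at hidx
  obtain ⟨n, hn⟩ := IsPGroup.iff_card.1 P.2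
  exact P.not_dvd_index (by
    have := (P : Subgroup L).card_mul_index
    rw [← hidx, one_mul] at this
    rwa [this])

theorem card_lt {A B : Subgroup G} (h : A < B) : Nat.card A < Nat.card B :=
  Set.ncard_lt_ncard h (Set.toFinite _)

omit [Finite G] in
theorem mem_sup_zpowers {x z : G} (h : z * x = x * z) {a : G}
    (ha : a ∈ Subgroup.zpowers x ⊔ Subgroup.zpowers z) : ∃ i j : ℤ, a = x ^ i * z ^ j := by
  have hc : Commute x z := h.symm
  rw [Subgroup.sup_eq_closure] at ha
  induction ha using Subgroup.closure_induction with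
  | mem a ha =>
    rcases ha with ⟨i, rfl⟩ | ⟨j, rfl⟩
    · exact ⟨i, 0, by simp⟩
    · exact ⟨0, j, by simp⟩
  | one => exact ⟨0, 0, by simp⟩
  | mul a b _ _ iha ihb =>
    obtain ⟨i, j, rfl⟩ := iha
    obtain ⟨i', j', rfl⟩ := ihb
    refine ⟨i + i', j + j', ?_⟩
    rw [zpow_add, zpow_add, mul_assoc, mul_assoc]
    congr 1
    rw [← mul_assoc, ← mul_assoc, (hc.zpow_zpow i' j).eq]
  | inv a _ iha =>
    obtain ⟨i, j, rfl⟩ := iha
    exact ⟨-i, -j, by rw [mul_inv_rev, ← zpow_neg, ← zpow_neg, (hc.zpow_zpow (-i) (-j)).eq]⟩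

theorem component_dvd (hcore : pPrimeCore p G = ⊥) {L : Subgroup G} (hL : IsComponent L) :
    p ∣ Nat.card L := by
  by_contra hn
  have := CfsgLib.Fus.subnormal_le_pPrimeCore hL.1
    ((Nat.coprime_comm.1 ((hp.out.coprime_iff_not_dvd).2 hn)))
  rw [hcore, le_bot_iff] at this
  exact component_ne_bot hL this

theorem fitting_pgroup (hcore : pPrimeCore p G = ⊥) : IsPGroup p ↥(fittingSubgroup G) := by
  refine (CfsgLib.Fus.isPGroup_pCore (G := G) (p := p)).to_le ?_
  rw [CfsgLib.Solv.fittingSubgroup_eq_iSup_pCore]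
  refine iSup_le fun q => ?_
  by_cases h : (q : ℕ) = p
  · rw [h]
  haveI : Fact (q : ℕ).Prime := ⟨q.2⟩
  obtain ⟨n, hn⟩ := IsPGroup.iff_card.1 (CfsgLib.Fus.isPGroup_pCore (G := G) (p := (q : ℕ)))
  refine le_trans ?_ (bot_le : ⊥ ≤ pCore p G)
  rw [← hcore]
  exact CfsgLib.Fus.le_pPrimeCore (CfsgLib.Fus.normal_pCore _)
    (by rw [hn]; exact Nat.Coprime.pow_left n ((Nat.coprime_primes q.2 hp.out).2 h))

theorem main (hp2 : p ≠ 2) (hcore : pPrimeCore p G = ⊥) (hrank : PRankLE p 2 G) (x : G)
    (hx : orderOf x = p) (hiso : IsIsolated x) (hnc : x ∉ Subgroup.center G) :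
    IsSimpleGroup ↥(generalizedFittingSubgroup G) ∧ ¬ IsMulCommutative ↥(generalizedFittingSubgroup G) := by
  haveI hEn := layer_normal (G := G)
  haveI hFn := CfsgLib.Solv.fittingSubgroup_normal G
  set R := fittingSubgroup G
  have hR := fitting_pgroup hcore
  have hxp : IsPGroup p (Subgroup.zpowers x) := isPGroup_zpowers_of_pow ⟨1, by rw [hx, pow_one]⟩
  have hx1 : x ≠ 1 := fun h => hnc (h ▸ Subgroup.one_mem _)
  have hxR : ∀ r ∈ R, r * x = x * r := fun r hr =>
    iso_commute hiso (hxp.to_sup_of_normal_right hR) (Subgroup.mem_sup_left (Subgroup.mem_zpowers x))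
      (Subgroup.mem_sup_right hr)
  obtain ⟨L, hL, hxL⟩ : ∃ L, IsComponent L ∧ ¬ ∀ l ∈ L, l * x = x * l := by
    by_contra hcon
    push Not at hcon
    have hc : x ∈ Subgroup.centralizer (generalizedFittingSubgroup G : Set G) := by
      have : generalizedFittingSubgroup G ≤ Subgroup.centralizer ({x} : Set G) := by
        refine sup_le (sSup_le fun K hK => fun k hk => ?_) fun r hr => ?_
        · exact Subgroup.mem_centralizer_singleton_iff.2 (hcon K hK k hk)
        · exact Subgroup.mem_centralizer_singleton_iff.2 (hxR r hr)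
      exact Subgroup.mem_centralizer_iff.2 fun f hf => Subgroup.mem_centralizer_singleton_iff.1 (this hf)
    have hF := centralizer_genFitting_le hc
    refine hnc (Subgroup.mem_center_iff.2 fun g => ?_)
    haveI := genFitting_normal (G := G)
    have hgx : g * x * g⁻¹ ∈ generalizedFittingSubgroup G := ‹(generalizedFittingSubgroup G).Normal›.conj_mem x hF g
    have h1 := hiso g ((Subgroup.mem_centralizer_iff.1 hc _ hgx).symm)
    calc g * x = g * x * g⁻¹ * g := by group
      _ = x * g := by rw [h1]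
  have hperf := component_commutator hL
  have hdvd := component_dvd hcore hL
  set N := Subgroup.normalizer (L : Set G) with hN
  -- a Sylow subgroup containing `x`
  obtain ⟨S, hS⟩ := hxp.exists_le_sylow
  have hxS : x ∈ (S : Subgroup G) := hS (Subgroup.mem_zpowers x)
  have hxN : x ∈ N := by
    by_contra hxN
    set E := layer G
    obtain ⟨T, hT⟩ := sylow_inf_normal S E
    have hLE : L ≤ E := component_le_layer hL
    have hLn : L ≤ Subgroup.normalizer (E : Set G) ∧ E ≤ N :=
      ⟨by rw [Subgroup.normalizer_eq_top]; exact le_top, component_normal_in_layer hL⟩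
    haveI : (L.subgroupOf E).Normal := Subgroup.normal_subgroupOf_of_le_normalizer hLn.2
    obtain ⟨T₁, hT₁⟩ := sylow_inf_normal T (L.subgroupOf E)
    set U := ((T₁ : Subgroup (L.subgroupOf E)).map (L.subgroupOf E).subtype).map E.subtype with hU
    have hUle : U ≤ (S : Subgroup G) ⊓ L := by
      rintro u ⟨e, he, rfl⟩
      rw [hT₁] at he
      obtain ⟨h1, h2⟩ := Subgroup.mem_inf.1 he
      have h3 : (e : G) ∈ (S : Subgroup G) ⊓ E := hT ▸ Subgroup.mem_map_of_mem E.subtype h1
      exact Subgroup.mem_inf.2 ⟨(Subgroup.mem_inf.1 h3).1, h2⟩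
    have hne : ∀ u ∈ U, ∀ l ∈ L, u * l = l * u := by
      intro u hu l hl
      obtain ⟨huS, huL⟩ := Subgroup.mem_inf.1 (hUle hu)
      set L' := L.map (MulAut.conj x).toMonoidHom with hL'
      have huL' : u ∈ L' := ⟨u, huL, by
        show x * u * x⁻¹ = u
        rw [← iso_commute hiso S.2 hxS huS]; group⟩
      have hLne : L' ≠ L := fun h => hxN (by
        rw [hN, Subgroup.mem_normalizer_iff_map_conj_eq]; exact h)
      exact Subgroup.mem_centralizer_iff.1
        (Subgroup.commutator_eq_bot_iff_le_centralizer.1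
          (components_commute (isComponent_conj hL x) hL hLne) huL') l hl |>.symm
    refine not_dvd_of_omega hp2 hperf U ?_ ?_ hdvd
    · intro Q hQ hQL
      obtain ⟨T', hT'⟩ := ((hQ.comap_subtype (H := Q) (K := E)).comap_subtype
        (H := Q.subgroupOf E) (K := L.subgroupOf E)).exists_le_sylow
      obtain ⟨h, hh⟩ := MulAction.exists_smul_eq (↥(L.subgroupOf E)) T' T₁
      refine ⟨((h : E) : G), h.2, fun q hq => ?_⟩
      refine Subgroup.mem_map.2 ⟨_, Subgroup.mem_map.2 ⟨h * ⟨⟨q, hLE (hQL hq)⟩, hQL hq⟩ * h⁻¹, ?_, rfl⟩, rfl⟩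
      rw [← hh, Sylow.coe_subgroup_smul, CfsgLib.Solv.mem_conj_smul_iff]
      simp only [mul_assoc, inv_mul_cancel_left, inv_mul_cancel, mul_one]
      exact hT' hq
    · intro Q hQU g hgL _ w hw _
      rw [← hne w (hQU hw) g hgL]; group
  -- a Sylow subgroup of the normaliser containing `x`
  obtain ⟨P, hPp, hxP, hPN, hPmax⟩ : ∃ P : Subgroup G, IsPGroup p P ∧ x ∈ P ∧ P ≤ N ∧
      ∀ Q : Subgroup G, IsPGroup p Q → Q ≤ N → P ≤ Q → Q = P := by
    obtain ⟨P, hle, hP⟩ := (Set.toFinite {Q : Subgroup G | IsPGroup p Q ∧ Q ≤ N}).exists_le_maximal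
      (a := Subgroup.zpowers x) ⟨hxp, Subgroup.zpowers_le.2 hxN⟩
    exact ⟨P, hP.1.1, hle (Subgroup.mem_zpowers x), hP.1.2, fun Q h1 h2 h3 =>
      le_antisymm (hP.2 ⟨h1, h2⟩ h3) h3⟩
  have hxc : ∀ y ∈ P, y * x = x * y := fun y hy => iso_commute hiso hPp hxP hy
  -- the centraliser of `L` has order prime to `p`
  have hC : ¬ p ∣ Nat.card (Subgroup.centralizer (L : Set G)) := by
    intro hd
    set C := Subgroup.centralizer (L : Set G) with hCdef
    have hCN : C ≤ N := Subgroup.centralizer_le_normalizer _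
    obtain ⟨z0, hz0⟩ := exists_prime_orderOf_dvd_card' p hd
    obtain ⟨S', hS'⟩ := (hPp.comap_subtype (H := P) (K := N)).exists_le_sylow
    have hSeq : (S' : Subgroup N).map N.subtype = P := by
      refine hPmax _ (S'.2.map _) (Subgroup.map_subtype_le _) fun y hy => ?_
      exact Subgroup.mem_map.2 ⟨⟨y, hPN hy⟩, hS' (Subgroup.mem_subgroupOf.2 hy), rfl⟩
    haveI : (C.subgroupOf N).Normal := by
      refine Subgroup.normal_subgroupOf_of_le_normalizer fun g hg => ?_
      rw [Subgroup.mem_normalizer_iff]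
      intro c
      have hgn := Subgroup.mem_normalizer_iff.1 hg
      simp only [hCdef, Subgroup.mem_centralizer_iff, SetLike.mem_coe]
      constructor
      · intro hc l hl
        have := hc (g⁻¹ * l * g) ((hgn _).2 (by simpa [mul_assoc] using hl))
        calc l * (g * c * g⁻¹) = g * ((g⁻¹ * l * g) * c) * g⁻¹ := by group
          _ = g * (c * (g⁻¹ * l * g)) * g⁻¹ := by rw [this]
          _ = _ := by group
      · intro hc l hl
        have := hc (g * l * g⁻¹) ((hgn _).1 hl)
        calc l * c = g⁻¹ * ((g * l * g⁻¹) * (g * c * g⁻¹)) * g := by group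
          _ = g⁻¹ * ((g * c * g⁻¹) * (g * l * g⁻¹)) * g := by rw [this]
          _ = _ := by group
    obtain ⟨T, hT⟩ := sylow_inf_normal S' (C.subgroupOf N)
    obtain ⟨z', hz'⟩ := exists_prime_orderOf_dvd_card' (G := (T : Subgroup (C.subgroupOf N))) p (by
      refine T.dvd_card_of_dvd_card ?_
      rwa [Nat.card_congr (Subgroup.subgroupOfEquivOfLe hCN).toEquiv])
    set z : G := (((z' : C.subgroupOf N) : N) : G) with hzdef
    have hzP : z ∈ P := by
      rw [← hSeq]
      exact Subgroup.mem_map.2 ⟨_, (Subgroup.mem_inf.1 (hT ▸ Subgroup.mem_map.2 ⟨_, z'.2, rfl⟩)).1, rfl⟩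
    have hzC : z ∈ C := (z' : C.subgroupOf N).2
    have hzo : orderOf z = p := by
      rw [hzdef, Subgroup.orderOf_coe, Subgroup.orderOf_coe, Subgroup.orderOf_coe, hz']
    have hxz : x ∉ Subgroup.zpowers z := fun h => hxL fun l hl =>
      Subgroup.mem_centralizer_iff.1 (Subgroup.zpowers_le.2 hzC h) l hl
    refine not_dvd_of_omega hp2 hperf (P ⊓ L) (fun Q hQ hQL => exists_conj_inf hPp hPmax hPN hQ hQL) ?_ hdvd
    intro Q hQT g hgL hgN w hw hwp
    have hgz : g * z = z * g := Subgroup.mem_centralizer_iff.1 hzC g hgL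
    -- every element of order `p` of `Q` lies in the plane
    set A := Subgroup.zpowers x ⊔ Subgroup.zpowers z with hA
    have hAc : ∀ w ∈ Q, w ^ p = 1 → w ∈ A := by
      intro w hw hwp
      by_contra hwA
      have hwT := Subgroup.mem_inf.1 (hQT hw)
      have hwx : w * x = x * w := hxc w hwT.1
      have hwz : w * z = z * w := Subgroup.mem_centralizer_iff.1 hzC w hwT.2
      set B := Subgroup.closure ({x, z, w} : Set G) with hB
      have hBc : IsMulCommutative B := by
        refine Subgroup.isMulCommutative_closure ?_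
        simp only [Set.mem_insert_iff, Set.mem_singleton_iff]
        rintro a (rfl | rfl | rfl) b (rfl | rfl | rfl) <;>
          first | rfl | exact hwx | exact hwx.symm | exact hwz | exact hwz.symm | exact hxc _ hzP |
            exact (hxc _ hzP).symm
      have hBe : ∀ a ∈ B, a ^ p = 1 := by
        intro a ha
        haveI := hBc
        induction ha using Subgroup.closure_induction with
        | mem a ha =>
          rcases ha with rfl | rfl | rfl
          · rw [← hx]; exact pow_orderOf_eq_one _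
          · rw [← hzo]; exact pow_orderOf_eq_one _
          · exact hwp
        | one => exact one_pow p
        | mul a b ha hb iha ihb =>
          have hab : a * b = b * a :=
            congrArg Subtype.val (mul_comm' (⟨a, ha⟩ : B) ⟨b, hb⟩)
          rw [Commute.mul_pow hab, iha, ihb, one_mul]
        | inv a _ iha => rw [inv_pow, iha, inv_one]
      have hcard := hrank B hBc hBe
      have hle1 : Subgroup.zpowers z < A := by
        refine lt_of_le_of_ne le_sup_right fun h => hxz ?_
        rw [h]; exact Subgroup.mem_sup_left (Subgroup.mem_zpowers x)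
      have hAB : A < B := by
        refine lt_of_le_of_ne (sup_le (Subgroup.zpowers_le.2 (Subgroup.subset_closure (by simp)))
          (Subgroup.zpowers_le.2 (Subgroup.subset_closure (by simp)))) fun h => hwA ?_
        rw [h]; exact Subgroup.subset_closure (by simp)
      have hBp : IsPGroup p B := fun a => ⟨1, by
        rw [pow_one]; exact Subtype.ext (by rw [Subgroup.coe_pow, hBe a a.2]; rfl)⟩
      obtain ⟨nA, hnA⟩ := IsPGroup.iff_card.1 (hBp.to_le hAB.le)
      obtain ⟨nB, hnB⟩ := IsPGroup.iff_card.1 hBp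
      have c1 := card_lt hle1
      have c2 := card_lt hAB
      rw [Nat.card_zpowers, hzo, hnA] at c1
      rw [hnA, hnB] at c2
      rw [hnB] at hcard
      have e1 : 1 < nA := (Nat.pow_lt_pow_iff_right hp.out.one_lt).1 (by rwa [pow_one])
      have e2 : nA < nB := (Nat.pow_lt_pow_iff_right hp.out.one_lt).1 c2
      have e3 : nB ≤ 2 := (Nat.pow_le_pow_iff_right hp.out.one_lt).1 hcard
      omega
    have hAmem : ∀ a ∈ A, ∃ i j : ℤ, a = x ^ i * z ^ j := by
      intro a ha
      exact mem_sup_zpowers (hxc z hzP) ha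
    by_cases hall : ∀ w ∈ Q, w ^ p = 1 → w ∈ Subgroup.zpowers z
    · obtain ⟨j, rfl⟩ := hall w hw hwp
      have hc : Commute g (z ^ j) := (show Commute g z from hgz).zpow_right j
      rw [hc.eq]; group
    push Not at hall
    obtain ⟨u, hu, hup, huz⟩ := hall
    obtain ⟨i, j, hu'⟩ := hAmem u (hAc u hu hup)
    have hi : ¬ (p : ℤ) ∣ i := by
      rintro ⟨k, rfl⟩
      refine huz ⟨j, ?_⟩
      show z ^ j = u
      rw [hu', zpow_mul, zpow_natCast, ← hx, pow_orderOf_eq_one, one_zpow, one_mul]
    set Q₁ := Q ⊔ Subgroup.zpowers z with hQ1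
    have hxQ : x ∈ Q₁ := by
      have h1 : x ^ i ∈ Q₁ := by
        rw [show x ^ i = u * (z ^ j)⁻¹ by rw [hu']; group]
        exact mul_mem (Subgroup.mem_sup_left hu) (inv_mem (Subgroup.mem_sup_right ⟨j, rfl⟩))
      obtain ⟨s, t, hst⟩ : ∃ s t : ℤ, s * i + t * (p : ℤ) = 1 :=
        (((Nat.prime_iff_prime_int.1 hp.out).coprime_iff_not_dvd).2 hi).symm
      have h2 : x = (x ^ i) ^ s := by
        rw [← zpow_mul, show i * s = 1 - (p : ℤ) * t by linarith, zpow_sub, zpow_one, zpow_mul,
          zpow_natCast, ← hx, pow_orderOf_eq_one, one_zpow, inv_one, mul_one]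
      rw [h2]; exact zpow_mem h1 s
    have hQP : Q₁ ≤ P := sup_le (fun q hq => (Subgroup.mem_inf.1 (hQT hq)).1) (Subgroup.zpowers_le.2 hzP)
    have hgx : g * x * g⁻¹ = x := by
      refine iso_eq hiso hPp hxP (hQP ?_)
      have : Q₁.map (MulAut.conj g).toMonoidHom ≤ Q₁ := by
        rw [hQ1, Subgroup.map_sup, MonoidHom.map_zpowers]
        refine sup_le_sup (le_of_eq ?_) (le_of_eq ?_)
        · exact Subgroup.mem_normalizer_iff_map_conj_eq.1 hgN
        · congr 1
          show g * z * g⁻¹ = z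
          rw [hgz]; group
      exact this ⟨x, hxQ, rfl⟩
    obtain ⟨i', j', rfl⟩ := hAmem w (hAc w hw hwp)
    have c1 : Commute g x := by
      calc g * x = g * x * g⁻¹ * g := by group
        _ = x * g := by rw [hgx]
    have c2 : Commute g (x ^ i' * z ^ j') :=
      (c1.zpow_right i').mul_right ((show Commute g z from hgz).zpow_right j')
    rw [c2.eq]; group
  have hsub : ∀ U : Subgroup G, U ≤ Subgroup.centralizer (L : Set G) → U.IsSubnormal → U = ⊥ := by
    intro U hU hUs
    have hc : (Nat.card U).Coprime p := Nat.coprime_comm.1 ((hp.out.coprime_iff_not_dvd).2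
      fun h => hC (h.trans (Subgroup.card_dvd_of_le hU)))
    have := CfsgLib.Fus.subnormal_le_pPrimeCore hUs hc
    rwa [hcore, le_bot_iff] at this
  have hE : layer G = L := by
    refine le_antisymm (sSup_le fun K hK => ?_) (component_le_layer hL)
    by_contra hne
    refine component_ne_bot hK (hsub K ?_ hK.1)
    exact Subgroup.commutator_eq_bot_iff_le_centralizer.1
      (components_commute hK hL fun h => hne h.le)
  have hF : R = ⊥ := by
    refine hsub R ?_ hFn.isSubnormal
    have h1 : ⁅layer G, R⁆ = ⊥ := layer_commute_fitting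
    rw [hE, Subgroup.commutator_comm] at h1
    exact Subgroup.commutator_eq_bot_iff_le_centralizer.1 h1
  have hgF : generalizedFittingSubgroup G = L := by
    show layer G ⊔ R = L
    rw [hE, hF, sup_bot_eq]
  rw [hgF]
  have hqs := hL.2
  have hZ : Subgroup.center L = ⊥ := by
    have hle : (Subgroup.center L).map L.subtype = ⊥ := by
      refine hsub _ ?_ ?_
      · rintro _ ⟨c, hc, rfl⟩
        exact Subgroup.mem_centralizer_iff.2 fun l hl =>
          congrArg Subtype.val (Subgroup.mem_center_iff.1 hc ⟨l, hl⟩)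
      · haveI : L.Normal := hE ▸ hEn
        haveI : ((Subgroup.center L).map L.subtype).Normal :=
          ConjAct.normal_of_characteristic_of_normal
        exact Subgroup.Normal.isSubnormal inferInstance
    rwa [Subgroup.map_eq_bot_iff_of_injective _ (Subgroup.subtype_injective L)] at hle
  have hsimple : IsSimpleGroup L := by
    haveI := hqs.2
    exact (QuotientGroup.quotientMulEquivOfEq hZ |>.trans QuotientGroup.quotientBot).symm.isSimpleGroup
  refine ⟨hsimple, fun hcomm => ?_⟩
  refine quasisimple_center_ne_top hqs ((Subgroup.eq_top_iff' _).2 fun a => ?_)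
  exact Subgroup.mem_center_iff.2 fun b => mul_comm' b a

end CfsgLib.Inv.IsoTwo
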