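import Cfsg.Agent.Inv.LargeSub
import Cfsg.Agent.Solv.ThompsonBasic
import Cfsg.Agent.Solv.CoprimeAction
import Cfsg.Prelude.Def_JComponents

/-!
`J(T)`-components: the four-group `W_K`, its centralizer in `⟨K, J(T)⟩`, and `Ω₁(Z(J(T)))`.
-/

set_option autoImplicit false
set_option linter.style.haveILetI false
set_option maxHeartbeats 1000000

namespace CfsgLib.Inv.JComp

open Cfsg
open scoped commutatorElement

variable {G : Type*} [Group G]

theorem jo_pgroup {T : Subgroup G} (hT : IsPGroup 2 T) : IsPGroup 2 (thompsonSubgroupOf 2 T) :=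
  hT.to_le (Subgroup.map_subtype_le _)

theorem K_le_of_odd {K X : Subgroup G} (hgen : Subgroup.closure {g : G | g ∈ K ∧ Odd (orderOf g)} = K)
    (h : ∀ x ∈ K, Odd (orderOf x) → x ∈ X) : K ≤ X := by
  conv_lhs => rw [← hgen]
  exact (Subgroup.closure_le X).2 fun g hg => h g hg.1 hg.2

theorem J_le_normalizer {K J : Subgroup G} (hKJ : ⁅K, J⁆ = K) : J ≤ Subgroup.normalizer (K : Set G) := by
  have h := CfsgLib.Solv.right_le_normalizer_commutator K J
  rwa [hKJ] at h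

theorem sup_le_normalizer {K J : Subgroup G} (hKJ : ⁅K, J⁆ = K) : K ⊔ J ≤ Subgroup.normalizer (K : Set G) :=
  sup_le Subgroup.le_normalizer (J_le_normalizer hKJ)

theorem odd_mem {K J : Subgroup G} [Finite G] (hKJ : ⁅K, J⁆ = K) (hJ : IsPGroup 2 J) {x : G}
    (hx : x ∈ K ⊔ J) (ho : Odd (orderOf x)) : x ∈ K := by
  haveI : (K.subgroupOf (K ⊔ J)).Normal :=
    (Subgroup.normal_subgroupOf_iff_le_normalizer le_sup_left).2 (sup_le_normalizer hKJ)
  have hle : K ⊔ J ≤ Subgroup.normalizer (K : Set G) := sup_le_normalizer hKJ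
  rw [← SetLike.mem_coe, Subgroup.coe_mul_of_right_le_normalizer_left K J (J_le_normalizer hKJ)] at hx
  obtain ⟨k, hk, j, hj, rfl⟩ := hx
  obtain ⟨n, hn⟩ := hJ ⟨j, hj⟩
  have hpow : ∀ m : ℕ, (k * j) ^ m * (j ^ m)⁻¹ ∈ K := fun m => by
    induction m with
    | zero => simp
    | succ m ih =>
      have h2 : j ^ m * k * (j ^ m)⁻¹ ∈ K :=
        (Subgroup.mem_normalizer_iff.1 (J_le_normalizer hKJ (J.pow_mem hj m)) k).1 hk
      convert K.mul_mem ih h2 using 1
      rw [pow_succ, pow_succ]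
      group
  have h2 : (k * j) ^ 2 ^ n ∈ K := by
    have := hpow (2 ^ n)
    rwa [show j ^ 2 ^ n = 1 from congrArg Subtype.val hn, inv_one, mul_one] at this
  obtain ⟨m, hm⟩ := exists_pow_eq_self_of_coprime (G := G) (x := k * j) (n := 2 ^ n)
    (Nat.Coprime.pow_left _ (Nat.coprime_two_left.2 ho))
  show k * j ∈ K
  rw [← hm]
  exact K.pow_mem h2 m

theorem normalizer_le_pCoreOf [Finite G] (K : Subgroup G) :
    Subgroup.normalizer (K : Set G) ≤ Subgroup.normalizer (pCoreOf 2 K : Set G) := by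
  haveI : Fact (Nat.Prime 2) := ⟨Nat.prime_two⟩
  have key : ∀ g ∈ Subgroup.normalizer (K : Set G), ∀ x ∈ pCoreOf 2 K, g * x * g⁻¹ ∈ pCoreOf 2 K := by
    intro g hg x hx
    refine le_pCoreOf (X := (pCoreOf 2 K).map (MulAut.conj g).toMonoidHom) ?_ ((pCoreOf_pgroup K).map _) ?_
      ⟨x, hx, rfl⟩
    · rintro _ ⟨y, hy, rfl⟩
      exact (Subgroup.mem_normalizer_iff.1 hg y).1 (pCoreOf_le_self K hy)
    · rw [CfsgLib.Solv.le_normalizer_iff_forall_conj_mem]
      intro k hk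
      rintro _ ⟨y, hy, rfl⟩
      have hk' : g⁻¹ * k * g ∈ K := (Subgroup.mem_normalizer_iff''.1 hg k).1 hk
      exact ⟨_, CfsgLib.Solv.le_normalizer_iff_forall_conj_mem.1 (le_normalizer_pCoreOf K) _ hk' y hy,
        by simp [mul_assoc]⟩
  intro g hg
  rw [Subgroup.mem_normalizer_iff]
  intro x
  refine ⟨key g hg x, fun h => ?_⟩
  have := key g⁻¹ (inv_mem hg) _ h
  simpa [mul_assoc] using this

theorem normalizer_le_omegaCenter (X : Subgroup G) :
    Subgroup.normalizer (X : Set G) ≤ Subgroup.normalizer (omegaCenterOf X : Set G) := by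
  intro g hg
  have e : X.map (MulAut.conj g).toMonoidHom = X := Subgroup.mem_normalizer_iff_map_conj_eq.1 hg
  refine Subgroup.mem_normalizer_iff_map_conj_eq.2 ?_
  show (Cfsg.omegaOne 2 (CfsgLib.Solv.zOf X)).map (MulAut.conj g).toMonoidHom =
    Cfsg.omegaOne 2 (CfsgLib.Solv.zOf X)
  rw [CfsgLib.Solv.omegaOne_map_of_injOn _ _ (MulAut.conj g).injective.injOn,
    CfsgLib.Solv.map_zOf _ (MulAut.conj g).injective, e]

theorem normalizer_le_wOf [Finite G] (K : Subgroup G) :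
    Subgroup.normalizer (K : Set G) ≤ Subgroup.normalizer (wOf K : Set G) := by
  intro g hg
  refine Subgroup.mem_normalizer_iff_map_conj_eq.2 ?_
  rw [wOf, Subgroup.map_commutator, Subgroup.mem_normalizer_iff_map_conj_eq.1 hg,
    Subgroup.mem_normalizer_iff_map_conj_eq.1 (normalizer_le_omegaCenter _ (normalizer_le_pCoreOf K hg))]

theorem omegaCenter_ea (X : Subgroup G) : Cfsg.IsElementaryAbelian 2 (omegaCenterOf X) := by
  refine CfsgLib.Solv.isElementaryAbelian_omegaOne fun a ha b hb => ?_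
  exact (Subgroup.mem_centralizer_iff.1 (Subgroup.mem_inf.1 hb).2 a (Subgroup.mem_inf.1 ha).1)

theorem omegaCenter_le (X : Subgroup G) : omegaCenterOf X ≤ X :=
  (CfsgLib.Solv.omegaOne_le _).trans inf_le_left

theorem omegaCenter_centralizes (X : Subgroup G) : X ≤ Subgroup.centralizer (omegaCenterOf X : Set G) :=
  fun x hx => Subgroup.mem_centralizer_iff.2 fun v hv =>
    (Subgroup.mem_centralizer_iff.1 ((CfsgLib.Solv.omegaOne_le _).trans inf_le_right hv) x hx).symm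

/-- `W_K` is inside `Ω₁(Z(O₂(K)))`. -/
theorem wOf_le [Finite G] (K : Subgroup G) : wOf K ≤ omegaCenterOf (pCoreOf 2 K) := by
  refine CfsgLib.Solv.commutator_le_of_le_normalizer ?_
  exact Subgroup.le_normalizer.trans ((normalizer_le_pCoreOf K).trans (normalizer_le_omegaCenter _))

theorem K_le_normalizer_wOf [Finite G] (K : Subgroup G) : K ≤ Subgroup.normalizer (wOf K : Set G) :=
  Subgroup.le_normalizer.trans (normalizer_le_wOf K)

theorem core_centralizes_wOf [Finite G] (K : Subgroup G) :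
    pCoreOf 2 K ≤ Subgroup.centralizer (wOf K : Set G) :=
  (omegaCenter_centralizes _).trans (Subgroup.centralizer_le (SetLike.coe_subset_coe.2 (wOf_le K)))

variable [Finite G] {T K : Subgroup G}

/-- `K` does not centralize `W_K`. -/
theorem not_centralize_wOf (hK : IsJComponent T K) : ¬ K ≤ Subgroup.centralizer (wOf K : Set G) := by
  intro hle
  obtain ⟨hgen, -, -, -, hcard, -⟩ := hK
  set V := omegaCenterOf (pCoreOf 2 K) with hV
  have hc : K ≤ Subgroup.centralizer (V : Set G) := by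
    refine K_le_of_odd hgen fun x hx ho => Subgroup.mem_centralizer_iff.2 fun v hv => ?_
    have hd : ⁅v, x⁆ ∈ wOf K := Subgroup.commutator_mem_commutator hv hx
    set d := ⁅v, x⁆ with hdd
    have hcx : Commute d x := Subgroup.mem_centralizer_iff.1 (hle hx) d hd
    have e1 : v * x * v⁻¹ = d * x := by rw [hdd, commutatorElement_def]; group
    have e2 : (d * x) ^ orderOf x = 1 := by
      rw [← e1, conj_pow, pow_orderOf_eq_one, mul_one, mul_inv_cancel]
    rw [hcx.mul_pow, pow_orderOf_eq_one, mul_one] at e2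
    have e3 : d ^ 2 = 1 := (omegaCenter_ea _).2 d (wOf_le K hd)
    have e4 : orderOf d ∣ 1 := by
      have := Nat.dvd_gcd (orderOf_dvd_of_pow_eq_one e2) (orderOf_dvd_of_pow_eq_one e3)
      rwa [Nat.coprime_two_right.2 ho] at this
    rw [orderOf_eq_one_iff.1 (Nat.dvd_one.1 e4), one_mul] at e1
    exact mul_inv_eq_iff_eq_mul.1 e1
  have e : wOf K = ⊥ := Subgroup.commutator_eq_bot_iff_le_centralizer.2 (Subgroup.le_centralizer_iff.1 hc)
  rw [e, Subgroup.card_bot] at hcard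
  exact absurd hcard (by norm_num)

theorem four_cases (hK : IsJComponent T K) {w0 w1 w : G} (h0 : w0 ∈ wOf K) (h1 : w1 ∈ wOf K) (hw : w ∈ wOf K)
    (n0 : w0 ≠ 1) (n1 : w1 ≠ 1) (n : w1 ≠ w0) : w = 1 ∨ w = w0 ∨ w = w1 ∨ w = w0 * w1 := by
  obtain ⟨-, -, -, -, hcard, hsq⟩ := hK
  have hsub : ({1, w0, w1, w0 * w1} : Set G) ⊆ (wOf K : Set G) := by
    rintro x (rfl | rfl | rfl | rfl)
    exacts [one_mem _, h0, h1, mul_mem h0 h1]
  have h01 : w0 * w1 ≠ 1 := fun e => n (mul_left_cancel (e.trans (hsq w0 h0).symm))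
  have hnc : ({1, w0, w1, w0 * w1} : Set G).ncard = 4 := by
    have a : (1 : G) ∉ ({w0, w1, w0 * w1} : Set G) := by simp [n0.symm, n1.symm, h01.symm]
    have b : w0 ∉ ({w1, w0 * w1} : Set G) := by simp [n.symm, n1]
    have c : w1 ∉ ({w0 * w1} : Set G) := by simp [n0]
    rw [Set.ncard_insert_of_notMem a, Set.ncard_insert_of_notMem b, Set.ncard_insert_of_notMem c,
      Set.ncard_singleton]
  have e := Set.eq_of_subset_of_ncard_le hsub (by rw [hnc, ← Nat.card_coe_set_eq]; exact hcard.le)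
  have : w ∈ ({1, w0, w1, w0 * w1} : Set G) := e ▸ hw
  simpa using this

/-- An element fixing `w₀` either centralizes `W_K` or swaps the other two involutions. -/
theorem swap_of_not_centralize (hK : IsJComponent T K) {g w0 w1 : G} (hg : g ∈ Subgroup.normalizer (wOf K : Set G))
    (h0 : w0 ∈ wOf K) (h1 : w1 ∈ wOf K) (n0 : w0 ≠ 1) (n1 : w1 ≠ 1) (n : w1 ≠ w0) (e0 : g * w0 * g⁻¹ = w0)
    (hnc : g ∉ Subgroup.centralizer (wOf K : Set G)) : g * w1 * g⁻¹ = w0 * w1 := by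
  rcases four_cases hK h0 h1 ((Subgroup.mem_normalizer_iff.1 hg w1).1 h1) n0 n1 n with e | e | e | e
  · exact absurd (mul_left_cancel (b := w1) (c := 1) ((mul_inv_eq_one.1 e).trans (mul_one g).symm)) n1
  · exact absurd (mul_left_cancel (mul_right_cancel (e.trans e0.symm))) n
  · refine absurd (Subgroup.mem_centralizer_iff.2 fun w hw => ?_) hnc
    rcases four_cases hK h0 h1 hw n0 n1 n with rfl | rfl | rfl | rfl
    · simp
    · exact (mul_inv_eq_iff_eq_mul.1 e0).symm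
    · exact (mul_inv_eq_iff_eq_mul.1 e).symm
    · rw [← mul_assoc g, mul_inv_eq_iff_eq_mul.1 e0, mul_assoc w0 g, mul_inv_eq_iff_eq_mul.1 e, mul_assoc]
  · exact e

theorem mul_mem_centralizer (hK : IsJComponent T K) {g h w0 : G} (hg : g ∈ Subgroup.normalizer (wOf K : Set G))
    (hh : h ∈ Subgroup.normalizer (wOf K : Set G)) (h0 : w0 ∈ wOf K) (n0 : w0 ≠ 1)
    (e0 : g * w0 * g⁻¹ = w0) (f0 : h * w0 * h⁻¹ = w0) (hgc : g ∉ Subgroup.centralizer (wOf K : Set G))
    (hhc : h ∉ Subgroup.centralizer (wOf K : Set G)) : g * h ∈ Subgroup.centralizer (wOf K : Set G) := by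
  refine Subgroup.mem_centralizer_iff.2 fun w hw => (mul_inv_eq_iff_eq_mul.1 ?_).symm
  rw [show g * h * w * (g * h)⁻¹ = g * (h * w * h⁻¹) * g⁻¹ by group]
  by_cases hw1 : w = 1
  · subst hw1; simp
  by_cases hw0 : w = w0
  · subst hw0; rw [f0, e0]
  rw [swap_of_not_centralize hK hh h0 hw n0 hw1 hw0 f0 hhc, show g * (w0 * w) * g⁻¹ = (g * w0 * g⁻¹) * (g * w * g⁻¹) by group,
    e0, swap_of_not_centralize hK hg h0 hw n0 hw1 hw0 e0 hgc, ← mul_assoc, hK.2.2.2.2.2 w0 h0, one_mul]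

/-- `K` fixes only the identity in `W_K`. -/
theorem fixed_eq_one (hK : IsJComponent T K) {w : G} (hw : w ∈ wOf K) (hfix : ∀ k ∈ K, k * w * k⁻¹ = w) : w = 1 := by
  by_contra n0
  refine not_centralize_wOf hK (K_le_of_odd hK.1 fun x hx ho => ?_)
  by_contra hxc
  have hxN := K_le_normalizer_wOf K hx
  have h2 := mul_mem_centralizer hK hxN hxN hw n0 (hfix x hx) (hfix x hx) hxc hxc
  obtain ⟨m, hm⟩ := exists_pow_eq_self_of_coprime (G := G) (x := x) (n := 2) (Nat.coprime_two_left.2 ho)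
  rw [← hm] at hxc
  exact hxc (pow_mem (by rwa [pow_two]) m)

theorem not_J_centralize (hK : IsJComponent T K) :
    ¬ thompsonSubgroupOf 2 T ≤ Subgroup.centralizer (wOf K : Set G) := by
  intro hle
  refine not_centralize_wOf hK ?_
  conv_lhs => rw [← hK.2.1]
  refine Subgroup.commutator_le.2 fun a ha b hb => ?_
  have hb' := hle hb
  have haN := K_le_normalizer_wOf K ha
  refine Subgroup.mem_centralizer_iff.2 fun w hw => ?_
  have h1 : a⁻¹ * w * a ∈ wOf K := (Subgroup.mem_normalizer_iff''.1 haN w).1 hw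
  have h2 : Commute (a⁻¹ * w * a) b := Subgroup.mem_centralizer_iff.1 hb' _ h1
  have h3 : Commute w b := Subgroup.mem_centralizer_iff.1 hb' w hw
  have h4 : Commute w (a * b * a⁻¹) := by
    have := h2.map (MulAut.conj a).toMonoidHom
    simpa [mul_assoc] using this
  exact (h4.mul_right h3.inv_right)

/-- `C_{⟨K,J⟩}(W_K)` is a 2-group. -/
theorem centralizer_pgroup (hT : IsPGroup 2 T) (hK : IsJComponent T K) :
    IsPGroup 2 ↥((K ⊔ thompsonSubgroupOf 2 T) ⊓ Subgroup.centralizer (wOf K : Set G)) := by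
  haveI : Fact (Nat.Prime 2) := ⟨Nat.prime_two⟩
  have hnp : Nat.card ↥((K ⊔ thompsonSubgroupOf 2 T) ⊓ Subgroup.centralizer (wOf K : Set G)) ≠ 0 := Nat.card_pos.ne'
  refine IsPGroup.of_card (Nat.eq_prime_pow_of_unique_prime_dvd hnp fun {q} hq hdvd => ?_)
  by_contra hq2
  haveI : Fact q.Prime := ⟨hq⟩
  obtain ⟨⟨y, hy, hyc⟩, hord⟩ := exists_prime_orderOf_dvd_card' q hdvd
  rw [← Subgroup.orderOf_coe] at hord
  change orderOf y = q at hord
  have ho : Odd (orderOf y) := hord ▸ hq.odd_of_ne_two hq2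
  have hyK : y ∈ K := odd_mem hK.2.1 (jo_pgroup hT) hy ho
  by_cases hyQ : y ∈ pCoreOf 2 K
  · obtain ⟨n, hn⟩ := (pCoreOf_pgroup (p := 2) K) ⟨y, hyQ⟩
    have h1 : q ∣ 2 ^ n := hord ▸ orderOf_dvd_of_pow_eq_one (congrArg Subtype.val hn)
    exact hq2 ((Nat.prime_dvd_prime_iff_eq hq Nat.prime_two).1 (hq.dvd_of_dvd_pow h1))
  · have hlt : pCoreOf 2 K ≤ pCoreOf 2 K ⊔ Subgroup.zpowers y := le_sup_left
    have hle : pCoreOf 2 K ⊔ Subgroup.zpowers y ≤ K := sup_le (pCoreOf_le_self K) (Subgroup.zpowers_le.2 hyK)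
    have hd := Subgroup.relIndex_mul_relIndex _ _ _ hlt hle
    rw [hK.2.2.1] at hd
    have h1 : (pCoreOf 2 K ⊔ Subgroup.zpowers y).relIndex K = 1 := by
      rcases (Nat.dvd_prime Nat.prime_three).1 ⟨_, (mul_comm _ _).trans hd |>.symm⟩ with h | h
      · exact h
      · exfalso
        rw [h] at hd
        have h' : (pCoreOf 2 K).relIndex (pCoreOf 2 K ⊔ Subgroup.zpowers y) = 1 := by omega
        exact hyQ (Subgroup.relIndex_eq_one.1 h' (Subgroup.mem_sup_right (Subgroup.mem_zpowers y)))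
    exact not_centralize_wOf hK ((Subgroup.relIndex_eq_one.1 h1).trans
      (sup_le (core_centralizes_wOf K) (Subgroup.zpowers_le.2 hyc)))

theorem exists_sylow_over (hT : IsPGroup 2 T) (hK : IsJComponent T K) :
    ∃ S : Subgroup G, IsSylowTwoIn S (K ⊔ thompsonSubgroupOf 2 T) ∧ thompsonSubgroupOf 2 T ≤ S ∧
      (K ⊔ thompsonSubgroupOf 2 T) ⊓ Subgroup.centralizer (wOf K : Set G) ≤ S := by
  haveI : Fact (Nat.Prime 2) := ⟨Nat.prime_two⟩
  set J := thompsonSubgroupOf 2 T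
  set X := (K ⊔ J) ⊓ Subgroup.centralizer (wOf K : Set G) with hX
  have hN : K ⊔ J ≤ Subgroup.normalizer (wOf K : Set G) := (sup_le_normalizer hK.2.1).trans (normalizer_le_wOf K)
  have hJN : J ≤ Subgroup.normalizer (X : Set G) := by
    rw [CfsgLib.Solv.le_normalizer_iff_forall_conj_mem]
    intro j hj x hx
    obtain ⟨hx1, hx2⟩ := Subgroup.mem_inf.1 hx
    have hjK : j ∈ K ⊔ J := Subgroup.mem_sup_right hj
    refine Subgroup.mem_inf.2 ⟨mul_mem (mul_mem hjK hx1) (inv_mem hjK), ?_⟩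
    refine Subgroup.mem_centralizer_iff.2 fun w hw => ?_
    have h1 : j⁻¹ * w * j ∈ wOf K := (Subgroup.mem_normalizer_iff''.1 (hN hjK) w).1 hw
    have := (show Commute (j⁻¹ * w * j) x from Subgroup.mem_centralizer_iff.1 hx2 _ h1).map (MulAut.conj j).toMonoidHom
    simp only [MulEquiv.coe_toMonoidHom, MulAut.conj_apply, mul_assoc, mul_inv_cancel, mul_one, mul_inv_cancel_left] at this
    simpa [mul_assoc] using this.eq
  have hp : IsPGroup 2 ↥(J ⊔ X) := (jo_pgroup hT).to_sup_of_normal_right' (centralizer_pgroup hT hK) hJN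
  obtain ⟨S0, hS0⟩ := (hp.comap_of_injective (K ⊔ J).subtype (K ⊔ J).subtype_injective).exists_le_sylow
  refine ⟨(S0 : Subgroup ↥(K ⊔ J)).map (K ⊔ J).subtype,
    ⟨Subgroup.map_subtype_le _, S0.isPGroup'.map _, ?_⟩, fun j hj => ?_, fun x hx => ?_⟩
  · have : Subgroup.relIndex ((S0 : Subgroup ↥(K ⊔ J)).map (K ⊔ J).subtype) (K ⊔ J) = (S0 : Subgroup ↥(K ⊔ J)).index := by
      rw [Subgroup.relIndex, Subgroup.subgroupOf, Subgroup.comap_map_eq_self_of_injective (K ⊔ J).subtype_injective]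
    rw [this, ← Nat.not_even_iff_odd, even_iff_two_dvd]
    exact S0.not_dvd_index
  · exact ⟨⟨j, Subgroup.mem_sup_right hj⟩, hS0 (Subgroup.mem_sup_left hj : j ∈ J ⊔ X), rfl⟩
  · exact ⟨⟨x, (Subgroup.mem_inf.1 hx).1⟩, hS0 (Subgroup.mem_sup_right hx : x ∈ J ⊔ X), rfl⟩

theorem sylow_normalizes_J {N S : Subgroup G} (_hS : S ≤ N) :
    S ≤ Subgroup.normalizer (thompsonSubgroupOf 2 S : Set G) := by
  intro g hg
  refine Subgroup.mem_normalizer_iff_map_conj_eq.2 ?_
  exact (CfsgLib.Solv.map_conj_thompsonSubgroupOf g S).trans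
    (congrArg _ (Subgroup.mem_normalizer_iff_map_conj_eq.1 (Subgroup.le_normalizer hg)))

/-- Every largest elementary abelian subgroup either centralizes `W_K` or exchanges with one containing it. -/
theorem exchange (hK : IsJComponent T K) {S A : Subgroup G}
    (hS : S ≤ K ⊔ thompsonSubgroupOf 2 T) (hX : (K ⊔ thompsonSubgroupOf 2 T) ⊓ Subgroup.centralizer (wOf K : Set G) ≤ S)
    (hA : CfsgLib.Solv.MaxEA 2 S A) (hnc : ¬ A ≤ Subgroup.centralizer (wOf K : Set G)) {w0 : G} (h0 : w0 ∈ wOf K)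
    (n0 : w0 ≠ 1) (hfix : ∀ a ∈ A, a * w0 * a⁻¹ = w0) :
    CfsgLib.Solv.MaxEA 2 S ((A ⊓ Subgroup.centralizer (wOf K : Set G)) ⊔ wOf K) ∧
      (A ⊓ Subgroup.centralizer (wOf K : Set G)) ⊔ wOf K ≤
        (K ⊔ thompsonSubgroupOf 2 T) ⊓ Subgroup.centralizer (wOf K : Set G) := by
  set C := Subgroup.centralizer (wOf K : Set G) with hC
  set N := K ⊔ thompsonSubgroupOf 2 T with hN
  have hWea : Cfsg.IsElementaryAbelian 2 (wOf K) :=
    CfsgLib.Solv.isElementaryAbelian_of_le (omegaCenter_ea _) (wOf_le K)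
  have hWN : wOf K ≤ N := ((wOf_le K).trans (omegaCenter_le _)).trans ((pCoreOf_le_self K).trans le_sup_left)
  have hWC : wOf K ≤ C := fun w hw => Subgroup.mem_centralizer_iff.2 fun v hv =>
    CfsgLib.Solv.commute_of_isElementaryAbelian hWea hv hw
  have hB : (A ⊓ C) ⊔ wOf K ≤ N ⊓ C := sup_le (inf_le_inf_right C (hA.1.trans hS)) (le_inf hWN hWC)
  have hBea : Cfsg.IsElementaryAbelian 2 ((A ⊓ C) ⊔ wOf K) :=
    CfsgLib.Solv.isElementaryAbelian_sup (CfsgLib.Solv.isElementaryAbelian_of_le hA.2.1 inf_le_left) hWea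
      (Subgroup.le_centralizer_iff.1 inf_le_right)
  refine ⟨⟨hB.trans hX, hBea, fun D hD hDe => (hA.2.2 D hD hDe).trans ?_⟩, hB⟩
  have hNW : N ≤ Subgroup.normalizer (wOf K : Set G) := (sup_le_normalizer hK.2.1).trans (normalizer_le_wOf K)
  obtain ⟨a0, ha0, ha0c⟩ := SetLike.not_le_iff_exists.1 hnc
  have hsub : (A : Set G) ⊆ ((A ⊓ C : Subgroup G) : Set G) ∪ (fun x => a0 * x) '' ((A ⊓ C : Subgroup G) : Set G) := by
    intro a ha
    by_cases hac : a ∈ C
    · exact Or.inl (Subgroup.mem_inf.2 ⟨ha, hac⟩)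
    · refine Or.inr ⟨a0 * a, Subgroup.mem_inf.2 ⟨mul_mem ha0 ha, mul_mem_centralizer hK (hNW (hS (hA.1 ha0)))
        (hNW (hS (hA.1 ha))) h0 n0 (hfix a0 ha0) (hfix a ha) ha0c hac⟩, ?_⟩
      show a0 * (a0 * a) = a
      rw [← mul_assoc, ← pow_two, hA.2.1.2 a0 ha0, one_mul]
  have h2 : Nat.card A ≤ 2 * Nat.card ↥(A ⊓ C) := by
    have e1 := Set.ncard_le_ncard hsub (Set.toFinite _)
    have e2 := Set.ncard_union_le ((A ⊓ C : Subgroup G) : Set G) ((fun x => a0 * x) '' ((A ⊓ C : Subgroup G) : Set G))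
    rw [Set.ncard_image_of_injective _ (mul_right_injective a0)] at e2
    have hAc : (A : Set G).ncard = Nat.card A := (Nat.card_coe_set_eq _).symm
    have hIc : ((A ⊓ C : Subgroup G) : Set G).ncard = Nat.card ↥(A ⊓ C) := (Nat.card_coe_set_eq _).symm
    omega
  have hlt : A ⊓ C < (A ⊓ C) ⊔ wOf K := lt_of_le_of_ne le_sup_left fun e => by
    refine hnc fun a ha => Subgroup.mem_centralizer_iff.2 fun w hw => ?_
    have hwA : w ∈ A := (Subgroup.mem_inf.1 (e.symm ▸ (Subgroup.mem_sup_right hw : w ∈ (A ⊓ C) ⊔ wOf K) : w ∈ A ⊓ C)).1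
    exact CfsgLib.Solv.commute_of_isElementaryAbelian hA.2.1 hwA ha
  obtain ⟨m, hm⟩ := Subgroup.card_dvd_of_le hlt.le
  refine h2.trans ?_
  rcases m with _ | _ | m
  · rw [Nat.mul_zero] at hm; exact absurd hm Nat.card_pos.ne'
  · rw [Nat.mul_one] at hm
    exact absurd (Subgroup.eq_of_le_of_card_ge hlt.le hm.le) hlt.ne
  · rw [hm, mul_comm 2]; exact Nat.mul_le_mul le_rfl (by omega)

/-- `Ω₁(Z(J(T)))` meets `W_K` in order 2 and is the product of this with its part central in `⟨K, J(T)⟩`. -/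
theorem omegaCenter_J (hT : IsPGroup 2 T) (hK : IsJComponent T K) :
    Nat.card ↥(omegaCenterOf (thompsonSubgroupOf 2 T) ⊓ wOf K) = 2 ∧
      (omegaCenterOf (thompsonSubgroupOf 2 T) ⊓ ((K ⊔ thompsonSubgroupOf 2 T) ⊓
        Subgroup.centralizer ((K ⊔ thompsonSubgroupOf 2 T : Subgroup G) : Set G))) ⊔
        (omegaCenterOf (thompsonSubgroupOf 2 T) ⊓ wOf K) = omegaCenterOf (thompsonSubgroupOf 2 T) := by
  haveI : Fact (Nat.Prime 2) := ⟨Nat.prime_two⟩
  set W := wOf K with hW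
  set J := thompsonSubgroupOf 2 T with hJ
  set C := Subgroup.centralizer (W : Set G) with hC
  set N := K ⊔ J with hN
  set Z := omegaCenterOf J with hZ
  obtain ⟨S, hS, hJS, hXS⟩ := exists_sylow_over hT hK
  have hJeq : thompsonSubgroupOf 2 S = J := hK.2.2.2.1 S hS hJS
  have hSN : S ≤ N := hS.1
  have hKW : K ≤ Subgroup.normalizer (W : Set G) := K_le_normalizer_wOf K
  have hNW : N ≤ Subgroup.normalizer (W : Set G) := (sup_le_normalizer hK.2.1).trans (normalizer_le_wOf K)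
  have hWea : Cfsg.IsElementaryAbelian 2 W :=
    CfsgLib.Solv.isElementaryAbelian_of_le (omegaCenter_ea _) (wOf_le K)
  have hWQ : W ≤ pCoreOf 2 K := (wOf_le K).trans (omegaCenter_le _)
  have hQX : pCoreOf 2 K ≤ N ⊓ C := le_inf ((pCoreOf_le_self K).trans le_sup_left) (core_centralizes_wOf K)
  have hWS : W ≤ S := hWQ.trans (hQX.trans hXS)
  have hWne : W ≠ ⊥ := fun e => by
    have := hK.2.2.2.2.1
    rw [← hW, e, Subgroup.card_bot] at this
    exact absurd this (by norm_num)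
  obtain ⟨w0, h0, n0, h0c⟩ : ∃ w0 ∈ W, w0 ≠ 1 ∧ ∀ s ∈ S, s * w0 = w0 * s := by
    haveI : (W.subgroupOf S).Normal := (Subgroup.normal_subgroupOf_iff_le_normalizer hWS).2 (hSN.trans hNW)
    have h := CfsgLib.Perm.inf_center_ne_bot hS.2.1 (W.subgroupOf S) fun e => hWne (by
      rw [← Subgroup.map_subgroupOf_eq_of_le hWS, e, Subgroup.map_bot])
    by_contra hno
    push Not at hno
    refine h ((Subgroup.eq_bot_iff_forall _).2 fun x hx => ?_)
    obtain ⟨h1, h2⟩ := Subgroup.mem_inf.1 hx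
    by_contra hx1
    obtain ⟨s, hs, hne⟩ := hno x h1 (fun e => hx1 (Subtype.ext e))
    exact hne (congrArg Subtype.val (Subgroup.mem_center_iff.1 h2 ⟨s, hs⟩))
  have h0fix : ∀ s ∈ S, s * w0 * s⁻¹ = w0 := fun s hs => mul_inv_eq_iff_eq_mul.2 (h0c s hs)
  have hmaxJ : ∀ A, CfsgLib.Solv.MaxEA 2 S A → A ≤ J := fun A hA => hJeq ▸ hA.le_thompsonSubgroupOf
  obtain ⟨A1, hA1, hA1c⟩ : ∃ A, CfsgLib.Solv.MaxEA 2 S A ∧ ¬ A ≤ C := by
    by_contra hno
    push Not at hno
    refine not_J_centralize hK ?_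
    rw [← hJ, ← hJeq, CfsgLib.Solv.thompsonSubgroupOf_eq]
    exact iSup₂_le hno
  obtain ⟨hB1, hB1X⟩ := exchange hK hSN hXS hA1 hA1c h0 n0 fun a ha => h0fix a (hA1.1 ha)
  have hWJ : W ≤ J := le_sup_right.trans (hmaxJ _ hB1)
  have hJC : ∀ w ∈ W, (∀ j ∈ J, j * w = w * j) → w = 1 ∨ w = w0 := by
    intro w hw hc
    by_contra hno
    push Not at hno
    refine not_J_centralize hK fun j hj => Subgroup.mem_centralizer_iff.2 fun v hv => ?_
    rcases four_cases hK h0 hw hv n0 hno.1 hno.2 with rfl | rfl | rfl | rfl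
    · simp
    · exact (h0c j (hJS hj)).symm
    · exact (hc j hj).symm
    · rw [mul_assoc, ← hc j hj, ← mul_assoc, ← h0c j (hJS hj), mul_assoc]
  have hZle : ∀ z ∈ Z, z ∈ J ∧ (∀ j ∈ J, j * z = z * j) := fun z hz => by
    obtain ⟨h1, h2⟩ := Subgroup.mem_inf.1 (CfsgLib.Solv.omegaOne_le _ hz)
    exact ⟨h1, fun j hj => Subgroup.mem_centralizer_iff.1 h2 j hj⟩
  have hw0Z : w0 ∈ Z := Subgroup.subset_closure
    ⟨Subgroup.mem_inf.2 ⟨hWJ h0, Subgroup.mem_centralizer_iff.2 fun j hj => h0c j (hJS hj)⟩, hWea.2 w0 h0⟩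
  have hZW : Z ⊓ W = Subgroup.zpowers w0 := by
    refine le_antisymm (fun w hw => ?_) (Subgroup.zpowers_le.2 (Subgroup.mem_inf.2 ⟨hw0Z, h0⟩))
    obtain ⟨h1, h2⟩ := Subgroup.mem_inf.1 hw
    rcases hJC w h2 (hZle w h1).2 with rfl | rfl
    exacts [one_mem _, Subgroup.mem_zpowers _]
  refine ⟨by rw [hZW, Nat.card_zpowers, orderOf_eq_prime (hWea.2 w0 h0) n0],
    le_antisymm (sup_le inf_le_left inf_le_left) fun z hz => ?_⟩
  obtain ⟨hzJ, hzc⟩ := hZle z hz
  have hz2 : z ^ 2 = 1 := (omegaCenter_ea J).2 z hz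
  -- the intersection of the exchanged subgroups
  set 𝓑 : Set (Subgroup G) := {B | CfsgLib.Solv.MaxEA 2 S B ∧ B ≤ N ⊓ C} with h𝓑
  set U := sInf 𝓑 with hU
  have habs : ∀ {x : G} {B : Subgroup G}, B ∈ 𝓑 → x ∈ S → x ^ 2 = 1 → (∀ b ∈ B, b * x = x * b) → x ∈ B := by
    intro x B hB hxS hx2 hxc
    have hle : B ≤ B ⊔ Subgroup.zpowers x := le_sup_left
    have he : B = B ⊔ Subgroup.zpowers x := Subgroup.eq_of_le_of_card_ge hle
      (hB.1.2.2 _ (sup_le hB.1.1 (Subgroup.zpowers_le.2 hxS))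
        (CfsgLib.Solv.isElementaryAbelian_sup hB.1.2.1 (CfsgLib.Solv.isElementaryAbelian_zpowers hx2)
          (Subgroup.zpowers_le.2 (Subgroup.mem_centralizer_iff.2 hxc))))
    exact he.ge (Subgroup.mem_sup_right (Subgroup.mem_zpowers x))
  have hzU : z ∈ U := Subgroup.mem_sInf.2 fun B hB =>
    habs hB (hJS hzJ) hz2 fun b hb => hzc b (hmaxJ B hB.1 hb)
  have hWU : W ≤ U := fun w hw => Subgroup.mem_sInf.2 fun B hB =>
    habs hB (hWS hw) (hWea.2 w hw) fun b hb =>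
      (Subgroup.mem_centralizer_iff.1 ((hB.2 hb : b ∈ N ⊓ C).2) w hw).symm
  have hUB : U ≤ (A1 ⊓ C) ⊔ W := sInf_le ⟨hB1, hB1X⟩
  have hUcomm : ∀ u ∈ U, ∀ v ∈ U, u * v = v * u := fun u hu v hv =>
    CfsgLib.Solv.commute_of_isElementaryAbelian hB1.2.1 (hUB hu) (hUB hv)
  have hUn : ∀ g ∈ N, ∀ u ∈ U, g * u * g⁻¹ ∈ U := by
    intro g hg u hu
    refine Subgroup.mem_sInf.2 fun B hB => ?_
    have hBX : B.map (MulAut.conj g⁻¹).toMonoidHom ≤ N ⊓ C := by
      rintro _ ⟨b, hb, rfl⟩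
      obtain ⟨hbN, hbC⟩ := Subgroup.mem_inf.1 (hB.2 hb)
      refine Subgroup.mem_inf.2 ⟨mul_mem (mul_mem (inv_mem hg) hbN) (inv_mem (inv_mem hg)),
        Subgroup.mem_centralizer_iff.2 fun w hw => ?_⟩
      have h1 : g * w * g⁻¹ ∈ W := (Subgroup.mem_normalizer_iff.1 (hNW hg) w).1 hw
      have := (show Commute (g * w * g⁻¹) b from Subgroup.mem_centralizer_iff.1 hbC _ h1).map (MulAut.conj g⁻¹).toMonoidHom
      simpa [mul_assoc] using this.eq
    have hBm : CfsgLib.Solv.MaxEA 2 S (B.map (MulAut.conj g⁻¹).toMonoidHom) :=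
      ⟨hBX.trans hXS, CfsgLib.Solv.isElementaryAbelian_map hB.1.2.1, fun D hD hDe =>
        (hB.1.2.2 D hD hDe).trans (le_of_eq (Subgroup.card_map_of_injective (MulAut.conj g⁻¹).injective).symm)⟩
    obtain ⟨b, hb, e⟩ := (Subgroup.mem_sInf.1 hu _ ⟨hBm, hBX⟩ : u ∈ B.map (MulAut.conj g⁻¹).toMonoidHom)
    have : g * u * g⁻¹ = b := by rw [← e]; simp [mul_assoc]
    rwa [this]
  let P : Subgroup G :=
    { carrier := {g | g ∈ N ∧ ∀ u ∈ U, g * u * g⁻¹ * u⁻¹ ∈ W}
      one_mem' := ⟨one_mem _, fun u _ => by simp⟩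
      mul_mem' := fun {a b} ha hb => ⟨mul_mem ha.1 hb.1, fun u hu => by
        have h1 := (Subgroup.mem_normalizer_iff.1 (hNW ha.1) _).1 (hb.2 u hu)
        convert mul_mem h1 (ha.2 u hu) using 1
        group⟩
      inv_mem' := fun {a} ha => ⟨inv_mem ha.1, fun u hu => by
        have h1 := (Subgroup.mem_normalizer_iff''.1 (hNW ha.1) _).1 (inv_mem (ha.2 u hu))
        convert h1 using 1
        group⟩ }
  have hJP : J ≤ P := by
    rw [← hJeq, CfsgLib.Solv.thompsonSubgroupOf_eq]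
    refine iSup₂_le fun A hA a ha => ⟨hSN (hA.1 ha), fun u hu => ?_⟩
    by_cases hAc : A ≤ C
    · have huA : u ∈ A := Subgroup.mem_sInf.1 hu A ⟨hA, le_inf (hA.1.trans hSN) hAc⟩
      rw [CfsgLib.Solv.commute_of_isElementaryAbelian hA.2.1 ha huA]
      simp
    · obtain ⟨hB, hBX⟩ := exchange hK hSN hXS hA hAc h0 n0 fun b hb => h0fix b (hA.1 hb)
      have hu' : u ∈ (A ⊓ C) ⊔ W := Subgroup.mem_sInf.1 hu _ ⟨hB, hBX⟩
      rw [← SetLike.mem_coe, Subgroup.coe_mul_of_left_le_normalizer_right (A ⊓ C) W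
        (inf_le_right.trans (Subgroup.centralizer_le_normalizer _))] at hu'
      obtain ⟨a', ha', w, hw, rfl⟩ := hu'
      obtain ⟨ha'A, ha'C⟩ := Subgroup.mem_inf.1 ha'
      have e1 : a * a' = a' * a := CfsgLib.Solv.commute_of_isElementaryAbelian hA.2.1 ha ha'A
      have hm : a * w * a⁻¹ * w⁻¹ ∈ W := mul_mem ((Subgroup.mem_normalizer_iff.1 (hNW (hSN (hA.1 ha))) w).1 hw) (inv_mem hw)
      have e2 : a' * (a * w * a⁻¹ * w⁻¹) = a * w * a⁻¹ * w⁻¹ * a' := (Subgroup.mem_centralizer_iff.1 ha'C _ hm).symm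
      convert hm using 1
      show a * (a' * w) * a⁻¹ * (a' * w)⁻¹ = _
      calc a * (a' * w) * a⁻¹ * (a' * w)⁻¹ = (a * a') * w * a⁻¹ * w⁻¹ * a'⁻¹ := by group
        _ = a' * (a * w * a⁻¹ * w⁻¹) * a'⁻¹ := by rw [e1]; group
        _ = _ := by rw [e2]; group
  have hKP : K ≤ P := by
    conv_lhs => rw [← hK.2.1]
    refine Subgroup.commutator_le.2 fun k hk j hj => ?_
    rw [commutatorElement_def]
    refine P.mul_mem ?_ (inv_mem (hJP hj))
    have hkN : k ∈ N := Subgroup.mem_sup_left hk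
    have hjP := hJP hj
    refine ⟨mul_mem (mul_mem hkN hjP.1) (inv_mem hkN), fun u hu => ?_⟩
    have hu' : k⁻¹ * u * k ∈ U := by simpa using hUn k⁻¹ (inv_mem hkN) u hu
    have h1 := (Subgroup.mem_normalizer_iff.1 (hKW hk) _).1 (hjP.2 _ hu')
    convert h1 using 1
    group
  obtain ⟨y, hy, hyo, hyc⟩ : ∃ y ∈ K, Odd (orderOf y) ∧ y ∉ C := by
    by_contra hno
    push Not at hno
    exact not_centralize_wOf hK (K_le_of_odd hK.1 hno)
  have hyfix : ∀ w ∈ W, y * w * y⁻¹ = w → w = 1 := by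
    intro w hw e
    by_contra hw1
    have h2 := mul_mem_centralizer hK (hKW hy) (hKW hy) hw hw1 e e hyc hyc
    obtain ⟨m, hm⟩ := exists_pow_eq_self_of_coprime (G := G) (x := y) (n := 2) (Nat.coprime_two_left.2 hyo)
    rw [← hm] at hyc
    exact hyc (pow_mem (by rwa [pow_two]) m)
  let f : W → W := fun w => ⟨y * w * y⁻¹ * (w : G)⁻¹,
    mul_mem ((Subgroup.mem_normalizer_iff.1 (hKW hy) w).1 w.2) (inv_mem w.2)⟩
  have hf : Function.Surjective f := Finite.surjective_of_injective fun a b e => by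
    have e' : y * a * y⁻¹ * (a : G)⁻¹ = y * b * y⁻¹ * (b : G)⁻¹ := congrArg Subtype.val e
    have hab : (a : G)⁻¹ * b ∈ W := mul_mem (inv_mem a.2) b.2
    have := hyfix _ hab (by
      have e3 : y * (b : G) * y⁻¹ = (y * a * y⁻¹ * (a : G)⁻¹) * b := by rw [e']; group
      calc y * ((a : G)⁻¹ * b) * y⁻¹ = (y * a * y⁻¹)⁻¹ * (y * b * y⁻¹) := by group
        _ = _ := by rw [e3]; group)
    exact Subtype.ext (inv_mul_eq_one.1 this)
  set d := y * z * y⁻¹ * z⁻¹ with hd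
  have hdW : d ∈ W := (hKP hy).2 z hzU
  obtain ⟨⟨w, hw⟩, hwe⟩ := hf ⟨d⁻¹, inv_mem hdW⟩
  have hwe' : y * w * y⁻¹ * w⁻¹ = d⁻¹ := congrArg Subtype.val hwe
  have hcU : z * w ∈ U := mul_mem hzU (hWU hw)
  have hcy : y * (z * w) * y⁻¹ = z * w := by
    have e1 : y * z * y⁻¹ = d * z := by rw [hd]; group
    have e2 : y * w * y⁻¹ = d⁻¹ * w := by rw [← hwe']; group
    have e3 : z * d⁻¹ = d⁻¹ * z := hUcomm z hzU _ (hWU (inv_mem hdW))
    calc y * (z * w) * y⁻¹ = (y * z * y⁻¹) * (y * w * y⁻¹) := by group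
      _ = d * (z * d⁻¹) * w := by rw [e1, e2]; group
      _ = z * w := by rw [e3]; group
  have hyQ : y ∉ pCoreOf 2 K := fun h => hyc (core_centralizes_wOf K h)
  have hQc : ∀ q ∈ pCoreOf 2 K, q * (z * w) * q⁻¹ = z * w := by
    have hphi : ∀ q ∈ pCoreOf 2 K, q * (z * w) * q⁻¹ * (z * w)⁻¹ = 1 ∨ q * (z * w) * q⁻¹ * (z * w)⁻¹ = w0 := by
      intro q hq
      have hqw : q * w = w * q := (Subgroup.mem_centralizer_iff.1 (core_centralizes_wOf K hq) w hw).symm
      have e : q * (z * w) * q⁻¹ * (z * w)⁻¹ = q * z * q⁻¹ * z⁻¹ :=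
        calc q * (z * w) * q⁻¹ * (z * w)⁻¹ = q * z * (w * q⁻¹ * w⁻¹) * z⁻¹ := by group
          _ = q * z * q⁻¹ * z⁻¹ := by
            rw [show w * q⁻¹ * w⁻¹ = q⁻¹ from mul_inv_eq_iff_eq_mul.2 (Commute.inv_left hqw).eq.symm]
      rw [e]
      refine hJC _ ((hKP (pCoreOf_le_self K hq)).2 z hzU) fun j hj => ?_
      have hqS : q ∈ S := hXS (hQX hq)
      have hj' : q⁻¹ * j * q ∈ J :=
        hJeq ▸ (Subgroup.mem_normalizer_iff''.1 (sylow_normalizes_J hSN hqS) j).1 (hJeq.symm ▸ hj)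
      have h1 : Commute (q⁻¹ * j * q) z := hzc _ hj'
      have h2 : Commute j (q * z * q⁻¹) := by
        have := h1.map (MulAut.conj q).toMonoidHom
        simpa [mul_assoc] using this
      exact (h2.mul_right (show Commute j z from hzc j hj).inv_right).eq
    intro q hq
    rcases hphi q hq with e | e
    · exact mul_inv_eq_one.1 e
    · exfalso
      have hq' : y * q * y⁻¹ ∈ pCoreOf 2 K :=
        CfsgLib.Solv.le_normalizer_iff_forall_conj_mem.1 (le_normalizer_pCoreOf K) y hy q hq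
      have e' : (y * q * y⁻¹) * (z * w) * (y * q * y⁻¹)⁻¹ * (z * w)⁻¹ = y * w0 * y⁻¹ := by
        rw [← e]
        conv_lhs => rw [← hcy]
        group
      rcases hphi _ hq' with e2 | e2 <;> rw [e'] at e2
      · exact n0 (conj_eq_one_iff.1 e2)
      · exact n0 (hyfix w0 h0 e2)
  have hKc : K ≤ Subgroup.centralizer ({z * w} : Set G) := by
    have hle : pCoreOf 2 K ⊔ Subgroup.zpowers y ≤ Subgroup.centralizer ({z * w} : Set G) :=
      sup_le (fun q hq => Subgroup.mem_centralizer_singleton_iff.2 (mul_inv_eq_iff_eq_mul.1 (hQc q hq)))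
        (Subgroup.zpowers_le.2 (Subgroup.mem_centralizer_singleton_iff.2 (mul_inv_eq_iff_eq_mul.1 hcy)))
    refine le_trans ?_ hle
    have hd := Subgroup.relIndex_mul_relIndex _ _ K (le_sup_left : pCoreOf 2 K ≤ pCoreOf 2 K ⊔ Subgroup.zpowers y)
      (sup_le (pCoreOf_le_self K) (Subgroup.zpowers_le.2 hy))
    rw [hK.2.2.1] at hd
    rcases (Nat.dvd_prime Nat.prime_three).1 ⟨_, (mul_comm _ _).trans hd |>.symm⟩ with h | h
    · exact Subgroup.relIndex_eq_one.1 h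
    · exfalso
      rw [h] at hd
      have h' : (pCoreOf 2 K).relIndex (pCoreOf 2 K ⊔ Subgroup.zpowers y) = 1 := by omega
      exact hyQ (Subgroup.relIndex_eq_one.1 h' (Subgroup.mem_sup_right (Subgroup.mem_zpowers y)))
  have hwJ : ∀ j ∈ J, j * w = w * j := by
    intro j hj
    set e := j * w * j⁻¹ * w⁻¹ with he
    have heW : e ∈ W := mul_mem ((Subgroup.mem_normalizer_iff.1 (hNW (Subgroup.mem_sup_right hj)) w).1 hw) (inv_mem hw)
    have hje : j * (z * w) * j⁻¹ = e * (z * w) := by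
      have hzj : j * z = z * j := hzc j hj
      have hze : z * e = e * z := hUcomm z hzU e (hWU heW)
      calc j * (z * w) * j⁻¹ = z * (j * w * j⁻¹) := by rw [← mul_assoc j z w, hzj]; group
        _ = z * e * w := by rw [he]; group
        _ = e * (z * w) := by rw [hze]; group
    have := fixed_eq_one hK heW fun k hk => by
      have h1 : Commute k (z * w) := (Subgroup.mem_centralizer_singleton_iff.1 (hKc hk))
      have hk' : j⁻¹ * k * j ∈ K := (Subgroup.mem_normalizer_iff''.1 (J_le_normalizer hK.2.1 hj) k).1 hk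
      have h2 : Commute k (j * (z * w) * j⁻¹) := by
        have := (show Commute (j⁻¹ * k * j) (z * w) from Subgroup.mem_centralizer_singleton_iff.1 (hKc hk')).map
          (MulAut.conj j).toMonoidHom
        simpa [mul_assoc] using this
      rw [hje] at h2
      have h3 : Commute k e := by
        have := h2.mul_right h1.inv_right
        rwa [mul_inv_cancel_right] at this
      exact mul_inv_eq_iff_eq_mul.2 h3.eq
    exact mul_inv_eq_iff_eq_mul.1 (mul_inv_eq_one.1 this)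
  have hwZ : w ∈ Z ⊓ W := Subgroup.mem_inf.2
    ⟨Subgroup.subset_closure ⟨Subgroup.mem_inf.2 ⟨hWJ hw, Subgroup.mem_centralizer_iff.2 hwJ⟩, hWea.2 w hw⟩, hw⟩
  have hcN : z * w ∈ Z ⊓ (N ⊓ Subgroup.centralizer (N : Set G)) := by
    refine Subgroup.mem_inf.2 ⟨mul_mem hz (Subgroup.mem_inf.1 hwZ).1,
      Subgroup.mem_inf.2 ⟨Subgroup.mem_sup_right (mul_mem hzJ (hWJ hw)), ?_⟩⟩
    have hle : N ≤ Subgroup.centralizer ({z * w} : Set G) := sup_le hKc fun j hj =>
      Subgroup.mem_centralizer_singleton_iff.2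
        ((show Commute j z from hzc j hj).mul_right (show Commute j w from hwJ j hj)).eq
    exact Subgroup.mem_centralizer_iff.2 fun n hn => Subgroup.mem_centralizer_singleton_iff.1 (hle hn)
  have := mul_mem (Subgroup.mem_sup_left (T := Z ⊓ W) hcN) (Subgroup.mem_sup_right (inv_mem hwZ))
  rwa [mul_inv_cancel_right] at this

end CfsgLib.Inv.JComp
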