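import Cfsg.Agent.Inv.Dihedral
import Mathlib.GroupTheory.SpecificGroups.KleinFour
import Mathlib.GroupTheory.Transfer
import Mathlib.GroupTheory.Sylow

/-! Groups with Klein four Sylow 2-subgroups. -/

set_option autoImplicit false
set_option linter.style.haveILetI false

namespace CfsgLib.Inv

variable {G : Type*} [Group G] [Finite G]

/-- The map from nonidentity elements of `P` to involution classes. -/
def kleinClass (P : Sylow 2 G) (hP : IsKleinFour (P : Subgroup G))
    (x : {x : (P : Subgroup G) // x ≠ 1}) :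
    {C : ConjClasses G // ∃ t : G, orderOf t = 2 ∧ ConjClasses.mk t = C} :=
  ⟨ConjClasses.mk (x.1 : G), (x.1 : G), invol_iff.2
    ⟨fun h => x.2 (Subtype.ext h), congrArg Subtype.val (@IsKleinFour.mul_self _ _ hP x.1)⟩, rfl⟩

theorem kleinClass_surjective (P : Sylow 2 G) (hP : IsKleinFour (P : Subgroup G)) :
    Function.Surjective (kleinClass P hP) := by
  rintro ⟨C, t, ht, rfl⟩
  haveI : Fact (Nat.Prime 2) := ⟨Nat.prime_two⟩
  have hp : IsPGroup 2 ↥(Subgroup.zpowers t) :=
    IsPGroup.of_card (n := 1) (by rw [Nat.card_zpowers, ht, pow_one])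
  obtain ⟨Q, hQ⟩ := hp.exists_le_sylow
  obtain ⟨g, hg⟩ := MulAction.exists_smul_eq G Q P
  have hm : g * t * g⁻¹ ∈ (P : Subgroup G) := by
    rw [← hg]
    exact ⟨t, hQ (Subgroup.mem_zpowers t), rfl⟩
  refine ⟨⟨⟨_, hm⟩, fun h => invol_ne_one (invol_conj ht g) (congrArg Subtype.val h)⟩,
    Subtype.ext (ConjClasses.mk_eq_mk_iff_isConj.2 (isConj_iff.2 ⟨g⁻¹, ?_⟩))⟩
  show g⁻¹ * (g * t * g⁻¹) * g⁻¹⁻¹ = t
  group

theorem klein_card_ne_one (P : Sylow 2 G) (hP : IsKleinFour (P : Subgroup G)) :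
    Nat.card {x : (P : Subgroup G) // x ≠ 1} = 3 := by
  classical
  haveI := Fintype.ofFinite (P : Subgroup G)
  rw [Nat.card_eq_fintype_card, Fintype.card_subtype_compl, Fintype.card_subtype_eq,
    ← Nat.card_eq_fintype_card, hP.card_four]

theorem klein_fusion (P : Sylow 2 G) (hP : IsKleinFour (P : Subgroup G))
    {x y : {x : (P : Subgroup G) // x ≠ 1}} (h : kleinClass P hP x = kleinClass P hP y) :
    ∃ n ∈ Subgroup.normalizer ((P : Subgroup G) : Set G),
      n * ((x.1 : (P : Subgroup G)) : G) * n⁻¹ = ((y.1 : (P : Subgroup G)) : G) := by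
  haveI : Fact (Nat.Prime 2) := ⟨Nat.prime_two⟩
  haveI := hP
  haveI : IsMulCommutative (P : Subgroup G) := IsKleinFour.isMulCommutative
  obtain ⟨g, hg⟩ := isConj_iff.1 (ConjClasses.mk_eq_mk_iff_isConj.1 (congrArg Subtype.val h))
  obtain ⟨n, hn, he⟩ := P.conj_eq_normalizer_conj_of_mem ((x.1 : (P : Subgroup G)) : G) g⁻¹
    x.1.2 (by rw [inv_inv, hg]; exact y.1.2)
  refine ⟨n⁻¹, inv_mem hn, ?_⟩
  rw [inv_inv, hg] at he
  rw [inv_inv, ← he]

/-- There are one or three classes of involutions. -/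
theorem klein_not_two (P : Sylow 2 G) (hP : IsKleinFour (P : Subgroup G))
    {x y z : {x : (P : Subgroup G) // x ≠ 1}} (hxy : x ≠ y)
    (h : kleinClass P hP x = kleinClass P hP y) (hz : z ≠ x) (hz' : z ≠ y) :
    kleinClass P hP z = kleinClass P hP x := by
  classical
  haveI := hP
  haveI : Fintype (P : Subgroup G) := Fintype.ofFinite _
  haveI : Fact (Nat.Prime 2) := ⟨Nat.prime_two⟩
  obtain ⟨n, hn, he⟩ := klein_fusion P hP h
  by_contra hne
  -- the three nonidentity elements
  have hthree : ∀ w : {x : (P : Subgroup G) // x ≠ 1}, w = x ∨ w = y ∨ w = z := by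
    intro w
    by_contra hw
    push Not at hw
    have h4 := Finset.card_le_univ ({x, y, z, w} : Finset {x : (P : Subgroup G) // x ≠ 1})
    rw [Finset.card_insert_of_notMem (by simp [hxy, hz.symm, hw.1.symm]),
      Finset.card_insert_of_notMem (by simp [hz'.symm, hw.2.1.symm]),
      Finset.card_insert_of_notMem (by simp [hw.2.2.symm]), Finset.card_singleton,
      ← Nat.card_eq_fintype_card, klein_card_ne_one P hP] at h4
    omega
  let σ : {x : (P : Subgroup G) // x ≠ 1} → {x : (P : Subgroup G) // x ≠ 1} := fun w =>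
    ⟨⟨n * (w.1 : G) * n⁻¹, (Subgroup.mem_normalizer_iff.1 hn _).1 w.1.2⟩, fun h1 => w.2
      (Subtype.ext (conj_eq_one_iff.1 (congrArg Subtype.val h1)))⟩
  have hσx : σ x = y := Subtype.ext (Subtype.ext he)
  have hσclass : ∀ w, kleinClass P hP (σ w) = kleinClass P hP w := fun w =>
    Subtype.ext (ConjClasses.mk_eq_mk_iff_isConj.2 (isConj_iff.2 ⟨n, rfl⟩ : IsConj (w.1 : G) _).symm)
  have hinj : Function.Injective σ := fun a b hab => Subtype.ext (Subtype.ext
    (mul_left_cancel (mul_right_cancel (congrArg (fun w : {x : (P : Subgroup G) // x ≠ 1} => (w.1 : G)) hab))))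
  have hσz : σ z = z := by
    rcases hthree (σ z) with e | e | e
    · exact absurd ((hσclass z).symm.trans (congrArg _ e)) hne
    · exact absurd ((hσclass z).symm.trans ((congrArg _ e).trans h.symm)) hne
    · exact e
  have hσy : σ y = x := by
    rcases hthree (σ y) with e | e | e
    · exact e
    · exact absurd (hinj (e.trans hσx.symm)).symm hxy
    · exact absurd (hinj (e.trans hσz.symm)).symm hz'
  -- an odd power of `n` also exchanges `x` and `y`
  have hodd : ∀ i : ℕ, n ^ (2 * i + 1) * (x.1 : G) * (n ^ (2 * i + 1))⁻¹ = (y.1 : G) := by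
    intro i
    induction i with
    | zero => simpa using he
    | succ i ih =>
      have h1 : n * (y.1 : G) * n⁻¹ = (x.1 : G) :=
        congrArg (fun w : {x : (P : Subgroup G) // x ≠ 1} => (w.1 : G)) hσy
      calc n ^ (2 * (i + 1) + 1) * (x.1 : G) * (n ^ (2 * (i + 1) + 1))⁻¹
          = n * (n * (n ^ (2 * i + 1) * (x.1 : G) * (n ^ (2 * i + 1))⁻¹) * n⁻¹) * n⁻¹ := by
            rw [show 2 * (i + 1) + 1 = (2 * i + 1) + 1 + 1 by ring, pow_succ', pow_succ']; group
        _ = _ := by rw [ih, h1, he]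
  obtain ⟨k, m, hm, hord⟩ := Nat.exists_eq_pow_mul_and_not_dvd (orderOf_pos n).ne' 2 (by norm_num)
  obtain ⟨i, rfl⟩ : Odd m := Nat.odd_iff.2 (by omega)
  set t := n ^ (2 * i + 1) with ht
  have hpt : IsPGroup 2 ↥(Subgroup.zpowers t) := by
    refine IsPGroup.of_card (n := k) ?_
    rw [Nat.card_zpowers, ht, orderOf_pow, hord, Nat.gcd_eq_right (dvd_mul_left _ _),
      Nat.mul_div_cancel _ (by omega)]
  have hmem : t ∈ Subgroup.zpowers t ⊓ Subgroup.normalizer (P : Set G) :=
    ⟨Subgroup.mem_zpowers t, pow_mem hn _⟩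
  rw [hpt.inf_normalizer_sylow P] at hmem
  haveI : IsMulCommutative (P : Subgroup G) := IsKleinFour.isMulCommutative
  have hc : t * (x.1 : G) = (x.1 : G) * t :=
    congrArg Subtype.val ((inferInstance : IsMulCommutative (P : Subgroup G)).is_comm.comm ⟨t, hmem.2⟩ x.1)
  refine hxy (Subtype.ext (Subtype.ext ?_))
  rw [← hodd i, ← ht, hc, mul_inv_cancel_right]

end CfsgLib.Inv
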