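import Mathlib

/-!
Fixed points of a group acting on an abelian group, detected by quadratically acting subgroups
of a Sylow subgroup.
-/

set_option autoImplicit false
set_option linter.style.haveILetI false
set_option linter.unusedSectionVars false
set_option linter.deprecated false

open scoped Pointwise

namespace CfsgLib.Inv.WC

variable {X α W : Type*} [Group X] [MulAction X α] [CommMonoid W] [DecidableEq α]

/-- A product over an invariant set is trivial if it is trivial over every orbit. -/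
theorem prod_eq_one_of_orbits (φ : α → W) (B : Set X) (O : Finset α)
    (orb : α → Finset α) (hO : ∀ r ∈ O, r ∈ orb r ∧ orb r ⊆ O)
    (hdisj : ∀ r ∈ O, ∀ s ∈ O, s ∉ orb r → Disjoint (orb r) (orb s))
    (hprod : ∀ r ∈ O, ∏ t ∈ orb r, φ t = 1) : ∏ r ∈ O, φ r = 1 := by
  suffices key : ∀ S : Finset α, S ⊆ O → (∀ r ∈ S, orb r ⊆ S) → ∏ r ∈ S, φ r = 1 from
    key O le_rfl fun r hr => (hO r hr).2
  intro S
  induction S using Finset.strongInduction with
  | H S ih =>
    intro hSO hS
    rcases S.eq_empty_or_nonempty with rfl | ⟨q, hq⟩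
    · simp
    · have hsub := hS q hq
      rw [← Finset.prod_sdiff hsub, hprod q (hSO hq), mul_one]
      refine ih _ (Finset.sdiff_ssubset hsub ⟨q, (hO q (hSO hq)).1⟩) (Finset.sdiff_subset.trans hSO) ?_
      intro r hr t ht
      rw [Finset.mem_sdiff] at hr ⊢
      refine ⟨hS r hr.1 ht, fun htq => ?_⟩
      exact Finset.disjoint_left.1 (hdisj q (hSO hq) r (hSO hr.1) hr.2) htq ht

variable {p : ℕ}

/-- Products over invariant sets without fixed points vanish. -/
theorem prod_eq_one_of_generated [Finite X] [Fintype α] [Fact p.Prime] (φ : α → W) (P : Subgroup X)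
    (hP : IsPGroup p P) (D : Set (Subgroup X))
    (hconj : ∀ A ∈ D, ∀ g : X, MulAut.conj g • A ≤ P → MulAut.conj g • A ∈ D)
    (horb : ∀ A ∈ D, ∀ q : α, (∃ a ∈ A, a • q ≠ q) →
      ∀ O : Finset α, (∀ r, r ∈ O ↔ ∃ a ∈ A, a • q = r) → ∏ r ∈ O, φ r = 1) :
    ∀ (n : ℕ) (N : Subgroup X), Nat.card N = n → N ≤ P → (N ≤ ⨆ A, ⨆ _ : A ∈ D ∧ A ≤ N, A) →
      ∀ O : Finset α, (∀ r ∈ O, ∀ h ∈ N, h • r ∈ O) → (∀ r ∈ O, ∃ h ∈ N, h • r ≠ r) →
        ∏ r ∈ O, φ r = 1 := by
  classical
  intro n
  induction n using Nat.strong_induction_on with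
  | _ n ih =>
    intro N hn hNP hgen O hOinv hmov
    refine prod_eq_one_of_orbits (X := X) φ (N : Set X) O
      (fun r => O.filter fun t => ∃ h ∈ N, h • r = t) ?_ ?_ ?_
    · exact fun r hr => ⟨Finset.mem_filter.2 ⟨hr, 1, N.one_mem, one_smul _ _⟩, Finset.filter_subset _ _⟩
    · intro r _ s hs hsr
      refine Finset.disjoint_left.2 fun t ht ht' => hsr ?_
      obtain ⟨-, h, hh, rfl⟩ := Finset.mem_filter.1 ht
      obtain ⟨-, h', hh', he⟩ := Finset.mem_filter.1 ht'
      refine Finset.mem_filter.2 ⟨hs, h'⁻¹ * h, N.mul_mem (N.inv_mem hh') hh, ?_⟩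
      rw [mul_smul, ← he, inv_smul_smul]
    · intro q hq
      set Oq := O.filter fun t => ∃ h ∈ N, h • q = t with hOq
      have hOq' : ∀ t, t ∈ Oq ↔ ∃ h ∈ N, h • q = t := fun t => by
        rw [hOq, Finset.mem_filter]
        exact ⟨fun h => h.2, fun ⟨h, hh, he⟩ => ⟨he ▸ hOinv q hq h hh, h, hh, he⟩⟩
      -- some member moves `q`
      obtain ⟨A, ⟨hA, hAN⟩, a, ha, hane⟩ : ∃ A, (A ∈ D ∧ A ≤ N) ∧ ∃ a ∈ A, a • q ≠ q := by
        by_contra hcon
        push Not at hcon
        obtain ⟨h, hh, hne⟩ := hmov q hq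
        exact hne ((iSup₂_le fun A hA => show A ≤ MulAction.stabilizer X q from
          fun a ha => hcon A hA a ha) (hgen hh))
      by_cases hAeq : A = N
      · exact horb A hA q ⟨a, ha, hane⟩ Oq (by rw [hAeq]; exact hOq')
      set N₁ : Subgroup X := ⨆ h : N, MulAut.conj (h : X) • A with hN₁
      have hcN : ∀ h : N, MulAut.conj (h : X) • A ≤ N := fun h => by
        rintro _ ⟨b, hb, rfl⟩
        exact N.mul_mem (N.mul_mem h.2 (hAN hb)) (N.inv_mem h.2)
      have hN₁N : N₁ ≤ N := iSup_le hcN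
      haveI : Group.IsNilpotent N := (hP.to_le hNP).isNilpotent
      have hlt : Nat.card N₁ < Nat.card N := by
        obtain hT | ⟨K, hK, hAK⟩ := eq_top_or_exists_le_coatom (A.subgroupOf N)
        · exact absurd (le_antisymm hAN (fun x hx =>
            hT.ge (Subgroup.mem_top (⟨x, hx⟩ : N)))) hAeq
        · haveI : K.Normal := Subgroup.NormalizerCondition.normal_of_coatom K
            Group.normalizerCondition_of_isNilpotent hK
          have hle : N₁ ≤ K.map N.subtype := iSup_le fun h => by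
            rintro _ ⟨b, hb, rfl⟩
            exact ⟨h * ⟨b, hAN hb⟩ * h⁻¹,
              Subgroup.Normal.conj_mem inferInstance _ (hAK (show (⟨b, hAN hb⟩ : N) ∈ A.subgroupOf N from hb)) h, rfl⟩
          refine lt_of_le_of_lt (Subgroup.card_le_of_le hle) ?_
          rw [Subgroup.card_map_of_injective N.subtype_injective]
          exact lt_of_le_of_ne (Subgroup.card_le_card_group K) fun he =>
            hK.1 ((Subgroup.card_eq_iff_eq_top K).1 he)
      refine ih _ (hn ▸ hlt) N₁ rfl (hN₁N.trans hNP) (iSup_le fun h => ?_) Oq ?_ ?_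
      · exact le_iSup₂_of_le (MulAut.conj (h : X) • A)
          ⟨hconj A hA _ ((hcN h).trans hNP), le_iSup (fun h : N => MulAut.conj (h : X) • A) h⟩ le_rfl
      · intro r hr h hh
        obtain ⟨g, hg, rfl⟩ := (hOq' r).1 hr
        exact (hOq' _).2 ⟨h * g, N.mul_mem (hN₁N hh) hg, mul_smul _ _ _⟩
      · intro r hr
        obtain ⟨g, hg, rfl⟩ := (hOq' r).1 hr
        refine ⟨g * a * g⁻¹, Subgroup.mem_iSup_of_mem (⟨g, hg⟩ : N) ⟨a, ha, rfl⟩, ?_⟩
        rw [mul_smul, inv_smul_smul, mul_smul]
        exact fun he => hane (smul_left_cancel g he)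

end CfsgLib.Inv.WC

namespace CfsgLib.Inv.WC

variable {X W : Type*} [Group X] [CommGroup W] {p : ℕ}

/-- An abelian subgroup acting quadratically, with commutators of exponent `p`. -/
structure Quad (p : ℕ) (θ : X →* MulAut W) (A : Subgroup X) : Prop where
  comm : ∀ a ∈ A, ∀ b ∈ A, a * b = b * a
  quad : ∀ a ∈ A, ∀ b ∈ A, ∀ w : W, θ b (w⁻¹ * θ a w) = w⁻¹ * θ a w
  expp : ∀ a ∈ A, ∀ w : W, (w⁻¹ * θ a w) ^ p = 1

theorem Quad.pow_apply {θ : X →* MulAut W} {A : Subgroup X} (h : Quad p θ A) {a : X} (ha : a ∈ A)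
    (w : W) : ∀ i : ℕ, θ (a ^ i) w = w * (w⁻¹ * θ a w) ^ i
  | 0 => by simp
  | i + 1 => by
    rw [pow_succ', map_mul, MulAut.mul_apply, h.pow_apply ha w i, map_mul, map_pow,
      h.quad a ha a ha, pow_succ' (w⁻¹ * θ a w), ← mul_assoc, mul_inv_cancel_left]

theorem Quad.pow_eq_one {θ : X →* MulAut W} (hθ : Function.Injective θ) {A : Subgroup X}
    (h : Quad p θ A) {a : X} (ha : a ∈ A) : a ^ p = 1 := by
  refine hθ (MulEquiv.ext fun w => ?_)
  rw [h.pow_apply ha, h.expp a ha, mul_one, map_one, MulAut.one_apply]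

theorem prod_range_pow [hp : Fact p.Prime] (k : ℕ) (y δ : W) (hy : y ^ (p * k) = 1)
    (hk : δ ^ (p.choose 2 * k) = 1) : ∏ i ∈ Finset.range p, (y * δ ^ i) ^ k = 1 := by
  rw [Finset.prod_pow, Finset.prod_mul_distrib, Finset.prod_const, Finset.card_range,
    Finset.prod_pow_eq_pow_sum, mul_pow, ← pow_mul, ← pow_mul, hy, one_mul, Finset.sum_range_id,
    ← Nat.choose_two_right, hk]

/-- Fixed points detected by quadratic subgroups. -/
theorem module_fixed [Finite X] [hp : Fact p.Prime] (θ : X →* MulAut W) (hθ : Function.Injective θ)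
    (P : Sylow p X) (M : Subgroup X) (hPM : (P : Subgroup X) ≤ M) (z x : W) (k : ℕ)
    (hz : ∀ m ∈ M, θ m z = z) (hx : z ^ k = x) (hxp : x ^ p = 1) (hwk : ∀ w : W, w ^ (p * k) = 1)
    (D : Set (Subgroup X)) (hD : ∀ A ∈ D, A ≤ (P : Subgroup X))
    (hconj : ∀ A ∈ D, ∀ g : X, MulAut.conj g • A ≤ (P : Subgroup X) → MulAut.conj g • A ∈ D)
    (hQ : ∀ A ∈ D, Quad p θ A)
    (hcase : p ∣ p.choose 2 * k ∨ p = 2 ∧
      (∀ A ∈ D, ∀ q : X ⧸ M, ∀ a ∈ A, a • q ≠ q → ∃ c ∈ A, c • q ≠ q ∧ c • q ≠ a • q))
    (hN : ∀ g ∈ Subgroup.normalizer ((⨆ A, ⨆ _ : A ∈ D, A : Subgroup X) : Set X), θ g x = x) :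
    ∀ g : X, θ g x = x := by
  classical
  letI := Fintype.ofFinite (X ⧸ M)
  set J : Subgroup X := ⨆ A, ⨆ _ : A ∈ D, A with hJ
  let f : X ⧸ M → W := Quotient.lift (fun g => θ g z) fun a b hab => by
    have h1 : a⁻¹ * b ∈ M := QuotientGroup.leftRel_apply.1 hab
    show θ a z = θ b z
    conv_rhs => rw [← mul_inv_cancel_left a b, map_mul, MulAut.mul_apply, hz _ h1]
  have hf0 : ∀ g : X, f (QuotientGroup.mk g) = θ g z := fun g => rfl
  have hf : ∀ (h : X) (q : X ⧸ M), f (h • q) = θ h (f q) := by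
    intro h q
    obtain ⟨g, rfl⟩ := QuotientGroup.mk_surjective q
    show θ (h * g) z = θ h (θ g z)
    rw [map_mul, MulAut.mul_apply]
  have hJP : J ≤ P := iSup₂_le hD
  -- products over orbits
  have horb : ∀ A ∈ D, ∀ q : X ⧸ M, (∃ a ∈ A, a • q ≠ q) →
      ∀ O : Finset (X ⧸ M), (∀ r, r ∈ O ↔ ∃ a ∈ A, a • q = r) → ∏ r ∈ O, f r ^ k = 1 := by
    rintro A hA q ⟨a, ha, hane⟩ O hO
    have hAQ := hQ A hA
    have hmem : ∀ b ∈ A, ∀ r ∈ O, b • r ∈ O := fun b hb r hr => by
      obtain ⟨c, hc, rfl⟩ := (hO r).1 hr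
      exact (hO _).2 ⟨b * c, A.mul_mem hb hc, mul_smul _ _ _⟩
    have hstab : ∀ b ∈ A, ∀ r ∈ O, b • r = r → b • q = q := fun b hb r hr he => by
      obtain ⟨c, hc, rfl⟩ := (hO r).1 hr
      rw [← mul_smul, hAQ.comm b hb c hc, mul_smul] at he
      exact smul_left_cancel c he
    have hpow : ∀ b ∈ A, ∀ (r : X ⧸ M) (i : ℕ), f (b ^ i • r) = f r * ((f r)⁻¹ * θ b (f r)) ^ i :=
      fun b hb r i => by rw [hf, hAQ.pow_apply hb]
    rcases hcase with hk | hfour
    · -- cycles of an element of order `p`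
      have hap : a ^ p = 1 := hAQ.pow_eq_one hθ ha
      refine prod_eq_one_of_orbits (X := X) _ (A : Set X) O
        (fun r => (Finset.range p).image fun i => a ^ i • r) ?_ ?_ ?_
      · intro r hr
        refine ⟨Finset.mem_image.2 ⟨0, Finset.mem_range.2 hp.out.pos, by simp⟩, ?_⟩
        intro t ht
        obtain ⟨i, -, rfl⟩ := Finset.mem_image.1 ht
        exact hmem _ (A.pow_mem ha i) r hr
      · intro r _ s _ hsr
        refine Finset.disjoint_left.2 fun t ht ht' => hsr ?_
        obtain ⟨i, hi, rfl⟩ := Finset.mem_image.1 ht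
        obtain ⟨j, hj, he⟩ := Finset.mem_image.1 ht'
        rw [Finset.mem_range] at hi hj
        refine Finset.mem_image.2 ⟨(p - j + i) % p, Finset.mem_range.2 (Nat.mod_lt _ hp.out.pos), ?_⟩
        show a ^ ((p - j + i) % p) • r = s
        rw [← pow_eq_pow_mod _ hap, pow_add, mul_smul, ← he, ← mul_smul, ← pow_add,
          Nat.sub_add_cancel hj.le, hap, one_smul]
      · intro r hr
        have hinj : Set.InjOn (fun i => a ^ i • r) (Finset.range p : Set ℕ) := by
          intro i hi j hj he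
          rw [Finset.coe_range, Set.mem_Iio] at hi hj
          by_contra hne
          have key : ∀ i j : ℕ, i < j → j < p → a ^ i • r ≠ a ^ j • r := by
            intro i j hij hjp he
            rw [show j = i + (j - i) by omega, pow_add, mul_smul] at he
            have hd : a ^ (j - i) • r = r := (smul_left_cancel _ he).symm
            obtain ⟨m, hm⟩ := exists_pow_eq_self_of_coprime (x := a) (n := j - i)
              ((hp.out.coprime_iff_not_dvd.2 fun hd => absurd (Nat.le_of_dvd (by omega) hd) (by omega)).symm.coprime_dvd_right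
                (orderOf_dvd_of_pow_eq_one hap))
            refine hane (hstab a ha r hr ?_)
            rw [← hm]
            have hst : a ^ (j - i) ∈ MulAction.stabilizer X r := hd
            exact (MulAction.stabilizer X r).pow_mem hst m
          rcases lt_or_gt_of_ne hne with h | h
          · exact key i j h hj he
          · exact key j i h hi he.symm
        rw [Finset.prod_image hinj]
        simp only [hpow a ha r]
        refine prod_range_pow k _ _ (hwk _) ?_
        obtain ⟨c, hc⟩ := hk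
        rw [hc, pow_mul, hAQ.expp a ha, one_pow]
    · obtain ⟨rfl, hfour⟩ := hfour
      obtain ⟨c, hc, hcne, hca⟩ := hfour A hA q a ha hane
      have haa : a * a = 1 := by rw [← pow_two]; exact hAQ.pow_eq_one hθ ha
      have hcc : c * c = 1 := by rw [← pow_two]; exact hAQ.pow_eq_one hθ hc
      have hcomm : a * c = c * a := hAQ.comm a ha c hc
      refine prod_eq_one_of_orbits (X := X) _ (A : Set X) O
        (fun r => ({r, a • r, c • r, a • c • r} : Finset (X ⧸ M))) ?_ ?_ ?_
      · intro r hr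
        refine ⟨by simp, ?_⟩
        intro t ht
        simp only [Finset.mem_insert, Finset.mem_singleton] at ht
        rcases ht with rfl | rfl | rfl | rfl
        exacts [hr, hmem a ha r hr, hmem c hc r hr, hmem a ha _ (hmem c hc r hr)]
      · intro r _ s _ hsr
        refine Finset.disjoint_left.2 fun t ht ht' => hsr ?_
        have haI : ∀ u : X ⧸ M, a • a • u = u := fun u => by rw [← mul_smul, haa, one_smul]
        have hcI : ∀ u : X ⧸ M, c • c • u = u := fun u => by rw [← mul_smul, hcc, one_smul]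
        have hacI : ∀ u : X ⧸ M, c • a • u = a • c • u := fun u => by rw [← mul_smul, ← hcomm, mul_smul]
        simp only [Finset.mem_insert, Finset.mem_singleton] at ht ht' ⊢
        have hsq : s = t ∨ s = a • t ∨ s = c • t ∨ s = a • c • t := by
          rcases ht' with rfl | rfl | rfl | rfl
          · exact .inl rfl
          · exact .inr (.inl (haI s).symm)
          · exact .inr (.inr (.inl (hcI s).symm))
          · exact .inr (.inr (.inr (by rw [hacI, hcI, haI])))
        rcases ht with rfl | rfl | rfl | rfl <;> rcases hsq with rfl | rfl | rfl | rfl <;>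
          simp [haI, hcI, hacI]
      · intro r hr
        have hda : r ≠ a • r := fun he => hane (hstab a ha r hr he.symm)
        have hdc : r ≠ c • r := fun he => hcne (hstab c hc r hr he.symm)
        have hac : a • r ≠ c • r := by
          intro he
          refine hca ?_
          have h1 : (a * c) • r = r := by
            rw [mul_smul, ← he, ← mul_smul, haa, one_smul]
          have h2 := hstab _ (A.mul_mem ha hc) r hr h1
          rw [mul_smul] at h2
          rw [← h2, ← mul_smul a a, haa, one_smul, h2]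
        have hdac : r ≠ a • c • r := fun he => hac (by
          conv_lhs => rw [he, ← mul_smul, haa, one_smul])
        have hd4 : a • r ≠ a • c • r := fun he => hdc (smul_left_cancel a he)
        have hd5 : c • r ≠ a • c • r := fun he => by
          rw [← mul_smul a c, hcomm, mul_smul] at he
          exact hda (smul_left_cancel c he)
        rw [Finset.prod_insert (by simp [hda, hdc, hdac]), Finset.prod_insert (by simp [hac, hd4]),
          Finset.prod_insert (by simp [hd5]), Finset.prod_singleton, hf a r, hf c r, hf a (c • r),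
          hf c r]
        set y := f r with hy
        set da := y⁻¹ * θ a y with hda'
        set dc := y⁻¹ * θ c y with hdc'
        have e1 : θ a y = y * da := (mul_inv_cancel_left _ _).symm
        have e2 : θ c y = y * dc := (mul_inv_cancel_left _ _).symm
        have e3 : θ a dc = dc := hAQ.quad c hc a ha y
        rw [e2, map_mul, e3, e1, ← mul_pow, ← mul_pow, ← mul_pow,
          show y * (y * da * (y * dc * (y * da * dc))) = (y * y) * (y * y) * (da ^ 2) * (dc ^ 2) by
            simp only [pow_two]; ac_rfl,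
          hAQ.expp a ha, hAQ.expp c hc, mul_one, mul_one, mul_pow]
        rw [← pow_two y, ← pow_mul, hwk, one_mul]
  -- the fixed cosets
  have hPN : (P : Subgroup X) ≤ Subgroup.normalizer (J : Set X) := by
    intro g hg
    refine Subgroup.mem_normalizer_fintype fun y hy => ?_
    suffices h : MulAut.conj g • J ≤ J from h ⟨y, hy, rfl⟩
    show J.map (MulAut.conj g).toMonoidHom ≤ J
    rw [hJ, Subgroup.map_iSup]
    refine iSup_le fun A => ?_
    rw [Subgroup.map_iSup]
    refine iSup_le fun hA => le_iSup₂_of_le (MulAut.conj g • A) (hconj A hA g ?_) le_rfl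
    rintro _ ⟨b, hb, rfl⟩
    exact mul_mem (mul_mem hg (hD A hA hb)) (inv_mem hg)
  set N := Subgroup.normalizer (J : Set X) with hNdef
  set q₀ : X ⧸ M := QuotientGroup.mk 1 with hq₀
  set F := Finset.univ.filter (fun q : X ⧸ M => ∀ h ∈ J, h • q = q) with hF
  have hFmem : ∀ q, q ∈ F ↔ q ∈ MulAction.orbit N q₀ := by
    intro q
    rw [hF, Finset.mem_filter, and_iff_right (Finset.mem_univ _)]
    constructor
    · intro hq
      obtain ⟨g, rfl⟩ := QuotientGroup.mk_surjective q
      have hle : MulAut.conj g⁻¹ • J ≤ M := by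
        rintro _ ⟨h, hh, rfl⟩
        have h1 : (QuotientGroup.mk (h * g) : X ⧸ M) = QuotientGroup.mk g := hq h hh
        have h2 := QuotientGroup.eq.1 h1.symm
        show g⁻¹ * h * g⁻¹⁻¹ ∈ M
        rwa [inv_inv, mul_assoc]
      have hp' : IsPGroup p (MulAut.conj g⁻¹ • J : Subgroup X) :=
        (P.isPGroup'.to_le hJP).map _
      obtain ⟨T, hT⟩ := (hp'.of_equiv (Subgroup.subgroupOfEquivOfLe hle).symm :
        IsPGroup p ↥((MulAut.conj g⁻¹ • J).subgroupOf M)).exists_le_sylow
      obtain ⟨m, hm⟩ := MulAction.exists_smul_eq M T (P.subtype hPM)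
      have hle' : MulAut.conj ((m : X) * g⁻¹) • J ≤ P := by
        rw [map_mul, mul_smul]
        rintro _ ⟨b, hb, rfl⟩
        have hbT : (⟨b, hle hb⟩ : M) ∈ T := hT hb
        have h3 : m * ⟨b, hle hb⟩ * m⁻¹ ∈ (m • T : Sylow p M) := ⟨_, hbT, rfl⟩
        rw [hm] at h3
        exact h3
      have hJle : MulAut.conj ((m : X) * g⁻¹) • J ≤ J := by
        show J.map (MulAut.conj ((m : X) * g⁻¹)).toMonoidHom ≤ J
        rw [hJ, Subgroup.map_iSup]
        refine iSup_le fun A => ?_
        rw [Subgroup.map_iSup]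
        refine iSup_le fun hA => le_iSup₂_of_le (MulAut.conj ((m : X) * g⁻¹) • A) (hconj A hA _ ?_) le_rfl
        exact (Subgroup.map_mono (le_iSup₂_of_le A hA le_rfl)).trans hle'
      have hmN : (m : X) * g⁻¹ ∈ N := Subgroup.mem_normalizer_fintype fun y hy => hJle ⟨y, hy, rfl⟩
      refine ⟨⟨g * (m : X)⁻¹, ?_⟩, ?_⟩
      · have := N.inv_mem hmN
        rwa [mul_inv_rev, inv_inv] at this
      · show (QuotientGroup.mk (g * (m : X)⁻¹ * 1) : X ⧸ M) = QuotientGroup.mk g
        rw [mul_one]
        exact QuotientGroup.eq.2 (by simp)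
    · rintro ⟨⟨n, hn⟩, rfl⟩ h hh
      show (QuotientGroup.mk (h * (n * 1)) : X ⧸ M) = QuotientGroup.mk (n * 1)
      rw [mul_one]
      refine (QuotientGroup.eq.2 ?_).symm
      refine hPM (hJP ?_)
      have := (Subgroup.mem_normalizer_iff.1 (N.inv_mem hn) h).1 hh
      rwa [inv_inv, mul_assoc] at this
  have hdec : ∏ q, f q ^ k = ∏ q ∈ F, f q ^ k := by
    rw [← Finset.prod_sdiff (Finset.subset_univ F),
      prod_eq_one_of_generated (fun q => f q ^ k) (P : Subgroup X) P.isPGroup' D hconj horb _ J rfl hJP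
        (iSup₂_le fun A hA => le_iSup₂_of_le A ⟨hA, le_iSup₂_of_le A hA le_rfl⟩ le_rfl)
        (Finset.univ \ F) ?_ ?_, one_mul]
    · intro r hr h hh
      simp only [hF, Finset.mem_sdiff, Finset.mem_univ, true_and, Finset.mem_filter, not_forall] at hr ⊢
      obtain ⟨j, hj, hjr⟩ := hr
      refine ⟨h * j * h⁻¹, J.mul_mem (J.mul_mem hh hj) (J.inv_mem hh), fun he => hjr ?_⟩
      rw [mul_smul, inv_smul_smul, mul_smul] at he
      exact smul_left_cancel h he
    · intro r hr
      simpa [hF] using hr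
  have hfF : ∀ q ∈ F, f q ^ k = x := by
    intro q hq
    obtain ⟨⟨n, hn⟩, rfl⟩ := (hFmem q).1 hq
    show θ (n * 1) z ^ k = x
    rw [mul_one, ← map_pow, hx, hN n hn]
  rw [Finset.prod_congr rfl hfF, Finset.prod_const, Finset.prod_pow] at hdec
  -- the number of fixed cosets is prime to `p`
  have hm : ¬ p ∣ F.card := by
    intro hd
    have hc : F.card = (MulAction.stabilizer N q₀).index := by
      rw [MulAction.index_stabilizer, ← Set.ncard_coe_finset]
      exact congrArg Set.ncard (Set.ext hFmem)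
    have hle : (P : Subgroup X).subgroupOf N ≤ MulAction.stabilizer N q₀ := fun n hn => by
      show (QuotientGroup.mk ((n : X) * 1) : X ⧸ M) = QuotientGroup.mk 1
      rw [mul_one]
      exact QuotientGroup.eq.2 (by simpa using hPM hn)
    refine P.not_dvd_index ((hc ▸ hd).trans ((Subgroup.index_dvd_of_le hle).trans ?_))
    exact Subgroup.relIndex_dvd_index_of_le hPN
  intro g
  obtain ⟨j, hj⟩ := exists_pow_eq_self_of_coprime (x := x) (n := F.card)
    ((Nat.Coprime.symm (hp.out.coprime_iff_not_dvd.2 hm)).coprime_dvd_right (orderOf_dvd_of_pow_eq_one hxp))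
  rw [← hj, map_pow, ← hdec, map_pow, map_prod]
  congr 2
  exact Fintype.prod_equiv (MulAction.toPerm g) _ _ fun q => (hf g q).symm

end CfsgLib.Inv.WC
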