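import Cfsg.Agent.Lie.GL2
import Cfsg.Prelude.Def_LocalEven

/-!
Coordinates for a natural SL₂-module adapted to a Sylow p-subgroup.
-/

set_option autoImplicit false
set_option linter.style.haveILetI false

namespace CfsgLib.Inv.NaturalSL2

open Matrix

variable {G : Type*} [Group G] {F : Type*} [Field F]

/-- Conjugation of SL₂ by an element of GL₂. -/
def conjSL (g : GL (Fin 2) F) : SpecialLinearGroup (Fin 2) F →* SpecialLinearGroup (Fin 2) F where
  toFun M := ⟨((g⁻¹ : GL (Fin 2) F) : Matrix (Fin 2) (Fin 2) F) * (M : Matrix (Fin 2) (Fin 2) F) *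
    (g : Matrix (Fin 2) (Fin 2) F), by
    rw [det_mul, det_mul, M.2, mul_one, ← det_mul, Units.inv_mul, det_one]⟩
  map_one' := Subtype.ext (by simp)
  map_mul' A B := Subtype.ext (by
    show ((g⁻¹ : GL (Fin 2) F) : Matrix (Fin 2) (Fin 2) F) *
        ((A : Matrix (Fin 2) (Fin 2) F) * (B : Matrix (Fin 2) (Fin 2) F)) *
        (g : Matrix (Fin 2) (Fin 2) F) = _ * _
    simp only [mul_assoc, Units.mul_inv_cancel_left])

theorem coe_conjSL (g : GL (Fin 2) F) (M : SpecialLinearGroup (Fin 2) F) :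
    ((conjSL g M : SpecialLinearGroup (Fin 2) F) : Matrix (Fin 2) (Fin 2) F) =
      ((g⁻¹ : GL (Fin 2) F) : Matrix (Fin 2) (Fin 2) F) * (M : Matrix (Fin 2) (Fin 2) F) *
        (g : Matrix (Fin 2) (Fin 2) F) := rfl

theorem conjSL_conjSL (g : GL (Fin 2) F) (M : SpecialLinearGroup (Fin 2) F) :
    conjSL g (conjSL g⁻¹ M) = M := Subtype.ext (by
  rw [coe_conjSL, coe_conjSL, inv_inv]
  simp [mul_assoc])

/-- Adapted coordinates. -/
structure Coord (V L T : Subgroup G) (F : Type*) [Field F] where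
  /-- The representation. -/
  ρ : L →* SpecialLinearGroup (Fin 2) F
  /-- The coordinates. -/
  ψ : Additive V ≃+ (Fin 2 → F)
  norm : L ≤ Subgroup.normalizer (V : Set G)
  surj : Function.Surjective ρ
  inj : Function.Injective ρ
  act : ∀ (l : L) (v : V), ∃ w : V, (w : G) = (l : G) * (v : G) * (l : G)⁻¹ ∧
    ψ (Additive.ofMul w) = (ρ l : Matrix (Fin 2) (Fin 2) F).mulVec (ψ (Additive.ofMul v))
  mem_iff : ∀ l : L, (l : G) ∈ T ↔ (ρ l : Matrix (Fin 2) (Fin 2) F) 1 0 = 0 ∧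
    (ρ l : Matrix (Fin 2) (Fin 2) F) 0 0 = 1 ∧ (ρ l : Matrix (Fin 2) (Fin 2) F) 1 1 = 1
  le : T ≤ L

theorem exists_coord [Finite G] [Fintype F] {p : ℕ} [hp : Fact p.Prime] [CharP F p] {V L : Subgroup G}
    (hnat : Cfsg.IsNaturalSL2Module F V L) (hf : L ⊓ Subgroup.centralizer (V : Set G) = ⊥)
    (S : Sylow p ↥L) : Nonempty (Coord V L ((S : Subgroup ↥L).map L.subtype) F) := by
  obtain ⟨hLV, ρ, ψ, hsurj, hker, hact⟩ := hnat
  have hinj : Function.Injective ρ := by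
    rw [← MonoidHom.ker_eq_bot_iff, hker, Subgroup.subgroupOf_eq_bot, disjoint_comm, disjoint_iff, hf]
  obtain ⟨P, hP⟩ := CfsgLib.Lie.GL2.map_sylow_SL p (S.mapSurjective hsurj)
  obtain ⟨g, hg⟩ := CfsgLib.Lie.GL2.exists_conj_eq rfl p P
  let e : (Fin 2 → F) ≃+ (Fin 2 → F) :=
    { toFun := fun x => ((g⁻¹ : GL (Fin 2) F) : Matrix (Fin 2) (Fin 2) F).mulVec x
      invFun := fun x => (g : Matrix (Fin 2) (Fin 2) F).mulVec x
      left_inv := fun x => by
        show Matrix.mulVec _ (Matrix.mulVec _ x) = x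
        rw [mulVec_mulVec, Units.mul_inv, one_mulVec]
      right_inv := fun x => by
        show Matrix.mulVec _ (Matrix.mulVec _ x) = x
        rw [mulVec_mulVec, Units.inv_mul, one_mulVec]
      map_add' := fun x y => mulVec_add _ x y }
  refine ⟨⟨(conjSL g).comp ρ, ψ.trans e, hLV, fun M => ?_, fun a b h => hinj ?_, fun l v => ?_,
    fun l => ?_, Subgroup.map_subtype_le _⟩⟩
  · obtain ⟨l, hl⟩ := hsurj (conjSL g⁻¹ M)
    exact ⟨l, by rw [MonoidHom.comp_apply, hl, conjSL_conjSL]⟩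
  · have h' := congrArg (conjSL g⁻¹) h
    simp only [MonoidHom.comp_apply] at h'
    have hc : ∀ N, conjSL g⁻¹ (conjSL g N) = N := fun N => by
      have := conjSL_conjSL g⁻¹ N
      rwa [inv_inv] at this
    rwa [hc, hc] at h'
  · obtain ⟨w, hw, hψ⟩ := hact l v
    refine ⟨w, hw, ?_⟩
    show e (ψ _) = (conjSL g (ρ l) : Matrix (Fin 2) (Fin 2) F).mulVec (e (ψ _))
    rw [hψ, coe_conjSL]
    simp only [e, AddEquiv.coe_mk, Equiv.coe_fn_mk, mulVec_mulVec, mul_assoc, Units.mul_inv, mul_one]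
  · have hmem : (l : G) ∈ (S : Subgroup ↥L).map L.subtype ↔ SpecialLinearGroup.toGL (ρ l) ∈ (P : Subgroup _) := by
      rw [← hP, Sylow.coe_mapSurjective, show (l : G) = L.subtype l from rfl, Subgroup.mem_map_iff_mem L.subtype_injective,
        Subgroup.mem_map_iff_mem SpecialLinearGroup.toGL_injective, Subgroup.mem_map_iff_mem hinj]
    rw [hmem, hg, Subgroup.mem_map_equiv, CfsgLib.Lie.GL2.mem_unip]
    simp [coe_conjSL, MonoidHom.comp_apply, MulAut.conj_symm_apply]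

variable {V L T : Subgroup G} (c : Coord V L T F)

/-- Coordinates of an element of `V`. -/
def Coord.co (v : V) : Fin 2 → F := c.ψ (Additive.ofMul v)

theorem Coord.co_one : c.co 1 = 0 := map_zero c.ψ

theorem Coord.co_mul (a b : V) : c.co (a * b) = c.co a + c.co b := map_add c.ψ _ _

theorem Coord.co_inv (a : V) : c.co a⁻¹ = -c.co a := map_neg c.ψ _

theorem Coord.co_injective : Function.Injective c.co := fun _ _ h => c.ψ.injective h

theorem Coord.co_surjective (x : Fin 2 → F) : ∃ v : V, c.co v = x :=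
  ⟨(c.ψ.symm x).toMul, c.ψ.apply_symm_apply x⟩

theorem Coord.co_conj (l : L) (v : V) (w : V) (h : (w : G) = (l : G) * v * (l : G)⁻¹) :
    c.co w = (c.ρ l : Matrix (Fin 2) (Fin 2) F).mulVec (c.co v) := by
  obtain ⟨w', hw', hψ⟩ := c.act l v
  rw [show w = w' from Subtype.ext (h.trans hw'.symm)]
  exact hψ

theorem Coord.comm_iff (l : L) (v : V) :
    (l : G) * v = v * l ↔ (c.ρ l : Matrix (Fin 2) (Fin 2) F).mulVec (c.co v) = c.co v := by
  obtain ⟨w, hw, -⟩ := c.act l v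
  rw [← c.co_conj l v w hw]
  constructor
  · intro h
    rw [show w = v from Subtype.ext (by rw [hw, h, mul_inv_cancel_right])]
  · intro h
    have h' := congrArg Subtype.val (c.co_injective h)
    rw [hw, mul_inv_eq_iff_eq_mul] at h'
    exact h'

theorem Coord.mulVec_unip {M : Matrix (Fin 2) (Fin 2) F} (h : M 1 0 = 0 ∧ M 0 0 = 1 ∧ M 1 1 = 1)
    (x : Fin 2 → F) : M.mulVec x = ![x 0 + M 0 1 * x 1, x 1] := by
  ext i; fin_cases i <;> simp [Matrix.mulVec, dotProduct, Fin.sum_univ_two, h.1, h.2.1, h.2.2]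

theorem Coord.exists_unip (b : F) : ∃ l : L, (l : G) ∈ T ∧
    (c.ρ l : Matrix (Fin 2) (Fin 2) F) = !![1, b; 0, 1] := by
  obtain ⟨l, hl⟩ := c.surj ⟨!![1, b; 0, 1], by simp [det_fin_two]⟩
  exact ⟨l, (c.mem_iff l).2 (by rw [hl]; simp), by rw [hl]⟩

theorem Coord.mat_of_mem {l : L} (h : (l : G) ∈ T) :
    (c.ρ l : Matrix (Fin 2) (Fin 2) F) = !![1, (c.ρ l : Matrix (Fin 2) (Fin 2) F) 0 1; 0, 1] := by
  have hm := (c.mem_iff l).1 h
  ext i j; fin_cases i <;> fin_cases j <;> simp [hm.1, hm.2.1, hm.2.2]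

/-- The fixed points of `T`. -/
theorem Coord.mem_cent_iff (v : V) : (v : G) ∈ Subgroup.centralizer (T : Set G) ↔ c.co v 1 = 0 := by
  rw [Subgroup.mem_centralizer_iff]
  constructor
  · intro h
    obtain ⟨l, hlT, hl⟩ := c.exists_unip 1
    have h1 := congrFun ((c.comm_iff l v).1 (h _ hlT)) 0
    rw [hl, Coord.mulVec_unip (by simp)] at h1
    simpa using h1
  · intro h t ht
    refine (c.comm_iff ⟨t, c.le ht⟩ v).2 ?_
    rw [Coord.mulVec_unip ((c.mem_iff ⟨t, c.le ht⟩).1 ht)]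
    ext i; fin_cases i <;> simp [h]

theorem Coord.co_eq_of (v : V) (h : c.co v 1 = 0) : c.co v = ![c.co v 0, 0] := by
  ext i; fin_cases i <;> simp [h]

end CfsgLib.Inv.NaturalSL2
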