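import Cfsg.Agent.Solv.SSGHuppert
import Cfsg.Agent.Inv.AutPrime
import Mathlib.GroupTheory.Subgroup.Centralizer

/-!
A normal `q`-subgroup all of whose subgroups of one fixed order are normal, with supersolvable quotient,
gives a supersolvable group.
-/

set_option autoImplicit false
set_option linter.style.haveILetI false
set_option linter.unusedSectionVars false

namespace CfsgLib.Inv.NormalFixedOrder

open CfsgLib.Solv
open scoped commutatorElement

universe u

/-- All subgroups of `Q` of order `d` (and of order `4` if `d = 2`) are normal in the whole group. -/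
def FixedNormal {G : Type u} [Group G] (Q : Subgroup G) (d : ℕ) : Prop :=
  ∀ F : Subgroup G, F ≤ Q → (Nat.card F = d ∨ (d = 2 ∧ Nat.card F = 4)) → F.Normal

variable {G : Type u} [Group G] [Finite G] {q : ℕ} [hq : Fact q.Prime]

/-- Coprime elements fixing all small elements of a normal `q`-subgroup centralize it. -/
theorem centralizes_of_small {Q : Subgroup G} (hQn : Q.Normal) (hQ : IsPGroup q Q) {g : G}
    (hg : (orderOf g).Coprime q)
    (h : ∀ b ∈ Q, (b ^ q = 1 ∨ (q = 2 ∧ b ^ 4 = 1)) → g * b * g⁻¹ = b) :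
    ∀ x ∈ Q, g * x * g⁻¹ = x := by
  suffices key : ∀ (n : ℕ) (U : Subgroup G), Nat.card U = n → U ≤ Q → (∀ x ∈ U, g * x * g⁻¹ ∈ U) →
      ∀ x ∈ U, g * x * g⁻¹ = x from key _ Q rfl le_rfl fun x hx => hQn.conj_mem x hx g
  intro n
  induction n using Nat.strong_induction_on with
  | _ n IH =>
    intro U hn hUQ hU x hx
    have hN : g ∈ Subgroup.normalizer (U : Set G) := Subgroup.mem_normalizer_fintype hU
    set α := U.normalizerMonoidHom ⟨g, hN⟩ with hα
    have hcoe : ∀ u : U, ((α u : U) : G) = g * u * g⁻¹ := fun u => rfl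
    by_cases hα1 : α = 1
    · have := congrArg (Subtype.val : U → G) (congrArg (fun β : MulAut U => β ⟨x, hx⟩) hα1)
      rwa [hcoe] at this
    · exfalso
      have hcop : (orderOf α).Coprime q := by
        refine hg.coprime_dvd_left ((orderOf_map_dvd _ _).trans ?_)
        rw [Subgroup.orderOf_mk]
      have hmin : ∀ W : Subgroup U, (∀ x ∈ W, α x ∈ W) → W ≠ ⊤ → ∀ x ∈ W, α x = x := by
        intro W hW hWt w hw
        refine Subtype.ext ?_
        rw [hcoe]
        refine IH _ ?_ (W.map U.subtype) rfl ((Subgroup.map_subtype_le W).trans hUQ) ?_ _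
          (Subgroup.mem_map_of_mem U.subtype hw)
        · rw [← hn, Subgroup.card_map_of_injective U.subtype_injective]
          exact lt_of_le_of_ne (Subgroup.card_le_card_group W)
            fun e => hWt (Subgroup.eq_top_of_card_eq W e)
        · rintro _ ⟨y, hy, rfl⟩
          exact ⟨α y, hW y hy, hcoe y⟩
      obtain ⟨b, hb, hbs⟩ := CfsgLib.Inv.AutPrime.exists_small_moved (hQ.to_le hUQ) α hcop hmin hα1
      refine hb (Subtype.ext ?_)
      rw [hcoe]
      refine h b (hUQ b.2) (hbs.imp (fun e => ?_) fun e => ⟨e.1, ?_⟩)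
      · simpa using congrArg (Subtype.val : U → G) e
      · simpa using congrArg (Subtype.val : U → G) e.2

theorem commute_of_sq {g a : G} (hodd : Odd (orderOf g)) (h : g * (g * a * g⁻¹) * g⁻¹ = a) :
    g * a * g⁻¹ = a := by
  have h2 : Commute (g ^ 2) a := by
    show g ^ 2 * a = a * g ^ 2
    calc g ^ 2 * a = g * (g * a * g⁻¹) * g⁻¹ * g ^ 2 := by rw [sq]; group
      _ = a * g ^ 2 := by rw [h]
  obtain ⟨k, hk⟩ := hodd
  have e : g = (g ^ 2) ^ (k + 1) := by
    rw [← pow_mul, show 2 * (k + 1) = orderOf g + 1 by omega, pow_succ, pow_orderOf_eq_one, one_mul]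
  have h3 : Commute g a := e.symm ▸ h2.pow_left (k + 1)
  exact mul_inv_eq_iff_eq_mul.2 h3

/-- Odd elements normalizing a cyclic group of order `4` centralize it. -/
theorem fix_of_pow_four {g a : G} (hodd : Odd (orderOf g)) (ha : a ^ 4 = 1)
    (hn : g * a * g⁻¹ ∈ Subgroup.zpowers a) : g * a * g⁻¹ = a := by
  rw [← mem_powers_iff_mem_zpowers] at hn
  obtain ⟨k, hk⟩ := hn
  have hk' : g * a * g⁻¹ = a ^ (k % 4) := by
    show g * a * g⁻¹ = a ^ (k % 4)
    rw [← hk]
    show a ^ k = a ^ (k % 4)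
    rw [← Nat.mod_add_div k 4, pow_add, pow_mul, ha, one_pow, mul_one, Nat.mod_add_div]
  have hcases : k % 4 = 0 ∨ k % 4 = 1 ∨ k % 4 = 2 ∨ k % 4 = 3 := by omega
  rcases hcases with e | e | e | e <;> rw [e] at hk'
  · rw [pow_zero] at hk'
    have : a = 1 := by
      have h1 := congrArg (fun y => g⁻¹ * y * g) hk'
      simpa [mul_assoc] using h1
    simp [this]
  · simpa using hk'
  · have h2 : g * a ^ 2 * g⁻¹ = 1 := by rw [← conj_pow, hk', ← pow_mul, show 2 * 2 = 4 from rfl, ha]
    have h3 : a ^ 2 = 1 := by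
      have h1 := congrArg (fun y => g⁻¹ * y * g) h2
      simpa [mul_assoc] using h1
    rw [h3] at hk'
    have h4 : a = 1 := by
      have h1 := congrArg (fun y => g⁻¹ * y * g) hk'
      simpa [mul_assoc] using h1
    simp [h4]
  · refine commute_of_sq hodd ?_
    rw [hk', ← conj_pow, hk', ← pow_mul, show 3 * 3 = 4 * 2 + 1 from rfl, pow_succ, pow_mul, ha, one_pow,
      one_mul]

theorem powCommSub_normal : (powCommSub q G).Normal := by
  refine ⟨fun k hk g => ?_⟩
  have h1 : ⁅g, k⁆ ∈ powCommSub q G := Subgroup.mem_sup_left (by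
    rw [commutator_def]
    exact Subgroup.commutator_mem_commutator (Subgroup.mem_top g) (Subgroup.mem_top k))
  have h2 := mul_mem h1 hk
  rwa [commutatorElement_def, inv_mul_cancel_right] at h2

theorem exists_over {Q A : Subgroup G} (hAQ : A ≤ Q) {i : ℕ} (hA : Nat.card A = q ^ i)
    (hd : q ^ (i + 1) ∣ Nat.card Q) : ∃ B : Subgroup G, A ≤ B ∧ B ≤ Q ∧ Nat.card B = q ^ (i + 1) := by
  obtain ⟨K, hK, hle⟩ := Sylow.exists_subgroup_card_pow_succ (p := q) hd (H := A.subgroupOf Q)
    (by rw [card_subgroupOf hAQ, hA])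
  refine ⟨K.map Q.subtype, ?_, Subgroup.map_subtype_le K, ?_⟩
  · rw [← Subgroup.map_subgroupOf_eq_of_le hAQ]
    exact Subgroup.map_mono hle
  · rw [Subgroup.card_map_of_injective Q.subtype_injective, hK]

/-- A noncyclic `q`-group is the join of two distinct subgroups of index `q`. -/
theorem exists_two_maximal {B : Subgroup G} (hB : IsPGroup q B) (hnc : ¬ IsCyclic B) :
    ∃ A₁ A₂ : Subgroup G, A₁ ≤ B ∧ A₂ ≤ B ∧ A₁ ≠ A₂ ∧ A₁ ⊔ A₂ = B ∧
      Nat.card A₁ * q = Nat.card B ∧ Nat.card A₂ * q = Nat.card B := by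
  have hz : ∀ x : B, Subgroup.zpowers x ≠ ⊤ := fun x e =>
    hnc ⟨⟨x, fun y => show y ∈ Subgroup.zpowers x from e ▸ Subgroup.mem_top y⟩⟩
  obtain ⟨M₁, hM₁, -⟩ := (eq_top_or_exists_le_coatom (Subgroup.zpowers (1 : B))).resolve_left (hz 1)
  obtain ⟨x, hx⟩ : ∃ x : B, x ∉ M₁ := by
    by_contra hc
    push Not at hc
    exact hM₁.1 (top_unique fun y _ => hc y)
  obtain ⟨M₂, hM₂, hxM⟩ := (eq_top_or_exists_le_coatom (Subgroup.zpowers x)).resolve_left (hz x)
  have hne : M₁ ≠ M₂ := fun e => hx (e ▸ hxM (Subgroup.mem_zpowers x))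
  have hcard : ∀ M : Subgroup B, IsCoatom M → Nat.card (M.map B.subtype) * q = Nat.card B := by
    intro M hM
    obtain ⟨k, hk⟩ := hB.index M
    obtain ⟨l, hl⟩ := IsPGroup.iff_card.1 (hB.to_subgroup M)
    have hk0 : k ≠ 0 := fun h0 => hM.1 (Subgroup.index_eq_one.1 (by rw [hk, h0, pow_zero]))
    have hd : q ^ (l + 1) ∣ Nat.card B := by
      rw [← M.card_mul_index, hl, hk, ← pow_add]
      exact pow_dvd_pow q (by omega)
    obtain ⟨H, hH, hMH⟩ := Sylow.exists_subgroup_card_pow_succ hd hl
    have hlt : M < H := lt_of_le_of_ne hMH fun h => by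
      rw [← h, hl] at hH
      exact absurd (Nat.pow_right_injective hq.out.two_le hH) (by omega)
    rw [hM.2 H hlt, Subgroup.card_top] at hH
    rw [Subgroup.card_map_of_injective B.subtype_injective, hl, hH, pow_succ]
  refine ⟨M₁.map B.subtype, M₂.map B.subtype, Subgroup.map_subtype_le _, Subgroup.map_subtype_le _,
    fun e => hne (Subgroup.map_injective B.subtype_injective e), ?_, hcard _ hM₁, hcard _ hM₂⟩
  rw [← Subgroup.map_sup, hM₁.2 (M₁ ⊔ M₂) (lt_of_le_of_ne le_sup_left fun e => hne ?_),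
    ← MonoidHom.range_eq_map, Subgroup.range_subtype]
  have hle : M₂ ≤ M₁ := e ▸ le_sup_right
  rcases eq_or_lt_of_le hle with h | h
  · exact h.symm
  · exact absurd (hM₂.2 M₁ h) hM₁.1

theorem card_mul_le_of_disjoint {A B C : Subgroup G} (hA : A ≤ C) (hB : B ≤ C) (h : A ⊓ B = ⊥) :
    Nat.card A * Nat.card B ≤ Nat.card C := by
  rw [← Nat.card_prod]
  refine Nat.card_le_card_of_injective (fun x => (⟨x.1 * x.2, mul_mem (hA x.1.2) (hB x.2.2)⟩ : C))
    fun x y e => ?_
  exact Subgroup.mul_injective_of_disjoint (disjoint_iff.2 h) (congrArg Subtype.val e)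

theorem not_cyclic_of_exponent {N : Subgroup G} (he : ∀ x ∈ N, x ^ q = 1) (hlt : q < Nat.card N) :
    ¬ IsCyclic N := by
  intro hc
  obtain ⟨x, hx⟩ := IsCyclic.exists_generator (α := N)
  have h1 : orderOf x = Nat.card N := orderOf_eq_card_of_forall_mem_zpowers hx
  have h2 : x ^ q = 1 := Subtype.ext (by simpa using he x x.2)
  have h3 := Nat.le_of_dvd hq.out.pos (h1 ▸ orderOf_dvd_of_pow_eq_one h2)
  omega

/-- A coprime preimage in `powCommSub`. -/
theorem exists_powCommSub_lift {G' : Type u} [Group G'] [Finite G'] {f : G →* G'}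
    (hf : Function.Surjective f) {v : G'} (hv : v ∈ powCommSub q G') (hvc : (orderOf v).Coprime q) :
    ∃ w ∈ powCommSub q G, (orderOf w).Coprime q ∧ f w = v := by
  have hle : powCommSub q G' ≤ (powCommSub q G).map f := by
    rw [powCommSub, powCommSub, Subgroup.map_sup, MonoidHom.map_closure]
    refine sup_le_sup ?_ (Subgroup.closure_mono ?_)
    · rw [commutator_def, commutator_def, Subgroup.map_commutator, Subgroup.map_top_of_surjective f hf]
    · rintro _ ⟨y, rfl⟩
      obtain ⟨x, rfl⟩ := hf y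
      exact ⟨_, ⟨x, rfl⟩, map_pow f x _⟩
  obtain ⟨w₀, hw₀, rfl⟩ := hle hv
  obtain ⟨a, m, hm, ho⟩ := Nat.exists_eq_pow_mul_and_not_dvd (orderOf_pos w₀).ne' q hq.out.ne_one
  obtain ⟨k, hk⟩ := exists_pow_eq_self_of_coprime (x := f w₀) (n := q ^ a) (hvc.pow_right a).symm
  refine ⟨(w₀ ^ q ^ a) ^ k, pow_mem (pow_mem hw₀ _) _, ?_, by rw [map_pow, map_pow, hk]⟩
  refine ((hq.out.coprime_iff_not_dvd.2 hm).symm).coprime_dvd_left (orderOf_dvd_of_pow_eq_one ?_)
  rw [← pow_mul, mul_comm k m, pow_mul, ← pow_mul w₀, ← ho, pow_orderOf_eq_one, one_pow]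

/-- If the coprime elements of `powCommSub` centralize a normal `q`-subgroup with supersolvable quotient,
the group is supersolvable. -/
theorem ssg_of_action_aux : ∀ (n : ℕ) (G : Type u) [Group G] [Finite G], Nat.card G = n →
    ∀ Q : Subgroup G, ∀ [Q.Normal], IsPGroup q Q → SSG (G ⧸ Q) →
      (∀ g ∈ powCommSub q G, (orderOf g).Coprime q → ∀ x ∈ Q, g * x * g⁻¹ = x) → SSG G := by
  intro n
  induction n using Nat.strong_induction_on with
  | _ n IH =>
    intro G _ _ hn Q _ hQ hGQ hact
    by_cases hQb : Q = ⊥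
    · subst hQb
      exact ssg_mulEquiv QuotientGroup.quotientBot hGQ
    obtain ⟨N, hN, hNQ⟩ := exists_isMinimalNormal_le Q hQb
    haveI := hN.1
    set f := QuotientGroup.mk' N with hf
    haveI hQ'n : (Q.map f).Normal := (‹Q.Normal›).map f (QuotientGroup.mk'_surjective N)
    have hGN : SSG (G ⧸ N) := by
      refine IH _ (hn ▸ card_quotient_lt hN.2.1) (G ⧸ N) rfl (Q.map f) (hQ.map f) ?_ ?_
      · refine ssg_of_surjective (f := QuotientGroup.map Q (Q.map f) f (Subgroup.le_comap_map f Q)) ?_ hGQ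
        intro y
        obtain ⟨y, rfl⟩ := QuotientGroup.mk_surjective y
        obtain ⟨y, rfl⟩ := QuotientGroup.mk'_surjective N y
        exact ⟨y, rfl⟩
      · intro v hv hvc
        obtain ⟨w, hw, hwc, rfl⟩ := exists_powCommSub_lift (QuotientGroup.mk'_surjective N) hv hvc
        rintro _ ⟨x, hx, rfl⟩
        rw [← map_inv, ← map_mul, ← map_mul, hact w hw hwc x hx]
    haveI hNnil : Group.IsNilpotent N := (hQ.to_le hNQ).isNilpotent
    haveI hNab : IsMulCommutative N := isMulCommutative_of_minimal_solvable hN inferInstance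
    obtain ⟨r, hr, hexp', hrg⟩ := exists_prime_exponent_of_minimal_solvable hN inferInstance
    have hrq : r = q := by
      by_contra hne
      haveI : Fact r.Prime := ⟨hr⟩
      have := IsPGroup.disjoint_of_ne r q hne _ _ hrg hQ
      exact hN.2.1 (le_bot_iff.1 fun x hx => this.le_bot (Subgroup.mem_inf.2 ⟨hx, hNQ hx⟩))
    subst hrq
    have hexp : ∀ x : N, x ^ r = 1 := fun x => Subtype.ext (by simpa using hexp' x x.2)
    haveI hKn := powCommSub_normal (q := r) (G := G)
    -- `powCommSub` centralizes `N`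
    have hKN : powCommSub r G ≤ Subgroup.centralizer (N : Set G) := by
      let c : G →* MulAut N := MulAut.conjNormal
      let I : Subgroup (MulAut N) := (powCommSub r G).map c
      have hI : IsPGroup r I := by
        rintro ⟨_, w, hw, rfl⟩
        obtain ⟨a, m, hm, ho⟩ := Nat.exists_eq_pow_mul_and_not_dvd (orderOf_pos w).ne' r hr.ne_one
        refine ⟨a, Subtype.ext (MulEquiv.ext fun x => Subtype.ext ?_)⟩
        rw [SubmonoidClass.coe_pow, OneMemClass.coe_one, MulAut.one_apply, ← map_pow, MulAut.conjNormal_apply]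
        refine hact _ (pow_mem hw _) ?_ _ (hNQ x.2)
        refine ((hr.coprime_iff_not_dvd.2 hm).symm).coprime_dvd_left (orderOf_dvd_of_pow_eq_one ?_)
        rw [← pow_mul, ← ho, pow_orderOf_eq_one]
      obtain ⟨l, hl⟩ := IsPGroup.iff_card.1 hrg
      have hl0 : l ≠ 0 := fun e => hN.2.1 (Subgroup.eq_bot_of_card_eq _ (by rw [hl, e, pow_zero]))
      obtain ⟨b, hb, hb1⟩ := hI.exists_fixed_point_of_prime_dvd_card_of_fixed_point N
        (hl ▸ dvd_pow_self r hl0) (a := (1 : N)) (fun σ => smul_one σ)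
      have hbC : (b : G) ∈ Subgroup.centralizer (powCommSub r G : Set G) := by
        refine Subgroup.mem_centralizer_iff.2 fun w hw => ?_
        have h1 := congrArg (Subtype.val : N → G) (hb ⟨c w, Subgroup.mem_map_of_mem c hw⟩)
        exact mul_inv_eq_iff_eq_mul.1 ((MulAut.conjNormal_apply w b).symm.trans h1)
      rcases hN.2.2 (N ⊓ Subgroup.centralizer (powCommSub r G : Set G)) inferInstance inf_le_left with h | h
      · exact absurd (Subtype.ext (Subgroup.mem_bot.1 (h ▸ Subgroup.mem_inf.2 ⟨b.2, hbC⟩)).symm) hb1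
      · exact Subgroup.le_centralizer_iff.1 (inf_eq_left.1 h)
    letI : CommGroup N := { (inferInstance : Group N) with mul_comm := hNab.is_comm.comm }
    haveI : Nontrivial N := (Subgroup.nontrivial_iff_ne_bot N).2 hN.2.1
    have hscalar : ∀ g : G, ∃ c : ℕ, ∀ x ∈ N, g * x * g⁻¹ = x ^ c := by
      intro g
      let φ : N →* N := (MulAut.conjNormal g).toMonoidHom
      have hφ : ∀ x : N, ((φ x : N) : G) = g * x * g⁻¹ := fun x => MulAut.conjNormal_apply g x
      have hiter : ∀ (k : ℕ) (x : N), ((φ^[k] x : N) : G) = g ^ k * x * (g ^ k)⁻¹ := by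
        intro k x
        induction k with
        | zero => simp
        | succ k ih => rw [Function.iterate_succ_apply', hφ, ih, pow_succ']; group
      have hgp : g ^ (r - 1) ∈ Subgroup.centralizer (N : Set G) :=
        hKN (Subgroup.mem_sup_right (Subgroup.subset_closure ⟨g, rfl⟩))
      obtain ⟨x0, hx0, c, hc⟩ := exists_eigen hexp φ fun x => Subtype.ext (by
        rw [hiter, ← Subgroup.mem_centralizer_iff.1 hgp x x.2, mul_inv_cancel_right])
      refine ⟨c, ?_⟩
      let E : Subgroup G :=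
        { carrier := {x | x ∈ N ∧ g * x * g⁻¹ = x ^ c}
          one_mem' := ⟨one_mem N, by simp⟩
          mul_mem' := fun {a b} ha hb => ⟨mul_mem ha.1 hb.1, by
            have hc' : Commute a b := Subtype.ext_iff.1 (hNab.is_comm.comm ⟨a, ha.1⟩ ⟨b, hb.1⟩)
            rw [hc'.mul_pow, ← ha.2, ← hb.2]; group⟩
          inv_mem' := fun {a} ha => ⟨inv_mem ha.1, by rw [inv_pow, ← ha.2]; group⟩ }
      have hEn : E.Normal := by
        refine ⟨fun x hx k => ⟨hN.1.conj_mem x hx.1 k, ?_⟩⟩
        have hcomm : ⁅g, k⁆ ∈ Subgroup.centralizer (N : Set G) := hKN (Subgroup.mem_sup_left (by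
          rw [commutator_def]; exact Subgroup.commutator_mem_commutator (Subgroup.mem_top g) (Subgroup.mem_top k)))
        have h2 := Subgroup.mem_centralizer_iff.1 hcomm (k * (g * x * g⁻¹) * k⁻¹)
          (hN.1.conj_mem _ (hN.1.conj_mem x hx.1 g) k)
        calc g * (k * x * k⁻¹) * g⁻¹ = ⁅g, k⁆ * (k * (g * x * g⁻¹) * k⁻¹) * ⁅g, k⁆⁻¹ := by
              rw [commutatorElement_def]; group
          _ = k * (g * x * g⁻¹) * k⁻¹ := by rw [← h2, mul_inv_cancel_right]
          _ = (k * x * k⁻¹) ^ c := by rw [hx.2, conj_pow]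
      have hE : E = N := (hN.2.2 E hEn fun x hx => hx.1).resolve_left fun e => hx0 (by
        have : (x0 : G) ∈ E := ⟨x0.2, by rw [← hφ, hc, SubmonoidClass.coe_pow]⟩
        rw [e, Subgroup.mem_bot] at this
        exact Subtype.ext this)
      exact fun x hx => (hE.ge hx : x ∈ E).2
    obtain ⟨x1, hx1⟩ := exists_ne (1 : N)
    haveI hz : (Subgroup.zpowers (x1 : G)).Normal := by
      refine ⟨fun w hw g => ?_⟩
      obtain ⟨i, rfl⟩ := Subgroup.mem_zpowers_iff.1 hw
      obtain ⟨c, hc⟩ := hscalar g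
      refine ⟨(c : ℤ) * i, ?_⟩
      show (x1 : G) ^ ((c : ℤ) * i) = g * (x1 : G) ^ i * g⁻¹
      rw [← conj_zpow, hc _ x1.2, zpow_mul, zpow_natCast]
    have hzN : Subgroup.zpowers (x1 : G) = N :=
      (hN.2.2 _ hz (Subgroup.zpowers_le.2 x1.2)).resolve_left fun e => hx1 (Subtype.ext
        (Subgroup.mem_bot.1 (e ▸ Subgroup.mem_zpowers (x1 : G))))
    haveI : IsCyclic N := by
      rw [← hzN]
      exact Subgroup.isCyclic_zpowers _
    exact ssg_of_cyclic_normal N hGN

/-- The case `d = q`. -/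
theorem centralizes_of_minimal {Q : Subgroup G} (hQn : Q.Normal) (hQ : IsPGroup q Q) (h : FixedNormal Q q)
    {g : G} (hg : g ∈ powCommSub q G) (hgc : (orderOf g).Coprime q) : ∀ x ∈ Q, g * x * g⁻¹ = x := by
  refine centralizes_of_small hQn hQ hgc fun b hb hbs => ?_
  have hsmall : ∀ b ∈ Q, b ^ q = 1 → g * b * g⁻¹ = b := by
    intro b hb hbq
    by_cases hb1 : b = 1
    · simp [hb1]
    have ho : orderOf b = q := orderOf_eq_prime hbq hb1
    haveI := h _ (Subgroup.zpowers_le.2 hb) (Or.inl (by rw [Nat.card_zpowers, ho]))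
    have hc := powCommSub_le_centralizer (p := q) (Subgroup.zpowers b) (by rw [Nat.card_zpowers, ho]) hg
    rw [← Subgroup.mem_centralizer_iff.1 hc b (Subgroup.mem_zpowers b), mul_inv_cancel_right]
  rcases hbs with hbq | ⟨rfl, hb4⟩
  · exact hsmall b hb hbq
  by_cases hb2 : b ^ 2 = 1
  · exact hsmall b hb hb2
  have ho : orderOf b = 4 := by
    simpa using orderOf_eq_prime_pow (p := 2) (n := 1) (by simpa using hb2) (by simpa using hb4)
  have hn := h _ (Subgroup.zpowers_le.2 hb) (Or.inr ⟨rfl, by rw [Nat.card_zpowers, ho]⟩)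
  exact fix_of_pow_four (Nat.coprime_two_right.1 hgc) hb4 (hn.conj_mem b (Subgroup.mem_zpowers b) g)

/-- The case `q = 2`, `d = 4`. -/
theorem centralizes_of_four {Q : Subgroup G} (hQn : Q.Normal) (hQ : IsPGroup 2 Q) (h : FixedNormal Q 4)
    (h8 : 8 ∣ Nat.card Q) {g : G} (hgc : (orderOf g).Coprime 2) : ∀ x ∈ Q, g * x * g⁻¹ = x := by
  haveI : Fact (Nat.Prime 2) := ⟨Nat.prime_two⟩
  have hodd : Odd (orderOf g) := Nat.coprime_two_right.1 hgc
  have hfour : ∀ a ∈ Q, a ^ 4 = 1 → a ^ 2 ≠ 1 → g * a * g⁻¹ = a := by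
    intro a ha ha4 ha2
    have ho : orderOf a = 4 := by
      simpa using orderOf_eq_prime_pow (p := 2) (n := 1) (by simpa using ha2) (by simpa using ha4)
    have hn := h _ (Subgroup.zpowers_le.2 ha) (Or.inl (by rw [Nat.card_zpowers, ho]))
    exact fix_of_pow_four hodd ha4 (hn.conj_mem a (Subgroup.mem_zpowers a) g)
  refine centralizes_of_small hQn hQ hgc fun b hb hbs => ?_
  have hb4 : b ^ 4 = 1 := by
    rcases hbs with e | ⟨-, e⟩
    · rw [show 4 = 2 * 2 from rfl, pow_mul, e, one_pow]
    · exact e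
  by_cases hb2 : b ^ 2 = 1
  swap
  · exact hfour b hb hb4 hb2
  by_cases hb1 : b = 1
  · simp [hb1]
  by_contra hmv
  have ho : orderOf b = 2 := orderOf_eq_prime hb2 hb1
  obtain ⟨F, hbF, hFQ, hFc⟩ := exists_over (q := 2) (Subgroup.zpowers_le.2 hb) (i := 1)
    (by rw [Nat.card_zpowers, ho, pow_one]) ((show 2 ^ (1 + 1) ∣ 8 by norm_num).trans h8)
  have hFn : F.Normal := h F hFQ (Or.inl (by rw [hFc]; norm_num))
  have hbF' : b ∈ F := hbF (Subgroup.mem_zpowers b)
  have hsq : ∀ a ∈ F, a ^ 2 = 1 := by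
    intro a ha
    by_contra ha2
    have ha4 : a ^ 4 = 1 := by
      have := pow_card_eq_one' (G := F) (x := ⟨a, ha⟩)
      rw [hFc] at this
      simpa using congrArg Subtype.val this
    have hfa := hfour a (hFQ ha) ha4 ha2
    have hoa : orderOf a = 4 := by
      simpa using orderOf_eq_prime_pow (p := 2) (n := 1) (by simpa using ha2) (by simpa using ha4)
    have hza : Subgroup.zpowers a = F := Subgroup.eq_of_le_of_card_ge (Subgroup.zpowers_le.2 ha)
      (by rw [Nat.card_zpowers, hoa, hFc]; norm_num)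
    obtain ⟨i, hi⟩ := Subgroup.mem_zpowers_iff.1 (hza.ge hbF')
    apply hmv
    rw [← hi, ← conj_zpow, hfa]
  have hcommF : ∀ x ∈ F, ∀ y ∈ F, x * y = y * x := by
    intro x hx y hy
    have hinv : ∀ z ∈ F, z⁻¹ = z := fun z hz => inv_eq_of_mul_eq_one_right (by rw [← sq]; exact hsq z hz)
    calc x * y = (x * y)⁻¹ := (hinv _ (mul_mem hx hy)).symm
      _ = y * x := by rw [mul_inv_rev, hinv x hx, hinv y hy]
  set b' := g * b * g⁻¹ with hb'def
  have hb'F : b' ∈ F := hFn.conj_mem b hbF' g
  have hb'1 : b' ≠ 1 := fun e => hb1 (by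
    have h1 := congrArg (fun y => g⁻¹ * y * g) (hb'def ▸ e)
    simpa [mul_assoc] using h1)
  have helems : ∀ v ∈ F, v ≠ 1 → v = b ∨ v = b' ∨ v = b * b' := by
    intro v hv hv1
    by_contra hcon
    push Not at hcon
    have hbb' : b * b' ≠ 1 := fun e => hmv (by
      have : b' = b⁻¹ := (inv_eq_of_mul_eq_one_right e).symm
      rw [this, inv_eq_of_mul_eq_one_right (by rw [← sq]; exact hb2)])
    have hsub : ({1, b, b', b * b', v} : Set G) ⊆ (F : Set G) := by
      intro z hz
      simp only [Set.mem_insert_iff, Set.mem_singleton_iff] at hz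
      rcases hz with rfl | rfl | rfl | rfl | rfl
      exacts [one_mem F, hbF', hb'F, mul_mem hbF' hb'F, hv]
    have hle := Set.ncard_le_ncard hsub (Set.toFinite _)
    rw [← Nat.card_coe_set_eq (F : Set G), show Nat.card (F : Set G) = 4 by simpa using hFc] at hle
    rw [Set.ncard_insert_of_notMem, Set.ncard_insert_of_notMem, Set.ncard_insert_of_notMem,
      Set.ncard_insert_of_notMem, Set.ncard_singleton] at hle
    · omega
    all_goals simp only [Set.mem_insert_iff, Set.mem_singleton_iff, not_or]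
    · exact Ne.symm hcon.2.2
    · exact ⟨fun e => hb1 (by simpa using e.symm), Ne.symm hcon.2.1⟩
    · exact ⟨fun e => hmv (e.symm), fun e => hb'1 (by simpa using e.symm), Ne.symm hcon.1⟩
    · exact ⟨Ne.symm hb1, Ne.symm hb'1, Ne.symm hbb', Ne.symm hv1⟩
  have hnofix : ∀ v ∈ F, v ≠ 1 → g * v * g⁻¹ ≠ v := by
    intro v hv hv1 hfix
    rcases helems v hv hv1 with rfl | rfl | rfl
    · exact hmv hfix
    · exact hmv (by
        have h1 := congrArg (fun y => g⁻¹ * y * g) hfix
        rw [hb'def] at h1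
        simp [mul_assoc] at h1
        rw [hb'def]; simpa [mul_assoc] using h1)
    · have hcm := hcommF b hbF' b' hb'F
      refine hmv (commute_of_sq hodd ?_)
      have h1 : b' * (g * b' * g⁻¹) = b * b' := by
        refine Eq.trans ?_ hfix
        rw [hb'def]; group
      rw [← hb'def]
      calc g * b' * g⁻¹ = b' * (b' * (g * b' * g⁻¹)) := by rw [← mul_assoc b' b', ← sq, hsq b' hb'F, one_mul]
        _ = b' * (b' * b) := by rw [h1, hcm]
        _ = b := by rw [← mul_assoc b' b', ← sq, hsq b' hb'F, one_mul]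
  -- a central involution in `F`
  obtain ⟨z, hzF, hz1, hzc⟩ : ∃ z ∈ F, z ≠ 1 ∧ ∀ y ∈ Q, y * z = z * y := by
    haveI : (F.subgroupOf Q).Normal := Subgroup.Normal.subgroupOf hFn Q
    have hl : (2 : ℕ) ∣ Nat.card (F.subgroupOf Q) := by rw [card_subgroupOf hFQ, hFc]; norm_num
    have hmul : MulAction.fixedPoints (ConjAct Q) (F.subgroupOf Q) = {x : F.subgroupOf Q | ∀ y : Q, y * (x : Q) * y⁻¹ = x} := by
      ext x
      exact ⟨fun hx y => congrArg Subtype.val (hx (ConjAct.toConjAct y)),
        fun hx y => Subtype.ext (hx (ConjAct.ofConjAct y))⟩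
    obtain ⟨x, hx, hx1⟩ := (hQ.of_equiv ConjAct.toConjAct).exists_fixed_point_of_prime_dvd_card_of_fixed_point
      (F.subgroupOf Q) hl (a := (1 : F.subgroupOf Q)) (fun y => smul_one y)
    rw [hmul] at hx
    refine ⟨((x : Q) : G), x.2, fun e => hx1 (Subtype.ext (Subtype.ext e.symm)), fun y hy => ?_⟩
    exact mul_inv_eq_iff_eq_mul.1 (congrArg Subtype.val (hx ⟨y, hy⟩))
  by_cases hj : ∃ j ∈ Q, j ^ 2 = 1 ∧ j ∉ F
  · obtain ⟨j, hjQ, hj2, hjF⟩ := hj
    have hzz : z * z = 1 := by rw [← sq]; exact hsq z hzF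
    have hjj : j * j = 1 := by rw [← sq]; exact hj2
    have hjz : j * z = z * j := hzc j hjQ
    let V : Subgroup G :=
      { carrier := {1, z, j, z * j}
        one_mem' := Or.inl rfl
        mul_mem' := by
          intro x y hx hy
          simp only [Set.mem_insert_iff, Set.mem_singleton_iff] at hx hy ⊢
          have a1 : ∀ a, z * (z * a) = a := fun a => by rw [← mul_assoc, hzz, one_mul]
          have a2 : ∀ a, j * (j * a) = a := fun a => by rw [← mul_assoc, hjj, one_mul]
          have a3 : ∀ a, j * (z * a) = z * (j * a) := fun a => by rw [← mul_assoc, hjz, mul_assoc]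
          rcases hx with e | e | e | e <;> rcases hy with e' | e' | e' | e' <;>
            simp [e, e', hzz, hjj, hjz, mul_assoc, a1, a2, a3]
        inv_mem' := by
          intro x hx
          simp only [Set.mem_insert_iff, Set.mem_singleton_iff] at hx ⊢
          rcases hx with e | e | e | e <;>
            simp [e, inv_eq_of_mul_eq_one_right hzz, inv_eq_of_mul_eq_one_right hjj, hjz] }
    have hzjF : z * j ∉ F := fun e => hjF (by
      have := mul_mem hzF e
      rwa [← mul_assoc, hzz, one_mul] at this)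
    have hVc : Nat.card V = 4 := by
      show Nat.card ({1, z, j, z * j} : Set G) = 4
      rw [Nat.card_coe_set_eq, Set.ncard_insert_of_notMem, Set.ncard_insert_of_notMem,
        Set.ncard_pair]
      · exact fun e => hz1 (by simpa using (congrArg (fun y => y * j⁻¹) e).symm)
      · simp only [Set.mem_insert_iff, Set.mem_singleton_iff, not_or]
        exact ⟨fun e => hjF (e ▸ hzF), fun e => hzjF (e ▸ hzF)⟩
      · simp only [Set.mem_insert_iff, Set.mem_singleton_iff, not_or]
        exact ⟨Ne.symm hz1, fun e => hjF (e ▸ one_mem F), fun e => hzjF (e ▸ one_mem F)⟩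
    have hVQ : V ≤ Q := by
      intro x hx
      rcases hx with e | e | e | e <;> rw [e]
      exacts [one_mem Q, hFQ hzF, hjQ, mul_mem (hFQ hzF) hjQ]
    have hV := (h V hVQ (Or.inl hVc)).conj_mem z (Or.inr (Or.inl rfl)) g
    have hgz := hFn.conj_mem z hzF g
    rcases hV with e | e | e | e
    · exact hz1 (by
        have h1 := congrArg (fun y => g⁻¹ * y * g) e
        simpa [mul_assoc] using h1)
    · exact hnofix z hzF hz1 e
    · exact hjF (e ▸ hgz)
    · exact hzjF (e ▸ hgz)
  · push Not at hj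
    obtain ⟨B, hFB, hBQ, hBc⟩ := exists_over (q := 2) hFQ (i := 2) (by rw [hFc])
      ((show 2 ^ (2 + 1) ∣ 8 by norm_num).trans h8)
    obtain ⟨y, hy, hyF⟩ := SetLike.not_le_iff_exists.1 fun e : B ≤ F => by
      have := Subgroup.card_le_of_le e
      rw [hFc, hBc] at this
      norm_num at this
    have hidx : (F.subgroupOf B).index = 2 := by
      have h1 := Subgroup.card_mul_index (F.subgroupOf B)
      rw [card_subgroupOf hFB, hFc, hBc] at h1
      norm_num at h1
      omega
    have hy2 : y ^ 2 ∈ F := Subgroup.sq_mem_of_index_two hidx (⟨y, hy⟩ : B)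
    have hy2' : y ^ 2 ≠ 1 := fun e => hyF (hj y (hBQ hy) e)
    have hy4 : y ^ 4 = 1 := by rw [show 4 = 2 * 2 from rfl, pow_mul]; exact hsq _ hy2
    refine hnofix _ hy2 hy2' ?_
    rw [← conj_pow, hfour y (hBQ hy) hy4 hy2']

/-- A normal `q`-subgroup all of whose subgroups of one fixed order are normal, with supersolvable quotient. -/
theorem ssg_of_fixedNormal_aux : ∀ (n : ℕ) (G : Type u) [Group G] [Finite G], Nat.card G = n →
    ∀ Q : Subgroup G, ∀ [Q.Normal], IsPGroup q Q → SSG (G ⧸ Q) →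
      ∀ d : ℕ, 1 < d → d < Nat.card Q → d ∣ Nat.card Q → FixedNormal Q d → SSG G := by
  intro n
  induction n using Nat.strong_induction_on with
  | _ n IH =>
    intro G _ _ hn Q _ hQ hGQ d hd1 hdlt hdd h
    obtain ⟨k, hk⟩ := IsPGroup.iff_card.1 hQ
    obtain ⟨e, hek, hde⟩ := (Nat.dvd_prime_pow hq.out).1 (hk ▸ hdd)
    have hek' : e < k := by
      rw [hde, hk] at hdlt
      exact (Nat.pow_lt_pow_iff_right hq.out.one_lt).1 hdlt
    have he0 : e ≠ 0 := fun e0 => by rw [hde, e0, pow_zero] at hd1; exact lt_irrefl _ hd1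
    by_cases he1 : e = 1
    · rw [hde, he1, pow_one] at h
      exact ssg_of_action_aux _ G rfl Q hQ hGQ fun g hg hgc => centralizes_of_minimal ‹Q.Normal› hQ h hg hgc
    by_cases he4 : q = 2 ∧ e = 2
    · obtain ⟨rfl, rfl⟩ := he4
      rw [hde] at h
      exact ssg_of_action_aux _ G rfl Q hQ hGQ fun g _ hgc => centralizes_of_four ‹Q.Normal› hQ h
        (hk ▸ (show 8 = 2 ^ 3 from rfl) ▸ pow_dvd_pow 2 hek') hgc
    have hQb : Q ≠ ⊥ := fun e => by
      rw [e, Subgroup.card_bot] at hdlt
      omega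
    obtain ⟨N, hN, hNQ⟩ := exists_isMinimalNormal_le Q hQb
    haveI := hN.1
    haveI hNnil : Group.IsNilpotent N := (hQ.to_le hNQ).isNilpotent
    haveI hNab : IsMulCommutative N := isMulCommutative_of_minimal_solvable hN inferInstance
    obtain ⟨r, hr, hexp', hrg⟩ := exists_prime_exponent_of_minimal_solvable hN inferInstance
    have hrq : r = q := by
      by_contra hne
      haveI : Fact r.Prime := ⟨hr⟩
      have := IsPGroup.disjoint_of_ne r q hne _ _ hrg hQ
      exact hN.2.1 (le_bot_iff.1 fun x hx => this.le_bot (Subgroup.mem_inf.2 ⟨hx, hNQ hx⟩))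
    rw [hrq] at hexp'
    obtain ⟨t, ht⟩ := IsPGroup.iff_card.1 (hQ.to_le hNQ)
    have ht0 : t ≠ 0 := fun e => hN.2.1 (Subgroup.eq_bot_of_card_eq _ (by rw [ht, e, pow_zero]))
    have hnorm : ∀ F : Subgroup G, F ≤ Q → Nat.card F = q ^ e → F.Normal :=
      fun F hF hc => h F hF (Or.inl (hc.trans hde.symm))
    -- no subgroup of order `q ^ e` meets `N` properly
    have hno : ∀ F : Subgroup G, F ≤ Q → Nat.card F = q ^ e → F ⊓ N = ⊥ ∨ N ≤ F := by
      intro F hF hc
      haveI := hnorm F hF hc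
      exact (hN.2.2 (F ⊓ N) inferInstance inf_le_right).imp id inf_eq_right.1
    have hte : t ≤ e := by
      by_contra hlt
      obtain ⟨F, hFc⟩ := Sylow.exists_subgroup_card_pow_prime q (n := e)
        (ht.symm ▸ pow_dvd_pow q (by omega) : q ^ e ∣ Nat.card N)
      have hc : Nat.card (F.map N.subtype) = q ^ e := by
        rw [Subgroup.card_map_of_injective N.subtype_injective, hFc]
      rcases hno _ ((Subgroup.map_subtype_le F).trans hNQ) hc with h1 | h1
      · rw [inf_eq_left.2 (Subgroup.map_subtype_le F)] at h1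
        rw [h1, Subgroup.card_bot] at hc
        have := Nat.pow_right_injective hq.out.two_le (hc.symm.trans (pow_zero q).symm)
        omega
      · have := Subgroup.card_le_of_le h1
        rw [ht, hc] at this
        have := (Nat.pow_le_pow_iff_right hq.out.one_lt).1 this
        omega
    by_cases htE : t = e
    · exfalso
      obtain ⟨K, hNK, hKQ, hKc⟩ := exists_over hNQ ht (hk ▸ pow_dvd_pow q (by omega))
      have hnc : ¬ IsCyclic K := fun hc => not_cyclic_of_exponent (q := q) hexp'
        (by rw [ht]; exact lt_self_pow₀ hq.out.one_lt (by omega)) (Subgroup.isCyclic_of_le hNK)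
      obtain ⟨A₁, A₂, h1, h2, hne, -, hc1, hc2⟩ := exists_two_maximal (hQ.to_le hKQ) hnc
      rw [hKc, pow_succ] at hc1 hc2
      have hc1' := Nat.eq_of_mul_eq_mul_right hq.out.pos hc1
      have hc2' := Nat.eq_of_mul_eq_mul_right hq.out.pos hc2
      obtain ⟨A, hA, hAN, hAc⟩ : ∃ A : Subgroup G, A ≤ K ∧ A ≠ N ∧ Nat.card A = q ^ t := by
        by_cases h3 : A₁ = N
        · exact ⟨A₂, h2, fun e => hne (h3.trans e.symm), hc2'⟩
        · exact ⟨A₁, h1, h3, hc1'⟩
      rcases hno A (hA.trans hKQ) (htE ▸ hAc) with h3 | h3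
      · have := card_mul_le_of_disjoint hA hNK h3
        rw [hAc, ht, hKc, ← pow_add] at this
        have := (Nat.pow_le_pow_iff_right hq.out.one_lt).1 this
        omega
      · exact hAN (Subgroup.eq_of_le_of_card_ge h3 (hAc.trans ht.symm).le).symm
    have hlt : t < e := lt_of_le_of_ne hte htE
    -- the quotient by `N`
    set f := QuotientGroup.mk' N with hf
    have hfs : Function.Surjective f := QuotientGroup.mk'_surjective N
    haveI hQ'n : (Q.map f).Normal := (‹Q.Normal›).map f hfs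
    have hcm : Nat.card (Q.map f) = q ^ (k - t) := by
      have h1 := card_comap_mk' N (Q.map f)
      rw [Subgroup.comap_map_eq_self (by rw [QuotientGroup.ker_mk']; exact hNQ), hk, ht] at h1
      refine Nat.eq_of_mul_eq_mul_right (pow_pos hq.out.pos t) ?_
      rw [← h1, ← pow_add, Nat.sub_add_cancel (by omega)]
    have hGN : SSG (G ⧸ N) := by
      refine IH _ (hn ▸ card_quotient_lt hN.2.1) (G ⧸ N) rfl (Q.map f) (hQ.map f) ?_ (q ^ (e - t))
        (Nat.one_lt_pow (by omega) hq.out.one_lt) ?_ (hcm ▸ pow_dvd_pow q (by omega)) ?_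
      · refine ssg_of_surjective (f := QuotientGroup.map Q (Q.map f) f (Subgroup.le_comap_map f Q)) ?_ hGQ
        intro y
        obtain ⟨y, rfl⟩ := QuotientGroup.mk_surjective y
        obtain ⟨y, rfl⟩ := QuotientGroup.mk'_surjective N y
        exact ⟨y, rfl⟩
      · rw [hcm]
        exact Nat.pow_lt_pow_right hq.out.one_lt (by omega)
      · intro F hF hFc
        have hle : F.comap f ≤ Q := fun x hx => by
          obtain ⟨y, hy, he⟩ := hF hx
          have h1 : x * y⁻¹ ∈ N := by
            rw [← QuotientGroup.eq_one_iff]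
            show f (x * y⁻¹) = 1
            rw [map_mul, map_inv, he, mul_inv_cancel]
          have h2 := mul_mem (hNQ h1) hy
          rwa [inv_mul_cancel_right] at h2
        have hnF : (F.comap f).Normal := by
          have hcc := card_comap_mk' N F
          rcases hFc with hc | ⟨he2, hc⟩
          · refine hnorm _ hle ?_
            rw [hcc, hc, ht, ← pow_add, Nat.sub_add_cancel hte]
          · have hq2 : q = 2 ∧ e - t = 1 := by
              have hdv : q ∣ 2 := he2 ▸ dvd_pow_self q (by omega)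
              have hq' := (Nat.prime_dvd_prime_iff_eq hq.out Nat.prime_two).1 hdv
              rw [hq'] at he2
              exact ⟨hq', Nat.pow_right_injective le_rfl (he2.trans (pow_one 2).symm)⟩
            have ht2 : 2 ≤ t := by
              by_contra hcon
              exact he4 ⟨hq2.1, by omega⟩
            have hcy : ¬ IsCyclic (F.comap f) := fun hcy => by
              refine not_cyclic_of_exponent (q := q) hexp' ?_ (Subgroup.isCyclic_of_le (H' := F.comap f) ?_)
              · rw [ht]; exact lt_self_pow₀ hq.out.one_lt (by omega)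
              · intro x hx
                show f x ∈ F
                rw [show f x = 1 from (QuotientGroup.eq_one_iff x).2 hx]
                exact one_mem F
            obtain ⟨A₁, A₂, h1, h2, -, hsup, hc1, hc2⟩ := exists_two_maximal (hQ.to_le hle) hcy
            rw [hcc, hc, ht] at hc1 hc2
            have hpe : 4 * q ^ t = q ^ e * q := by
              rw [show e = t + 1 by omega, pow_succ, hq2.1]
              ring
            haveI := hnorm A₁ (h1.trans hle) (Nat.eq_of_mul_eq_mul_right hq.out.pos (hc1.trans hpe))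
            haveI := hnorm A₂ (h2.trans hle) (Nat.eq_of_mul_eq_mul_right hq.out.pos (hc2.trans hpe))
            rw [← hsup]
            exact Subgroup.sup_normal A₁ A₂
        rw [← Subgroup.map_comap_eq_self_of_surjective hfs F]
        exact hnF.map f hfs
    by_cases ht1 : t = 1
    · haveI : IsCyclic N := isCyclic_of_prime_card (p := q) (by rw [ht, ht1, pow_one])
      exact ssg_of_cyclic_normal N hGN
    by_cases hall : ∀ M : Subgroup G, IsCoatom M → N ≤ M
    · refine maxPrime_ssg fun M hM => ?_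
      have hker : f.ker ≤ M := by rw [QuotientGroup.ker_mk']; exact hall M hM
      have hcoat : IsCoatom (M.map f) := by
        refine ⟨fun e => hM.1 ?_, fun X hX => ?_⟩
        · rw [← Subgroup.comap_map_eq_self hker, e, Subgroup.comap_top]
        · have h1 : M < X.comap f := by
            have := (Subgroup.comap_lt_comap_of_surjective hfs).2 hX
            rwa [Subgroup.comap_map_eq_self hker] at this
          rw [← Subgroup.map_comap_eq_self_of_surjective hfs X, hM.2 _ h1, Subgroup.map_top_of_surjective f hfs]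
      rw [← Subgroup.comap_map_eq_self hker, Subgroup.index_comap_of_surjective _ hfs]
      exact ssg_maximal_index_prime hGN hcoat
    -- a supplement of `N`
    exfalso
    push Not at hall
    obtain ⟨M, hM, hNM⟩ := hall
    have hcomp := isComplement'_of_isCoatom hN.2.2 hM hNM
    set Q₁ := Q ⊓ M with hQ1
    have hsupQ : N ⊔ Q₁ = Q := by
      refine le_antisymm (sup_le hNQ inf_le_left) fun x hx => ?_
      obtain ⟨⟨⟨a, ha⟩, ⟨m, hm⟩⟩, he, -⟩ := hcomp.existsUnique x
      simp only at he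
      have hmQ : m ∈ Q := by
        have := mul_mem (inv_mem (hNQ ha)) hx
        rwa [← he, inv_mul_cancel_left] at this
      rw [← he]
      exact Subgroup.mul_mem_sup ha ⟨hmQ, hm⟩
    have hbot : Q₁ ⊓ N = ⊥ :=
      le_bot_iff.1 fun x hx => hcomp.disjoint.le_bot ⟨hx.2, hx.1.2⟩
    obtain ⟨l, hl⟩ := IsPGroup.iff_card.1 (hQ.to_le (inf_le_left : Q₁ ≤ Q))
    have hlk : l + t = k := by
      have := card_sup_mul_card_inf Q₁ N
      rw [sup_comm, hsupQ, hbot, Subgroup.card_bot, mul_one, hl, ht, hk, ← pow_add] at this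
      exact (Nat.pow_right_injective hq.out.two_le this).symm
    haveI hQnil : Group.IsNilpotent Q := hQ.isNilpotent
    have hcent := le_centralizer_minimalNormal hQnil hN
    obtain ⟨A, hAc⟩ := Sylow.exists_subgroup_card_pow_prime q (n := t - 1)
      (ht.symm ▸ pow_dvd_pow q (by omega) : q ^ (t - 1) ∣ Nat.card N)
    obtain ⟨B, hBc⟩ := Sylow.exists_subgroup_card_pow_prime q (n := e - (t - 1))
      (hl.symm ▸ pow_dvd_pow q (by omega) : q ^ (e - (t - 1)) ∣ Nat.card Q₁)
    set A' := A.map N.subtype with hA'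
    set B' := B.map Q₁.subtype with hB'
    have hA'N : A' ≤ N := Subgroup.map_subtype_le A
    have hB'Q : B' ≤ Q₁ := Subgroup.map_subtype_le B
    have hA'c : Nat.card A' = q ^ (t - 1) := by rw [hA', Subgroup.card_map_of_injective N.subtype_injective, hAc]
    have hB'c : Nat.card B' = q ^ (e - (t - 1)) := by
      rw [hB', Subgroup.card_map_of_injective Q₁.subtype_injective, hBc]
    have hcomm : ∀ a ∈ A', ∀ b ∈ B', Commute a b := fun a ha b hb =>
      Subgroup.mem_centralizer_iff.1 (hcent (hB'Q hb).1) a (hA'N ha)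
    let F : Subgroup G :=
      { carrier := {x | ∃ a ∈ A', ∃ b ∈ B', x = a * b}
        one_mem' := ⟨1, one_mem _, 1, one_mem _, (one_mul 1).symm⟩
        mul_mem' := by
          rintro _ _ ⟨a, ha, b, hb, rfl⟩ ⟨a', ha', b', hb', rfl⟩
          exact ⟨a * a', mul_mem ha ha', b * b', mul_mem hb hb', (hcomm a' ha' b hb).symm.mul_mul_mul_comm a b'⟩
        inv_mem' := by
          rintro _ ⟨a, ha, b, hb, rfl⟩
          refine ⟨a⁻¹, inv_mem ha, b⁻¹, inv_mem hb, ?_⟩
          rw [mul_inv_rev]
          exact (hcomm _ (inv_mem ha) _ (inv_mem hb)).eq.symm }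
    have hFQ : F ≤ Q := by
      rintro _ ⟨a, ha, b, hb, rfl⟩
      exact mul_mem (hNQ (hA'N ha)) (hB'Q hb).1
    have hdis : Disjoint A' B' := disjoint_iff.2 (le_bot_iff.1 fun x hx => hbot.le ⟨hB'Q hx.2, hA'N hx.1⟩)
    have hFc : Nat.card F = q ^ e := by
      let φ : A' × B' → F := fun x => ⟨x.1 * x.2, x.1, x.1.2, x.2, x.2.2, rfl⟩
      have hφ : Function.Bijective φ := by
        refine ⟨fun x y e => Subgroup.mul_injective_of_disjoint hdis (congrArg Subtype.val e), ?_⟩
        rintro ⟨_, a, ha, b, hb, rfl⟩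
        exact ⟨⟨⟨a, ha⟩, ⟨b, hb⟩⟩, rfl⟩
      rw [← Nat.card_congr (Equiv.ofBijective φ hφ), Nat.card_prod, hA'c, hB'c, ← pow_add]
      congr 1
      omega
    have hFN : F ⊓ N = A' := by
      refine le_antisymm ?_ (le_inf (fun a ha => ⟨a, ha, 1, one_mem _, (mul_one a).symm⟩) hA'N)
      rintro x ⟨⟨a, ha, b, hb, rfl⟩, hxN⟩
      have : b ∈ N := by
        have := mul_mem (inv_mem (hA'N ha)) hxN
        rwa [inv_mul_cancel_left] at this
      rw [Subgroup.mem_bot.1 (hbot.le ⟨hB'Q hb, this⟩), mul_one]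
      exact ha
    rcases hno F hFQ hFc with h1 | h1
    · rw [hFN] at h1
      rw [h1, Subgroup.card_bot] at hA'c
      have := Nat.pow_right_injective hq.out.two_le (hA'c.symm.trans (pow_zero q).symm)
      omega
    · have h2 : N ≤ A' := hFN ▸ le_inf h1 le_rfl
      have := Subgroup.card_le_of_le h2
      rw [hA'c, ht] at this
      have := (Nat.pow_le_pow_iff_right hq.out.one_lt).1 this
      omega

end CfsgLib.Inv.NormalFixedOrder
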