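import Cfsg.Agent.Solv.UniqueSub
import Cfsg.Agent.Solv.PGroups
import Cfsg.Agent.Perm.MinClass

/-!
Normal four subgroups of 2-groups of rank at least three.
-/

set_option autoImplicit false

namespace CfsgLib.Inv

variable {S : Type*} [Group S] [Finite S]

/-- A 2-group containing an elementary abelian subgroup of order 8 has a normal four subgroup. -/
theorem exists_normal_four_of_eight (hS : IsPGroup 2 S) {E : Subgroup S} (hE8 : Nat.card E = 8)
    (hE2 : ∀ e ∈ E, e ^ 2 = 1) :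
    ∃ U : Subgroup S, U.Normal ∧ Nat.card U = 4 ∧ ∀ u ∈ U, u ^ 2 = 1 := by
  haveI : Fact (Nat.Prime 2) := ⟨Nat.prime_two⟩
  obtain ⟨A, hAn, hAc, hAA⟩ := CfsgLib.Perm.exists_self_centralizing_normal_abelian hS
  let Ω : Subgroup S :=
    { carrier := {x | x ∈ A ∧ x ^ 2 = 1}
      one_mem' := ⟨one_mem A, one_pow 2⟩
      mul_mem' := by
        rintro x y ⟨hx, hx'⟩ ⟨hy, hy'⟩
        have hc : Commute x y := congrArg Subtype.val (hAc.is_comm.comm (⟨x, hx⟩ : A) ⟨y, hy⟩)
        exact ⟨mul_mem hx hy, by rw [hc.mul_pow, hx', hy', one_mul]⟩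
      inv_mem' := by
        rintro x ⟨hx, hx'⟩
        exact ⟨inv_mem hx, by rw [inv_pow, hx', inv_one]⟩ }
  by_cases hΩ : 4 ≤ Nat.card Ω
  · haveI : Ω.Normal := ⟨fun x hx g => ⟨hAn.conj_mem x hx.1 g, by rw [conj_pow, hx.2, mul_one, mul_inv_cancel]⟩⟩
    obtain ⟨M, hMn, hMΩ, hM⟩ := CfsgLib.Solv.exists_normal_le_card hS (N := Ω) (k := 2) hΩ
    exact ⟨M, hMn, hM, fun u hu => (hMΩ hu).2⟩
  have huA : ∀ x ∈ A, ∀ y ∈ A, x ^ 2 = 1 → y ^ 2 = 1 → x ≠ 1 → y ≠ 1 → x = y := by
    intro x hx y hy hx2 hy2 hx1 hy1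
    by_contra hne
    refine hΩ ?_
    have hsub : ({1, x, y, x * y} : Set S) ⊆ (Ω : Set S) := by
      intro w hw
      rcases hw with rfl | rfl | rfl | rfl
      · exact one_mem Ω
      · exact ⟨hx, hx2⟩
      · exact ⟨hy, hy2⟩
      · exact Ω.mul_mem ⟨hx, hx2⟩ ⟨hy, hy2⟩
    have hxi : x⁻¹ = x := inv_eq_of_mul_eq_one_right (by rw [← pow_two]; exact hx2)
    have a4 : x * y ≠ 1 := fun h => hne (by rw [eq_inv_of_mul_eq_one_right h, hxi])
    have a5 : x * y ≠ x := fun h => hy1 (mul_eq_left.1 h)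
    have a6 : x * y ≠ y := fun h => hx1 (mul_eq_right.1 h)
    calc 4 = ({1, x, y, x * y} : Set S).ncard := by
          rw [Set.ncard_insert_of_notMem (by simp [hx1.symm, hy1.symm, a4.symm]),
            Set.ncard_insert_of_notMem (by simp [hne, a5.symm]),
            Set.ncard_insert_of_notMem (by simp [a6.symm]), Set.ncard_singleton]
      _ ≤ (Ω : Set S).ncard := Set.ncard_le_ncard hsub
      _ = Nat.card Ω := (Nat.card_coe_set_eq _).symm
  have hcyc : IsCyclic A := by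
    rcases CfsgLib.Solv.pgroup_unique_sub (hS.to_subgroup A) (fun x y hx hy => by
      have h2 : ∀ w : A, orderOf w = 2 → (w : S) ^ 2 = 1 ∧ (w : S) ≠ 1 := fun w hw => by
        refine ⟨?_, fun h => ?_⟩
        · rw [← SubmonoidClass.coe_pow, ← hw, pow_orderOf_eq_one, OneMemClass.coe_one]
        · rw [OneMemClass.coe_eq_one] at h
          rw [h, orderOf_one] at hw
          omega
      have := huA x x.2 y y.2 (h2 x hx).1 (h2 y hy).1 (h2 x hx).2 (h2 y hy).2
      rw [Subtype.ext this]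
      exact Subgroup.mem_zpowers y) with h | ⟨-, n, ⟨e⟩⟩
    · exact h
    · exfalso
      have h := congrArg e (hAc.is_comm.comm (e.symm (QuaternionGroup.a 1)) (e.symm (QuaternionGroup.xa 0)))
      simp only [map_mul, MulEquiv.apply_symm_apply, QuaternionGroup.a_mul_xa, QuaternionGroup.xa_mul_a,
        QuaternionGroup.xa.injEq, zero_sub, zero_add] at h
      have h2 : ((2 : ℕ) : ZMod (2 * 2 ^ (n + 1))) = 0 := by
        push_cast
        linear_combination -h
      have h3 := Nat.le_of_dvd two_pos ((ZMod.natCast_eq_zero_iff _ _).1 h2)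
      have h4 : 2 ≤ 2 ^ (n + 1) := Nat.le_self_pow (by omega) 2
      omega
  obtain ⟨a0, ha0⟩ := hcyc.exists_generator
  set a : S := (a0 : S) with ha
  have haA : a ∈ A := a0.2
  have hAa : ∀ x ∈ A, ∃ i : ℤ, a ^ i = x := by
    intro x hx
    obtain ⟨i, hi⟩ := ha0 ⟨x, hx⟩
    exact ⟨i, by rw [ha, ← SubgroupClass.coe_zpow]; exact congrArg Subtype.val hi⟩
  have hAcomm : ∀ x ∈ A, ∀ y ∈ A, Commute x y := fun x hx y hy =>
    congrArg Subtype.val (hAc.is_comm.comm (⟨x, hx⟩ : A) ⟨y, hy⟩)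
  have hcent : ∀ g : S, Commute g a → g ∈ A := by
    intro g hg
    rw [← hAA, Subgroup.mem_centralizer_iff]
    intro x hx
    obtain ⟨i, rfl⟩ := hAa x hx
    exact (hg.zpow_right i).symm.eq
  have hEcomm : ∀ x ∈ E, ∀ y ∈ E, Commute x y := by
    intro x hx y hy
    have i : ∀ w ∈ E, w⁻¹ = w := fun w hw => inv_eq_of_mul_eq_one_right (by rw [← pow_two]; exact hE2 w hw)
    show x * y = y * x
    calc x * y = (x * y)⁻¹ := (i _ (mul_mem hx hy)).symm
      _ = y * x := by rw [mul_inv_rev, i x hx, i y hy]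
  have hconjmul : ∀ e f : S, ∀ w : S, e * (f * w * f⁻¹) * e⁻¹ = (e * f) * w * (e * f)⁻¹ := by
    intros; group
  -- the elements of `E` fixing the square of the generator
  let E0 : Subgroup S :=
    { carrier := {e | e ∈ E ∧ Commute e (a ^ 2)}
      one_mem' := ⟨one_mem E, Commute.one_left _⟩
      mul_mem' := fun {x y} hx hy => ⟨mul_mem hx.1 hy.1, hx.2.mul_left hy.2⟩
      inv_mem' := fun {x} hx => ⟨inv_mem hx.1, hx.2.inv_left⟩ }
  have hE0E : E0 ≤ E := fun e he => he.1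
  have hsmall : Nat.card (E ⊓ A : Subgroup S) ≤ 2 := by
    by_contra hlt
    have hlt' : 2 < ((E ⊓ A : Subgroup S) : Set S).ncard := by
      rw [← Nat.card_coe_set_eq]; exact not_le.1 hlt
    obtain ⟨x, y, w, hx, hy, hw, hxy, hxw, hyw⟩ := (Set.two_lt_ncard_iff (Set.toFinite _)).1 hlt'
    have key : ∀ u ∈ (E ⊓ A : Subgroup S), ∀ v ∈ (E ⊓ A : Subgroup S), u ≠ 1 → v ≠ 1 → u = v :=
      fun u hu v hv h1 h2 => huA u (Subgroup.mem_inf.1 hu).2 v (Subgroup.mem_inf.1 hv).2
        (hE2 u (Subgroup.mem_inf.1 hu).1) (hE2 v (Subgroup.mem_inf.1 hv).1) h1 h2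
    by_cases h1 : x = 1
    · exact hyw (key y hy w hw (fun h => hxy (h1.trans h.symm)) (fun h => hxw (h1.trans h.symm)))
    · by_cases h2 : y = 1
      · exact hxw (key x hx w hw h1 (fun h => hyw (h2.trans h.symm)))
      · exact hxy (key x hx y hy h1 h2)
  have hwdef : ∀ e ∈ E0, ¬ Commute e a →
      e * a * e⁻¹ * a⁻¹ ∈ A ∧ (e * a * e⁻¹ * a⁻¹) ^ 2 = 1 ∧ e * a * e⁻¹ * a⁻¹ ≠ 1 := by
    intro e he hne
    have h1 : e * a * e⁻¹ ∈ A := hAn.conj_mem a haA e
    refine ⟨mul_mem h1 (inv_mem haA), ?_, fun h => hne (mul_inv_eq_iff_eq_mul.1 (mul_inv_eq_one.1 h))⟩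
    have h2 : Commute (e * a * e⁻¹) a⁻¹ := (hAcomm _ h1 _ haA).inv_right
    rw [h2.mul_pow, conj_pow, he.2.eq, mul_inv_cancel_right, inv_pow, mul_inv_cancel]
  have hE04 : Nat.card E0 ≤ 4 := by
    by_cases hex : ∃ e ∈ E0, ¬ Commute e a
    · obtain ⟨e, he, hne⟩ := hex
      have hcov : (E0 : Set S) ⊆ ((E ⊓ A : Subgroup S) : Set S) ∪ (fun x => e * x) '' ((E ⊓ A : Subgroup S) : Set S) := by
        intro f hf
        by_cases hfa : Commute f a
        · exact Or.inl (Subgroup.mem_inf.2 ⟨hf.1, hcent f hfa⟩)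
        · refine Or.inr ⟨e⁻¹ * f, Subgroup.mem_inf.2 ⟨mul_mem (inv_mem he.1) hf.1, hcent _ ?_⟩, by simp⟩
          obtain ⟨h1, h2, h3⟩ := hwdef e he hne
          obtain ⟨h1', h2', h3'⟩ := hwdef f hf hfa
          have heq := mul_right_cancel (huA _ h1 _ h1' h2 h2' h3 h3')
          refine mul_inv_eq_iff_eq_mul.1 ?_
          calc e⁻¹ * f * a * (e⁻¹ * f)⁻¹ = e⁻¹ * (f * a * f⁻¹) * e := by group
            _ = a := by rw [← heq]; group
      calc Nat.card E0 = (E0 : Set S).ncard := Nat.card_coe_set_eq _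
        _ ≤ (((E ⊓ A : Subgroup S) : Set S) ∪ (fun x => e * x) '' ((E ⊓ A : Subgroup S) : Set S)).ncard :=
            Set.ncard_le_ncard hcov
        _ ≤ _ := Set.ncard_union_le _ _
        _ ≤ 4 := by
            rw [Set.ncard_image_of_injective _ (mul_right_injective e), ← Nat.card_coe_set_eq]
            simp only [SetLike.coe_sort_coe]
            omega
    · push Not at hex
      refine (Subgroup.card_le_of_le (show E0 ≤ E ⊓ A from fun e he => Subgroup.mem_inf.2 ⟨he.1, hcent e (hex e he)⟩)).trans ?_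
      omega
  -- the order of the generator
  obtain ⟨n, hn⟩ := IsPGroup.iff_orderOf.1 hS a
  have hdvd : ∀ e ∈ E, Commute e (a ^ 2) ∨ e * a ^ 2 * e⁻¹ = (a ^ 2)⁻¹ := by
    intro e he
    obtain ⟨s, hs⟩ := hAa _ (hAn.conj_mem a haA e)
    have hee : e * e = 1 := by rw [← pow_two]; exact hE2 e he
    have h1 : a ^ (s * s) = a := by
      rw [zpow_mul, hs, conj_zpow, hs]
      calc e * (e * a * e⁻¹) * e⁻¹ = (e * e) * a * (e * e)⁻¹ := by group
        _ = a := by simp [hee]
    have h2 : ((2 : ℤ) ^ n) ∣ s * s - 1 := by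
      have h := orderOf_dvd_iff_zpow_eq_one.2 (show a ^ (s * s - 1) = 1 by rw [zpow_sub, h1, zpow_one, mul_inv_cancel])
      rw [hn] at h
      exact_mod_cast h
    rcases Nat.lt_or_ge n 2 with hlt | hge
    · refine Or.inl ?_
      have : a ^ 2 = 1 := orderOf_dvd_iff_pow_eq_one.1 (by rw [hn]; simpa using pow_dvd_pow 2 (by omega : n ≤ 1))
      rw [this]; exact Commute.one_right e
    obtain ⟨k, rfl⟩ : ∃ k, n = k + 2 := ⟨n - 2, by omega⟩
    have hpow : ∀ t : ℤ, (2 : ℤ) ^ (k + 1) ∣ t → a ^ (t * 2) = 1 := fun t ht =>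
      orderOf_dvd_iff_zpow_eq_one.1 (by rw [hn]; push_cast; rw [pow_succ]; exact mul_dvd_mul_right ht 2)
    have hsq : e * a ^ 2 * e⁻¹ = a ^ (s * 2) := by
      rw [zpow_mul, hs, zpow_two, pow_two]; group
    rcases CfsgLib.Solv.two_pow_dvd_of_sq h2 with h | h
    · refine Or.inl (mul_inv_eq_iff_eq_mul.1 ?_)
      rw [hsq, show s * 2 = (s - 1) * 2 + 2 by ring, zpow_add, hpow _ h, one_mul, zpow_two, pow_two]
    · refine Or.inr ?_
      rw [hsq, show s * 2 = (s + 1) * 2 + (-2) by ring, zpow_add, hpow _ h, one_mul, zpow_neg, zpow_two, pow_two]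
  have hEle : Nat.card E ≤ 2 * Nat.card E0 := by
    by_cases hall : ∀ e ∈ E, Commute e (a ^ 2)
    · have : Nat.card E ≤ Nat.card E0 := Subgroup.card_le_of_le (fun e he => ⟨he, hall e he⟩)
      omega
    push Not at hall
    obtain ⟨f, hf, hfn⟩ := hall
    have hfi := (hdvd f hf).resolve_left hfn
    have hcov : (E : Set S) ⊆ (E0 : Set S) ∪ (fun x => f * x) '' (E0 : Set S) := by
      intro e he
      by_cases hec : Commute e (a ^ 2)
      · exact Or.inl ⟨he, hec⟩
      refine Or.inr ⟨f⁻¹ * e, ⟨mul_mem (inv_mem hf) he, mul_inv_eq_iff_eq_mul.1 ?_⟩, by simp⟩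
      calc f⁻¹ * e * a ^ 2 * (f⁻¹ * e)⁻¹ = f⁻¹ * (e * a ^ 2 * e⁻¹) * f := by group
        _ = a ^ 2 := by rw [(hdvd e he).resolve_left hec, ← hfi]; group
    calc Nat.card E = (E : Set S).ncard := Nat.card_coe_set_eq _
      _ ≤ _ := (Set.ncard_le_ncard hcov).trans (Set.ncard_union_le _ _)
      _ = 2 * Nat.card E0 := by
          rw [Set.ncard_image_of_injective _ (mul_right_injective f), ← Nat.card_coe_set_eq]
          simp only [SetLike.coe_sort_coe]
          ring
  -- an element of `E` acting as a transvection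
  obtain ⟨e, he, hne⟩ : ∃ e ∈ E0, ¬ Commute e a := by
    by_contra hc
    push Not at hc
    have : Nat.card E0 ≤ Nat.card (E ⊓ A : Subgroup S) :=
      Subgroup.card_le_of_le (fun f hf => Subgroup.mem_inf.2 ⟨hf.1, hcent f (hc f hf)⟩)
    omega
  obtain ⟨hwA, hw2, hw1⟩ := hwdef e he hne
  set w := e * a * e⁻¹ * a⁻¹ with hw
  have hea : e * a * e⁻¹ = w * a := by rw [hw, inv_mul_cancel_right]
  have hee : e * e = 1 := by rw [← pow_two]; exact hE2 e he.1
  have hei : e⁻¹ = e := inv_eq_of_mul_eq_one_right hee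
  have hww : w * w = 1 := by rw [← pow_two]; exact hw2
  have hwi : w⁻¹ = w := inv_eq_of_mul_eq_one_right hww
  have heA : e ∉ A := fun h => hne (hAcomm e h a haA)
  have hwc : ∀ g : S, g * w * g⁻¹ = w := fun g =>
    huA _ (hAn.conj_mem w hwA g) w hwA (by rw [conj_pow, hw2, mul_one, mul_inv_cancel]) hw2
      (fun h => hw1 (conj_eq_one_iff.1 h)) hw1
  have hwe : Commute w e := (mul_inv_eq_iff_eq_mul.1 (hwc e)).symm
  have ha4 : a ^ 4 ≠ 1 := by
    intro h4
    have hall : ∀ f ∈ E, f ∈ E0 := by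
      intro f hf
      refine ⟨hf, (hdvd f hf).elim id fun h => mul_inv_eq_iff_eq_mul.1 ?_⟩
      rw [h, inv_eq_iff_mul_eq_one, ← pow_add]
      exact h4
    have := Subgroup.card_le_of_le hall
    omega
  have hge : ∀ g : S, g * e * g⁻¹ = e ∨ g * e * g⁻¹ = w * e := by
    intro g
    have hd : g * e * g⁻¹ * e⁻¹ ∈ A := by
      refine hcent _ (mul_inv_eq_iff_eq_mul.1 ?_)
      obtain ⟨r, hr⟩ := hAa _ (hAn.conj_mem a haA g⁻¹)
      rw [inv_inv] at hr
      obtain ⟨s, hs⟩ := hAa _ (hAn.conj_mem a haA e)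
      have h1 : (g * e * g⁻¹) * a * (g * e * g⁻¹)⁻¹ = e * a * e⁻¹ := by
        calc (g * e * g⁻¹) * a * (g * e * g⁻¹)⁻¹ = g * (e * (g⁻¹ * a * g) * e⁻¹) * g⁻¹ := by group
          _ = g * (a ^ s) ^ r * g⁻¹ := by rw [← hr, ← conj_zpow, hs]
          _ = g * (a ^ r) ^ s * g⁻¹ := by rw [← zpow_mul, mul_comm, zpow_mul]
          _ = (g * a ^ r * g⁻¹) ^ s := by rw [conj_zpow]
          _ = a ^ s := by rw [hr]; group
          _ = _ := hs
      calc g * e * g⁻¹ * e⁻¹ * a * (g * e * g⁻¹ * e⁻¹)⁻¹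
          = (g * e * g⁻¹) * (e⁻¹ * a * e) * (g * e * g⁻¹)⁻¹ := by group
        _ = a := by
          have h2 : e⁻¹ * a * e = w * a := by rw [hei]; rw [← hea, hei]
          rw [h2]
          calc g * e * g⁻¹ * (w * a) * (g * e * g⁻¹)⁻¹
              = ((g * e * g⁻¹) * w * (g * e * g⁻¹)⁻¹) * ((g * e * g⁻¹) * a * (g * e * g⁻¹)⁻¹) := by group
            _ = a := by rw [hwc, h1, hea, ← mul_assoc, hww, one_mul]
    obtain ⟨i, hi⟩ := hAa _ hd
    have hx : g * e * g⁻¹ = a ^ i * e := by rw [hi, inv_mul_cancel_right]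
    have hsq : (a ^ i * e) * (a ^ i * e) = 1 := by
      rw [← hx]
      calc g * e * g⁻¹ * (g * e * g⁻¹) = g * (e * e) * g⁻¹ := by group
        _ = 1 := by simp [hee]
    have hi2 : a ^ i * (w * a) ^ i = 1 := by
      rw [← hea, conj_zpow, hei]
      simpa [mul_assoc] using hsq
    rw [(hAcomm w hwA a haA).mul_zpow] at hi2
    rcases Int.even_or_odd i with ⟨r, hr⟩ | ⟨r, hr⟩
    · have hwr : w ^ i = 1 := by rw [hr, ← two_mul, zpow_mul, zpow_two, hww, one_zpow]
      rw [hwr, one_mul, ← pow_two] at hi2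
      by_cases h1 : a ^ i = 1
      · left; rw [hx, h1, one_mul]
      · right; rw [hx, huA _ (zpow_mem haA i) w hwA hi2 hw2 h1 hw1]
    · exfalso
      have hwr : w ^ i = w := by
        rw [hr, zpow_add_one, zpow_mul, zpow_two, hww, one_zpow, one_mul]
      rw [hwr] at hi2
      have h2 : a ^ i * a ^ i = w := by
        have h3 : a ^ i * (w * a ^ i) = w * (a ^ i * a ^ i) := by
          rw [← mul_assoc, (hAcomm _ (zpow_mem haA i) w hwA).eq, mul_assoc]
        rw [h3] at hi2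
        rw [← inv_eq_of_mul_eq_one_right hi2, hwi]
      refine ha4 ?_
      have h4 : orderOf a ∣ 4 := by
        have h5 : (orderOf a : ℤ) ∣ 4 * i := orderOf_dvd_iff_zpow_eq_one.2 (by
          rw [show 4 * i = (i + i) * 2 by ring, zpow_mul, zpow_add, h2, zpow_two, hww])
        rw [hn]
        have h6 : ((2 ^ n : ℕ) : ℤ) ∣ 4 := by
          rw [hn] at h5
          refine (Int.isCoprime_iff_gcd_eq_one.2 ?_).dvd_of_dvd_mul_right h5
          rw [Int.gcd, Int.natAbs_natCast]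
          exact Nat.Coprime.pow_left n (Nat.coprime_two_left.2 (Int.natAbs_odd.2 ⟨r, hr⟩))
        exact_mod_cast h6
      exact orderOf_dvd_iff_pow_eq_one.1 h4
  -- the four subgroup
  let U : Subgroup S :=
    { carrier := {1, w, e, w * e}
      one_mem' := by simp
      mul_mem' := by
        intro x y hx hy
        have c1 : w * (w * e) = e := by rw [← mul_assoc, hww, one_mul]
        have c2 : e * (w * e) = w := by rw [← mul_assoc, ← hwe.eq, mul_assoc, hee, mul_one]
        have c3 : (w * e) * w = e := by rw [mul_assoc, ← hwe.eq, c1]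
        have c4 : (w * e) * e = w := by rw [mul_assoc, hee, mul_one]
        have c5 : (w * e) * (w * e) = 1 := by rw [mul_assoc, c2, hww]
        rcases hx with h | h | h | h <;> rcases hy with h' | h' | h' | h' <;> rw [h, h'] <;>
          simp [hww, hee, hwe.eq.symm, c1, c2, c3, c4, c5]
      inv_mem' := by
        intro x hx
        rcases hx with h | h | h | h <;> rw [h] <;> simp [hwi, hei, hwe.eq.symm] }
  refine ⟨U, ⟨?_⟩, ?_, ?_⟩
  · intro x hx g
    rcases hx with h | h | h | h <;> rw [h]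
    · show g * 1 * g⁻¹ ∈ U
      simp
    · show g * w * g⁻¹ ∈ U
      rw [hwc]; exact Or.inr (Or.inl rfl)
    · show g * e * g⁻¹ ∈ U
      rcases hge g with h | h <;> rw [h]
      · exact Or.inr (Or.inr (Or.inl rfl))
      · exact Or.inr (Or.inr (Or.inr rfl))
    · show g * (w * e) * g⁻¹ ∈ U
      have h5 : g * (w * e) * g⁻¹ = w * (g * e * g⁻¹) := by
        rw [← conj_mul, hwc]
      rw [h5]
      rcases hge g with h | h <;> rw [h]
      · exact Or.inr (Or.inr (Or.inr rfl))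
      · rw [← mul_assoc, hww, one_mul]; exact Or.inr (Or.inr (Or.inl rfl))
  · have he1 : e ≠ 1 := fun h => heA (h ▸ one_mem A)
    have hwe1 : w * e ≠ 1 := fun h => heA (by rw [eq_inv_of_mul_eq_one_right h, hwi]; exact hwA)
    have hwee : w ≠ e := fun h => heA (h ▸ hwA)
    have h6 : w * e ≠ w := fun h => he1 (mul_eq_left.1 h)
    have h7 : w * e ≠ e := fun h => hw1 (mul_eq_right.1 h)
    show Nat.card (U : Set S) = 4
    rw [Nat.card_coe_set_eq]
    show ({1, w, e, w * e} : Set S).ncard = 4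
    rw [Set.ncard_insert_of_notMem (by simp [hw1.symm, he1.symm, hwe1.symm]),
      Set.ncard_insert_of_notMem (by simp [hwee, h6.symm]),
      Set.ncard_insert_of_notMem (by simp [h7.symm]), Set.ncard_singleton]
  · intro x hx
    rcases hx with h | h | h | h <;> rw [h, pow_two]
    · simp
    · exact hww
    · exact hee
    · calc w * e * (w * e) = w * (e * w) * e := by group
        _ = w * (w * e) * e := by rw [hwe.eq]
        _ = (w * w) * (e * e) := by group
        _ = 1 := by rw [hww, hee, one_mul]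

end CfsgLib.Inv
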