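import Mathlib.GroupTheory.Index
import Mathlib.Logic.Function.Iterate
import Mathlib.GroupTheory.OrderOfElement
import Mathlib.Data.Nat.Prime.Basic
import Mathlib.Tactic.Group
import Mathlib.Tactic.Ring

/-!
Maps of odd order on a subgroup of a 2-group.
-/

set_option autoImplicit false

namespace CfsgLib.Inv

variable {S : Type*} [Group S]

/-- A function acting on the subgroup `X` as an automorphism of odd order. -/
structure OddAut (X : Subgroup S) (f : S → S) : Prop where
  mul : ∀ a ∈ X, ∀ b ∈ X, f (a * b) = f a * f b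
  maps : ∀ a ∈ X, f a ∈ X
  iter : ∃ k : ℕ, ∀ a ∈ X, f^[2 * k + 1] a = a

namespace OddAut

variable {X : Subgroup S} {f : S → S} (h : OddAut X f)

include h in
theorem iter_mem (m : ℕ) {a : S} (ha : a ∈ X) : f^[m] a ∈ X := by
  induction m with
  | zero => exact ha
  | succ m ih => rw [Function.iterate_succ_apply']; exact h.maps _ ih

include h in
theorem inj {a b : S} (ha : a ∈ X) (hb : b ∈ X) (e : f a = f b) : a = b := by
  obtain ⟨k, hk⟩ := h.iter
  rw [← hk a ha, ← hk b hb, Function.iterate_succ_apply, Function.iterate_succ_apply, e]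

include h in
theorem surj {b : S} (hb : b ∈ X) : ∃ a ∈ X, f a = b := by
  obtain ⟨k, hk⟩ := h.iter
  exact ⟨f^[2 * k] b, h.iter_mem _ hb, (Function.iterate_succ_apply' f (2 * k) b).symm.trans (hk b hb)⟩

include h in
theorem map_one : f 1 = 1 := by
  have := h.mul 1 X.one_mem 1 X.one_mem
  rw [mul_one] at this
  exact mul_eq_left.1 this.symm

include h in
theorem map_inv {a : S} (ha : a ∈ X) : f a⁻¹ = (f a)⁻¹ := by
  refine eq_inv_of_mul_eq_one_left ?_
  rw [← h.mul _ (X.inv_mem ha) _ ha, inv_mul_cancel, h.map_one]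

include h in
theorem fix_step {a i : S} (ha : a ∈ X) (hi : i ∈ X) (hfi : f i = i) (hfa : f a = i * a)
    {e : ℕ} (h2 : i ^ 2 ^ e = 1) : f a = a := by
  obtain ⟨k, hk⟩ := h.iter
  have key : ∀ m : ℕ, f^[m] a = i ^ m * a := by
    intro m
    induction m with
    | zero => simp
    | succ m ih =>
      rw [Function.iterate_succ_apply', ih, h.mul _ (X.pow_mem hi m) _ ha, hfa, pow_succ, mul_assoc]
      congr 1
      clear ih
      induction m with
      | zero => simpa using h.map_one
      | succ m ihm => rw [pow_succ, h.mul _ (X.pow_mem hi m) _ hi, ihm, hfi]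
  have hone : i ^ (2 * k + 1) = 1 := mul_eq_right.1 ((key _).symm.trans (hk a ha))
  have h1 : orderOf i = 1 := Nat.eq_one_of_dvd_coprimes
    (k := orderOf i) ((Nat.coprime_two_left.2 ⟨k, rfl⟩).pow_left e) (orderOf_dvd_of_pow_eq_one h2) (orderOf_dvd_of_pow_eq_one hone)
  rw [hfa, orderOf_eq_one_iff.1 h1, one_mul]

include h in
theorem fix_pair {u v : S} (hu : u ∈ X) (h1 : f u = u ∨ f u = v) (h2 : f u = v → f v = u ∨ f v = v) :
    f u = u := by
  rcases h1 with e | e
  · exact e
  have hv : v ∈ X := e ▸ h.maps u hu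
  rcases h2 e with e' | e'
  · obtain ⟨k, hk⟩ := h.iter
    have key : ∀ m : ℕ, f^[2 * m] u = u := by
      intro m
      induction m with
      | zero => rfl
      | succ m ih => rw [show 2 * (m + 1) = 2 * m + 1 + 1 by ring, Function.iterate_succ_apply, Function.iterate_succ_apply, e, e', ih]
    have := hk u hu
    rw [Function.iterate_succ_apply', key] at this
    exact this
  · rw [h.inj hu hv (e.trans e'.symm)]; exact e'

include h in
/-- An odd map fixing the involutions of an invariant abelian subgroup fixes it pointwise. -/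
theorem fix_abelian {A : Subgroup S} (hA : A ≤ X) (hfA : ∀ a ∈ A, f a ∈ A)
    (hab : ∀ a ∈ A, ∀ b ∈ A, a * b = b * a) (hpow : ∀ a ∈ A, ∃ e : ℕ, a ^ 2 ^ e = 1)
    (hinv : ∀ a ∈ A, a * a = 1 → f a = a) : ∀ a ∈ A, f a = a := by
  intro a ha
  obtain ⟨e, he⟩ := hpow a ha
  induction e generalizing a with
  | zero => rw [pow_zero, pow_one] at he; rw [he]; exact h.map_one
  | succ e ih =>
    have hsq : f (a * a) = a * a := ih (a * a) (A.mul_mem ha ha) (by rw [← pow_two, ← pow_mul, ← pow_succ']; exact he)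
    have hi : f a * a⁻¹ ∈ A := A.mul_mem (hfA a ha) (A.inv_mem ha)
    have hii : (f a * a⁻¹) * (f a * a⁻¹) = 1 := by
      rw [h.mul a (hA ha) a (hA ha)] at hsq
      calc (f a * a⁻¹) * (f a * a⁻¹) = f a * (a⁻¹ * f a) * a⁻¹ := by group
        _ = f a * f a * (a * a)⁻¹ := by rw [hab _ (A.inv_mem ha) _ (hfA a ha)]; group
        _ = 1 := by rw [hsq, mul_inv_cancel]
    exact h.fix_step (hA ha) (hA hi) (hinv _ hi hii) (inv_mul_cancel_right _ _).symm (e := 1) (by rw [pow_one, pow_two]; exact hii)

end OddAut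

end CfsgLib.Inv
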