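import Cfsg.Prelude.Def_RootSubgroups
import Cfsg.Agent.Solv.Basic
import Cfsg.Agent.Inv.Dihedral

/-!
Odd transpositions and the normal 2-subgroup.
-/

set_option autoImplicit false

namespace CfsgLib.Inv.OddTrans

open Cfsg
open scoped commutatorElement

variable {G : Type*} [Group G] [Finite G] {D : Set G}

theorem conj_inv {a q : G} (ha : orderOf a = 2) : (q * a * q⁻¹) * (q * a * q⁻¹) = 1 := by
  rw [show q * a * q⁻¹ * (q * a * q⁻¹) = q * (a * a) * q⁻¹ by group, invol_mul_self ha, mul_one, mul_inv_cancel]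

theorem commute_of_two_power (hD : IsOddTranspositionSet D) {a b : G} (ha : a ∈ D) (hb : b ∈ D) {m : ℕ}
    (h : (a * b) ^ 2 ^ m = 1) : a * b = b * a := by
  rcases hD.1.pair a ha b hb with h' | h' | h'
  · exact h'
  · obtain ⟨j, -, hj⟩ := (Nat.dvd_prime_pow Nat.prime_two).1 (orderOf_dvd_of_pow_eq_one h)
    rcases j with _ | j
    · have h1 : a * b = 1 := orderOf_eq_one_iff.1 hj
      have h2 : b = a⁻¹ := eq_inv_of_mul_eq_one_right h1
      rw [h2, mul_inv_cancel, inv_mul_cancel]
    · rw [hj] at h'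
      exact absurd h' (by simp [Nat.pow_succ, parity_simps])
  · exact absurd h'.1 (hD.2 a ha b hb)

theorem commute_conj (hD : IsOddTranspositionSet D) {a e q : G} (ha : a ∈ D) (he : e ∈ D) (hc : e * a = a * e)
    (hq : q ∈ pCore 2 G) : e * (q * a * q⁻¹) = (q * a * q⁻¹) * e := by
  haveI : Fact (Nat.Prime 2) := ⟨Nat.prime_two⟩
  haveI := CfsgLib.Solv.pCore_normal G 2
  have ha2 := invol_mul_self (hD.1.orderOf_eq a ha)
  have he2 := invol_mul_self (hD.1.orderOf_eq e he)
  have h2 : (e * (q * a * q⁻¹)) ^ 2 ∈ pCore 2 G := by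
    rw [← QuotientGroup.eq_one_iff, QuotientGroup.mk_pow, QuotientGroup.mk_mul, QuotientGroup.mk_mul,
      QuotientGroup.mk_mul, QuotientGroup.mk_inv, (QuotientGroup.eq_one_iff q).2 hq, inv_one, mul_one, one_mul,
      ← QuotientGroup.mk_mul, ← QuotientGroup.mk_pow, pow_two,
      show e * a * (e * a) = e * (a * e) * a by group, ← hc, show e * (e * a) * a = (e * e) * (a * a) by group,
      he2, ha2, one_mul, QuotientGroup.mk_one]
  obtain ⟨m, hm⟩ := (CfsgLib.Solv.pCore_isPGroup G 2) ⟨_, h2⟩
  refine commute_of_two_power hD he (hD.1.conj_mem a ha q) (m := m + 1) ?_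
  have h3 := congrArg Subtype.val hm
  simp only [SubmonoidClass.coe_pow, OneMemClass.coe_one] at h3
  rw [pow_succ', pow_mul]
  exact h3

theorem commutator_centralized (hD : IsOddTranspositionSet D) {a e : G} (ha : a ∈ D) (he : e ∈ D)
    (hc : e * a = a * e) : ∀ x ∈ ⁅pCore 2 G, Subgroup.zpowers a⁆, e * x = x * e := by
  have hle : ⁅pCore 2 G, Subgroup.zpowers a⁆ ≤ Subgroup.centralizer ({e} : Set G) := by
    refine Subgroup.commutator_le.2 fun q hq w hw => Subgroup.mem_centralizer_singleton_iff.2 ?_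
    obtain ⟨n, rfl⟩ := hw
    have h1 : Commute e (q * a * q⁻¹) := commute_conj hD ha he hc hq
    have h2 : Commute e (q * a ^ n * q⁻¹) := by rw [← conj_zpow]; exact h1.zpow_right n
    have h3 : Commute e (a ^ n)⁻¹ := ((show Commute e a from hc).zpow_right n).inv_right
    rw [commutatorElement_def]
    exact (h2.mul_right h3).eq.symm
  exact fun x hx => (Subgroup.mem_centralizer_singleton_iff.1 (hle hx)).symm

theorem cent_product (hD : IsOddTranspositionSet D) {a b q : G} (ha : a ∈ D) (hb : b ∈ oddPartners D a)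
    (hq : q ∈ pCore 2 G) (hc : q * (a * b) = a * b * q) : q * a = a * q := by
  obtain ⟨hb, hne, hodd⟩ := hb
  have ha2 := invol_mul_self (hD.1.orderOf_eq a ha)
  have hb2 := invol_mul_self (hD.1.orderOf_eq b hb)
  have ha' : (q * a * q⁻¹) * (q * a * q⁻¹) = 1 := conj_inv (hD.1.orderOf_eq a ha)
  set a' := q * a * q⁻¹ with ha'def
  set x := a' * a with hxdef
  have hab : a' * (q * b * q⁻¹) = a * b := by
    rw [ha'def, show q * a * q⁻¹ * (q * b * q⁻¹) = q * (a * b) * q⁻¹ by group, hc, mul_inv_cancel_right]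
  have hb' : q * b * q⁻¹ = x * b := by
    calc q * b * q⁻¹ = (a' * a') * (q * b * q⁻¹) := by rw [ha', one_mul]
      _ = a' * (a' * (q * b * q⁻¹)) := by group
      _ = x * b := by rw [hab, hxdef]; group
  have hxa : Commute x a := by
    have h1 : Commute a a' := commute_conj hD ha ha rfl hq
    exact (Commute.mul_left h1.symm (Commute.refl a))
  have hxb : Commute x b := by
    have h1 : Commute b (q * b * q⁻¹) := commute_conj hD hb hb rfl hq
    rw [hb'] at h1
    have h2 := (h1.mul_right (Commute.refl b).inv_right)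
    rw [mul_inv_cancel_right] at h2
    exact h2.symm
  have hx2 : x * x = 1 := by
    have h1 : Commute a a' := commute_conj hD ha ha rfl hq
    calc x * x = a' * (a * a') * a := by rw [hxdef]; group
      _ = (a' * a') * (a * a) := by rw [h1.eq]; group
      _ = 1 := by rw [ha', ha2, one_mul]
  have hxeq : a' = x * a := by rw [hxdef, mul_assoc, ha2, mul_one]
  by_contra hne'
  have hx1 : x ≠ 1 := fun e => hne' (by
    have h1 : a' = a := by rw [hxeq, e, one_mul]
    rw [ha'def] at h1
    exact mul_inv_eq_iff_eq_mul.1 h1)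
  have hxab : Commute x (a * b) := hxa.mul_right hxb
  have hxo : orderOf x = 2 := invol_iff.2 ⟨hx1, hx2⟩
  have hcop : (orderOf x).Coprime (orderOf (a * b)) := by
    rw [hxo]; exact hodd.coprime_two_left
  have hord : orderOf (a' * b) = 2 * orderOf (a * b) := by
    rw [hxeq, mul_assoc, hxab.orderOf_mul_eq_mul_orderOf_of_coprime hcop, hxo]
  have hab1 : orderOf (a * b) ≠ 1 := fun e => hne (by
    have h1 : a * b = 1 := orderOf_eq_one_iff.1 e
    calc b = (a * a) * b := by rw [ha2, one_mul]
      _ = a := by rw [mul_assoc, h1, mul_one])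
  rcases hD.1.pair a' (hD.1.conj_mem a ha q) b hb with h' | h' | h'
  · have h2 : (a' * b) ^ 2 = 1 := by
      rw [pow_two]
      calc a' * b * (a' * b) = a' * (b * a') * b := by group
        _ = (a' * a') * (b * b) := by rw [← h']; group
        _ = 1 := by rw [ha', hb2, one_mul]
    have h3 := orderOf_dvd_of_pow_eq_one h2
    rw [hord] at h3
    have := Nat.le_of_dvd (by norm_num) h3
    have := orderOf_pos (a * b)
    omega
  · rw [hord] at h'
    exact absurd h' (by simp [parity_simps])
  · exact hD.2 a' (hD.1.conj_mem a ha q) b hb h'.1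

end CfsgLib.Inv.OddTrans
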