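import Cfsg.Agent.Inv.PClosed
import Cfsg.Agent.Inv.CharPLocal
import Cfsg.Agent.Solv.CoprimeSylow
import Cfsg.Agent.Solv.Subnormal
import Cfsg.Prelude.Def_LocalEven

/-!
Basic structure of `p`-minimal groups.
-/

set_option autoImplicit false
set_option linter.style.haveILetI false

namespace CfsgLib.Inv.PMin

open Cfsg
open scoped Pointwise

variable {P : Type*} [Group P] [Finite P] {p : ℕ} [hp : Fact p.Prime]

/-- Every proper subgroup over `S` lies in `M`. -/
def Over (S : Sylow p P) (M : Subgroup P) : Prop :=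
  IsCoatom M ∧ (S : Subgroup P) ≤ M ∧ ∀ X : Subgroup P, (S : Subgroup P) ≤ X → X ≠ ⊤ → X ≤ M

theorem over_of_pMinimal (h : IsPMinimal p P) (S : Sylow p P) :
    ¬ (S : Subgroup P).Normal ∧ ∃ M, Over S M := by
  obtain ⟨hnn, M, ⟨hM, hSM⟩, huniq⟩ := h S
  refine ⟨hnn, M, hM, hSM, fun X hSX hX => ?_⟩
  obtain ⟨Z, hZ, hXZ⟩ := (eq_top_or_exists_le_coatom X).resolve_left hX
  exact hXZ.trans (huniq Z ⟨hZ, hSX.trans hXZ⟩).le

theorem over_eq (h : IsPMinimal p P) (S : Sylow p P) {M : Subgroup P} (hM : IsCoatom M)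
    (hSM : (S : Subgroup P) ≤ M) : Over S M := by
  obtain ⟨-, M', hM'⟩ := over_of_pMinimal h S
  obtain rfl : M = M' := by
    rcases eq_or_lt_of_le (hM'.2.2 M hSM hM.1) with e | e
    · exact e
    · exact absurd (hM.2 _ e) hM'.1.1
  exact hM'

theorem inf_normal {S : Sylow p P} {M : Subgroup P} (h : Over S M) (N : Subgroup P) [hN : N.Normal] (hNM : N ≤ M) :
    ((S : Subgroup P) ⊓ N).Normal := by
  obtain ⟨R, hR⟩ := sylow_inf_normal S N
  have hfr : Subgroup.normalizer (((S : Subgroup P) ⊓ N : Subgroup P) : Set P) ⊔ N = ⊤ := by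
    rw [← hR]; exact Sylow.normalizer_sup_eq_top R
  refine Subgroup.normalizer_eq_top_iff.1 ?_
  by_contra hne
  refine h.1.1 (top_le_iff.1 (hfr ▸ sup_le (h.2.2 _ ?_ hne) hNM))
  rw [CfsgLib.Solv.le_normalizer_iff_forall_conj_mem]
  intro t ht x hx
  exact Subgroup.mem_inf.2 ⟨mul_mem (mul_mem ht (Subgroup.mem_inf.1 hx).1) (inv_mem ht),
    hN.conj_mem x (Subgroup.mem_inf.1 hx).2 t⟩

/-- A subnormal subgroup inside `M` meets `S` in the `p`-core. -/
theorem subnormal_inf_le {S : Sylow p P} {M : Subgroup P} (h : Over S M) {N : Subgroup P} (hN : N.IsSubnormal)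
    (hNM : N ≤ M) : N ⊓ (S : Subgroup P) ≤ pCore p P := by
  haveI := inf_normal h M.normalCore M.normalCore_le
  refine le_trans ?_ (CfsgLib.Solv.le_pCore (N := (S : Subgroup P) ⊓ M.normalCore) (S.isPGroup'.to_le inf_le_left))
  exact le_inf inf_le_right (inf_le_left.trans (CfsgLib.Solv.subnormal_le_normalCore h.1 hN hNM))

theorem normal_dichotomy {S : Sylow p P} {M : Subgroup P} (h : Over S M) (N : Subgroup P) [hN : N.Normal] :
    pResidual p P ≤ N ∨ N ≤ M.normalCore := by
  by_cases ht : (S : Subgroup P) ⊔ N = ⊤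
  · exact Or.inl (pResidual_le_of_sup S.isPGroup' (ht ▸ le_top))
  · exact Or.inr (Subgroup.normal_le_normalCore.2 (le_sup_right.trans (h.2.2 _ le_sup_left ht)))

theorem residual_not_le {S : Sylow p P} {M : Subgroup P} (h : Over S M) : ¬ pResidual p P ≤ M := fun hle =>
  h.1.1 (top_le_iff.1 (pResidual_sup_sylow S ▸ sup_le hle h.2.1))

/-- A normal `p'`-subgroup supplementing `S` has prime power order. -/
theorem pPrime_supplement {S : Sylow p P} {M : Subgroup P} (h : Over S M) (K : Subgroup P) [hK : K.Normal]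
    (hcop : (Nat.card K).Coprime p) (hsup : (S : Subgroup P) ⊔ K = ⊤) :
    ∃ q : ℕ, q.Prime ∧ IsPGroup q K := by
  by_contra hno
  push Not at hno
  have hSK : (S : Subgroup P) ≤ Subgroup.normalizer (K : Set P) := by
    rw [Subgroup.normalizer_eq_top]; exact le_top
  obtain ⟨n, hn⟩ := S.isPGroup'.exists_card_eq
  have hcop' : (Nat.card (S : Subgroup P)).Coprime (Nat.card K) := by rw [hn]; exact hcop.symm.pow_left n
  haveI : Group.IsNilpotent (S : Subgroup P) := S.isPGroup'.isNilpotent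
  have hQM : ∀ q : ℕ, [Fact q.Prime] → ∃ Q : Sylow q K, (Q : Subgroup K).map K.subtype ≤ M := by
    intro q _
    obtain ⟨Q, hQ⟩ := CfsgLib.Solv.exists_invariant_sylow (p := q) hSK hcop' (Or.inl inferInstance)
    refine ⟨Q, le_sup_right.trans (h.2.2 ((S : Subgroup P) ⊔ (Q : Subgroup K).map K.subtype) le_sup_left fun e => ?_)⟩
    refine hno q Fact.out (Q.isPGroup'.of_equiv ?_)
    have hcards : Nat.card (Q : Subgroup K) = Nat.card K := by
      have h1 : Nat.card P ≤ Nat.card (S : Subgroup P) * Nat.card (Q : Subgroup K) := by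
        rw [← Subgroup.card_top (G := P), ← e, ← CfsgLib.Solv.card_map_subtype K (Q : Subgroup K),
          CfsgLib.Solv.card_sup_of_le_normalizer hQ
            (hcop'.of_dvd_right (Subgroup.card_dvd_of_le (Subgroup.map_subtype_le _)))]
      have h2 : Nat.card (S : Subgroup P) * Nat.card K = Nat.card P := by
        rw [← Subgroup.card_top (G := P), ← hsup,
          CfsgLib.Solv.card_sup_of_le_normalizer hSK hcop']
      exact le_antisymm (Subgroup.card_le_card_group _) (Nat.le_of_mul_le_mul_left (h2 ▸ h1) Nat.card_pos)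
    exact (MulEquiv.subgroupCongr (Subgroup.eq_top_of_card_eq _ hcards)).trans Subgroup.topEquiv
  refine residual_not_le h ((pResidual_le_of_sup S.isPGroup' (hsup ▸ le_top)).trans ?_)
  have hd : Nat.card K ∣ Nat.card ↥(K ⊓ M) := by
    rw [Nat.dvd_iff_prime_pow_dvd_dvd]
    intro q k hq hqk
    haveI := Fact.mk hq
    obtain ⟨Q, hQ⟩ := hQM q
    refine ((Q.pow_dvd_card_of_pow_dvd_card hqk).trans ?_)
    rw [← CfsgLib.Solv.card_map_subtype K (Q : Subgroup K)]
    exact Subgroup.card_dvd_of_le (le_inf (Subgroup.map_subtype_le _) hQ)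
  rw [← Subgroup.eq_of_le_of_card_ge (inf_le_left : K ⊓ M ≤ K) (Nat.le_of_dvd Nat.card_pos hd)]
  exact inf_le_right

theorem over_map {Q : Type*} [Group Q] {S : Sylow p P} {M : Subgroup P} (h : Over S M) (f : P →* Q)
    (hf : Function.Surjective f) (hker : f.ker ≤ M) : Over (S.mapSurjective hf) (M.map f) := by
  have hcomap : (M.map f).comap f = M := Subgroup.comap_map_eq_self hker
  refine ⟨⟨fun e => h.1.1 (by rw [← hcomap, e, Subgroup.comap_top]), fun X hX => ?_⟩, ?_, fun X hSX hX => ?_⟩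
  · have h1 : M < X.comap f := lt_of_le_of_ne (Subgroup.map_le_iff_le_comap.1 hX.le) fun e => hX.ne (by
      rw [e, Subgroup.map_comap_eq_self_of_surjective hf])
    rw [← Subgroup.map_comap_eq_self_of_surjective hf X, h.1.2 _ h1, Subgroup.map_top_of_surjective f hf]
  · rw [Sylow.coe_mapSurjective]; exact Subgroup.map_mono h.2.1
  · rw [Sylow.coe_mapSurjective] at hSX
    rw [← Subgroup.map_comap_eq_self_of_surjective hf X]
    refine Subgroup.map_mono (h.2.2 _ (Subgroup.map_le_iff_le_comap.1 hSX) fun e => hX ?_)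
    rw [← Subgroup.map_comap_eq_self_of_surjective hf X, e, Subgroup.map_top_of_surjective f hf]

end CfsgLib.Inv.PMin
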