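import Cfsg.Agent.Inv.PMinimalBasic
import Cfsg.Agent.Inv.Component
import Cfsg.Agent.Inv.FStarAction
import Cfsg.Agent.Inv.Transfer
import Cfsg.Agent.Solv.CompBasic
import Mathlib.GroupTheory.Transfer

/-!
Components of `p`-minimal groups with trivial `p`-core.
-/

set_option autoImplicit false
set_option linter.style.haveILetI false

namespace CfsgLib.Inv.PMin

open Cfsg
open scoped Pointwise commutatorElement

variable {P : Type*} [Group P] [Finite P] {p : ℕ} [hp : Fact p.Prime]

theorem isPMinimal_of_over (S : Sylow p P) (hn : ¬ (S : Subgroup P).Normal) {M : Subgroup P} (h : Over S M) :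
    IsPMinimal p P := by
  intro S'
  obtain ⟨g, hg⟩ := MulAction.exists_smul_eq P S S'
  have h' := over_map h (MulAut.conj g).toMonoidHom (MulAut.conj g).surjective (by
    rw [(MonoidHom.ker_eq_bot_iff _).2 (MulAut.conj g).injective]; exact bot_le)
  have e : S.mapSurjective (f := (MulAut.conj g).toMonoidHom) (MulAut.conj g).surjective = S' := Sylow.ext (by
    refine (Sylow.coe_mapSurjective _ S).trans ?_
    rw [← hg, Sylow.coe_subgroup_smul, CfsgLib.Solv.conj_smul_eq_map])
  rw [e] at h'
  refine ⟨fun hn' => hn ?_, _, ⟨h'.1, h'.2.1⟩, fun N hN => ?_⟩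
  · haveI := Sylow.unique_of_normal S' hn'
    rwa [Subsingleton.elim S S']
  · rcases eq_or_lt_of_le (h'.2.2 N hN.2 hN.1.1) with e1 | e1
    · exact e1
    · exact absurd (hN.1.2 _ e1) h'.1.1

theorem sylow_inf_maximal (S : Sylow p P) {L : Subgroup P} (hL : L.IsSubnormal) {A : Subgroup P}
    (hA : A ≤ L) (hAp : IsPGroup p A) (hle : (S : Subgroup P) ⊓ L ≤ A) : A = (S : Subgroup P) ⊓ L := by
  obtain ⟨Q, hQ⟩ := CfsgLib.Inv.sylow_subnormal S hL
  have h1 : A.subgroupOf L = Q :=
    Q.3 (hAp.comap_of_injective _ L.subtype_injective) fun y hy =>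
      Subgroup.mem_subgroupOf.2 (hle (hQ ▸ Subgroup.mem_map_of_mem L.subtype hy))
  rw [← hQ, ← h1, Subgroup.map_subgroupOf_eq_of_le hA]

/-- A perfect group with central Sylow `p`-subgroup is a `p'`-group. -/
theorem sylow_eq_bot_of_central [Group.IsPerfect P] (Q : Sylow p P)
    (hc : (Q : Subgroup P) ≤ Subgroup.center P) : (Q : Subgroup P) = ⊥ := by
  have hN : Subgroup.normalizer ((Q : Subgroup P) : Set P) ≤ Subgroup.centralizer ((Q : Subgroup P) : Set P) :=
    fun x _ => Subgroup.mem_centralizer_iff.2 fun h hh => (Subgroup.mem_center_iff.1 (hc hh) x).symm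
  have hker : (MonoidHom.transferSylow Q hN).ker = ⊤ := top_le_iff.1 fun x _ =>
    MonoidHom.mem_ker.2 (CfsgLib.Solv.hom_eq_one_of_perfect Group.IsPerfect.commutator_eq_top _
      (fun a b => Subtype.ext (Subgroup.mem_center_iff.1 (hc (MonoidHom.transferSylow Q hN b).2) _)) x)
  have h := (MonoidHom.ker_transferSylow_isComplement' Q hN).disjoint
  rw [hker] at h
  exact top_disjoint.1 h

section Comp

variable (hP : IsPMinimal p P) (hOp : pCore p P = ⊥) (S : Sylow p P) (K : Subgroup P)
  (hK : IsComponent K)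
include hP hOp hK S

theorem core_nilpotent {M : Subgroup P} (h : Over S M) : Group.IsNilpotent M.normalCore := by
  set F := M.normalCore with hF
  have hbot : F ⊓ (S : Subgroup P) = ⊥ := le_bot_iff.1
    (hOp ▸ subnormal_inf_le h M.normalCore_normal.isSubnormal M.normalCore_le)
  have hcop : (Nat.card F).Coprime p := by
    rw [Nat.coprime_comm, hp.out.coprime_iff_not_dvd]
    intro hd
    obtain ⟨Q, hQ⟩ := CfsgLib.Inv.sylow_inf_normal S F
    rw [inf_comm, hbot, Subgroup.map_eq_bot_iff_of_injective _ F.subtype_injective] at hQ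
    exact Q.not_dvd_index (by rw [hQ, Subgroup.index_bot]; exact hd)
  obtain ⟨n, hn⟩ := S.isPGroup'.exists_card_eq
  have hcop' : (Nat.card (S : Subgroup P)).Coprime (Nat.card F) := by rw [hn]; exact hcop.symm.pow_left n
  haveI : Group.IsNilpotent (S : Subgroup P) := S.isPGroup'.isNilpotent
  have hSF : (S : Subgroup P) ≤ Subgroup.normalizer (F : Set P) := by
    rw [Subgroup.normalizer_eq_top]; exact le_top
  refine ((Group.isNilpotent_of_finite_tfae (G := F)).out 0 3).2 fun q hq Q => ?_
  haveI := hq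
  obtain ⟨R, hR⟩ := CfsgLib.Solv.exists_invariant_sylow (p := q) hSF hcop' (Or.inl inferInstance)
  have hRn : ((R : Subgroup F).map F.subtype).Normal := by
    refine Subgroup.normalizer_eq_top_iff.1 ?_
    by_contra hne
    refine h.1.1 (top_le_iff.1 (Sylow.normalizer_sup_eq_top R ▸ sup_le (h.2.2 _ hR hne) M.normalCore_le))
  have hRn' : (R : Subgroup F).Normal := by
    have := hRn.subgroupOf F
    rwa [← Subgroup.comap_subtype, Subgroup.comap_map_eq_self_of_injective F.subtype_injective] at this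
  haveI := Sylow.unique_of_normal R hRn'
  rwa [Subsingleton.elim Q R]

theorem not_le_core {M : Subgroup P} (h : Over S M) {U : Subgroup P} (hU : K ≤ U) : ¬ U ≤ M.normalCore :=
  fun hle => by
    haveI := core_nilpotent hP hOp S K hK h
    exact component_not_le_solvable hK (H := M.normalCore) inferInstance (hU.trans hle)

theorem residual_eq_layer : pResidual p P = layer P := by
  obtain ⟨-, M, h⟩ := over_of_pMinimal hP S
  haveI := layer_normal (G := P)
  refine le_antisymm ((normal_dichotomy h (layer P)).resolve_right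
    (not_le_core hP hOp S K hK h (component_le_layer hK))) ?_
  haveI := CfsgLib.Inv.pResidual_normal p P
  haveI := (CfsgLib.Inv.isPGroup_quot_pResidual (G := P) (p := p)).isNilpotent
  have hs : ⁅(layer P).map (QuotientGroup.mk' (pResidual p P)),
      (layer P).map (QuotientGroup.mk' (pResidual p P))⁆ = (layer P).map (QuotientGroup.mk' (pResidual p P)) := by
    rw [← Subgroup.map_commutator, layer_perfect]
  rcases eq_or_ne ((layer P).map (QuotientGroup.mk' (pResidual p P))) ⊥ with e | e
  · rw [Subgroup.map_eq_bot_iff, QuotientGroup.ker_mk'] at e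
    exact e
  · exfalso
    haveI : Group.IsPerfect ↥((layer P).map (QuotientGroup.mk' (pResidual p P))) :=
      ⟨Subgroup.map_injective (Subgroup.subtype_injective _) (by
        rw [commutator_def, Subgroup.map_commutator, ← MonoidHom.range_eq_map, Subgroup.range_subtype, hs])⟩
    haveI : Nontrivial ↥((layer P).map (QuotientGroup.mk' (pResidual p P))) :=
      (Subgroup.nontrivial_iff_ne_bot _).2 e
    exact Group.IsPerfect.not_isSolvable ↥((layer P).map (QuotientGroup.mk' (pResidual p P))) inferInstance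

theorem fitting_le_layer : fittingSubgroup P ≤ layer P := by
  rw [← residual_eq_layer hP hOp S K hK]
  intro x hx
  refine CfsgLib.Inv.mem_pResidual (Nat.Coprime.coprime_dvd_left ?_ (FStar.fitting_coprime hOp))
  exact Subgroup.orderOf_dvd_natCard _ hx

theorem layer_eq_iSup :
    layer P = ⨆ s : ↥(S : Subgroup P), K.map (MulAut.conj (s : P)).toMonoidHom := by
  obtain ⟨-, M, h⟩ := over_of_pMinimal hP S
  set U := ⨆ s : ↥(S : Subgroup P), K.map (MulAut.conj (s : P)).toMonoidHom with hUdef
  have hUle : U ≤ layer P := iSup_le fun s => component_le_layer (isComponent_conj hK _)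
  have hKU : K ≤ U := by
    refine le_trans ?_ (le_iSup (fun s : ↥(S : Subgroup P) => K.map (MulAut.conj (s : P)).toMonoidHom) 1)
    intro x hx
    exact CfsgLib.Solv.mem_map_conj_iff.2 (by simpa using hx)
  have hE : layer P ≤ Subgroup.normalizer (U : Set P) := fun e he =>
    Subgroup.iInf_normalizer_le_normalizer_iSup _ (Subgroup.mem_iInf.2 fun s =>
      component_normal_in_layer (isComponent_conj hK _) he)
  have hS : (S : Subgroup P) ≤ Subgroup.normalizer (U : Set P) := by
    rw [CfsgLib.Solv.le_normalizer_iff_forall_conj_mem]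
    intro s hs x hx
    have h1 : U.map (MulAut.conj s).toMonoidHom ≤ U := by
      rw [hUdef, Subgroup.map_iSup]
      refine iSup_le fun t => le_trans (le_of_eq ?_)
        (le_iSup (fun s : ↥(S : Subgroup P) => K.map (MulAut.conj (s : P)).toMonoidHom) (⟨s, hs⟩ * t))
      rw [Subgroup.map_map]
      congr 1
      ext y
      simp [mul_assoc]
    exact h1 ⟨x, hx, by simp⟩
  haveI : U.Normal := Subgroup.normalizer_eq_top_iff.1 (top_le_iff.1
    ((pResidual_sup_sylow (p := p) S).ge.trans
      (sup_le ((residual_eq_layer hP hOp S K hK).le.trans hE) hS)))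
  exact le_antisymm ((residual_eq_layer hP hOp S K hK).ge.trans
    ((normal_dichotomy h U).resolve_right (not_le_core hP hOp S K hK h hKU))) hUle

theorem inf_component_not_central :
    ¬ ((S : Subgroup P) ⊓ K).subgroupOf K ≤ Subgroup.center K := by
  intro hc
  obtain ⟨-, M, h⟩ := over_of_pMinimal hP S
  obtain ⟨Q, hQ⟩ := CfsgLib.Inv.sylow_subnormal S hK.1
  have e : ((S : Subgroup P) ⊓ K).subgroupOf K = Q := by
    rw [← hQ, ← Subgroup.comap_subtype, Subgroup.comap_map_eq_self_of_injective K.subtype_injective]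
  rw [e] at hc
  haveI := hK.2.1
  have hQ1 := sylow_eq_bot_of_central Q hc
  have hKc : (Nat.card K).Coprime p := by
    rw [Nat.coprime_comm, hp.out.coprime_iff_not_dvd]
    intro hd
    exact Q.not_dvd_index (by rw [hQ1, Subgroup.index_bot]; exact hd)
  have hEc : (Nat.card ↥(layer P)).Coprime p := by
    have h1 : (pPrimeCore p ↥(layer P)) = ⊤ := by
      refine top_le_iff.1 fun x _ => ?_
      have h2 : layer P ≤ (pPrimeCore p ↥(layer P)).map (layer P).subtype := by
        refine (layer_eq_iSup hP hOp S K hK).le.trans (iSup_le fun s => ?_)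
        set K' := K.map (MulAut.conj (s : P)).toMonoidHom with hK'
        have hle : K' ≤ layer P := component_le_layer (isComponent_conj hK _)
        haveI : (K'.subgroupOf (layer P)).Normal := (Subgroup.normal_subgroupOf_iff_le_normalizer hle).2
          (component_normal_in_layer (isComponent_conj hK _))
        rw [← Subgroup.map_subgroupOf_eq_of_le hle]
        refine Subgroup.map_mono (CfsgLib.Solv.le_pPrimeCore ?_)
        rw [CfsgLib.Solv.card_subgroupOf hle, hK', Subgroup.card_map_of_injective (MulAut.conj (s : P)).injective]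
        exact hKc
      obtain ⟨y, hy, hyx⟩ := h2 x.2
      rwa [← show y = x from Subtype.ext hyx]
    have := CfsgLib.Solv.pPrimeCore_coprime ↥(layer P) (p := p)
    rwa [h1, Subgroup.card_top] at this
  haveI := layer_normal (G := P)
  obtain ⟨q, hq, hEq⟩ := pPrime_supplement h (layer P) hEc (by
    rw [← residual_eq_layer hP hOp S K hK, sup_comm, pResidual_sup_sylow])
  haveI := Fact.mk hq
  haveI := hEq.isNilpotent
  exact component_not_le_solvable hK (H := layer P) inferInstance (component_le_layer hK)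

omit hP hOp S in
theorem layer_le_sup : layer P ≤ K ⊔ (layer P ⊓ Subgroup.centralizer (K : Set P)) := by
  refine sSup_le fun L hL => ?_
  by_cases e : L = K
  · exact e ▸ le_sup_left
  · exact le_sup_of_le_right (le_inf (component_le_layer hL)
      (Subgroup.commutator_eq_bot_iff_le_centralizer.1 (components_commute hL hK e)))

omit hP hOp in
theorem sylow_inf_layer_le :
    (S : Subgroup P) ⊓ layer P ≤
      ((S : Subgroup P) ⊓ K) ⊔ (layer P ⊓ Subgroup.centralizer (K : Set P)) := by
  intro x hx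
  set C := layer P ⊓ Subgroup.centralizer (K : Set P) with hC
  have hCK : C ≤ Subgroup.normalizer (K : Set P) :=
    inf_le_right.trans (Subgroup.centralizer_le_normalizer (K : Set P))
  obtain ⟨k, hk, c, hc, rfl⟩ : x ∈ (K : Set P) * (C : Set P) := by
    rw [← Subgroup.coe_mul_of_right_le_normalizer_left K C hCK]
    exact layer_le_sup K hK (Subgroup.mem_inf.1 hx).2
  set W := ((S : Subgroup P) ⊓ K) ⊔ C with hW
  suffices hkW : k ∈ W from mul_mem hkW (Subgroup.mem_sup_right hc)
  have hcomm : Commute k c := Subgroup.mem_centralizer_iff.1 (Subgroup.mem_inf.1 hc).2 k hk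
  obtain ⟨n, hn⟩ := S.isPGroup'.exists_card_eq
  have hkn : k ^ p ^ n ∈ W := by
    refine Subgroup.mem_sup_right ?_
    have h1 : (k * c) ^ p ^ n = 1 := by
      rw [← hn]
      exact orderOf_dvd_iff_pow_eq_one.1 (Subgroup.orderOf_dvd_natCard _ (Subgroup.mem_inf.1 hx).1)
    rw [hcomm.mul_pow, mul_eq_one_iff_eq_inv] at h1
    rw [h1]
    exact inv_mem (pow_mem hc _)
  obtain ⟨a, m, hm, he⟩ := Nat.exists_eq_pow_mul_and_not_dvd (orderOf_pos k).ne' p hp.out.ne_one
  have hnorm : k ∈ Subgroup.normalizer (((S : Subgroup P) ⊓ K : Subgroup P) : Set P) := by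
    have hcn : c ∈ Subgroup.normalizer (((S : Subgroup P) ⊓ K : Subgroup P) : Set P) :=
      Subgroup.centralizer_le_normalizer _ (Subgroup.centralizer_le
        (SetLike.coe_subset_coe.2 (inf_le_right : (S : Subgroup P) ⊓ K ≤ K)) (Subgroup.mem_inf.1 hc).2)
    have hxn : k * c ∈ Subgroup.normalizer (((S : Subgroup P) ⊓ K : Subgroup P) : Set P) := by
      have h1 := Subgroup.mem_normalizer_iff_map_conj_eq.1 (Subgroup.le_normalizer (Subgroup.mem_inf.1 hx).1 :
        k * c ∈ Subgroup.normalizer ((S : Subgroup P) : Set P))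
      have h2 := Subgroup.mem_normalizer_iff_map_conj_eq.1 (mul_mem (Subgroup.le_normalizer hk) (hCK hc))
      rw [Subgroup.mem_normalizer_iff_map_conj_eq, Subgroup.map_inf _ _ _ (MulAut.conj (k * c)).injective, h1, h2]
    simpa using mul_mem hxn (inv_mem hcn)
  have hkm : k ^ m ∈ W := by
    refine Subgroup.mem_sup_left ?_
    have hpg : IsPGroup p (Subgroup.zpowers (k ^ m)) := IsPGroup.of_card (n := a) (by
      rw [Nat.card_zpowers, orderOf_pow, he, Nat.gcd_eq_right (dvd_mul_left _ _),
        Nat.mul_div_cancel _ (Nat.pos_of_ne_zero fun e => by simp [e] at hm)])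
    have hsup := IsPGroup.to_sup_of_normal_right' hpg
      (S.isPGroup'.to_le (inf_le_left : (S : Subgroup P) ⊓ K ≤ S))
      (Subgroup.zpowers_le.2 (pow_mem hnorm m))
    have := sylow_inf_maximal S hK.1 (sup_le (Subgroup.zpowers_le.2 (pow_mem hk m)) inf_le_right) hsup le_sup_right
    exact this ▸ Subgroup.mem_sup_left (Subgroup.mem_zpowers _)
  have hg : Int.gcd ((p ^ n : ℕ) : ℤ) (m : ℤ) = 1 := by
    rw [Int.gcd_natCast_natCast]
    exact ((hp.out.coprime_iff_not_dvd.2 hm).pow_left n)
  have hb := Int.gcd_eq_gcd_ab ((p ^ n : ℕ) : ℤ) (m : ℤ)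
  rw [hg, Nat.cast_one] at hb
  rw [← zpow_one k, hb, zpow_add, zpow_mul, zpow_mul, zpow_natCast, zpow_natCast]
  exact mul_mem (zpow_mem hkn _) (zpow_mem hkm _)

theorem main :
    IsPMinimal p ↥(K ⊔ ((S : Subgroup P) ⊓ Subgroup.normalizer (K : Set P))) := by
  obtain ⟨-, M, h⟩ := over_of_pMinimal hP S
  set T := (S : Subgroup P) ⊓ Subgroup.normalizer (K : Set P) with hT
  set Y := K ⊔ T with hY
  have hTK : T ≤ Subgroup.normalizer (K : Set P) := inf_le_right
  have hSK : (S : Subgroup P) ⊓ K ≤ T := le_inf inf_le_left (inf_le_right.trans Subgroup.le_normalizer)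
  have hYd : ∀ x ∈ Y, ∃ k ∈ K, ∃ t ∈ T, k * t = x := fun x hx =>
    Set.mem_mul.1 (Subgroup.coe_mul_of_right_le_normalizer_left K T hTK ▸ hx : x ∈ (K : Set P) * (T : Set P))
  have hTp : IsPGroup p T := S.isPGroup'.to_le inf_le_left
  obtain ⟨R, hR⟩ := (hTp.comap_of_injective Y.subtype Y.subtype_injective).exists_le_sylow
  have hRT : (R : Subgroup Y).map Y.subtype = T := by
    refine le_antisymm ?_ ?_
    · intro x hx
      have hTR : T ≤ (R : Subgroup Y).map Y.subtype := fun t ht =>
        ⟨⟨t, Subgroup.mem_sup_right ht⟩, hR ht, rfl⟩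
      obtain ⟨k, hk, t, ht, rfl⟩ := hYd x (Subgroup.map_subtype_le _ hx)
      have hk' : k ∈ (R : Subgroup Y).map Y.subtype ⊓ K :=
        Subgroup.mem_inf.2 ⟨by simpa using mul_mem hx (inv_mem (hTR ht)), hk⟩
      have e := sylow_inf_maximal S hK.1 (A := (R : Subgroup Y).map Y.subtype ⊓ K) inf_le_right
        ((R.isPGroup'.map _).to_le inf_le_left) (le_inf (hSK.trans hTR) inf_le_right)
      exact mul_mem (hSK (e ▸ hk')) ht
    · exact fun t ht => ⟨⟨t, Subgroup.mem_sup_right ht⟩, hR ht, rfl⟩
  have hRn : ¬ (R : Subgroup Y).Normal := by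
    intro hn
    have hle : (S : Subgroup P) ⊓ K ≤ K := inf_le_right
    have hnK : K ≤ Subgroup.normalizer (((S : Subgroup P) ⊓ K : Subgroup P) : Set P) := by
      rw [CfsgLib.Solv.le_normalizer_iff_forall_conj_mem]
      intro k hk x hx
      have hxT : x ∈ T := hSK hx
      obtain ⟨r, hr, hrx⟩ : x ∈ (R : Subgroup Y).map Y.subtype := hRT.ge hxT
      have h1 : k * x * k⁻¹ ∈ T := by
        rw [← hRT]
        exact ⟨_, hn.conj_mem r hr ⟨k, Subgroup.mem_sup_left hk⟩, by simp [← hrx]⟩
      exact Subgroup.mem_inf.2 ⟨(Subgroup.mem_inf.1 h1).1,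
        mul_mem (mul_mem hk (Subgroup.mem_inf.1 hx).2) (inv_mem hk)⟩
    haveI := (Subgroup.normal_subgroupOf_iff_le_normalizer hle).2 hnK
    rcases quasisimple_normal hK.2 (((S : Subgroup P) ⊓ K).subgroupOf K) with e | e
    · exact inf_component_not_central hP hOp S K hK e
    · rw [Subgroup.subgroupOf_eq_top] at e
      haveI := (S.isPGroup'.to_le (e.trans inf_le_left)).isNilpotent
      exact component_not_solvable hK inferInstance
  have hMY : ∀ X : Subgroup P, T ≤ X → X ≤ Y → ¬ K ≤ X → X ≤ M := by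
    intro X hTX hXY hKX
    set X0 := X ⊓ K with hX0
    set Xs := ⨆ s : ↥(S : Subgroup P), X0.map (MulAut.conj (s : P)).toMonoidHom with hXs
    set C := layer P ⊓ Subgroup.centralizer (K : Set P) with hC
    have hSXs : (S : Subgroup P) ≤ Subgroup.normalizer (Xs : Set P) := by
      rw [CfsgLib.Solv.le_normalizer_iff_forall_conj_mem]
      intro s hs x hx
      have h1 : Xs.map (MulAut.conj s).toMonoidHom ≤ Xs := by
        rw [hXs, Subgroup.map_iSup]
        refine iSup_le fun t => le_trans (le_of_eq ?_)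
          (le_iSup (fun s : ↥(S : Subgroup P) => X0.map (MulAut.conj (s : P)).toMonoidHom) (⟨s, hs⟩ * t))
        rw [Subgroup.map_map]
        congr 1
        ext y
        simp [mul_assoc]
      exact h1 ⟨x, hx, by simp⟩
    have hXsE : Xs ≤ layer P := iSup_le fun s =>
      (Subgroup.map_mono inf_le_right).trans (component_le_layer (isComponent_conj hK _))
    have hXsC : Xs ≤ X0 ⊔ C := by
      refine iSup_le fun s => ?_
      by_cases hs : (s : P) ∈ Subgroup.normalizer (K : Set P)
      · refine le_sup_of_le_left ?_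
        rintro _ ⟨x, hx, rfl⟩
        have hsX : (s : P) ∈ X := hTX (Subgroup.mem_inf.2 ⟨s.2, hs⟩)
        exact Subgroup.mem_inf.2 ⟨mul_mem (mul_mem hsX (Subgroup.mem_inf.1 hx).1) (inv_mem hsX),
          (Subgroup.mem_normalizer_iff.1 hs x).1 (Subgroup.mem_inf.1 hx).2⟩
      · refine le_sup_of_le_right ((Subgroup.map_mono inf_le_right).trans
          (le_inf (component_le_layer (isComponent_conj hK _)) ?_))
        exact Subgroup.commutator_eq_bot_iff_le_centralizer.1 (components_commute (isComponent_conj hK _) hK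
          fun e => hs (Subgroup.mem_normalizer_iff_map_conj_eq.2 e))
    have hne : Xs ⊔ (S : Subgroup P) ≠ ⊤ := by
      intro e
      have hX0C : C ≤ Subgroup.normalizer (X0 : Set P) := fun c hc =>
        Subgroup.centralizer_le_normalizer _ (Subgroup.centralizer_le
          (SetLike.coe_subset_coe.2 (inf_le_right : X0 ≤ K)) (Subgroup.mem_inf.1 hc).2)
      have hE : layer P ≤ X0 ⊔ C := by
        intro x hx
        obtain ⟨a, ha, b, hb, rfl⟩ : x ∈ (Xs : Set P) * ((S : Subgroup P) : Set P) := by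
          rw [← Subgroup.coe_mul_of_right_le_normalizer_left Xs _ hSXs, e]; trivial
        have hbE : b ∈ layer P := by simpa using mul_mem (inv_mem (hXsE ha)) hx
        refine mul_mem (hXsC ha) ?_
        refine (sup_le_sup_right ?_ C) (sylow_inf_layer_le S K hK (Subgroup.mem_inf.2 ⟨hb, hbE⟩))
        exact le_inf (hSK.trans hTX) inf_le_right
      refine hKX ((component_commutator hK).ge.trans ?_)
      rw [Subgroup.commutator_le]
      intro k hk l hl
      obtain ⟨a, ha, c, hc, rfl⟩ : k ∈ (X0 : Set P) * (C : Set P) := by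
        rw [← Subgroup.coe_mul_of_right_le_normalizer_left X0 C hX0C]
        exact hE (component_le_layer hK hk)
      obtain ⟨b, hb, d, hd, rfl⟩ : l ∈ (X0 : Set P) * (C : Set P) := by
        rw [← Subgroup.coe_mul_of_right_le_normalizer_left X0 C hX0C]
        exact hE (component_le_layer hK hl)
      have hcK : c ∈ K := by simpa using mul_mem (inv_mem (Subgroup.mem_inf.1 ha).2) hk
      have hdK : d ∈ K := by simpa using mul_mem (inv_mem (Subgroup.mem_inf.1 hb).2) hl
      have hc' := Subgroup.mem_centralizer_iff.1 (Subgroup.mem_inf.1 hc).2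
      have hd' := Subgroup.mem_centralizer_iff.1 (Subgroup.mem_inf.1 hd).2
      have e1 : ⁅a * c, b * d⁆ = ⁅a, b⁆ := by
        rw [commutatorElement_def, commutatorElement_def]
        have h1 : c * (b * d) = (b * d) * c := (hc' _ hl).symm
        have h2 : d * a⁻¹ = a⁻¹ * d := (hd' _ (inv_mem (Subgroup.mem_inf.1 ha).2)).symm
        calc a * c * (b * d) * (a * c)⁻¹ * (b * d)⁻¹
            = a * (c * (b * d)) * c⁻¹ * a⁻¹ * (d⁻¹ * b⁻¹) := by group
          _ = a * b * (d * a⁻¹) * d⁻¹ * b⁻¹ := by rw [h1]; group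
          _ = a * b * a⁻¹ * b⁻¹ := by rw [h2]; group
      rw [e1, commutatorElement_def]
      have ha' := (Subgroup.mem_inf.1 ha).1
      have hb' := (Subgroup.mem_inf.1 hb).1
      exact mul_mem (mul_mem (mul_mem ha' hb') (inv_mem ha')) (inv_mem hb')
    have hXsM : Xs ≤ M := le_sup_left.trans (h.2.2 _ le_sup_right hne)
    intro x hx
    obtain ⟨k, hk, t, ht, rfl⟩ := hYd x (hXY hx)
    refine mul_mem (hXsM ?_) (h.2.1 (Subgroup.mem_inf.1 ht).1)
    refine le_iSup (fun s : ↥(S : Subgroup P) => X0.map (MulAut.conj (s : P)).toMonoidHom) 1 ⟨k, ?_, by simp⟩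
    exact Subgroup.mem_inf.2 ⟨by simpa using mul_mem hx (inv_mem (hTX ht)), hk⟩
  have hKM : ¬ K ≤ M := by
    intro hle
    refine residual_not_le h ((residual_eq_layer hP hOp S K hK).le.trans
      ((layer_eq_iSup hP hOp S K hK).le.trans (iSup_le fun s => ?_)))
    rintro _ ⟨x, hx, rfl⟩
    exact mul_mem (mul_mem (h.2.1 s.2) (hle hx)) (inv_mem (h.2.1 s.2))
  refine isPMinimal_of_over R hRn (M := M.subgroupOf Y) ?_
  have hRM : (R : Subgroup Y) ≤ M.subgroupOf Y := fun r hr => Subgroup.mem_subgroupOf.2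
    (h.2.1 (Subgroup.mem_inf.1 (hRT ▸ Subgroup.mem_map_of_mem Y.subtype hr : (r : P) ∈ T)).1)
  have hproper : ∀ X : Subgroup Y, (R : Subgroup Y) ≤ X → X ≠ ⊤ → X ≤ M.subgroupOf Y := by
    intro X hRX hX r hr
    refine Subgroup.mem_subgroupOf.2 (hMY (X.map Y.subtype) (hRT ▸ Subgroup.map_mono hRX)
      (Subgroup.map_subtype_le _) (fun hle => hX ?_) (Subgroup.mem_map_of_mem _ hr))
    refine top_le_iff.1 fun y _ => ?_
    obtain ⟨k, hk, t, ht, e⟩ := hYd y y.2
    obtain ⟨k', hk', ek⟩ := hle hk
    obtain ⟨t', ht', et⟩ := (hRT.ge ht : t ∈ (R : Subgroup Y).map Y.subtype)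
    rw [show y = k' * t' from Subtype.ext (by rw [← e, ← ek, ← et]; rfl)]
    exact mul_mem hk' (hRX ht')
  refine ⟨⟨fun e => hKM fun k hk => ?_, fun X hX => ?_⟩, hRM, hproper⟩
  · exact Subgroup.mem_subgroupOf.1 (e.symm ▸ Subgroup.mem_top (⟨k, Subgroup.mem_sup_left hk⟩ : Y))
  · by_contra hne
    exact hX.not_ge (hproper X (hRM.trans hX.le) hne)

end Comp

end CfsgLib.Inv.PMin
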