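import Cfsg.Agent.Solv.SSGHuppert
import Cfsg.Agent.Inv.NormalFixedOrder
import Cfsg.Agent.Solv.PComplement
import Cfsg.Agent.S0071

/-!
A group in which no pair `x, g x g⁻¹` (`x` a `p`-element, `g` a `q`-element, `p ≠ q`) generates a subgroup of
order divisible by `q ^ 2` is supersolvable.
-/

set_option autoImplicit false
set_option linter.style.haveILetI false
set_option linter.unusedSectionVars false

namespace CfsgLib.Inv.PairSupersolvable

open CfsgLib.Solv
open scoped commutatorElement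

universe u

/-- The pair condition. -/
def Pair (G : Type u) [Group G] : Prop :=
  ∀ (p q : ℕ), p.Prime → q.Prime → p ≠ q → ∀ (x g : G), (∃ a : ℕ, orderOf x = p ^ a) → (∃ b : ℕ, orderOf g = q ^ b) →
    ¬ q ^ 2 ∣ Nat.card ↥(Subgroup.zpowers x ⊔ Subgroup.zpowers (g * x * g⁻¹))

theorem pair_subgroup {G : Type u} [Group G] (h : Pair G) (K : Subgroup G) : Pair K := by
  intro p q hp hq hpq x g hx hg hd
  refine h p q hp hq hpq x g (by simpa using hx) (by simpa using hg) (hd.trans ?_)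
  have e : (Subgroup.zpowers x ⊔ Subgroup.zpowers (g * x * g⁻¹)).map K.subtype =
      Subgroup.zpowers (x : G) ⊔ Subgroup.zpowers ((g : G) * x * (g : G)⁻¹) := by
    rw [Subgroup.map_sup, MonoidHom.map_zpowers, MonoidHom.map_zpowers]
    rfl
  rw [← e, Subgroup.card_map_of_injective K.subtype_injective]

theorem exists_primePow_lift {G G' : Type u} [Group G] [Finite G] [Group G'] [Finite G'] {f : G →* G'}
    (hf : Function.Surjective f) {p : ℕ} (hp : p.Prime) {v : G'} (hv : ∃ a : ℕ, orderOf v = p ^ a) :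
    ∃ w : G, f w = v ∧ ∃ a : ℕ, orderOf w = p ^ a := by
  obtain ⟨w₀, rfl⟩ := hf v
  obtain ⟨a, ha⟩ := hv
  obtain ⟨e, m, hm, ho⟩ := Nat.exists_eq_pow_mul_and_not_dvd (orderOf_pos w₀).ne' p hp.ne_one
  obtain ⟨k, hk⟩ := exists_pow_eq_self_of_coprime (x := f w₀) (n := m)
    (ha ▸ ((hp.coprime_iff_not_dvd.2 hm).symm).pow_right a)
  refine ⟨(w₀ ^ m) ^ k, by rw [map_pow, map_pow, hk], ?_⟩
  obtain ⟨i, -, hi⟩ := (Nat.dvd_prime_pow hp).1 (orderOf_dvd_of_pow_eq_one (x := (w₀ ^ m) ^ k) (n := p ^ e) (by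
    rw [← pow_mul, mul_comm k, pow_mul, ← pow_mul w₀, mul_comm m, ← ho, pow_orderOf_eq_one, one_pow]))
  exact ⟨i, hi⟩

theorem pair_quotient {G : Type u} [Group G] [Finite G] (h : Pair G) (N : Subgroup G) [N.Normal] :
    Pair (G ⧸ N) := by
  intro p q hp hq hpq v w hv hw hd
  obtain ⟨x, rfl, hx⟩ := exists_primePow_lift (QuotientGroup.mk'_surjective N) hp hv
  obtain ⟨g, rfl, hg⟩ := exists_primePow_lift (QuotientGroup.mk'_surjective N) hq hw
  refine h p q hp hq hpq x g hx hg (hd.trans ?_)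
  have e : (Subgroup.zpowers x ⊔ Subgroup.zpowers (g * x * g⁻¹)).map (QuotientGroup.mk' N) =
      Subgroup.zpowers (QuotientGroup.mk' N x) ⊔
        Subgroup.zpowers (QuotientGroup.mk' N g * QuotientGroup.mk' N x * (QuotientGroup.mk' N g)⁻¹) := by
    rw [Subgroup.map_sup, MonoidHom.map_zpowers, MonoidHom.map_zpowers, map_mul, map_mul, map_inv]
  rw [← e]
  exact Subgroup.card_map_dvd _ _

variable {G : Type u} [Group G] [Finite G]

/-- `m` acts on `N` as a power map. -/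
def Scalar (N : Subgroup G) (m : G) : Prop :=
  ∃ k : ℕ, ∀ n ∈ N, m * n * m⁻¹ = n ^ k

theorem pow_congr_of_point {N : Subgroup G} {r : ℕ} [hr : Fact r.Prime] (he : ∀ n ∈ N, n ^ r = 1) {n₀ : G}
    (hn₀ : n₀ ∈ N) (hn₁ : n₀ ≠ 1) {k l : ℕ} (h : n₀ ^ k = n₀ ^ l) : ∀ n ∈ N, n ^ k = n ^ l := by
  intro n hn
  have ho : orderOf n₀ = r := orderOf_eq_prime (he n₀ hn₀) hn₁
  have hm : k ≡ l [MOD r] := ho ▸ pow_eq_pow_iff_modEq.1 h
  rw [← Nat.mod_add_div k r, ← Nat.mod_add_div l r, pow_add, pow_add, pow_mul n r, pow_mul n r, he n hn,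
    one_pow, one_pow, show k % r = l % r from hm]

theorem mem_of_zpow_mem {N L : Subgroup G} {r : ℕ} [hr : Fact r.Prime] (he : ∀ n ∈ N, n ^ r = 1) {d : G}
    (hd : d ∈ N) {i : ℤ} (hi : d ^ i ∈ L) (hnd : ¬ (r : ℤ) ∣ i) : d ∈ L := by
  obtain ⟨u, v, huv⟩ := (Nat.prime_iff_prime_int.1 hr.out).coprime_iff_not_dvd.2 hnd
  have e : d = (d ^ i) ^ v := by
    rw [← zpow_mul]
    conv_lhs => rw [← zpow_one d, ← huv, zpow_add, mul_comm u, zpow_mul, zpow_natCast, he d hd, one_zpow,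
      one_mul, mul_comm v]
  rw [e]
  exact zpow_mem hi v

/-- A `p`-element acts with at most one nontrivial eigenvalue. -/
theorem eigen_split (h : Pair G) {N : Subgroup G} [N.Normal] (hab : ∀ a ∈ N, ∀ b ∈ N, a * b = b * a) {r : ℕ}
    [hr : Fact r.Prime] (he : ∀ n ∈ N, n ^ r = 1) {p : ℕ} (hp : p.Prime) (hpr : p ≠ r) {x : G}
    (hx : ∃ a : ℕ, orderOf x = p ^ a) :
    ∃ (D : Subgroup G) (k : ℕ), D ≤ N ∧ (∀ d ∈ D, x * d * x⁻¹ = d ^ k) ∧ (∀ d ∈ D, x * d * x⁻¹ = d → d = 1) ∧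
      ∀ n ∈ N, ∃ c ∈ N, ∃ d ∈ D, n = c * d ∧ x * c * x⁻¹ = c := by
  have hconj : ∀ n ∈ N, x * n * x⁻¹ ∈ N := fun n hn => (‹N.Normal›).conj_mem n hn x
  let δ : N →* N :=
    { toFun := fun n => ⟨x * n * x⁻¹ * (n : G)⁻¹, mul_mem (hconj n n.2) (inv_mem n.2)⟩
      map_one' := Subtype.ext (by simp)
      map_mul' := fun a b => Subtype.ext (by
        show x * ((a : G) * b) * x⁻¹ * ((a : G) * b)⁻¹ = x * a * x⁻¹ * (a : G)⁻¹ * (x * b * x⁻¹ * (b : G)⁻¹)
        have h1 : (x * b * x⁻¹ * (b : G)⁻¹) * (a : G)⁻¹ = (a : G)⁻¹ * (x * b * x⁻¹ * (b : G)⁻¹) :=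
          hab _ (mul_mem (hconj b b.2) (inv_mem b.2)) _ (inv_mem a.2)
        calc x * ((a : G) * b) * x⁻¹ * ((a : G) * b)⁻¹
            = x * a * x⁻¹ * ((x * b * x⁻¹ * (b : G)⁻¹) * (a : G)⁻¹) := by group
          _ = _ := by rw [h1, ← mul_assoc]) }
  have hδ : ∀ n : N, ((δ n : N) : G) = x * n * x⁻¹ * (n : G)⁻¹ := fun n => rfl
  set D := δ.range.map N.subtype with hD
  have hDN : D ≤ N := Subgroup.map_subtype_le _
  have hline : ∀ c ∈ D, x * c * x⁻¹ ∈ Subgroup.zpowers c := by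
    rintro _ ⟨_, ⟨n, rfl⟩, rfl⟩
    set c := ((δ n : N) : G) with hc
    show x * c * x⁻¹ ∈ Subgroup.zpowers c
    by_contra hcon
    by_cases hc1 : c = 1
    · apply hcon
      rw [hc1]
      simp
    have hcN : c ∈ N := (δ n).2
    set J := Subgroup.zpowers x ⊔ Subgroup.zpowers ((n : G) * x * (n : G)⁻¹) with hJ
    have hcJ : c ∈ J := by
      have e : c = x * ((n : G) * x * (n : G)⁻¹)⁻¹ := by rw [hc, hδ]; group
      rw [e]
      exact mul_mem (Subgroup.mem_sup_left (Subgroup.mem_zpowers x))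
        (inv_mem (Subgroup.mem_sup_right (Subgroup.mem_zpowers _)))
    have hxJ : x ∈ J := Subgroup.mem_sup_left (Subgroup.mem_zpowers x)
    set V := Subgroup.zpowers c ⊔ Subgroup.zpowers (x * c * x⁻¹) with hV
    have hVN : V ≤ N := sup_le (Subgroup.zpowers_le.2 hcN) (Subgroup.zpowers_le.2 (hconj c hcN))
    have hVJ : V ≤ J := sup_le (Subgroup.zpowers_le.2 hcJ)
      (Subgroup.zpowers_le.2 (mul_mem (mul_mem hxJ hcJ) (inv_mem hxJ)))
    have hVr : IsPGroup r V := fun v => ⟨1, Subtype.ext (by simpa using he v (hVN v.2))⟩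
    obtain ⟨i, hi⟩ := IsPGroup.iff_card.1 hVr
    have hoc : orderOf c = r := orderOf_eq_prime (he c hcN) hc1
    have hlt : r < Nat.card V := by
      have h1 : Subgroup.zpowers c < V := lt_of_le_of_ne le_sup_left fun e =>
        hcon (e ▸ Subgroup.mem_sup_right (Subgroup.mem_zpowers _))
      have h2 := Subgroup.card_le_of_le h1.le
      rw [Nat.card_zpowers, hoc] at h2
      refine lt_of_le_of_ne h2 fun e => h1.ne (Subgroup.eq_of_le_of_card_ge h1.le ?_)
      rw [Nat.card_zpowers, hoc, e]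
    have hi2 : 2 ≤ i := by
      by_contra hi2
      have : r ^ i ≤ r ^ 1 := Nat.pow_le_pow_right hr.out.pos (by omega)
      rw [← hi, pow_one] at this
      omega
    refine h p r hp hr.out hpr x n hx ?_
      ((pow_dvd_pow r hi2).trans (hi ▸ Subgroup.card_dvd_of_le hVJ))
    by_cases hn1 : (n : G) = 1
    · exact ⟨0, by rw [hn1, orderOf_one, pow_zero]⟩
    · exact ⟨1, by rw [pow_one]; exact orderOf_eq_prime (he n n.2) hn1⟩
  have hpow : ∀ c ∈ D, ∃ k : ℕ, x * c * x⁻¹ = c ^ k := fun c hc => by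
    obtain ⟨k, hk⟩ := mem_powers_iff_mem_zpowers.2 (hline c hc)
    exact ⟨k, hk.symm⟩
  have hfix : ∀ d ∈ D, x * d * x⁻¹ = d → d = 1 := by
    rintro _ ⟨_, ⟨n, rfl⟩, rfl⟩ hfx
    set c := ((δ n : N) : G) with hc
    change x * c * x⁻¹ = c at hfx
    show c = 1
    have hit : ∀ i : ℕ, x ^ i * (n : G) * (x ^ i)⁻¹ = c ^ i * n := by
      intro i
      induction i with
      | zero => simp
      | succ i ih =>
        rw [pow_succ', show x * x ^ i * (n : G) * (x * x ^ i)⁻¹ = x * (x ^ i * (n : G) * (x ^ i)⁻¹) * x⁻¹ by group,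
          ih, show x * (c ^ i * (n : G)) * x⁻¹ = (x * c ^ i * x⁻¹) * (x * n * x⁻¹ * (n : G)⁻¹) * n by group,
          ← conj_pow, hfx, ← hδ, ← hc, pow_succ]
    have h1 := hit (orderOf x)
    rw [pow_orderOf_eq_one, inv_one, one_mul, mul_one] at h1
    have h2 : c ^ orderOf x = 1 := mul_eq_right.1 h1.symm
    obtain ⟨a, ha⟩ := hx
    refine orderOf_eq_one_iff.1 (Nat.eq_one_of_dvd_coprimes ?_ (orderOf_dvd_of_pow_eq_one h2)
      (orderOf_dvd_of_pow_eq_one (he c (δ n).2)))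
    rw [ha]
    exact ((Nat.coprime_primes hp hr.out).2 hpr).pow_left a
  -- a single exponent on `D`
  obtain ⟨k, hk⟩ : ∃ k : ℕ, ∀ d ∈ D, x * d * x⁻¹ = d ^ k := by
    by_cases hDb : D = ⊥
    · exact ⟨0, fun d hd => by rw [hDb, Subgroup.mem_bot] at hd; simp [hd]⟩
    obtain ⟨⟨d₀, hd₀⟩, hd₀1'⟩ := Subgroup.ne_bot_iff_exists_ne_one.1 hDb
    have hd₀1 : d₀ ≠ 1 := fun e => hd₀1' (Subtype.ext e)
    obtain ⟨k₀, hk₀⟩ := hpow d₀ hd₀
    refine ⟨k₀, fun d hd => ?_⟩
    by_cases hdz : d ∈ Subgroup.zpowers d₀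
    · obtain ⟨i, rfl⟩ := Subgroup.mem_zpowers_iff.1 hdz
      rw [← conj_zpow, hk₀, ← zpow_natCast, ← zpow_mul, ← zpow_natCast, ← zpow_mul, mul_comm]
    obtain ⟨k₁, hk₁⟩ := hpow d hd
    obtain ⟨k₂, hk₂⟩ := hpow (d₀ * d) (mul_mem hd₀ hd)
    have hc : Commute d₀ d := hab _ (hDN hd₀) _ (hDN hd)
    have hprod : d₀ ^ k₀ * d ^ k₁ = d₀ ^ k₂ * d ^ k₂ := by
      rw [← hc.mul_pow, ← hk₂, ← hk₀, ← hk₁]; group
    have h12 : (r : ℤ) ∣ (k₁ : ℤ) - k₂ := by
      by_contra hnd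
      refine hdz (mem_of_zpow_mem he (hDN hd) ?_ hnd)
      have e : d ^ ((k₁ : ℤ) - k₂) = (d₀ ^ k₀)⁻¹ * d₀ ^ k₂ := by
        rw [zpow_sub, zpow_natCast, zpow_natCast]
        calc d ^ k₁ * (d ^ k₂)⁻¹ = (d₀ ^ k₀)⁻¹ * (d₀ ^ k₀ * d ^ k₁) * (d ^ k₂)⁻¹ := by group
          _ = (d₀ ^ k₀)⁻¹ * d₀ ^ k₂ := by rw [hprod]; group
      rw [e]
      exact mul_mem (inv_mem (pow_mem (Subgroup.mem_zpowers d₀) _)) (pow_mem (Subgroup.mem_zpowers d₀) _)
    have h1 : d ^ k₁ = d ^ k₂ := by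
      obtain ⟨t, ht⟩ := h12
      have : d ^ ((k₁ : ℤ) - k₂) = 1 := by rw [ht, zpow_mul, zpow_natCast, he d (hDN hd), one_zpow]
      rw [zpow_sub, zpow_natCast, zpow_natCast, mul_inv_eq_one] at this
      exact this
    rw [h1] at hprod
    rw [hk₁, h1]
    exact (pow_congr_of_point he (hDN hd₀) hd₀1 (mul_right_cancel hprod) d (hDN hd)).symm
  refine ⟨D, k, hDN, hk, hfix, ?_⟩
  -- counting: `N` is the product of the fixed points and `D`
  set C := δ.ker.map N.subtype with hC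
  have hcard : Nat.card C * Nat.card D = Nat.card N := by
    rw [hC, hD, Subgroup.card_map_of_injective N.subtype_injective,
      Subgroup.card_map_of_injective N.subtype_injective, ← Subgroup.index_ker δ, Subgroup.card_mul_index]
  have hCN : C ≤ N := Subgroup.map_subtype_le _
  have hCfix : ∀ c ∈ C, x * c * x⁻¹ = c := by
    rintro _ ⟨c, hc, rfl⟩
    exact mul_inv_eq_one.1 (congrArg (Subtype.val : N → G) (MonoidHom.mem_ker.1 hc))
  have hdis : Disjoint C D := disjoint_iff.2 (le_bot_iff.1 fun z hz =>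
    Subgroup.mem_bot.2 (hfix z hz.2 (hCfix z hz.1)))
  let φ : C × D → N := fun z => ⟨z.1 * z.2, mul_mem (hCN z.1.2) (hDN z.2.2)⟩
  have hφ : Function.Bijective φ := by
    rw [Nat.bijective_iff_injective_and_card, Nat.card_prod, hcard]
    exact ⟨fun a b e => Subgroup.mul_injective_of_disjoint hdis (congrArg Subtype.val e), rfl⟩
  intro n hn
  obtain ⟨⟨c, d⟩, hcd⟩ := hφ.2 ⟨n, hn⟩
  exact ⟨c, hCN c.2, d, d.2, (congrArg Subtype.val hcd).symm, hCfix c c.2⟩

/-- Without fixed points a `p`-element is scalar. -/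
theorem scalar_of_no_fixed (h : Pair G) {N : Subgroup G} [N.Normal] (hab : ∀ a ∈ N, ∀ b ∈ N, a * b = b * a)
    {r : ℕ} [Fact r.Prime] (he : ∀ n ∈ N, n ^ r = 1) {p : ℕ} (hp : p.Prime) (hpr : p ≠ r) {x : G}
    (hx : ∃ a : ℕ, orderOf x = p ^ a) (hf : ∀ n ∈ N, x * n * x⁻¹ = n → n = 1) : Scalar N x := by
  obtain ⟨D, k, -, hk, -, hsplit⟩ := eigen_split h hab he hp hpr hx
  refine ⟨k, fun n hn => ?_⟩
  obtain ⟨c, hc, d, hd, rfl, hcf⟩ := hsplit n hn
  rw [hf c hc hcf, one_mul]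
  exact hk d hd

/-- The eigenvalue on an eigenvector that is not fixed. -/
theorem exponent_unique (h : Pair G) {N : Subgroup G} [N.Normal] (hab : ∀ a ∈ N, ∀ b ∈ N, a * b = b * a)
    {r : ℕ} [Fact r.Prime] (he : ∀ n ∈ N, n ^ r = 1) {p : ℕ} (hp : p.Prime) (hpr : p ≠ r) {x : G}
    (hx : ∃ a : ℕ, orderOf x = p ^ a) :
    ∃ k : ℕ, (∀ n ∈ N, ∀ μ : ℕ, x * n * x⁻¹ = n ^ μ → n ^ μ ≠ n → ∀ m ∈ N, m ^ μ = m ^ k) ∧
      (∀ n ∈ N, ∃ c ∈ N, ∃ d ∈ N, n = c * d ∧ x * c * x⁻¹ = c ∧ x * d * x⁻¹ = d ^ k) := by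
  obtain ⟨D, k, hDN, hk, hfix, hsplit⟩ := eigen_split h hab he hp hpr hx
  refine ⟨k, fun n hn μ hμ hne => ?_, fun n hn => ?_⟩
  swap
  · obtain ⟨c, hc, d, hd, e, hcf⟩ := hsplit n hn
    exact ⟨c, hc, d, hDN hd, e, hcf, hk d hd⟩
  obtain ⟨c, hc, d, hd, rfl, hcf⟩ := hsplit n hn
  have hcd : Commute c d := hab c hc d (hDN hd)
  have h1 : c * d ^ k = c ^ μ * d ^ μ := by
    rw [← hcd.mul_pow, ← hμ, ← hk d hd]
    calc c * (x * d * x⁻¹) = (x * c * x⁻¹) * (x * d * x⁻¹) := by rw [hcf]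
      _ = x * (c * d) * x⁻¹ := by group
  have h2 : (c ^ μ)⁻¹ * c = d ^ μ * (d ^ k)⁻¹ := by
    rw [inv_mul_eq_iff_eq_mul, ← mul_assoc, eq_mul_inv_iff_mul_eq]
    exact h1
  have h3 : d ^ μ * (d ^ k)⁻¹ = 1 := by
    refine hfix _ (mul_mem (pow_mem hd _) (inv_mem (pow_mem hd _))) ?_
    rw [← h2]
    calc x * ((c ^ μ)⁻¹ * c) * x⁻¹ = ((x * c * x⁻¹) ^ μ)⁻¹ * (x * c * x⁻¹) := by rw [conj_pow]; group
      _ = _ := by rw [hcf]
  have hd1 : d ≠ 1 := by
    rintro rfl
    rw [mul_one] at hne hμ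
    exact hne (hμ.symm.trans hcf)
  exact pow_congr_of_point he (hDN hd) hd1 (mul_inv_eq_one.1 h3)

/-- The linear part of the argument. -/
theorem not_faithful_irreducible (h : Pair G) {N M : Subgroup G} [N.Normal]
    (hab : ∀ a ∈ N, ∀ b ∈ N, a * b = b * a) {r : ℕ} [hr : Fact r.Prime] (he : ∀ n ∈ N, n ^ r = 1)
    (hfaith : ∀ m ∈ M, (∀ n ∈ N, m * n * m⁻¹ = n) → m = 1)
    (hirr : ∀ W : Subgroup G, W ≤ N → (∀ m ∈ M, ∀ w ∈ W, m * w * m⁻¹ ∈ W) → W = ⊥ ∨ W = N)
    (hM : SSG M) (hnr : ¬ r ∣ Nat.card M) : ∀ m ∈ M, Scalar N m := by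
  by_contra hcon
  push Not at hcon
  -- the scalar subgroup
  let Z : Subgroup M :=
    { carrier := {m | Scalar N m}
      one_mem' := ⟨1, fun n hn => by simp⟩
      mul_mem' := fun {a b} ⟨k, hk⟩ ⟨l, hl⟩ => ⟨k * l, fun n hn => by
        rw [Subgroup.coe_mul, show (a : G) * b * n * ((a : G) * b)⁻¹ = a * ((b : G) * n * (b : G)⁻¹) * (a : G)⁻¹ by group,
          hl n hn, ← conj_pow, hk n hn, ← pow_mul]⟩
      inv_mem' := fun {a} ⟨k, hk⟩ => by
        have e : a⁻¹ = a ^ (orderOf a - 1) := inv_eq_of_mul_eq_one_right (by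
          rw [← pow_succ', Nat.sub_add_cancel (orderOf_pos a), pow_orderOf_eq_one])
        rw [e]
        generalize orderOf a - 1 = i
        induction i with
        | zero => exact ⟨1, fun n hn => by simp⟩
        | succ i ih =>
          obtain ⟨l, hl⟩ := ih
          refine ⟨l * k, fun n hn => ?_⟩
          rw [pow_succ', Subgroup.coe_mul, show (a : G) * ((a ^ i : M) : G) * n * ((a : G) * ((a ^ i : M) : G))⁻¹ =
            a * (((a ^ i : M) : G) * n * ((a ^ i : M) : G)⁻¹) * (a : G)⁻¹ by group, hl n hn, ← conj_pow, hk n hn,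
            ← pow_mul, mul_comm] }
  have hcentral : ∀ z ∈ Z, ∀ m : M, m * z = z * m := by
    intro z hz m
    obtain ⟨k, hk⟩ := hz
    have h1 : (m * z * m⁻¹ * z⁻¹ : M) = 1 := by
      refine Subtype.ext (hfaith _ (SetLike.coe_mem _) fun n hn => ?_)
      have hzi : (z : G)⁻¹ * n * (z : G) ∈ N := by
        have := (‹N.Normal›).conj_mem n hn (z : G)⁻¹
        simpa using this
      set n₁ := (z : G)⁻¹ * n * (z : G) with hn₁
      have hn₂ : (m : G)⁻¹ * n₁ * (m : G) ∈ N := by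
        have := (‹N.Normal›).conj_mem n₁ hzi (m : G)⁻¹
        simpa using this
      push_cast
      calc (m : G) * z * (m : G)⁻¹ * (z : G)⁻¹ * n * ((m : G) * z * (m : G)⁻¹ * (z : G)⁻¹)⁻¹
          = m * ((z : G) * ((m : G)⁻¹ * n₁ * m) * (z : G)⁻¹) * (m : G)⁻¹ := by rw [hn₁]; group
        _ = n₁ ^ k := by rw [hk _ hn₂, ← conj_pow]; group
        _ = (z : G) * n₁ * (z : G)⁻¹ := (hk _ hzi).symm
        _ = n := by rw [hn₁]; group
    calc m * z = m * z * m⁻¹ * z⁻¹ * (z * m) := by group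
      _ = z * m := by rw [h1, one_mul]
  haveI : Z.Normal := ⟨fun z hz m => by rwa [hcentral z hz m, mul_inv_cancel_right]⟩
  obtain ⟨m₀, hm₀, hm₀s⟩ := hcon
  haveI : Nontrivial (M ⧸ Z) := by
    refine ⟨⟨QuotientGroup.mk ⟨m₀, hm₀⟩, 1, fun e => hm₀s ?_⟩⟩
    exact (QuotientGroup.eq_one_iff _).1 e
  obtain ⟨A, hA, hAp⟩ := exists_normal_prime (ssg_quotient Z hM)
  set s := Nat.card A with hs
  haveI : Fact s.Prime := ⟨hAp⟩
  haveI : IsCyclic A := isCyclic_of_prime_card rfl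
  obtain ⟨⟨g₀, hg₀⟩, hgen⟩ := IsCyclic.exists_generator (α := A)
  have hg₀o : orderOf g₀ = s := by
    rw [← Subgroup.orderOf_mk g₀ hg₀]
    exact orderOf_eq_card_of_forall_mem_zpowers hgen
  obtain ⟨a, ha, hao⟩ := exists_primePow_lift (QuotientGroup.mk'_surjective Z) hAp ⟨1, by rw [hg₀o, pow_one]⟩
  have haZ : a ∉ Z := fun hz => by
    rw [show QuotientGroup.mk' Z a = 1 from (QuotientGroup.eq_one_iff a).2 hz] at ha
    rw [← ha, orderOf_one] at hg₀o
    exact hAp.ne_one hg₀o.symm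
  have hsr : ∀ {y : M}, (∃ i : ℕ, orderOf y = s ^ i) → y ≠ 1 → s ≠ r := by
    rintro y ⟨i, hi⟩ hy e
    have hi0 : i ≠ 0 := fun e0 => hy (orderOf_eq_one_iff.1 (by rw [hi, e0, pow_zero]))
    exact hnr (e ▸ (hi ▸ dvd_pow_self s hi0).trans (orderOf_dvd_natCard y))
  have hsr' : s ≠ r := hsr hao fun e => haZ (e ▸ one_mem Z)
  have hpp : ∀ {y : M}, (∃ i : ℕ, orderOf y = s ^ i) → ∃ i : ℕ, orderOf (y : G) = s ^ i := fun ⟨i, hi⟩ =>
    ⟨i, by rw [Subgroup.orderOf_coe, hi]⟩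
  have hfixpt : ∀ {y : M}, (∃ i : ℕ, orderOf y = s ^ i) → y ∉ Z →
      ∃ n ∈ N, n ≠ 1 ∧ (y : G) * n * (y : G)⁻¹ = n := by
    intro y hy hyZ
    by_contra hc
    push Not at hc
    refine hyZ (scalar_of_no_fixed h hab he hAp hsr' (hpp hy) fun n hn hf => ?_)
    by_contra hn1
    exact hc n hn hn1 hf
  -- some element moves the fixed-point subgroup
  obtain ⟨m, z, j, hz, hz1, hj⟩ : ∃ m z : M, ∃ j : ℕ, z ∈ Z ∧ z ≠ 1 ∧ m * a * m⁻¹ = a ^ j * z := by
    by_contra hc
    push Not at hc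
    let W : Subgroup G := N ⊓ Subgroup.centralizer ({(a : G)} : Set G)
    have hWW : ∀ w, w ∈ W ↔ w ∈ N ∧ (a : G) * w * (a : G)⁻¹ = w := fun w => by
      simp only [W, Subgroup.mem_inf, Subgroup.mem_centralizer_singleton_iff]
      exact and_congr_right fun _ => ⟨fun e => by rw [← e, mul_inv_cancel_right], fun e => (mul_inv_eq_iff_eq_mul.1 e).symm⟩
    have hinv : ∀ m ∈ M, ∀ w ∈ W, m * w * m⁻¹ ∈ W := by
      intro m hm w hw
      rw [hWW] at hw ⊢
      refine ⟨(‹N.Normal›).conj_mem w hw.1 m, ?_⟩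
      set mm : M := ⟨m, hm⟩ with hmm
      have hmem : QuotientGroup.mk' Z (mm⁻¹ * a * mm) ∈ A := by
        rw [map_mul, map_mul, map_inv, ha]
        have := hA.conj_mem g₀ hg₀ (QuotientGroup.mk' Z mm)⁻¹
        simpa using this
      obtain ⟨i, hi⟩ : ∃ i : ℕ, g₀ ^ i = QuotientGroup.mk' Z (mm⁻¹ * a * mm) := by
        obtain ⟨i, hi⟩ := mem_powers_iff_mem_zpowers.2 (hgen ⟨_, hmem⟩)
        exact ⟨i, congrArg Subtype.val hi⟩
      set z₀ := (a ^ i)⁻¹ * (mm⁻¹ * a * mm) with hz₀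
      have hz₀Z : z₀ ∈ Z := by
        rw [← QuotientGroup.eq_one_iff]
        show QuotientGroup.mk' Z z₀ = 1
        rw [hz₀, map_mul, map_inv, map_pow, ha, hi, inv_mul_cancel]
      have hz₀1 : z₀ = 1 := by
        by_contra hne
        refine hc mm⁻¹ z₀ i hz₀Z hne ?_
        rw [inv_inv, hz₀, mul_inv_cancel_left]
      have he' : (m : G)⁻¹ * (a : G) * m = (a : G) ^ i := by
        have : mm⁻¹ * a * mm = a ^ i := by rw [hz₀, inv_mul_eq_one] at hz₀1; exact hz₀1.symm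
        simpa using congrArg (Subtype.val : M → G) this
      have hfi : (a : G) ^ i * w * ((a : G) ^ i)⁻¹ = w := by
        have hcm : Commute (a : G) w := mul_inv_eq_iff_eq_mul.1 hw.2
        rw [(hcm.pow_left i).eq, mul_inv_cancel_right]
      calc (a : G) * (m * w * m⁻¹) * (a : G)⁻¹
          = m * (((m : G)⁻¹ * (a : G) * m) * w * ((m : G)⁻¹ * (a : G) * m)⁻¹) * m⁻¹ := by group
        _ = m * w * m⁻¹ := by rw [he', hfi]

    rcases hirr W inf_le_left hinv with hW | hW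
    · obtain ⟨n, hn, hn1, hnf⟩ := hfixpt hao haZ
      have : n ∈ W := (hWW n).2 ⟨hn, hnf⟩
      rw [hW, Subgroup.mem_bot] at this
      exact hn1 this
    · refine haZ ⟨1, fun n hn => ?_⟩
      rw [pow_one]
      exact ((hWW n).1 (hW.ge hn)).2
  have hcza : ∀ y : M, y * z = z * y := hcentral z hz
  -- `z` has prime power order
  have hzs : ∃ i : ℕ, orderOf z = s ^ i := by
    obtain ⟨i, hi⟩ := hao
    obtain ⟨t, -, ht⟩ := (Nat.dvd_prime_pow hAp).1 (orderOf_dvd_of_pow_eq_one (x := z) (n := s ^ i) (by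
      have h1 : (m * a * m⁻¹) ^ s ^ i = 1 := by rw [conj_pow, ← hi, pow_orderOf_eq_one]; simp
      have hc1 : Commute (a ^ j) z := hcza _
      rw [hj, hc1.mul_pow, ← pow_mul, mul_comm j, pow_mul, orderOf_dvd_iff_pow_eq_one.1 (dvd_of_eq hi), one_pow,
        one_mul] at h1
      exact h1))
    exact ⟨t, ht⟩
  obtain ⟨lam, hlam⟩ := Z.inv_mem hz
  have hzmoves : ∀ n ∈ N, n ≠ 1 → n ^ lam ≠ n := by
    intro n hn hn1 e
    refine hz1 (inv_eq_one.1 (Subtype.ext (hfaith _ (SetLike.coe_mem _) fun w hw => ?_)))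
    rw [hlam w hw, pow_congr_of_point he hn hn1 (l := 1) (by rw [pow_one]; exact e) w hw, pow_one]
  obtain ⟨k, hk, hksplit⟩ := exponent_unique h hab he hAp hsr' (hpp hao)
  -- `a * z ^ t` has fixed points
  have hprod : ∀ t : ℕ, ∃ i : ℕ, orderOf (a * z ^ t) = s ^ i := by
    intro t
    obtain ⟨i, hi⟩ := hao
    obtain ⟨i', hi'⟩ := hzs
    obtain ⟨l, -, hl⟩ := (Nat.dvd_prime_pow hAp).1 (orderOf_dvd_of_pow_eq_one
      (x := a * z ^ t) (n := s ^ (i + i')) (by
        have hc1 : Commute a (z ^ t) := (show Commute a z from hcza a).pow_right t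
        rw [hc1.mul_pow, orderOf_dvd_iff_pow_eq_one.1 ((dvd_of_eq hi).trans (pow_dvd_pow s (Nat.le_add_right i i'))), one_mul,
          ← pow_mul, mul_comm t, pow_mul, orderOf_dvd_iff_pow_eq_one.1 ((dvd_of_eq hi').trans (pow_dvd_pow s (Nat.le_add_left i' i))),
          one_pow]))
    exact ⟨l, hl⟩
  have hlam_pow : ∀ t : ℕ, z ^ t ≠ 1 → ∀ w ∈ N, w ^ (lam ^ t) = w ^ k := by
    intro t ht
    have hnot : a * z ^ t ∉ Z := fun hmem => haZ (by
      have := mul_mem hmem (inv_mem (pow_mem hz t))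
      rwa [mul_inv_cancel_right] at this)
    obtain ⟨n, hn, hn1, hnf⟩ := hfixpt (hprod t) hnot
    have hact : ∀ (t : ℕ), ∀ w ∈ N, ((z ^ t : M) : G)⁻¹ * w * ((z ^ t : M) : G) = w ^ (lam ^ t) := by
      intro t
      induction t with
      | zero => intro w hw; simp
      | succ t ih =>
        intro w hw
        have h1 : (z : G)⁻¹ * w * (z : G) = w ^ lam := by simpa using hlam w hw
        rw [pow_succ', Subgroup.coe_mul, show ((z : G) * ((z ^ t : M) : G))⁻¹ * w * ((z : G) * ((z ^ t : M) : G)) =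
          ((z ^ t : M) : G)⁻¹ * ((z : G)⁻¹ * w * (z : G)) * ((z ^ t : M) : G) by group, h1,
          ih _ (pow_mem hw _), ← pow_mul, pow_succ']
    have ha1 : (a : G) * n * (a : G)⁻¹ = n ^ (lam ^ t) := by
      have hcaz : (a : G) * ((z ^ t : M) : G) = ((z ^ t : M) : G) * a :=
        congrArg (Subtype.val : M → G) ((show Commute a z from hcza a).pow_right t).eq
      rw [Subgroup.coe_mul] at hnf
      rw [← hact t n hn]
      conv_rhs => rw [← hnf]
      rw [show (a : G) * ((z ^ t : M) : G) * n * ((a : G) * ((z ^ t : M) : G))⁻¹ =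
        ((a : G) * ((z ^ t : M) : G)) * n * ((a : G) * ((z ^ t : M) : G))⁻¹ from rfl, hcaz]
      group
    have hne : n ^ (lam ^ t) ≠ n := fun e => ht (Subtype.ext (hfaith _ (SetLike.coe_mem _) fun w hw => by
      have h1 : ((z ^ t : M) : G)⁻¹ * w * ((z ^ t : M) : G) = w := by
        rw [hact t w hw, pow_congr_of_point he hn hn1 (l := 1) (by rw [pow_one]; exact e) w hw, pow_one]
      conv_lhs => rw [← h1]
      group))
    exact hk n hn _ ha1 hne
  have hN1 : ∃ n ∈ N, n ≠ 1 := by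
    obtain ⟨n, hn, hn1, -⟩ := hfixpt hao haZ
    exact ⟨n, hn, hn1⟩
  obtain ⟨n₀, hn₀, hn₀1⟩ := hN1
  have hk1 : ∀ w ∈ N, w ^ lam = w ^ k := fun w hw => by simpa using hlam_pow 1 (by simpa using hz1) w hw
  -- `z` is an inversion
  have hz2 : z ^ 2 = 1 := by
    by_contra hz2
    have h1 := hlam_pow 2 hz2 n₀ hn₀
    have h2 : (n₀ ^ lam) ^ lam = n₀ ^ lam := by
      rw [← pow_mul, ← pow_two, h1, hk1 n₀ hn₀]
    refine hzmoves _ (pow_mem hn₀ lam) (fun e => ?_) h2
    have hne : z⁻¹ ≠ 1 := fun e' => hz1 (inv_eq_one.1 e')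
    have := hlam n₀ hn₀
    rw [e] at this
    exact hn₀1 (conj_eq_one_iff.1 this)
  have hzinv : z⁻¹ = z := inv_eq_of_mul_eq_one_right (by rw [← sq, hz2])
  have hs2 : s = 2 := by
    obtain ⟨i, hi⟩ := hzs
    have hzo : orderOf z = 2 := orderOf_eq_prime hz2 hz1
    rw [hzo] at hi
    have hi0 : i ≠ 0 := fun e => by rw [e, pow_zero] at hi; omega
    exact (Nat.prime_dvd_prime_iff_eq hAp Nat.prime_two).1 (hi ▸ dvd_pow_self s hi0)
  have hzlam : ∀ w ∈ N, (w ^ lam) ^ lam = w := by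
    intro w hw
    have h1 := hlam (w ^ lam) (pow_mem hw _)
    rw [← h1, ← hlam w hw, hzinv]
    have : ((z : G)) * (z : G) = 1 := by simpa [sq] using congrArg (Subtype.val : M → G) hz2
    calc (z : G) * ((z : G) * w * (z : G)⁻¹) * (z : G)⁻¹ = ((z : G) * (z : G)) * w * ((z : G) * (z : G))⁻¹ := by group
      _ = w := by rw [this]; simp
  -- every non-scalar `2`-element is an involution
  have hinvol : ∀ y : M, (∃ i : ℕ, orderOf y = s ^ i) → y ∉ Z → y ^ 2 = 1 := by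
    intro y hy hyZ
    obtain ⟨ky, hky, hkys⟩ := exponent_unique h hab he hAp hsr' (hpp hy)
    have hcy : Commute y z := hcza y
    have hyz : ∃ i : ℕ, orderOf (y * z) = s ^ i := by
      obtain ⟨i, hi⟩ := hy
      obtain ⟨l, -, hl⟩ := (Nat.dvd_prime_pow hAp).1 (orderOf_dvd_of_pow_eq_one
        (x := y * z) (n := s ^ (i + 1)) (by
          rw [hcy.mul_pow, pow_succ, pow_mul, ← hi, pow_orderOf_eq_one, one_pow, one_mul, mul_comm, pow_mul,
            show z ^ s = 1 by rw [hs2]; exact hz2, one_pow]))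
      exact ⟨l, hl⟩
    obtain ⟨n, hn, hn1, hnf⟩ := hfixpt hyz fun hmem => hyZ (by
      have := mul_mem hmem (inv_mem hz)
      rwa [mul_inv_cancel_right] at this)
    have hy1 : (y : G) * n * (y : G)⁻¹ = n ^ lam := by
      rw [← hlam n hn, hzinv]
      rw [Subgroup.coe_mul] at hnf
      have hzz : ((z : G)) * (z : G) = 1 := by simpa [sq] using congrArg (Subtype.val : M → G) hz2
      have hc' : (y : G) * (z : G) = (z : G) * y := congrArg (Subtype.val : M → G) hcy.eq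
      conv_rhs => rw [← hnf, hc']
      rw [show (z : G) * ((z : G) * y * n * ((z : G) * y)⁻¹) * (z : G)⁻¹ =
        ((z : G) * (z : G)) * ((y : G) * n * (y : G)⁻¹) * ((z : G) * (z : G))⁻¹ by group, hzz]
      simp
    have hkey := hky n hn lam hy1 (hzmoves n hn hn1)
    refine Subtype.ext (hfaith _ (SetLike.coe_mem _) fun w hw => ?_)
    obtain ⟨c, hc, d, hd, rfl, hcf, hdf⟩ := hkys w hw
    rw [← hkey d hd] at hdf
    have hd2 : (y : G) * ((y : G) * d * (y : G)⁻¹) * (y : G)⁻¹ = d := by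
      rw [hdf, ← conj_pow, hdf, hzlam d hd]
    rw [SubmonoidClass.coe_pow, sq]
    calc (y : G) * y * (c * d) * ((y : G) * y)⁻¹
        = ((y : G) * ((y : G) * c * (y : G)⁻¹) * (y : G)⁻¹) * ((y : G) * ((y : G) * d * (y : G)⁻¹) * (y : G)⁻¹) := by group
      _ = c * d := by rw [hcf, hcf, hd2]
  have ha2 : a ^ 2 = 1 := hinvol a hao haZ
  -- `m a m⁻¹ = a z`
  have hma : m * a * m⁻¹ = a * z := by
    rcases Nat.even_or_odd j with ⟨i, hi⟩ | ⟨i, hi⟩
    · exfalso
      rw [hi, ← two_mul, pow_mul, ha2, one_pow, one_mul] at hj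
      refine haZ ?_
      have := (inferInstance : Z.Normal).conj_mem z hz m⁻¹
      rw [← hj] at this
      simpa [mul_assoc] using this
    · rw [hj, hi, pow_succ, pow_mul, ha2, one_pow, one_mul]
  obtain ⟨e₂, t, ht, hot⟩ := Nat.exists_eq_pow_mul_and_not_dvd (orderOf_pos m).ne' 2 (by norm_num)
  set m' := m ^ t with hm'
  have hzz : z * z = 1 := by rw [← sq, hz2]
  have hconjpow : ∀ i : ℕ, m ^ i * a * (m ^ i)⁻¹ = a * z ^ i := by
    intro i
    induction i with
    | zero => simp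
    | succ i ih =>
      rw [pow_succ', show m * m ^ i * a * (m * m ^ i)⁻¹ = m * (m ^ i * a * (m ^ i)⁻¹) * m⁻¹ by group, ih,
        show m * (a * z ^ i) * m⁻¹ = (m * a * m⁻¹) * (m * z ^ i * m⁻¹) by group, hma,
        (show Commute m (z ^ i) from (show Commute m z from hcza m).pow_right i).eq, mul_inv_cancel_right,
        mul_assoc, ← pow_succ']
  have hm'a : m' * a * m'⁻¹ = a * z := by
    rw [hm', hconjpow]
    obtain ⟨i, hi⟩ : Odd t := Nat.odd_iff.2 (Nat.two_dvd_ne_zero.1 ht)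
    rw [hi, pow_succ, pow_mul, hz2, one_pow, one_mul]
  have hm'o : ∃ i : ℕ, orderOf m' = s ^ i := by
    rw [hs2]
    obtain ⟨l, -, hl⟩ := (Nat.dvd_prime_pow Nat.prime_two).1 (orderOf_dvd_of_pow_eq_one
      (x := m') (n := 2 ^ e₂) (by rw [hm', ← pow_mul, mul_comm, ← hot, pow_orderOf_eq_one]))
    exact ⟨l, hl⟩
  have hnc : ∀ y : M, y * a * y⁻¹ = a * z → y ∉ Z := fun y hy hyZ => hz1 (by
    rw [← hcentral y hyZ a, mul_inv_cancel_right] at hy
    exact mul_eq_left.1 hy.symm)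
  have hm'2 : m' ^ 2 = 1 := hinvol m' hm'o (hnc m' hm'a)
  have hm'i : m'⁻¹ = m' := inv_eq_of_mul_eq_one_right (by rw [← sq, hm'2])
  have hsq : (a * m') ^ 2 = z := by
    rw [sq, show a * m' * (a * m') = a * (m' * a * m') by group]
    nth_rw 2 [← hm'i]
    rw [hm'a, ← mul_assoc, ← sq, ha2, one_mul]
  have hamo : ∃ i : ℕ, orderOf (a * m') = s ^ i := by
    rw [hs2]
    obtain ⟨l, -, hl⟩ := (Nat.dvd_prime_pow Nat.prime_two).1 (orderOf_dvd_of_pow_eq_one
      (x := a * m') (n := 2 ^ 2) (by rw [show 2 ^ 2 = 2 * 2 from rfl, pow_mul, hsq, hz2]))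
    exact ⟨l, hl⟩
  refine hz1 ?_
  rw [← hsq]
  refine hinvol _ hamo (hnc _ ?_)
  have hai : a⁻¹ = a := inv_eq_of_mul_eq_one_right (by rw [← sq, ha2])
  calc a * m' * a * (a * m')⁻¹ = a * (m' * a * m'⁻¹) * a⁻¹ := by group
    _ = a * (a * z) * a⁻¹ := by rw [hm'a]
    _ = a * z := by rw [mul_assoc a (a * z), mul_assoc a z, ← hcza a⁻¹, ← mul_assoc a a⁻¹, mul_inv_cancel, one_mul]

omit [Finite G] in
theorem not_dvd_card_of_faithful [Finite G] (h : Pair G) {N M : Subgroup G} [N.Normal]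
    (hab : ∀ a ∈ N, ∀ b ∈ N, a * b = b * a) {r : ℕ} [hr : Fact r.Prime] (he : ∀ n ∈ N, n ^ r = 1) (hNb : N ≠ ⊥)
    (hfaith : ∀ m ∈ M, (∀ n ∈ N, m * n * m⁻¹ = n) → m = 1)
    (hirr : ∀ W : Subgroup G, W ≤ N → (∀ m ∈ M, ∀ w ∈ W, m * w * m⁻¹ ∈ W) → W = ⊥ ∨ W = N)
    (hM : SSG M) : ¬ r ∣ Nat.card M := by
  intro hd
  have hmax : ∀ q : ℕ, q.Prime → q ∣ Nat.card M → q ≤ r := by
    intro q hq hqd
    by_contra hqr
    haveI : Fact q.Prime := ⟨hq⟩
    obtain ⟨y, hy⟩ := exists_prime_orderOf_dvd_card' q hqd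
    have hqne : q ≠ r := fun e => hqr e.le
    obtain ⟨D, k, hDN, hk, hfix, hsplit⟩ := eigen_split h hab he hq hqne (x := (y : G))
      ⟨1, by rw [pow_one, Subgroup.orderOf_coe, hy]⟩
    obtain ⟨d, hd, hd1⟩ : ∃ d ∈ D, d ≠ 1 := by
      by_contra hc
      push Not at hc
      have : (y : G) = 1 := hfaith _ y.2 fun n hn => by
        obtain ⟨c, -, d, hd, rfl, hcf⟩ := hsplit n hn
        rw [hc d hd, mul_one]
        exact hcf
      rw [← Subgroup.orderOf_coe, this, orderOf_one] at hy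
      exact hq.ne_one hy.symm
    have hkd : (k : ZMod r) ^ q = 1 := by
      have hit : ∀ i : ℕ, (y : G) ^ i * d * ((y : G) ^ i)⁻¹ = d ^ (k ^ i) := by
        intro i
        induction i with
        | zero => simp
        | succ i ih =>
          rw [pow_succ', show (y : G) * (y : G) ^ i * d * ((y : G) * (y : G) ^ i)⁻¹ =
            (y : G) * ((y : G) ^ i * d * ((y : G) ^ i)⁻¹) * (y : G)⁻¹ by group, ih, ← conj_pow, hk d hd, ← pow_mul,
            pow_succ']
      have h1 := hit q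
      rw [show (y : G) ^ q = 1 by rw [← hy, ← Subgroup.orderOf_coe, pow_orderOf_eq_one], one_mul, inv_one,
        mul_one] at h1
      have ho : orderOf d = r := orderOf_eq_prime (he d (hDN hd)) hd1
      have h2 : k ^ q ≡ 1 [MOD r] := ho ▸ pow_eq_pow_iff_modEq.1 (h1.symm.trans (pow_one d).symm)
      have := (ZMod.natCast_eq_natCast_iff _ _ _).2 h2
      simpa using this
    have hk1 : (k : ZMod r) = 1 := by
      have hk0 : (k : ZMod r) ≠ 0 := fun e => by rw [e, zero_pow hq.ne_zero] at hkd; exact zero_ne_one hkd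
      have h2 : (k : ZMod r) ^ (r - 1) = 1 := ZMod.pow_card_sub_one_eq_one hk0
      have hcop : q.Coprime (r - 1) := (hq.coprime_iff_not_dvd).2 fun hdv => by
        have := Nat.le_of_dvd (Nat.sub_pos_of_lt hr.out.one_lt) hdv
        omega
      have := orderOf_dvd_of_pow_eq_one hkd
      exact orderOf_eq_one_iff.1 (Nat.eq_one_of_dvd_coprimes hcop this (orderOf_dvd_of_pow_eq_one h2))
    refine hd1 (hfix d hd ?_)
    have : k ≡ 1 [MOD r] := (ZMod.natCast_eq_natCast_iff _ _ _).1 (by simpa using hk1)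
    rw [hk d hd]
    conv_rhs => rw [← pow_one d]
    exact pow_eq_pow_iff_modEq.2 (by rwa [orderOf_eq_prime (he d (hDN hd)) hd1])
  obtain ⟨R⟩ : Nonempty (Sylow r M) := inferInstance
  haveI hRn : (R : Subgroup M).Normal := ssg_sylow_normal hM hmax R
  set R' := (R : Subgroup M).map M.subtype with hR'
  have hR'p : IsPGroup r R' := R.2.map _
  -- fixed points of `R'` on `N`
  let c : G →* MulAut N := MulAut.conjNormal
  have hI : IsPGroup r (R'.map c) := hR'p.map c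
  obtain ⟨l, hl⟩ := IsPGroup.iff_card.1 (show IsPGroup r N from fun n => ⟨1, Subtype.ext (by simpa using he n n.2)⟩)
  have hl0 : l ≠ 0 := fun e => hNb (Subgroup.eq_bot_of_card_eq _ (by rw [hl, e, pow_zero]))
  obtain ⟨b, hb, hb1⟩ := hI.exists_fixed_point_of_prime_dvd_card_of_fixed_point N
    (hl ▸ dvd_pow_self r hl0) (a := (1 : N)) (fun σ => smul_one σ)
  have hinv : ∀ m ∈ M, ∀ w ∈ N ⊓ Subgroup.centralizer (R' : Set G),
      m * w * m⁻¹ ∈ N ⊓ Subgroup.centralizer (R' : Set G) := by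
    intro m hm w hw
    obtain ⟨hw1, hw2⟩ := Subgroup.mem_inf.1 hw
    refine Subgroup.mem_inf.2 ⟨(‹N.Normal›).conj_mem w hw1 m, Subgroup.mem_centralizer_iff.2 ?_⟩
    rintro _ ⟨v, hv, rfl⟩
    have hv' : m⁻¹ * (v : G) * m ∈ R' := ⟨⟨m, hm⟩⁻¹ * v * ⟨m, hm⟩, by
      have h0 := hRn.conj_mem v hv (⟨m, hm⟩⁻¹ : M)
      rw [inv_inv] at h0
      exact h0, rfl⟩
    have h1 := Subgroup.mem_centralizer_iff.1 hw2 _ hv'
    calc (v : G) * (m * w * m⁻¹) = m * (m⁻¹ * (v : G) * m * w) * m⁻¹ := by group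
      _ = m * (w * (m⁻¹ * (v : G) * m)) * m⁻¹ := by rw [h1]
      _ = m * w * m⁻¹ * v := by group


  rcases hirr (N ⊓ Subgroup.centralizer (R' : Set G)) inf_le_left hinv with hW | hW
  · refine hb1 (Subtype.ext ?_).symm
    refine Subgroup.mem_bot.1 (hW ▸ Subgroup.mem_inf.2 ⟨b.2, Subgroup.mem_centralizer_iff.2 fun w hw => ?_⟩)
    have h1 := congrArg (Subtype.val : N → G) (hb ⟨c w, Subgroup.mem_map_of_mem c hw⟩)
    exact mul_inv_eq_iff_eq_mul.1 ((MulAut.conjNormal_apply w b).symm.trans h1)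
  · have hRb : (R : Subgroup M) = ⊥ := by
      rw [eq_bot_iff]
      intro w hw
      refine Subgroup.mem_bot.2 (Subtype.ext (hfaith _ w.2 fun n hn => ?_))
      have := Subgroup.mem_centralizer_iff.1 ((inf_eq_left.1 hW) hn) _ (Subgroup.mem_map_of_mem M.subtype hw)
      rw [show (w : G) * n = n * w from this, mul_inv_cancel_right]
    exact (Sylow.ne_bot_of_dvd_card R hd) hRb
/-- A supersolvable group has a normal complement for its smallest prime. -/
theorem exists_pprime_normal : ∀ (n : ℕ) (L : Type u) [Group L] [Finite L], Nat.card L = n → SSG L →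
    ∀ {p : ℕ}, p.Prime → (∀ q : ℕ, q.Prime → q ∣ Nat.card L → p ≤ q) →
      ∃ K : Subgroup L, K.Normal ∧ (Nat.card K).Coprime p ∧ ∀ x : L, (orderOf x).Coprime p → x ∈ K := by
  intro n
  induction n using Nat.strong_induction_on with
  | _ n IH =>
    intro L _ _ hn hL p hp hmin
    by_cases hall : ∀ q : ℕ, q.Prime → q ∣ Nat.card L → q = p
    · refine ⟨⊥, inferInstance, by rw [Subgroup.card_bot]; exact Nat.coprime_one_left p, fun x hx => ?_⟩
      rw [Subgroup.mem_bot, ← orderOf_eq_one_iff]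
      by_contra hne
      obtain ⟨q, hq, hqd⟩ := Nat.exists_prime_and_dvd hne
      rw [hall q hq (hqd.trans (orderOf_dvd_natCard x))] at hqd
      exact hp.ne_one (Nat.eq_one_of_dvd_coprimes hx hqd dvd_rfl)
    push Not at hall
    obtain ⟨q₀, hq₀, hq₀d, hq₀p⟩ := hall
    obtain ⟨q, hq, hqd, hqmax⟩ := exists_largest_prime (n := Nat.card L) (by
      have := Nat.le_of_dvd Nat.card_pos hq₀d
      have := hq₀.two_le
      omega)
    haveI : Fact q.Prime := ⟨hq⟩
    have hqp : q ≠ p := by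
      have h1 := hmin q₀ hq₀ hq₀d
      have h2 := hqmax q₀ hq₀ hq₀d
      omega
    obtain ⟨Q⟩ : Nonempty (Sylow q L) := inferInstance
    haveI := ssg_sylow_normal hL hqmax Q
    obtain ⟨K, hKn, hKc, hKx⟩ := IH _ (hn ▸ card_quotient_lt (Q.ne_bot_of_dvd_card hqd)) (L ⧸ (Q : Subgroup L))
      rfl (ssg_quotient _ hL) hp (fun r hr hrd => hmin r hr (hrd.trans (Subgroup.card_quotient_dvd_card _)))
    refine ⟨K.comap (QuotientGroup.mk' (Q : Subgroup L)), inferInstance, ?_, fun x hx =>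
      hKx _ (hx.coprime_dvd_left (orderOf_map_dvd _ x))⟩
    rw [card_comap_mk']
    obtain ⟨i, hi⟩ := IsPGroup.iff_card.1 Q.2
    rw [hi]
    exact Nat.Coprime.mul_left hKc (((Nat.coprime_primes hq hp).2 hqp).pow_left i)

theorem pair_ssg_aux : ∀ (n : ℕ) (G : Type u) [Group G] [Finite G], Nat.card G = n → Pair G → SSG G := by
  intro n
  induction n using Nat.strong_induction_on with
  | _ n IH =>
    intro G _ _ hn h
    rcases subsingleton_or_nontrivial G with hs | hs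
    · exact ssg_of_subsingleton
    have hsub : ∀ K : Subgroup G, K ≠ ⊤ → SSG K := fun K hK =>
      IH _ (hn ▸ card_lt_of_ne_top hK) K rfl (pair_subgroup h K)
    have hquo : ∀ (K : Subgroup G) [K.Normal], K ≠ ⊥ → SSG (G ⧸ K) := fun K _ hK =>
      IH _ (hn ▸ card_quotient_lt hK) (G ⧸ K) rfl (pair_quotient h K)
    haveI hsol : Group.IsSolvable G := by
      set p := (Nat.card G).minFac with hp
      have hc1 : Nat.card G ≠ 1 := fun e => by
        have := (Finite.one_lt_card (α := G))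
        omega
      haveI : Fact p.Prime := ⟨Nat.minFac_prime hc1⟩
      obtain ⟨P⟩ : Nonempty (Sylow p G) := inferInstance
      by_cases hloc : ∀ R : Subgroup G, R ≤ (P : Subgroup G) → ∀ g ∈ Subgroup.normalizer (R : Set G),
          Nat.Coprime (orderOf g) p → g ∈ Subgroup.centralizer (R : Set G)
      · obtain ⟨K, hKn, hKc⟩ := (Cfsg.Agent.S0071.result P).2 hloc
        by_cases hKt : K = ⊤
        · exfalso
          have h1 := hKc.card_mul
          rw [hKt, Subgroup.card_top] at h1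
          have h2 : Nat.card (P : Subgroup G) = 1 :=
            Nat.eq_of_mul_eq_mul_left Nat.card_pos (h1.trans (mul_one _).symm)
          exact P.ne_bot_of_dvd_card (Nat.minFac_dvd _) (Subgroup.card_eq_one.1 h2)
        haveI := isSolvable_of_ssg (hsub K hKt)
        haveI : Group.IsNilpotent (P : Subgroup G) := P.2.isNilpotent
        haveI : Group.IsSolvable (G ⧸ K) := by
          refine Group.isSolvable_of_surjective (f := (QuotientGroup.mk' K).comp (P : Subgroup G).subtype) fun y => ?_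
          obtain ⟨g, rfl⟩ := QuotientGroup.mk'_surjective K y
          obtain ⟨⟨⟨a, ha⟩, ⟨b, hb⟩⟩, e, -⟩ := hKc.existsUnique g
          refine ⟨⟨b, hb⟩, ?_⟩
          rw [← e]
          show QuotientGroup.mk' K b = QuotientGroup.mk' K (a * b)
          rw [map_mul, show QuotientGroup.mk' K a = 1 from (QuotientGroup.eq_one_iff a).2 ha, one_mul]
        exact Group.isSolvable_of_ker_le_range K.subtype (QuotientGroup.mk' K)
          (by rw [QuotientGroup.ker_mk', Subgroup.range_subtype])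
      · push Not at hloc
        obtain ⟨R, hRP, g, hg, hgc, hgn⟩ := hloc
        by_cases hN : Subgroup.normalizer (R : Set G) = ⊤
        · haveI := Subgroup.normalizer_eq_top_iff.1 hN
          have hRb : R ≠ ⊥ := fun e => hgn (by rw [e, Subgroup.mem_centralizer_iff]; rintro x rfl; simp)
          haveI := isSolvable_of_ssg (hquo R hRb)
          haveI : Group.IsNilpotent R := (P.2.to_le hRP).isNilpotent
          exact Group.isSolvable_of_ker_le_range R.subtype (QuotientGroup.mk' R)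
            (by rw [QuotientGroup.ker_mk', Subgroup.range_subtype])
        exfalso
        apply hgn
        set L := Subgroup.normalizer (R : Set G) with hL
        have hLs := hsub L hN
        obtain ⟨K, hKn, hcop, hKc⟩ := exists_pprime_normal _ L rfl hLs (Fact.out : p.Prime)
          (fun q hq hqd => Nat.minFac_le_of_dvd hq.two_le (hqd.trans (Subgroup.card_subgroup_dvd_card L)))
        have hgK := hKc ⟨g, hg⟩ (by rwa [Subgroup.orderOf_mk])
        refine Subgroup.mem_centralizer_iff.2 fun x hx => ?_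
        have hxL : x ∈ L := Subgroup.le_normalizer hx
        set gg : L := ⟨g, hg⟩
        set xx : L := ⟨x, hxL⟩
        have h1 : xx * gg * xx⁻¹ * gg⁻¹ ∈ K := mul_mem (hKn.conj_mem gg hgK xx) (inv_mem hgK)
        have h2 : x * g * x⁻¹ * g⁻¹ ∈ R := by
          have := mul_mem hx ((Subgroup.mem_normalizer_iff.1 hg _).1 (inv_mem hx))
          simpa [mul_assoc] using this
        have h3 : orderOf (x * g * x⁻¹ * g⁻¹) = 1 := by
          have hd1 : orderOf (x * g * x⁻¹ * g⁻¹) ∣ Nat.card K := by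
            rw [show x * g * x⁻¹ * g⁻¹ = ((xx * gg * xx⁻¹ * gg⁻¹ : L) : G) from rfl, Subgroup.orderOf_coe]
            exact Subgroup.orderOf_dvd_natCard K h1
          obtain ⟨i, hi⟩ := IsPGroup.iff_card.1 (P.2.to_le hRP)
          exact Nat.eq_one_of_dvd_coprimes (hcop.pow_right i) hd1 (hi ▸ Subgroup.orderOf_dvd_natCard R h2)
        rw [orderOf_eq_one_iff, mul_inv_eq_one, mul_inv_eq_iff_eq_mul] at h3
        exact h3
    obtain ⟨N, hN⟩ := exists_isMinimalNormal (G := G)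
    haveI := hN.1
    haveI hNab : IsMulCommutative N := isMulCommutative_of_minimal_solvable hN inferInstance
    obtain ⟨r, hr, hexp, hrg⟩ := exists_prime_exponent_of_minimal_solvable hN inferInstance
    haveI : Fact r.Prime := ⟨hr⟩
    have hGN := hquo N hN.2.1
    by_cases hc : IsCyclic N
    · exact ssg_of_cyclic_normal N hGN
    refine maxPrime_ssg fun M hM => ?_
    set f := QuotientGroup.mk' N with hf
    have hfs : Function.Surjective f := QuotientGroup.mk'_surjective N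
    by_cases hNM : N ≤ M
    · have hker : f.ker ≤ M := by rw [QuotientGroup.ker_mk']; exact hNM
      have hcoat : IsCoatom (M.map f) := by
        refine ⟨fun e => hM.1 ?_, fun X hX => ?_⟩
        · rw [← Subgroup.comap_map_eq_self hker, e, Subgroup.comap_top]
        · have h1 : M < X.comap f := by
            have := (Subgroup.comap_lt_comap_of_surjective hfs).2 hX
            rwa [Subgroup.comap_map_eq_self hker] at this
          rw [← Subgroup.map_comap_eq_self_of_surjective hfs X, hM.2 _ h1, Subgroup.map_top_of_surjective f hfs]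
      rw [← Subgroup.comap_map_eq_self hker, Subgroup.index_comap_of_surjective _ hfs]
      exact ssg_maximal_index_prime hGN hcoat
    exfalso
    have hcomp := isComplement'_of_isCoatom hN.2.2 hM hNM
    have hab : ∀ a ∈ N, ∀ b ∈ N, a * b = b * a := fun a ha b hb =>
      Subtype.ext_iff.1 (hNab.is_comm.comm ⟨a, ha⟩ ⟨b, hb⟩)
    have hnorm : ∀ W : Subgroup G, (∀ a ∈ N, ∀ w ∈ W, a * w = w * a) →
        (∀ m ∈ M, ∀ w ∈ W, m * w * m⁻¹ ∈ W) → W.Normal := by
      intro W hcW hW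
      refine ⟨fun w hw g => ?_⟩
      obtain ⟨⟨⟨a, ha⟩, ⟨m, hm⟩⟩, e, -⟩ := hcomp.existsUnique g
      rw [← e]
      show a * m * w * (a * m)⁻¹ ∈ W
      rw [show a * m * w * (a * m)⁻¹ = a * (m * w * m⁻¹) * a⁻¹ by group, hcW a ha _ (hW m hm w hw),
        mul_inv_cancel_right]
      exact hW m hm w hw
    have hirr : ∀ W : Subgroup G, W ≤ N → (∀ m ∈ M, ∀ w ∈ W, m * w * m⁻¹ ∈ W) → W = ⊥ ∨ W = N :=
      fun W hWN hW => hN.2.2 W (hnorm W (fun a ha w hw => hab a ha w (hWN hw)) hW) hWN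
    have hfaith : ∀ m ∈ M, (∀ x ∈ N, m * x * m⁻¹ = x) → m = 1 := by
      intro m hm hmf
      set C := M ⊓ Subgroup.centralizer (N : Set G) with hC
      haveI : C.Normal := hnorm C (fun a ha w hw => Subgroup.mem_centralizer_iff.1 hw.2 a ha) fun k hk w hw =>
        Subgroup.mem_inf.2 ⟨mul_mem (mul_mem hk (Subgroup.mem_inf.1 hw).1) (inv_mem hk), (inferInstance : (Subgroup.centralizer (N : Set G)).Normal).conj_mem w hw.2 k⟩
      by_contra hm1
      have hmC : m ∈ C := ⟨hm, Subgroup.mem_centralizer_iff.2 fun x hx => (mul_inv_eq_iff_eq_mul.1 (hmf x hx)).symm⟩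
      have hCb : C ≠ ⊥ := fun e => hm1 (Subgroup.mem_bot.1 (e ▸ hmC))
      have hker : (QuotientGroup.mk' C).ker ≤ M := by rw [QuotientGroup.ker_mk']; exact inf_le_left
      have hfs' : Function.Surjective (QuotientGroup.mk' C) := QuotientGroup.mk'_surjective C
      have hcoat : IsCoatom (M.map (QuotientGroup.mk' C)) := by
        refine ⟨fun e => hM.1 ?_, fun X hX => ?_⟩
        · rw [← Subgroup.comap_map_eq_self hker, e, Subgroup.comap_top]
        · have h1 : M < X.comap (QuotientGroup.mk' C) := by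
            have := (Subgroup.comap_lt_comap_of_surjective hfs').2 hX
            rwa [Subgroup.comap_map_eq_self hker] at this
          rw [← Subgroup.map_comap_eq_self_of_surjective hfs' X, hM.2 _ h1, Subgroup.map_top_of_surjective _ hfs']
      have := ssg_maximal_index_prime (hquo C hCb) hcoat
      rw [← Subgroup.index_comap_of_surjective _ hfs', Subgroup.comap_map_eq_self hker, hcomp.index_eq_card] at this
      haveI : Fact (Nat.card N).Prime := ⟨this⟩
      exact hc (isCyclic_of_prime_card rfl)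
    have hnr := not_dvd_card_of_faithful h hab hexp hN.2.1 hfaith hirr (hsub M hM.1)
    have hsc := not_faithful_irreducible h hab hexp hfaith hirr (hsub M hM.1) hnr
    haveI := (Subgroup.nontrivial_iff_ne_bot N).2 hN.2.1
    obtain ⟨n₀, hn₀⟩ := exists_ne (1 : N)
    have hinv : ∀ m ∈ M, ∀ w ∈ Subgroup.zpowers (n₀ : G), m * w * m⁻¹ ∈ Subgroup.zpowers (n₀ : G) := by
      intro m hm w hw
      obtain ⟨k, hk⟩ := hsc m hm
      obtain ⟨i, rfl⟩ := Subgroup.mem_zpowers_iff.1 hw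
      rw [← conj_zpow, hk _ n₀.2]
      exact zpow_mem (pow_mem (Subgroup.mem_zpowers _) _) _
    rcases hirr (Subgroup.zpowers (n₀ : G)) (Subgroup.zpowers_le.2 n₀.2) hinv with h1 | h1
    · exact hn₀ (Subtype.ext (Subgroup.zpowers_eq_bot.1 h1))
    · exact hc (h1 ▸ Subgroup.isCyclic_zpowers _)


end CfsgLib.Inv.PairSupersolvable
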