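import Mathlib
import Cfsg.Agent.Solv.FittingBasic

/-!
The Pauli group in `GL(2^n, 3)`: an extraspecial 2-group of plus type with every isometry of its
quadratic space induced by its normalizer.
-/

set_option autoImplicit false
set_option linter.unusedSectionVars false
set_option linter.style.haveILetI false

namespace CfsgLib.Inv.PauliExtra

open Matrix

variable {n : ℕ}

/-- the points -/
abbrev Pt (n : ℕ) := Fin n → ZMod 2
/-- the quadratic space -/
abbrev Sp (n : ℕ) := (Fin n → ZMod 2) × (Fin n → ZMod 2)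

/-- the sign -/
def sgn (t : ZMod 2) : ZMod 3 := if t = 0 then 1 else -1

theorem sgn_add : ∀ a b : ZMod 2, sgn (a + b) = sgn a * sgn b := by decide
theorem sgn_zero : sgn 0 = 1 := rfl
theorem sgn_ne : ∀ a : ZMod 2, sgn a ≠ 0 := by decide
theorem sgn_inj : ∀ a b : ZMod 2, sgn a = sgn b → a = b := by decide
theorem sgn_sq : ∀ a : ZMod 2, sgn a * sgn a = 1 := by decide
theorem sgn_eq_one : ∀ a : ZMod 2, sgn a = 1 ↔ a = 0 := by decide
theorem sgn_exists : ∀ c : ZMod 3, c ≠ 0 → c = sgn (if c = 1 then 0 else 1) := by decide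
theorem sq_three : ∀ c : ZMod 3, c ≠ 0 → c * c = 1 := by decide

theorem add_self {M : Type*} [AddCommGroup M] [Module (ZMod 2) M] (x : M) : x + x = 0 := by
  rw [← two_smul (ZMod 2) x, show (2 : ZMod 2) = 0 from rfl, zero_smul]

/-- the Pauli operator of `(a, b)` -/
def P (u : Sp n) : Matrix (Pt n) (Pt n) (ZMod 3) :=
  Matrix.of fun x y => if x = y + u.1 then sgn (u.2 ⬝ᵥ y) else 0

/-- the cocycle -/
def β (u v : Sp n) : ZMod 2 := u.2 ⬝ᵥ v.1

/-- the quadratic form -/
def Qf (u : Sp n) : ZMod 2 := u.1 ⬝ᵥ u.2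

theorem P_mul (u v : Sp n) : P u * P v = sgn (β u v) • P (u + v) := by
  ext x y
  rw [Matrix.mul_apply, Finset.sum_eq_single (y + v.1)]
  · simp only [P, Matrix.of_apply, if_pos rfl, if_true, Matrix.smul_apply, smul_eq_mul, Prod.fst_add, Prod.snd_add, β]
    by_cases h : x = y + v.1 + u.1
    · rw [if_pos h, if_pos (show x = y + (u.1 + v.1) by rw [h]; abel), ← sgn_add, ← sgn_add, dotProduct_add,
        add_dotProduct]
      congr 1
      ring
    · rw [if_neg h, if_neg (show ¬ x = y + (u.1 + v.1) from fun e => h (by rw [e]; abel)), zero_mul, mul_zero]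
  · intro z _ hz
    simp only [P, Matrix.of_apply, if_neg hz, mul_zero]
  · intro h; exact absurd (Finset.mem_univ _) h

theorem P_zero : P (0 : Sp n) = 1 := by
  ext x y
  simp only [P, Matrix.of_apply, Prod.fst_zero, add_zero, Prod.snd_zero, zero_dotProduct, sgn_zero, Matrix.one_apply]

theorem β_self (u : Sp n) : β u u = Qf u := dotProduct_comm _ _

theorem P_sq (u : Sp n) : P u * P u = sgn (Qf u) • (1 : Matrix (Pt n) (Pt n) (ZMod 3)) := by
  rw [P_mul, β_self, add_self u, P_zero]

theorem Qf_add (u v : Sp n) : Qf (u + v) = Qf u + Qf v + (β u v + β v u) := by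
  simp only [Qf, β, Prod.fst_add, Prod.snd_add, add_dotProduct, dotProduct_add]
  rw [dotProduct_comm u.1 v.2, dotProduct_comm v.1 u.2]
  ring

theorem P_comm (u v : Sp n) : P u * P v = sgn (β u v + β v u) • (P v * P u) := by
  rw [P_mul, P_mul, smul_smul, add_comm v u, sgn_add, mul_assoc, sgn_sq, mul_one]

theorem P_inj {c c' : ZMod 3} (hc : c ≠ 0) {u v : Sp n} (h : c • P u = c' • P v) : u = v ∧ c = c' := by
  have hy : ∀ y : Pt n, u.1 = v.1 ∧ c * sgn (u.2 ⬝ᵥ y) = c' * sgn (v.2 ⬝ᵥ y) := by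
    intro y
    have := congrFun (congrFun h (y + u.1)) y
    simp only [Matrix.smul_apply, P, Matrix.of_apply, if_pos rfl, smul_eq_mul] at this
    by_cases he : y + u.1 = y + v.1
    · rw [if_pos he] at this
      exact ⟨add_left_cancel he, this⟩
    · rw [if_neg he, mul_zero, mul_eq_zero] at this
      exact absurd this (not_or.2 ⟨hc, sgn_ne _⟩)
  have hcc : c = c' := by
    have := (hy 0).2
    rwa [dotProduct_zero, dotProduct_zero, sgn_zero, mul_one, mul_one] at this
  refine ⟨Prod.ext (hy 0).1 (funext fun i => ?_), hcc⟩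
  have := (hy (Pi.single i 1)).2
  rw [dotProduct_single, dotProduct_single, mul_one, mul_one, ← hcc] at this
  exact sgn_inj _ _ (mul_left_cancel₀ hc this)

theorem trace_P {u : Sp n} (hu : u ≠ 0) : Matrix.trace (P u) = 0 := by
  by_cases ha : u.1 = 0
  · obtain ⟨i, hi⟩ : ∃ i, u.2 i ≠ 0 := Function.ne_iff.1 fun h => hu (Prod.ext ha h)
    have hi1 : u.2 i = 1 := (by decide : ∀ t : ZMod 2, t ≠ 0 → t = 1) _ hi
    simp only [Matrix.trace, Matrix.diag, P, Matrix.of_apply, ha, add_zero, if_pos]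
    have hS : ∑ y : Pt n, sgn (u.2 ⬝ᵥ y) = ∑ y : Pt n, sgn (u.2 ⬝ᵥ (y + Pi.single i 1)) :=
      (Equiv.sum_comp (Equiv.addRight (Pi.single i 1 : Pt n)) fun y => sgn (u.2 ⬝ᵥ y)).symm
    simp only [dotProduct_add, sgn_add, dotProduct_single, hi1, mul_one,
      show sgn 1 = -1 from rfl, mul_neg, Finset.sum_neg_distrib] at hS
    exact (by decide : ∀ t : ZMod 3, t = -t → t = 0) _ hS
  · refine Finset.sum_eq_zero fun y _ => ?_
    simp only [Matrix.diag, P, Matrix.of_apply]
    rw [if_neg fun h => ha ?_]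
    exact add_left_cancel (a := y) (by rw [add_zero]; exact h.symm)

/-- homomorphic lift of a totally singular subspace -/
theorem exists_lift (L : Pt n →ₗ[ZMod 2] Sp n) (hL : ∀ a, Qf (L a) = 0) :
    ∃ h : Pt n → Matrix (Pt n) (Pt n) (ZMod 3), h 0 = 1 ∧ (∀ a b, h (a + b) = h a * h b) ∧
      ∀ a, ∃ c : ZMod 3, c ≠ 0 ∧ h a = c • P (L a) := by
  let e : Fin n → Pt n := fun i => Pi.single i 1
  let B : Fin n → Fin n → ZMod 2 := fun i j => β (L (e i)) (L (e j))
  have hdiag : ∀ i, B i i = 0 := fun i => by simp only [B]; rw [β_self, hL]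
  have hsymm : ∀ i j, B i j = B j i := fun i j => by
    have := Qf_add (L (e i)) (L (e j))
    rw [← map_add, hL, hL, hL, zero_add, zero_add] at this
    exact (by decide : ∀ s t : ZMod 2, 0 = s + t → s = t) _ _ this
  let γ : Pt n → ZMod 2 := fun a => ∑ i, ∑ j, if i < j then B i j * (a i * a j) else 0
  have hβ : ∀ a b, β (L a) (L b) = ∑ i, ∑ j, B i j * (a i * b j) := by
    intro a b
    have ha : a = ∑ i, a i • e i := by
      funext k
      simp [e, Finset.sum_apply, Pi.single_apply]
    have hb : b = ∑ j, b j • e j := by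
      funext k
      simp [e, Finset.sum_apply, Pi.single_apply]
    conv_lhs => rw [ha, hb]
    simp only [β, B, map_sum, map_smul, Prod.fst_sum, Prod.snd_sum, sum_dotProduct, dotProduct_sum,
      Prod.smul_fst, Prod.smul_snd, smul_dotProduct, dotProduct_smul, smul_eq_mul, Finset.mul_sum]
    rw [Finset.sum_comm]
    refine Finset.sum_congr rfl fun i _ => Finset.sum_congr rfl fun j _ => ?_
    ring
  have hγ : ∀ a b, γ (a + b) = γ a + γ b + β (L a) (L b) := by
    intro a b
    rw [hβ]
    have h1 : ∑ i, ∑ j, B i j * (a i * b j) =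
        (∑ i, ∑ j, if i < j then B i j * (a i * b j) else 0) + ∑ i, ∑ j, if i < j then B i j * (b i * a j) else 0 := by
      have h2 : (∑ i, ∑ j, if i < j then B i j * (b i * a j) else 0) =
          ∑ i, ∑ j, if j < i then B i j * (a i * b j) else 0 := by
        rw [Finset.sum_comm]
        refine Finset.sum_congr rfl fun i _ => Finset.sum_congr rfl fun j _ => ?_
        split <;> [(rw [hsymm]; ring); rfl]
      rw [h2, ← Finset.sum_add_distrib]
      refine Finset.sum_congr rfl fun i _ => ?_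
      rw [← Finset.sum_add_distrib]
      refine Finset.sum_congr rfl fun j _ => ?_
      rcases lt_trichotomy i j with h | rfl | h
      · rw [if_pos h, if_neg (lt_asymm h), add_zero]
      · rw [hdiag]; simp
      · rw [if_neg (lt_asymm h), if_pos h, zero_add]
    rw [h1]
    simp only [γ, ← Finset.sum_add_distrib]
    refine Finset.sum_congr rfl fun i _ => Finset.sum_congr rfl fun j _ => ?_
    split
    · simp only [Pi.add_apply]; ring
    · simp
  refine ⟨fun a => sgn (γ a) • P (L a), ?_, fun a b => ?_, fun a => ⟨sgn (γ a), sgn_ne _, rfl⟩⟩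
  · show sgn (γ 0) • P (L 0) = 1
    have hγ0 : γ 0 = 0 := Finset.sum_eq_zero fun i _ => Finset.sum_eq_zero fun j _ => by
      show (if i < j then B i j * ((0 : Pt n) i * (0 : Pt n) j) else 0) = 0
      rw [Pi.zero_apply, zero_mul, mul_zero, ite_self]
    rw [map_zero, P_zero, hγ0, sgn_zero, one_smul]
  · show sgn (γ (a + b)) • P (L (a + b)) = sgn (γ a) • P (L a) * sgn (γ b) • P (L b)
    rw [smul_mul_smul_comm, P_mul, smul_smul, ← map_add, ← sgn_add, ← sgn_add, hγ]

/-- isometries are induced by invertible matrices -/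
theorem intertwiner (σ : Sp n ≃ₗ[ZMod 2] Sp n) (hσ : ∀ u, Qf (σ u) = Qf u) :
    ∃ T : Matrix (Pt n) (Pt n) (ZMod 3), IsUnit T ∧ ∀ u, ∃ c : ZMod 3, c ≠ 0 ∧ T * P u = c • (P (σ u) * T) := by
  classical
  obtain ⟨X, hX0, hXmul, hXc⟩ := exists_lift (σ.toLinearMap ∘ₗ LinearMap.inl (ZMod 2) (Pt n) (Pt n))
    (fun a => by show Qf (σ _) = 0; rw [hσ]; simp [Qf])
  obtain ⟨Z, hZ0, hZmul, hZc⟩ := exists_lift (σ.toLinearMap ∘ₗ LinearMap.inr (ZMod 2) (Pt n) (Pt n))
    (fun a => by show Qf (σ _) = 0; rw [hσ]; simp [Qf])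
  have hpol : ∀ u v, β (σ u) (σ v) + β (σ v) (σ u) = β u v + β v u := by
    intro u v
    have h1 := Qf_add (σ u) (σ v)
    rw [← map_add, hσ, hσ, hσ, Qf_add] at h1
    exact (add_left_cancel h1).symm
  have hZX : ∀ a b, Z b * X a = sgn (b ⬝ᵥ a) • (X a * Z b) := by
    intro a b
    obtain ⟨c, -, ec⟩ := hXc a
    obtain ⟨d, -, ed⟩ := hZc b
    rw [ec, ed, smul_mul_smul_comm, smul_mul_smul_comm, P_comm]
    simp only [smul_smul]
    rw [mul_comm d c, mul_comm (c * d)]
    congr 2
    simp only [LinearMap.comp_apply, LinearEquiv.coe_coe]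
    rw [hpol]
    simp [β]
  -- a common fixed vector
  let E : Matrix (Pt n) (Pt n) (ZMod 3) := ∑ b : Pt n, Z b
  have hZE : ∀ b, Z b * E = E := by
    intro b
    simp only [E, Finset.mul_sum, ← hZmul]
    exact Equiv.sum_comp (Equiv.addLeft b) Z
  have hcardne : ((Fintype.card (Pt n) : ℕ) : ZMod 3) ≠ 0 := by
    rw [Fintype.card_fun, ZMod.card, Fintype.card_fin, Nat.cast_pow]
    exact pow_ne_zero _ (by decide)
  have htr : Matrix.trace E ≠ 0 := by
    simp only [E, Matrix.trace_sum]
    rw [Finset.sum_eq_single (0 : Pt n)]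
    · rw [hZ0, Matrix.trace_one]; exact hcardne
    · intro b _ hb
      obtain ⟨c, -, e⟩ := hZc b
      rw [e, Matrix.trace_smul, trace_P, smul_zero]
      intro h
      exact hb (by simpa using σ.injective (h.trans (map_zero σ).symm))
    · intro h; exact absurd (Finset.mem_univ _) h
  obtain ⟨j, hj⟩ : ∃ j, (fun i => E i j) ≠ 0 := by
    by_contra h
    push Not at h
    exact htr (Finset.sum_eq_zero fun j _ => congrFun (h j) j)
  obtain ⟨v, hv⟩ : ∃ v, v = fun i => E i j := ⟨_, rfl⟩
  have hZv : ∀ b, Z b *ᵥ v = v := by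
    intro b
    funext i
    rw [hv]
    show ∑ k, Z b i k * E k j = E i j
    conv_rhs => rw [← hZE b, Matrix.mul_apply]
  let T : Matrix (Pt n) (Pt n) (ZMod 3) := Matrix.of fun i x => (X x *ᵥ v) i
  have hTcol : ∀ x, (fun i => T i x) = X x *ᵥ v := fun x => rfl
  have hcolP : ∀ (u : Sp n) (y : Pt n), (fun i => (T * P u) i y) = sgn (u.2 ⬝ᵥ y) • (fun i => T i (y + u.1)) := by
    intro u y
    funext i
    rw [Matrix.mul_apply, Finset.sum_eq_single (y + u.1)]
    · simp only [P, Matrix.of_apply, if_pos rfl, if_true, Pi.smul_apply, smul_eq_mul]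
      ring
    · intro z _ hz
      simp only [P, Matrix.of_apply, if_neg hz, mul_zero]
    · intro h; exact absurd (Finset.mem_univ _) h
  have hmulcol : ∀ (M : Matrix (Pt n) (Pt n) (ZMod 3)) y, (fun i => (M * T) i y) = M *ᵥ (fun i => T i y) :=
    fun M y => funext fun i => by rw [Matrix.mul_apply]; rfl
  have hTX : ∀ a, T * P (a, 0) = X a * T := by
    intro a
    ext i y
    suffices h : (fun i => (T * P (a, 0)) i y) = fun i => (X a * T) i y from congrFun h i
    rw [hcolP, hmulcol, hTcol, hTcol, Matrix.mulVec_mulVec, ← hXmul, add_comm a y, zero_dotProduct, sgn_zero,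
      one_smul]
  have hTZ : ∀ b, T * P (0, b) = Z b * T := by
    intro b
    ext i y
    suffices h : (fun i => (T * P (0, b)) i y) = fun i => (Z b * T) i y from congrFun h i
    rw [hcolP, hmulcol, hTcol, hTcol, Matrix.mulVec_mulVec, hZX, Matrix.smul_mulVec, ← Matrix.mulVec_mulVec,
      hZv, add_zero]
  have hcol0 : ∀ x, X x *ᵥ v ≠ 0 := by
    intro x h
    have h2 : X x * X x = 1 := by rw [← hXmul, add_self x, hX0]
    have h3 := congrArg (fun w => X x *ᵥ w) h
    simp only [Matrix.mulVec_mulVec, Matrix.mulVec_zero, h2, Matrix.one_mulVec] at h3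
    exact hj (hv ▸ h3)
  have hsum : ∀ t : Pt n, t ≠ 0 → ∑ b : Pt n, sgn (b ⬝ᵥ t) = 0 := by
    intro t ht
    have h := trace_P (u := ((0 : Pt n), t)) (fun e => ht (congrArg Prod.snd e))
    simp only [Matrix.trace, Matrix.diag, P, Matrix.of_apply, add_zero, if_pos] at h
    rw [← h]
    exact Finset.sum_congr rfl fun b _ => by rw [dotProduct_comm]
  have hunit : IsUnit T := by
    rw [← Matrix.mulVec_injective_iff_isUnit]
    intro w₁ w₂ hw
    have h0 : T *ᵥ (w₁ - w₂) = 0 := by
      rw [Matrix.mulVec_sub]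
      exact sub_eq_zero.2 hw
    rw [← sub_eq_zero]
    funext x
    obtain ⟨w, hwdef⟩ : ∃ w, w = w₁ - w₂ := ⟨_, rfl⟩
    rw [← hwdef] at h0 ⊢
    have hb : ∀ b, T *ᵥ (P (0, b) *ᵥ w) = 0 := fun b => by
      rw [Matrix.mulVec_mulVec, hTZ, ← Matrix.mulVec_mulVec, h0, Matrix.mulVec_zero]
    have hproj : ∑ b : Pt n, sgn (b ⬝ᵥ x) • (P (0, b) *ᵥ w) =
        Pi.single x ((Fintype.card (Pt n) : ZMod 3) * w x) := by
      funext y
      have hP0 : ∀ b, (P (0, b) *ᵥ w) y = sgn (b ⬝ᵥ y) * w y := fun b => by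
        simp only [Matrix.mulVec, dotProduct, P, Matrix.of_apply, add_zero]
        rw [Finset.sum_eq_single y] <;> simp +contextual [eq_comm]
      simp only [Finset.sum_apply, Pi.smul_apply, smul_eq_mul, hP0, ← mul_assoc, ← sgn_add, ← dotProduct_add,
        ← Finset.sum_mul]
      by_cases hyx : y = x
      · subst hyx
        simp [add_self y, sgn_zero, Finset.card_univ]
      · rw [Pi.single_eq_of_ne hyx, hsum, zero_mul]
        intro h
        exact hyx (by rw [← add_zero y, ← add_self x, ← add_assoc, add_comm y x, h, zero_add])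
    have h4 := congrArg (fun z => T *ᵥ z) hproj
    simp only [Matrix.mulVec_sum, Matrix.mulVec_smul, hb, smul_zero, Finset.sum_const_zero,
      Matrix.mulVec_single, op_smul_eq_smul] at h4
    rcases smul_eq_zero.1 h4.symm with h5 | h5
    · exact (mul_eq_zero.1 h5).resolve_left hcardne
    · exact absurd h5 (hcol0 x)
  refine ⟨T, hunit, fun u => ?_⟩
  have hu : P u = P (u.1, 0) * P (0, u.2) := by
    rw [P_mul]
    simp [β, sgn_zero]
  obtain ⟨c, hc, ec⟩ := hXc u.1
  obtain ⟨d, hd, ed⟩ := hZc u.2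
  refine ⟨c * d * sgn (β (σ (u.1, 0)) (σ (0, u.2))), mul_ne_zero (mul_ne_zero hc hd) (sgn_ne _), ?_⟩
  rw [hu, ← mul_assoc, hTX, mul_assoc, hTZ, ← mul_assoc, ec, ed, smul_mul_smul_comm, P_mul, smul_smul]
  simp only [LinearMap.comp_apply, LinearEquiv.coe_coe, LinearMap.inl_apply, LinearMap.inr_apply]
  rw [← map_add, show ((u.1, 0) : Sp n) + (0, u.2) = u by simp, Matrix.smul_mul]

theorem finrank_pt : Module.finrank (ZMod 2) (Pt n) = n := by simp

/-- hyperbolic coordinates of a plus type space -/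
theorem exists_coord {U : Type*} [AddCommGroup U] [Module (ZMod 2) U] [Module.Finite (ZMod 2) U]
    (hn : Module.finrank (ZMod 2) U = 2 * n) (q : QuadraticForm (ZMod 2) U)
    (hnd : (QuadraticMap.polarBilin q).Nondegenerate)
    (hplus : ∃ W : Submodule (ZMod 2) U, Module.finrank (ZMod 2) ↥W = n ∧ ∀ w ∈ W, q w = 0) :
    ∃ e : Sp n ≃ₗ[ZMod 2] U, ∀ u, q (e u) = Qf u := by
  classical
  obtain ⟨W, hWn, hW⟩ := hplus
  obtain ⟨B, hB⟩ : ∃ B : LinearMap.BilinForm (ZMod 2) U, B = QuadraticMap.polarBilin q := ⟨_, rfl⟩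
  rw [← hB] at hnd
  have hadd : ∀ x y, q (x + y) = q x + q y + B x y := fun x y => by
    rw [hB]
    exact QuadraticMap.map_add q x y
  have hsymm : ∀ x y, B x y = B y x := fun x y => by
    have h1 := hadd x y
    rw [add_comm x y, hadd, add_comm (q y)] at h1
    exact (add_left_cancel h1).symm
  have hBself : ∀ x, B x x = 0 := fun x => by
    have h1 := hadd x x
    rw [add_self x, QuadraticMap.map_zero, add_self (q x), zero_add] at h1
    exact h1.symm
  have hBW : ∀ x ∈ W, ∀ y ∈ W, B x y = 0 := fun x hx y hy => by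
    have h1 := hadd x y
    rw [hW _ (W.add_mem hx hy), hW _ hx, hW _ hy, zero_add, zero_add] at h1
    exact h1.symm
  obtain ⟨w⟩ : Nonempty (Module.Basis (Fin n) (ZMod 2) ↥W) := ⟨Module.finBasisOfFinrankEq _ _ hWn⟩
  let ψ : U →ₗ[ZMod 2] Pt n := LinearMap.pi fun i => B.flip (w i : U)
  have hψ : ∀ u i, ψ u i = B u (w i) := fun u i => rfl
  have hWψ : W ≤ LinearMap.ker ψ := fun u hu => by
    rw [LinearMap.mem_ker]
    funext i
    exact hBW u hu _ (w i).2
  have hker : LinearMap.ker ψ ≤ B.orthogonal W := by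
    intro u hu x hx
    show B x u = 0
    rw [LinearMap.mem_ker] at hu
    rw [show x = ((∑ i, w.repr ⟨x, hx⟩ i • w i : ↥W) : U) by rw [w.sum_repr], hsymm]
    simp only [Submodule.coe_sum, Submodule.coe_smul, map_sum, map_smul]
    refine Finset.sum_eq_zero fun i _ => ?_
    rw [← hψ, hu]
    simp
  have hkfin : Module.finrank (ZMod 2) ↥(LinearMap.ker ψ) ≤ n := by
    refine (Submodule.finrank_mono hker).trans ?_
    rw [LinearMap.BilinForm.finrank_orthogonal hnd, hn, hWn]
    omega
  have hsurj : Function.Surjective ψ := by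
    rw [← LinearMap.range_eq_top]
    refine Submodule.eq_top_of_finrank_eq (le_antisymm (Submodule.finrank_le _) ?_)
    have := ψ.finrank_range_add_finrank_ker
    rw [hn] at this
    rw [finrank_pt]
    omega
  choose f hf using fun i => hsurj (Pi.single i 1)
  have hfw : ∀ i j, B (f i) (w j) = if j = i then 1 else 0 := fun i j => by
    rw [← hψ, hf, Pi.single_apply]
  let C : Fin n → Fin n → ZMod 2 := fun i j => if j < i then B (f i) (f j) else if j = i then q (f i) else 0
  let g : Fin n → U := fun i => f i + ∑ j, C i j • (w j : U)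
  have hsumW : ∀ i, ∑ j, C i j • (w j : U) ∈ W := fun i => W.sum_mem fun j _ => W.smul_mem _ (w j).2
  have hgw : ∀ i j, B (g i) (w j) = if j = i then 1 else 0 := fun i j => by
    simp only [g, map_add, LinearMap.add_apply, hfw, hBW _ (hsumW i) _ (w j).2, add_zero]
  have hfs : ∀ i k, B (f i) (∑ j, C k j • (w j : U)) = C k i := fun i k => by
    simp only [map_sum, map_smul, hfw, smul_eq_mul, mul_ite, mul_one, mul_zero]
    rw [Finset.sum_ite_eq' Finset.univ i]
    simp
  have hgq : ∀ i, q (g i) = 0 := fun i => by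
    simp only [g]
    rw [hadd, hW _ (hsumW i), hfs, add_zero]
    simp [C, add_self]
  have hgg : ∀ i k, B (g i) (g k) = 0 := fun i k => by
    by_cases hik : i = k
    · rw [hik, hBself]
    simp only [g]
    simp only [map_add, LinearMap.add_apply]
    rw [hfs, hBW _ (hsumW i) _ (hsumW k),
      hsymm (∑ j, C i j • (w j : U)) (f k), hfs, add_zero]
    simp only [C]
    rcases lt_trichotomy i k with h | h | h
    · rw [if_pos h, if_neg (lt_asymm h), if_neg (Ne.symm hik), add_zero, hsymm (f k) (f i), add_self]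
    · exact absurd h hik
    · rw [if_neg (lt_asymm h), if_neg hik, if_pos h, add_zero, add_self]
  let Ψ : Sp n →ₗ[ZMod 2] U := (Fintype.linearCombination (ZMod 2) fun i => (w i : U)).coprod
    (Fintype.linearCombination (ZMod 2) g)
  have hΨ : ∀ u, Ψ u = (∑ i, u.1 i • (w i : U)) + ∑ i, u.2 i • g i := fun u => by
    simp [Ψ, Fintype.linearCombination_apply]
  have hBsum : ∀ (x : U) (c : Pt n) (h : Fin n → U), B x (∑ i, c i • h i) = ∑ i, c i * B x (h i) := fun x c h => by
    simp [map_sum, map_smul]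
  have hqg : ∀ (c : Pt n) (s : Finset (Fin n)), q (∑ i ∈ s, c i • g i) = 0 := by
    intro c s
    induction s using Finset.cons_induction with
    | empty => simp
    | cons a s ha ih =>
      rw [Finset.sum_cons, hadd, QuadraticMap.map_smul, hgq, ih, smul_zero, zero_add, zero_add]
      simp [map_sum, map_smul, hgg]
  have hqΨ : ∀ u, q (Ψ u) = Qf u := fun u => by
    rw [hΨ, hadd, hqg, hW _ (W.sum_mem fun j _ => W.smul_mem _ (w j).2), zero_add, zero_add, hsymm, hBsum]
    simp only [Qf, dotProduct]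
    refine Finset.sum_congr rfl fun i _ => ?_
    rw [hsymm, hBsum]
    simp [hsymm (w i : U), hgw]
  have hinj : Function.Injective Ψ := by
    rw [← LinearMap.ker_eq_bot, LinearMap.ker_eq_bot']
    intro u hu
    rw [hΨ] at hu
    refine Prod.ext (funext fun k => ?_) (funext fun k => ?_)
    · have h1 := congrArg (B (g k)) hu
      rw [map_zero, map_add, hBsum, hBsum] at h1
      simpa [hgw, hgg] using h1
    · have h1 := congrArg (B (w k : U)) hu
      rw [map_zero, map_add, hBsum, hBsum] at h1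
      simpa [hBW _ (w k).2 _ (w _).2, hsymm (w k : U), hgw] using h1
  refine ⟨LinearEquiv.ofBijective Ψ ⟨hinj, ?_⟩, hqΨ⟩
  exact (LinearMap.injective_iff_surjective_of_finrank_eq_finrank
    (by rw [hn, Module.finrank_prod, finrank_pt]; ring)).1 hinj

end CfsgLib.Inv.PauliExtra
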