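import Mathlib

/-!
2-groups with a cyclic subgroup of index 2 and an automorphism of odd order; groups with the presentation of `SL(2,3)`.
-/

set_option autoImplicit false
set_option linter.style.haveILetI false

namespace CfsgLib.Inv.Q8

variable {G : Type*} [Group G]

theorem aut_cyclic_trivial [Finite G] {c x : G} {k : ℕ} (hc : orderOf c = 2 ^ k) (hx : Odd (orderOf x))
    (hn : x * c * x⁻¹ ∈ Subgroup.zpowers c) : x * c * x⁻¹ = c := by
  have hxN : x ∈ Subgroup.normalizer (Subgroup.zpowers c : Set G) := by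
    refine Subgroup.mem_normalizer_iff_map_conj_eq.2 (Subgroup.eq_of_le_of_card_ge ?_ ?_)
    · rintro _ ⟨_, ⟨i, rfl⟩, rfl⟩
      show x * c ^ i * x⁻¹ ∈ _
      rw [← conj_zpow]
      exact zpow_mem hn i
    · rw [Subgroup.card_map_of_injective (MulAut.conj x).injective]
  let φ := (Subgroup.zpowers c).normalizerMonoidHom
  have h1 : orderOf (φ ⟨x, hxN⟩) ∣ orderOf x := by
    rw [← Subgroup.orderOf_mk x hxN]
    exact orderOf_map_dvd φ _
  haveI : IsCyclic ↥(Subgroup.zpowers c) := inferInstance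
  have h2 : orderOf (φ ⟨x, hxN⟩) ∣ 2 ^ (k - 1) := by
    refine (orderOf_dvd_natCard _).trans ?_
    rw [IsCyclic.card_mulAut, Nat.card_zpowers, hc]
    rcases k with _ | k
    · simp
    · rw [Nat.totient_prime_pow_succ Nat.prime_two]; simp
  have h3 : orderOf (φ ⟨x, hxN⟩) = 1 :=
    Nat.eq_one_of_dvd_coprimes (Nat.Coprime.pow_right _ (Nat.coprime_two_right.2 hx)) h1 h2
  have h4 := orderOf_eq_one_iff.1 h3
  have := congrArg Subtype.val (DFunLike.congr_fun h4 ⟨c, Subgroup.mem_zpowers c⟩)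
  simpa [φ] using this

theorem mul_mem_of_not [Finite G] {F C : Subgroup G} (hCF : C ≤ F) (h : C.relIndex F = 2) {u v : G}
    (hu : u ∈ F) (hv : v ∈ F) (hu' : u ∉ C) (hv' : v ∉ C) : u * v ∈ C := by
  have := (Subgroup.mul_mem_iff_of_index_two (H := C.subgroupOf F) h (a := ⟨u, hu⟩) (b := ⟨v, hv⟩))
  simp only [Subgroup.mem_subgroupOf, Subgroup.coe_mul] at this
  exact this.2 (iff_of_false hu' hv')

variable [Finite G] {F : Subgroup G} {c x : G}

/-- An element of odd order acting nontrivially moves every cyclic subgroup of index 2. -/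
theorem moves (hF : IsPGroup 2 F) (hc : c ∈ F) (hidx : (Subgroup.zpowers c).relIndex F = 2) (hx : Odd (orderOf x))
    (hxF : ∀ f ∈ F, x * f * x⁻¹ ∈ F) (hnc : ∃ f ∈ F, x * f * x⁻¹ ≠ f) : x * c * x⁻¹ ∉ Subgroup.zpowers c := by
  intro hmem
  obtain ⟨k, hk⟩ := IsPGroup.iff_orderOf.1 hF ⟨c, hc⟩
  rw [Subgroup.orderOf_mk] at hk
  have hxc := aut_cyclic_trivial hk hx hmem
  have hcC : Subgroup.zpowers c ≤ F := Subgroup.zpowers_le.2 hc
  have hfix : ∀ u ∈ Subgroup.zpowers c, x * u * x⁻¹ = u := by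
    rintro _ ⟨i, rfl⟩
    show x * c ^ i * x⁻¹ = c ^ i
    rw [← conj_zpow, hxc]
  obtain ⟨f, hf, hne⟩ := hnc
  have hfC : f ∉ Subgroup.zpowers c := fun h => hne (hfix f h)
  have hxfC : x * f * x⁻¹ ∉ Subgroup.zpowers c := fun h => hne (by
    have h2 := hfix _ h
    exact (MulAut.conj x).injective (show MulAut.conj x (x * f * x⁻¹) = MulAut.conj x f by simpa using h2))
  have hd : f⁻¹ * (x * f * x⁻¹) ∈ Subgroup.zpowers c :=
    mul_mem_of_not hcC hidx (inv_mem hf) (hxF f hf) (fun h => hfC (by simpa using inv_mem h)) hxfC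
  set d := f⁻¹ * (x * f * x⁻¹) with hdd
  have hit : ∀ n : ℕ, x ^ n * f * (x ^ n)⁻¹ = f * d ^ n := by
    intro n
    induction n with
    | zero => simp
    | succ n ih =>
      rw [pow_succ' x, show x * x ^ n * f * (x * x ^ n)⁻¹ = x * (x ^ n * f * (x ^ n)⁻¹) * x⁻¹ by group, ih,
        show x * (f * d ^ n) * x⁻¹ = (x * f * x⁻¹) * (x * d ^ n * x⁻¹) by group, hfix _ (pow_mem hd n),
        pow_succ', ← mul_assoc f, hdd, mul_inv_cancel_left]
  have h1 := hit (orderOf x)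
  rw [pow_orderOf_eq_one, one_mul, inv_one, mul_one, left_eq_mul] at h1
  obtain ⟨i, hi⟩ := hd
  have h2 : orderOf d ∣ 2 ^ k := by
    rw [← hk]
    refine orderOf_dvd_of_pow_eq_one ?_
    rw [← hi, ← zpow_natCast, ← zpow_mul, mul_comm, zpow_mul, zpow_natCast, pow_orderOf_eq_one, one_zpow]
  have h3 : orderOf d = 1 := Nat.eq_one_of_dvd_coprimes (Nat.Coprime.pow_right _ (Nat.coprime_two_right.2 hx))
    (orderOf_dvd_of_pow_eq_one h1) h2
  exact hne (by rw [orderOf_eq_one_iff] at h3; exact (inv_mul_eq_one.1 h3).symm)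

theorem relIndex_conj (hc : c ∈ F) (hidx : (Subgroup.zpowers c).relIndex F = 2) (hxF : ∀ f ∈ F, x * f * x⁻¹ ∈ F) :
    (Subgroup.zpowers (x * c * x⁻¹)).relIndex F = 2 := by
  have h1 := (Subgroup.zpowers c).card_mul_index
  have h2 := Subgroup.relIndex_mul_relIndex ⊥ _ F bot_le (Subgroup.zpowers_le.2 hc)
  have h3 := Subgroup.relIndex_mul_relIndex ⊥ _ F bot_le (Subgroup.zpowers_le.2 (hxF c hc))
  rw [Subgroup.relIndex_bot_left, Subgroup.relIndex_bot_left, Nat.card_zpowers] at h2 h3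
  have e : orderOf (x * c * x⁻¹) = orderOf c :=
    orderOf_injective (MulAut.conj x).toMonoidHom (MulAut.conj x).injective c
  rw [e, ← h2, hidx] at h3
  exact Nat.eq_of_mul_eq_mul_left (orderOf_pos c) h3

/-- The structure forced by an automorphism of odd order. -/
theorem structure_of_auto (hF : IsPGroup 2 F) (hc : c ∈ F) (hidx : (Subgroup.zpowers c).relIndex F = 2) (hx : Odd (orderOf x))
    (hxF : ∀ f ∈ F, x * f * x⁻¹ ∈ F) (hnc : ∃ f ∈ F, x * f * x⁻¹ ≠ f) :
    Nat.card F ∣ 8 ∧ (Nat.card F = 8 → c ^ 4 = 1 ∧ c ^ 2 ≠ 1 ∧ (x * c * x⁻¹) ^ 2 = c ^ 2 ∧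
      (∀ f ∈ F, f ∉ Subgroup.zpowers c → f ^ 2 = c ^ 2) ∧
      x * c * x⁻¹ * c * (x * c * x⁻¹)⁻¹ = c ^ 3) := by
  obtain ⟨k, hk⟩ := IsPGroup.iff_orderOf.1 hF ⟨c, hc⟩
  rw [Subgroup.orderOf_mk] at hk
  set b := x * c * x⁻¹ with hb
  have hbF : b ∈ F := hxF c hc
  have hbC : b ∉ Subgroup.zpowers c := moves hF hc hidx hx hxF hnc
  have hidxb := relIndex_conj hc hidx hxF
  rw [← hb] at hidxb
  have hCF : Subgroup.zpowers c ≤ F := Subgroup.zpowers_le.2 hc
  have hBF : Subgroup.zpowers b ≤ F := Subgroup.zpowers_le.2 hbF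
  have hb2 : b ^ 2 ∈ Subgroup.zpowers c := by
    rw [pow_two]; exact mul_mem_of_not hCF hidx hbF hbF hbC hbC
  have hcB : c ∉ Subgroup.zpowers b := fun h => hbC (by
    have e : Subgroup.zpowers c = Subgroup.zpowers b := Subgroup.eq_of_le_of_card_ge (Subgroup.zpowers_le.2 h) (by
      rw [Nat.card_zpowers, Nat.card_zpowers, hb]
      exact (orderOf_injective (MulAut.conj x).toMonoidHom (MulAut.conj x).injective c).le)
    rw [e]; exact Subgroup.mem_zpowers b)
  have hcd : orderOf (c ^ 2) = 2 ^ (k - 1) := by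
    rcases k with _ | k
    · rw [pow_zero] at hk
      exact absurd (by rw [orderOf_eq_one_iff.1 hk]; exact one_mem _) hcB
    · rw [orderOf_pow' c two_ne_zero, hk, pow_succ]; simp
  have hbd : b ^ 2 = x * c ^ 2 * x⁻¹ := by rw [hb, conj_pow]
  -- `x` centralizes the square
  have hb2c : b ^ 2 ∈ Subgroup.zpowers (c ^ 2) := by
    obtain ⟨i, hi⟩ := hb2
    have hi' : c ^ i = b ^ 2 := hi
    rcases Int.even_or_odd i with ⟨j, rfl⟩ | hodd
    · refine ⟨j, ?_⟩
      show (c ^ 2) ^ j = b ^ 2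
      rw [← hi', ← zpow_natCast, ← zpow_mul]; congr 1; push_cast; ring
    · exfalso
      refine hcB ?_
      have hcop : IsCoprime i ((2 : ℤ) ^ k) := by
        refine IsCoprime.pow_right ?_
        rw [Int.isCoprime_iff_nat_coprime]
        exact Nat.coprime_two_right.2 (Int.natAbs_odd.2 hodd)
      obtain ⟨u, v, huv⟩ := hcop
      have : c = (b ^ 2) ^ u := by
        rw [← hi', ← zpow_mul]
        conv_lhs => rw [← zpow_one c, ← huv, zpow_add, mul_comm v, zpow_mul c ((2 : ℤ) ^ k),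
          show ((2 : ℤ) ^ k) = ((2 ^ k : ℕ) : ℤ) by push_cast; rfl, zpow_natCast, ← hk, pow_orderOf_eq_one,
          one_zpow, mul_one, mul_comm]
      rw [this]
      exact zpow_mem (pow_mem (Subgroup.mem_zpowers b) 2) u
  have hd : b ^ 2 = c ^ 2 := by
    rw [hbd] at hb2c ⊢
    exact aut_cyclic_trivial hcd hx hb2c
  -- the third subgroup
  set t := x * b * x⁻¹ with ht
  have htF : t ∈ F := hxF b hbF
  have htB : t ∉ Subgroup.zpowers b := moves hF hbF hidxb hx hxF hnc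
  have htC : t ∉ Subgroup.zpowers c := by
    intro h
    have hx2 : Odd (orderOf (x ^ 2)) := hx.of_dvd_nat (orderOf_pow_dvd 2)
    have h' : x ^ 2 * c * (x ^ 2)⁻¹ ∈ Subgroup.zpowers c := by
      have : x ^ 2 * c * (x ^ 2)⁻¹ = t := by rw [ht, hb]; simp [pow_two, mul_assoc]
      rwa [this]
    have hfix := aut_cyclic_trivial hk hx2 h'
    obtain ⟨m, hm⟩ := exists_pow_eq_self_of_coprime (G := G) (x := x) (n := 2) (Nat.coprime_two_left.2 hx)
    have hall : ∀ n : ℕ, (x ^ 2) ^ n * c * ((x ^ 2) ^ n)⁻¹ = c := by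
      intro n
      induction n with
      | zero => simp
      | succ n ih =>
        rw [pow_succ, show (x ^ 2) ^ n * x ^ 2 * c * ((x ^ 2) ^ n * x ^ 2)⁻¹ =
          (x ^ 2) ^ n * (x ^ 2 * c * (x ^ 2)⁻¹) * ((x ^ 2) ^ n)⁻¹ by group, hfix, ih]
    have := hall m
    rw [hm] at this
    exact hbC (by rw [hb, this]; exact Subgroup.mem_zpowers c)
  have ht2 : t ^ 2 = c ^ 2 := by rw [ht, conj_pow, hd, ← hbd, hd]
  obtain ⟨i, hi⟩ : t * b⁻¹ ∈ Subgroup.zpowers c :=
    mul_mem_of_not hCF hidx htF (inv_mem hbF) htC (fun h => hbC (by simpa using inv_mem h))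
  have hti : t = c ^ i * b := by rw [show c ^ i = t * b⁻¹ from hi, inv_mul_cancel_right]
  have hiodd : Odd i := by
    rcases Int.even_or_odd i with ⟨j, rfl⟩ | h
    · exfalso
      refine htB ?_
      rw [hti, show c ^ (j + j) = (c ^ 2) ^ j by rw [← two_mul, zpow_mul]; norm_cast, ← hd]
      exact mul_mem (zpow_mem (pow_mem (Subgroup.mem_zpowers b) 2) j) (Subgroup.mem_zpowers b)
    · exact h
  -- the commutator
  set e := b * c * b⁻¹ * c⁻¹ with he
  have hnC : ∀ f ∈ F, ∀ u ∈ Subgroup.zpowers c, f * u * f⁻¹ ∈ Subgroup.zpowers c := by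
    intro f hf u hu
    haveI : ((Subgroup.zpowers c).subgroupOf F).Normal := Subgroup.normal_of_index_eq_two hidx
    exact (Subgroup.normal_subgroupOf_iff hCF).1 inferInstance u f hu hf
  have heC : e ∈ Subgroup.zpowers c := mul_mem (hnC b hbF c (Subgroup.mem_zpowers c)) (inv_mem (Subgroup.mem_zpowers c))
  have hec : Commute e c := by
    obtain ⟨j, hj⟩ := heC
    rw [← hj]; exact (Commute.refl c).zpow_left j
  have hbcb : b * c * b⁻¹ = e * c := by rw [he]; group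
  have hbi : b * c ^ i * b⁻¹ = e ^ i * c ^ i := by rw [← conj_zpow, hbcb, hec.mul_zpow]
  have he2 : e ^ 2 = 1 := by
    have h1 : b * c ^ 2 * b⁻¹ = c ^ 2 := by rw [← hd]; group
    rw [← conj_pow, hbcb, hec.mul_pow, mul_eq_right] at h1
    exact h1
  have hei : e ^ i = e := by
    obtain ⟨j, rfl⟩ := hiodd
    rw [zpow_add, zpow_mul, zpow_one, show e ^ (2 : ℤ) = 1 by exact_mod_cast he2, one_zpow, one_mul]
  have hcomm : Commute e (c ^ i) := hec.zpow_right i
  have key : c ^ (2 * i) = e := by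
    have h : t ^ 2 = e * c ^ (2 * i) * c ^ 2 := by
      calc t ^ 2 = c ^ i * (b * c ^ i * b⁻¹) * b ^ 2 := by rw [hti, pow_two, pow_two]; group
        _ = c ^ i * (e * c ^ i) * c ^ 2 := by rw [hbi, hei, hd]
        _ = _ := by rw [← mul_assoc, ← hcomm.eq, mul_assoc e, ← zpow_add, two_mul]
    rw [ht2] at h
    have h' := (right_eq_mul.1 h)
    have einv : e⁻¹ = e := inv_eq_of_mul_eq_one_right (by rw [← pow_two]; exact he2)
    rw [← einv]
    exact (eq_inv_of_mul_eq_one_right h').trans rfl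
  have h4 : c ^ 4 = 1 := by
    have hz : c ^ (4 * i) = 1 := by
      rw [show (4 : ℤ) * i = 2 * i + 2 * i by ring, zpow_add, key, ← pow_two, he2]
    have hdvd : ((2 ^ k : ℕ) : ℤ) ∣ 4 * i := by rw [← hk]; exact orderOf_dvd_iff_zpow_eq_one.2 hz
    have hdvd' : 2 ^ k ∣ 4 * i.natAbs := by
      have := Int.natAbs_dvd_natAbs.2 hdvd
      simpa [Int.natAbs_mul] using this
    have hco : Nat.Coprime (2 ^ k) i.natAbs := Nat.Coprime.pow_left _ (Nat.coprime_two_left.2 (Int.natAbs_odd.2 hiodd))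
    exact orderOf_dvd_iff_pow_eq_one.1 (hk ▸ hco.dvd_of_dvd_mul_right hdvd')
  have hcard := Subgroup.relIndex_mul_relIndex ⊥ _ F bot_le hCF
  rw [Subgroup.relIndex_bot_left, Subgroup.relIndex_bot_left, Nat.card_zpowers, hidx] at hcard
  refine ⟨by rw [← hcard]; exact Nat.mul_dvd_mul (orderOf_dvd_of_pow_eq_one h4) (dvd_refl 2), fun h8 => ?_⟩
  rw [h8] at hcard
  have ho : orderOf c = 4 := by omega
  have h2 : c ^ 2 ≠ 1 := fun h => by
    have := Nat.le_of_dvd (by norm_num) (orderOf_dvd_of_pow_eq_one h)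
    omega
  have hee : e = c ^ 2 := by
    rw [← key]
    obtain ⟨j, rfl⟩ := hiodd
    rw [show 2 * (2 * j + 1) = 4 * j + 2 by ring, zpow_add, zpow_mul]
    norm_cast
    rw [h4, one_zpow, one_mul]
  have h3 : b * c * b⁻¹ = c ^ 3 := by rw [hbcb, hee]; group
  refine ⟨h4, h2, hd, fun f hf hfC => ?_, h3⟩
  obtain ⟨j, hj⟩ : f * b⁻¹ ∈ Subgroup.zpowers c :=
    mul_mem_of_not hCF hidx hf (inv_mem hbF) hfC (fun h => hbC (by simpa using inv_mem h))
  have hfe : f = c ^ j * b := by rw [show c ^ j = f * b⁻¹ from hj, inv_mul_cancel_right]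
  calc f ^ 2 = c ^ j * (b * c * b⁻¹) ^ j * b ^ 2 := by rw [hfe, conj_zpow, pow_two, pow_two]; group
    _ = (c ^ 4) ^ j * c ^ 2 := by rw [h3, hd, ← zpow_natCast c 3, ← zpow_mul, ← zpow_add, ← zpow_natCast c 4, ← zpow_mul]; congr 2; push_cast; ring
    _ = c ^ 2 := by rw [h4, one_zpow, one_mul]

/-! ### The presentation -/

/-- Generators satisfying the relations of `SL(2,3)`. -/
structure Data (H : Type*) [Group H] where
  a : H
  b : H
  y : H
  hcard : Nat.card H = 24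
  hgen : Subgroup.closure {a, b, y} = ⊤
  a4 : a ^ 4 = 1
  b2 : b ^ 2 = a ^ 2
  ba : b * a = a ^ 3 * b
  y3 : y ^ 3 = 1
  ya : y * a = b * y
  yb : y * b = a ^ 3 * b * y

variable {H : Type*} [Group H]

/-- Normal form. -/
def Data.nf (D : Data H) (v : Fin 4 × Fin 2 × Fin 3) : H := D.a ^ (v.1 : ℕ) * D.b ^ (v.2.1 : ℕ) * D.y ^ (v.2.2 : ℕ)

/-- Left multiplication by `a`. -/
def la (v : Fin 4 × Fin 2 × Fin 3) : Fin 4 × Fin 2 × Fin 3 := (v.1 + 1, v.2.1, v.2.2)

/-- Left multiplication by `b`. -/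
def lb (v : Fin 4 × Fin 2 × Fin 3) : Fin 4 × Fin 2 × Fin 3 :=
  if v.2.1 = 0 then (-v.1, 1, v.2.2) else (-v.1 + 2, 0, v.2.2)

/-- Left multiplication by `y`. -/
def ly (v : Fin 4 × Fin 2 × Fin 3) : Fin 4 × Fin 2 × Fin 3 :=
  match v.1.val, v.2.1.val with
  | 0, 0 => (0, 0, v.2.2 + 1)
  | 1, 0 => (0, 1, v.2.2 + 1)
  | 2, 0 => (2, 0, v.2.2 + 1)
  | _, 0 => (2, 1, v.2.2 + 1)
  | 0, _ => (3, 1, v.2.2 + 1)
  | 1, _ => (3, 0, v.2.2 + 1)
  | 2, _ => (1, 1, v.2.2 + 1)
  | _, _ => (1, 0, v.2.2 + 1)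

theorem Data.apow (D : Data H) (m : ℕ) : D.a ^ (m % 4) = D.a ^ m := by
  conv_rhs => rw [← Nat.mod_add_div m 4, pow_add, pow_mul, D.a4, one_pow, mul_one]

theorem Data.ypow (D : Data H) (m : ℕ) : D.y ^ (m % 3) = D.y ^ m := by
  conv_rhs => rw [← Nat.mod_add_div m 3, pow_add, pow_mul, D.y3, one_pow, mul_one]

theorem Data.nf_la (D : Data H) (v : Fin 4 × Fin 2 × Fin 3) : D.a * D.nf v = D.nf (la v) := by
  obtain ⟨m, n, k⟩ := v
  simp only [Data.nf, la, Fin.val_add, Fin.val_one, D.apow, pow_succ']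
  group

theorem Data.b_apow (D : Data H) (m : ℕ) : D.b * D.a ^ m = D.a ^ (3 * m) * D.b := by
  induction m with
  | zero => simp
  | succ m ih => rw [pow_succ, ← mul_assoc, ih, mul_assoc, D.ba, ← mul_assoc, ← pow_add, Nat.mul_succ]

theorem Data.nf_lb (D : Data H) (v : Fin 4 × Fin 2 × Fin 3) : D.b * D.nf v = D.nf (lb v) := by
  obtain ⟨m, n, k⟩ := v
  simp only [Data.nf, ← mul_assoc, D.b_apow]
  have hk : (lb (m, n, k)).2.2 = k := by simp only [lb]; split <;> rfl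
  rw [hk]
  congr 1
  fin_cases n
  · simp only [lb, Fin.zero_eta, ↓reduceIte, Fin.val_zero, pow_zero, mul_one, Fin.val_one, pow_one]
    rw [← D.apow (3 * (m : ℕ))]
    congr 2
    clear hk; revert m; decide
  · simp only [lb, Fin.mk_one, one_ne_zero, ↓reduceIte, Fin.val_zero, pow_zero, mul_one, Fin.val_one, pow_one]
    rw [mul_assoc, ← pow_two, D.b2, ← pow_add, ← D.apow (3 * (m : ℕ) + 2)]
    congr 1
    clear hk; revert m; decide

theorem Data.nf_ly (D : Data H) (v : Fin 4 × Fin 2 × Fin 3) : D.y * D.nf v = D.nf (ly v) := by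
  obtain ⟨m, n, k⟩ := v
  have hya : ∀ j : ℕ, D.y * D.a ^ j = D.b ^ j * D.y := by
    intro j
    induction j with
    | zero => simp
    | succ j ih => rw [pow_succ, pow_succ, ← mul_assoc, ih, mul_assoc, D.ya, mul_assoc]
  have hyk : ∀ j : ℕ, D.y * D.y ^ (j : ℕ) = D.y ^ ((j + 1) % 3) := fun j => by rw [D.ypow, pow_succ']
  have e3 : D.b * (D.a ^ 3 * D.b) = D.a ^ (3 * 3 + 2) := by
    rw [← mul_assoc, D.b_apow, mul_assoc, ← pow_two D.b, D.b2, ← pow_add]
  have b3 : D.b ^ 3 = D.a ^ 2 * D.b := by rw [pow_succ, D.b2]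
  have h0 : D.y * (D.a ^ (m : ℕ) * D.b ^ (n : ℕ) * D.y ^ (k : ℕ)) =
      D.b ^ (m : ℕ) * (D.a ^ 3 * D.b) ^ (n : ℕ) * D.y ^ (((k : ℕ) + 1) % 3) := by
    rw [← mul_assoc, ← mul_assoc, hya, ← hyk]
    fin_cases n
    · simp [mul_assoc]
    · simp only [Fin.mk_one, Fin.val_one, pow_one]
      rw [mul_assoc (D.b ^ _) D.y D.b, D.yb]
      simp [mul_assoc]
  rw [Data.nf, h0]
  have c1 : D.a ^ 2 * (D.a ^ 3 * D.b) = D.a * D.b := by
    rw [← mul_assoc, ← pow_add, ← D.apow]; norm_num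
  have c3 : D.a ^ 2 * D.b * (D.a ^ 3 * D.b) = D.a := by
    rw [mul_assoc, e3, ← pow_add, ← D.apow]; norm_num
  have c0 : D.b * (D.a ^ 3 * D.b) = D.a ^ 3 := by rw [e3, ← D.apow (3 * 3 + 2)]
  fin_cases m <;> fin_cases n <;>
    simp [Data.nf, ly, Fin.val_add, D.b2, b3, c0, c1, c3]

theorem Data.nf_surjective (D : Data H) : Function.Surjective D.nf := by
  intro h
  have hmem : h ∈ Subgroup.closure {D.a, D.b, D.y} := D.hgen ▸ Subgroup.mem_top h
  have ha1 : D.nf (0, 0, 0) = 1 := by simp [Data.nf]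
  have key : ∀ g ∈ Subgroup.closure {D.a, D.b, D.y}, ∀ v, ∃ w, D.nf w = g * D.nf v := by
    intro g hg
    induction hg using Subgroup.closure_induction'' with
    | mem u hu =>
      intro v
      rcases hu with rfl | rfl | rfl
      exacts [⟨_, (D.nf_la v).symm⟩, ⟨_, (D.nf_lb v).symm⟩, ⟨_, (D.nf_ly v).symm⟩]
    | inv_mem u hu =>
      intro v
      rcases hu with rfl | rfl | rfl
      · refine ⟨la (la (la v)), ?_⟩
        rw [← D.nf_la, ← D.nf_la, ← D.nf_la, eq_inv_mul_iff_mul_eq, ← mul_assoc D.a, ← mul_assoc, ← mul_assoc,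
          show D.a * D.a * D.a * D.a = D.a ^ 4 by simp [pow_succ, mul_assoc], D.a4, one_mul]
      · refine ⟨lb (lb (lb v)), ?_⟩
        rw [← D.nf_lb, ← D.nf_lb, ← D.nf_lb, eq_inv_mul_iff_mul_eq, ← mul_assoc D.b, ← mul_assoc, ← mul_assoc,
          show D.b * D.b * D.b * D.b = (D.b ^ 2) ^ 2 by simp [pow_succ, mul_assoc], D.b2, ← pow_mul, D.a4, one_mul]
      · refine ⟨ly (ly v), ?_⟩
        rw [← D.nf_ly, ← D.nf_ly, eq_inv_mul_iff_mul_eq, ← mul_assoc D.y, ← mul_assoc,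
          show D.y * D.y * D.y = D.y ^ 3 by simp [pow_succ, mul_assoc], D.y3, one_mul]
    | one => exact fun v => ⟨v, (one_mul _).symm⟩
    | mul g g' _ _ ih ih' =>
      intro v
      obtain ⟨w, hw⟩ := ih' v
      obtain ⟨w', hw'⟩ := ih w
      exact ⟨w', by rw [hw', hw, mul_assoc]⟩
  obtain ⟨w, hw⟩ := key h hmem (0, 0, 0)
  exact ⟨w, by rw [hw, ha1, mul_one]⟩

theorem Data.nf_bijective (D : Data H) : Function.Bijective D.nf := by
  haveI : Finite H := Nat.finite_of_card_ne_zero (by rw [D.hcard]; norm_num)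
  exact (Nat.bijective_iff_surjective_and_card D.nf).2 ⟨D.nf_surjective, by simp [D.hcard]⟩

/-- Two groups with such generators are isomorphic. -/
theorem Data.iso {H' : Type*} [Group H'] (D : Data H) (D' : Data H') : Nonempty (H ≃* H') := by
  let e : H ≃ H' := (Equiv.ofBijective _ D.nf_bijective).symm.trans (Equiv.ofBijective _ D'.nf_bijective)
  have he : ∀ v, e (D.nf v) = D'.nf v := fun v => by
    simp only [e, Equiv.trans_apply, Equiv.ofBijective_apply]
    rw [Equiv.ofBijective_symm_apply_apply]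
  have hP : ∀ g ∈ Subgroup.closure {D.a, D.b, D.y}, ∃ g', ∀ x, e (g * x) = g' * e x := by
    intro g hg
    induction hg using Subgroup.closure_induction with
    | mem u hu =>
      rcases hu with rfl | rfl | rfl
      · refine ⟨D'.a, fun x => ?_⟩
        obtain ⟨v, rfl⟩ := D.nf_surjective x
        rw [D.nf_la, he, he, D'.nf_la]
      · refine ⟨D'.b, fun x => ?_⟩
        obtain ⟨v, rfl⟩ := D.nf_surjective x
        rw [D.nf_lb, he, he, D'.nf_lb]
      · refine ⟨D'.y, fun x => ?_⟩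
        obtain ⟨v, rfl⟩ := D.nf_surjective x
        rw [D.nf_ly, he, he, D'.nf_ly]
    | one => exact ⟨1, fun x => by simp⟩
    | mul g h _ _ ihg ihh =>
      obtain ⟨g', hg'⟩ := ihg
      obtain ⟨h', hh'⟩ := ihh
      exact ⟨g' * h', fun x => by rw [mul_assoc, hg', hh', mul_assoc]⟩
    | inv g _ ih =>
      obtain ⟨g', hg'⟩ := ih
      refine ⟨g'⁻¹, fun x => ?_⟩
      rw [eq_inv_mul_iff_mul_eq, ← hg', mul_inv_cancel_left]
  have h1 : e 1 = 1 := by
    have := he (0, 0, 0)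
    simpa [Data.nf] using this
  refine ⟨MulEquiv.mk e fun g x => ?_⟩
  obtain ⟨g', hg'⟩ := hP g (D.hgen ▸ Subgroup.mem_top g)
  have : e g = g' := by simpa [h1] using hg' 1
  show e (g * x) = e g * e x
  rw [this]; exact hg' x

end CfsgLib.Inv.Q8
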