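import Cfsg.Agent.Inv.QDFusion
import Cfsg.Prelude.Def_Transfer
import Mathlib.GroupTheory.Transfer

/-!
Index two subgroups and classes of elements in groups with quasi-dihedral Sylow 2-subgroups.
-/

set_option autoImplicit false

namespace CfsgLib.Inv

open scoped Pointwise

variable {G : Type*} [Group G] [Finite G]

/-! ### General facts -/

omit [Finite G] in
theorem odd_mem_of_index_two {H : Subgroup G} (hH : H.index = 2) {g : G} (hg : Odd (orderOf g)) : g ∈ H := by
  obtain ⟨r, hr⟩ := hg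
  have e : g = (g ^ 2) ^ (r + 1) := by
    rw [← pow_mul, show 2 * (r + 1) = orderOf g + 1 by omega, pow_succ, pow_orderOf_eq_one, one_mul]
  rw [e]
  exact pow_mem (Subgroup.sq_mem_of_index_two hH g) _

/-- A subgroup of index two of a Sylow 2-subgroup invariant under fusion comes from a normal
subgroup of index two. -/
theorem exists_normal_index_two (P : Sylow 2 G) (M : Subgroup (P : Subgroup G)) (hM : M.index = 2)
    (hinv : ∀ (u : (P : Subgroup G)) (g : G) (h : g * (u : G) * g⁻¹ ∈ (P : Subgroup G)),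
      ((⟨_, h⟩ : (P : Subgroup G)) ∈ M ↔ u ∈ M)) :
    ∃ K : Subgroup G, K.Normal ∧ K.index = 2 ∧ K.subgroupOf (P : Subgroup G) = M := by
  classical
  haveI : Fact (Nat.Prime 2) := ⟨Nat.prime_two⟩
  let ϕ : (P : Subgroup G) →* ℤˣ := MonoidHom.mk' (fun u => if u ∈ M then 1 else -1) (by
    intro a b
    have := Subgroup.mul_mem_iff_of_index_two hM (a := a) (b := b)
    by_cases ha : a ∈ M <;> by_cases hb : b ∈ M <;> simp_all)
  have hodd : Odd (P : Subgroup G).index := Nat.not_even_iff_odd.1 fun h => P.not_dvd_index (even_iff_two_dvd.1 h)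
  have key : ∀ (g : G) (hg : g ∈ (P : Subgroup G)), MonoidHom.transfer ϕ g = ϕ ⟨g, hg⟩ := by
    intro g hg
    rw [transfer_eq_pow_of_ctrl _ ϕ hg ?_, Int.units_pow_eq_pow_mod_two, Nat.odd_iff.1 hodd, pow_one]
    intro k g₀ h
    rw [← map_pow]
    have h' : g₀⁻¹ * (((⟨g, hg⟩ : (P : Subgroup G)) ^ k : (P : Subgroup G)) : G) * g₀⁻¹⁻¹ ∈ (P : Subgroup G) := by
      simpa using h
    have hiff := hinv _ _ h'
    show (if _ then _ else _) = (if _ then _ else _)
    refine if_congr (Iff.trans (Eq.to_iff (congrArg (· ∈ M) (Subtype.ext ?_))) hiff) rfl rfl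
    simp
  obtain ⟨u, hu⟩ : ∃ u, u ∉ M := by
    by_contra h
    simp only [not_exists, not_not] at h
    rw [Subgroup.index_eq_one.2 (eq_top_iff.2 fun u _ => h u)] at hM
    omega
  refine ⟨(MonoidHom.transfer ϕ).ker, inferInstance, ?_, ?_⟩
  · rw [Subgroup.index_ker, MonoidHom.range_eq_top.2 (fun v => ?_), Subgroup.card_top, Nat.card_eq_fintype_card]
    · rfl
    · rcases Int.units_eq_one_or v with rfl | rfl
      · exact ⟨1, map_one _⟩
      · exact ⟨u, by rw [key _ u.2]; exact if_neg hu⟩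
  · ext v
    rw [Subgroup.mem_subgroupOf, MonoidHom.mem_ker, key _ v.2]
    show (if v ∈ M then (1 : ℤˣ) else -1) = 1 ↔ _
    by_cases hv : v ∈ M <;> simp [hv]

/-- The Sylow subgroups of a normal subgroup of index two. -/
theorem sylow_index_two (P : Sylow 2 G) {K : Subgroup G} (hK : K.index = 2) {M : Subgroup (P : Subgroup G)}
    (hM : M.index = 2) (hKM : K.subgroupOf (P : Subgroup G) = M) :
    ∃ S : Sylow 2 K, (S : Subgroup K) = (P : Subgroup G).subgroupOf K ∧
      ∀ S' : Sylow 2 K, Nonempty ((S' : Subgroup K) ≃* M) := by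
  haveI : Fact (Nat.Prime 2) := ⟨Nat.prime_two⟩
  subst hKM
  let e : (P : Subgroup G).subgroupOf K ≃* K.subgroupOf (P : Subgroup G) :=
    { toFun := fun x => ⟨⟨x.1.1, x.2⟩, x.1.2⟩
      invFun := fun x => ⟨⟨x.1.1, x.2⟩, x.1.2⟩
      left_inv := fun _ => rfl
      right_inv := fun _ => rfl
      map_mul' := fun _ _ => rfl }
  have hidx : ((P : Subgroup G).subgroupOf K).index = (P : Subgroup G).index := by
    have h1 := Subgroup.card_mul_index ((P : Subgroup G).subgroupOf K)
    rw [Nat.card_congr e.toEquiv] at h1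
    have h2 := Subgroup.card_mul_index (K.subgroupOf (P : Subgroup G))
    rw [hM] at h2
    have h3 := Subgroup.card_mul_index (P : Subgroup G)
    have h4 := Subgroup.card_mul_index K
    rw [hK] at h4
    rw [← h2, ← h4, ← h1] at h3
    have hpos : 0 < Nat.card (K.subgroupOf (P : Subgroup G)) := Nat.card_pos
    apply Nat.eq_of_mul_eq_mul_left (Nat.mul_pos hpos Nat.two_pos)
    rw [h3]; ring
  let S : Sylow 2 K := (IsPGroup.comap_of_injective P.2 K.subtype K.subtype_injective).toSylow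
    (by change ¬ 2 ∣ ((P : Subgroup G).subgroupOf K).index; rw [hidx]; exact P.not_dvd_index)
  exact ⟨S, rfl, fun S' => ⟨(Sylow.equiv S' S).trans e⟩⟩

/-- A normal subgroup of 2-power index with cyclic Sylow 2-subgroups gives a normal 2-complement. -/
theorem npc_of_cyclic_normal {K : Subgroup G} [K.Normal] {a : ℕ} (hK : K.index = 2 ^ a) (S : Sylow 2 K)
    (hS : IsCyclic (S : Subgroup K)) : Cfsg.HasNormalPComplement 2 G := by
  haveI : Fact (Nat.Prime 2) := ⟨Nat.prime_two⟩
  obtain ⟨N, hNchar, hNodd, b, hNidx⟩ : ∃ N : Subgroup K, N.Characteristic ∧ Odd (Nat.card N) ∧ ∃ b, N.index = 2 ^ b := by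
    by_cases h2 : 2 ∣ Nat.card K
    · haveI := hS
      have hmin : (Nat.card K).minFac = 2 := Nat.minFac_eq_two_iff _ |>.2 h2
      have hnc := IsCyclic.normalizer_le_centralizer (P := S) hmin hS
      have hc := MonoidHom.ker_transferSylow_isComplement' S hnc
      set N := (MonoidHom.transferSylow S hnc).ker with hN
      have hidx : N.index = Nat.card (S : Subgroup K) := (Subgroup.IsComplement'.symm hc).index_eq_card
      obtain ⟨b, hb⟩ := IsPGroup.iff_card.1 S.2
      have hodd : Odd (Nat.card N) := by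
        rw [← Nat.not_even_iff_odd, even_iff_two_dvd, ← hc.index_eq_card]
        exact S.not_dvd_index
      refine ⟨N, ?_, hodd, b, hidx.trans hb⟩
      have hmem : ∀ g : K, g ∈ N ↔ Odd (orderOf g) := by
        intro g
        constructor
        · intro hg
          exact hodd.of_dvd_nat (by
            have := orderOf_dvd_natCard (⟨g, hg⟩ : N)
            rwa [Subgroup.orderOf_mk] at this)
        · intro hg
          rw [hN, MonoidHom.mem_ker]
          have h1 : orderOf (MonoidHom.transferSylow S hnc g) ∣ 2 ^ b := hb ▸ orderOf_dvd_natCard _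
          have h2 := orderOf_map_dvd (MonoidHom.transferSylow S hnc) g
          rw [← orderOf_eq_one_iff]
          exact Nat.eq_one_of_dvd_coprimes ((Nat.coprime_two_left.2 hg).pow_left b) h1 h2
      refine Subgroup.characteristic_iff_le_comap.2 fun φ g hg => ?_
      rw [Subgroup.mem_comap, hmem]
      show Odd (orderOf (φ g))
      rw [MulEquiv.orderOf_eq]
      exact (hmem g).1 hg
    · refine ⟨⊤, inferInstance, ?_, 0, by simp⟩
      rw [Subgroup.card_top, ← Nat.not_even_iff_odd, even_iff_two_dvd]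
      exact h2
  haveI := hNchar
  have hcard : Nat.card (N.map K.subtype) = Nat.card N :=
    Nat.card_congr (N.equivMapOfInjective _ K.subtype_injective).toEquiv.symm
  have hG : Nat.card N * 2 ^ (b + a) = Nat.card G := by
    rw [← Subgroup.card_mul_index K, hK, ← Subgroup.card_mul_index N, hNidx, pow_add, mul_assoc]
  let P : Sylow 2 G := default
  have hP : Nat.card (P : Subgroup G) = 2 ^ (b + a) := by
    rw [P.card_eq_multiplicity, ← hG, Nat.factorization_mul hNodd.pos.ne' (pow_ne_zero _ two_ne_zero),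
      Finsupp.add_apply, Nat.Prime.factorization_pow Nat.prime_two, Finsupp.single_eq_same,
      Nat.factorization_eq_zero_of_not_dvd (by rw [← even_iff_two_dvd, Nat.not_even_iff_odd]; exact hNodd), zero_add]
  refine ⟨P, N.map K.subtype, inferInstance, Subgroup.isComplement'_of_coprime ?_ ?_⟩
  · rw [hcard, hP, hG]
  · rw [hcard, hP]
    exact ((Nat.coprime_two_left.2 hNodd).pow_left _).symm

theorem exists_conj_mem (P : Sylow 2 G) {t : G} {k : ℕ} (ht : orderOf t = 2 ^ k) :
    ∃ c : G, c * t * c⁻¹ ∈ (P : Subgroup G) := by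
  obtain ⟨c, -, hc⟩ := exists_sylow_conj_le P (C := ⊤) (U := Subgroup.zpowers t) le_top le_top
    (IsPGroup.of_card (n := k) (by rw [Nat.card_zpowers, ht]))
  rw [conj_smul_zpowers] at hc
  exact ⟨c, hc (Subgroup.mem_zpowers _)⟩

theorem classes_card_one {n : ℕ} {a : G} (ha : orderOf a = n) (h : ∀ t : G, orderOf t = n → IsConj t a) :
    Nat.card {C : ConjClasses G // ∃ t : G, orderOf t = n ∧ ConjClasses.mk t = C} = 1 := by
  rw [Nat.card_eq_one_iff_exists]
  refine ⟨⟨ConjClasses.mk a, a, ha, rfl⟩, fun C => ?_⟩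
  obtain ⟨C, t, ht, rfl⟩ := C
  exact Subtype.ext (ConjClasses.mk_eq_mk_iff_isConj.2 (h t ht))

theorem classes_card_two {n : ℕ} {a b : G} (ha : orderOf a = n) (hb : orderOf b = n) (hab : ¬ IsConj a b)
    (h : ∀ t : G, orderOf t = n → IsConj t a ∨ IsConj t b) :
    Nat.card {C : ConjClasses G // ∃ t : G, orderOf t = n ∧ ConjClasses.mk t = C} = 2 := by
  rw [Nat.card_eq_two_iff]
  refine ⟨⟨ConjClasses.mk a, a, ha, rfl⟩, ⟨ConjClasses.mk b, b, hb, rfl⟩,
    fun e => hab (ConjClasses.mk_eq_mk_iff_isConj.1 (congrArg Subtype.val e)), ?_⟩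
  refine Set.eq_univ_of_forall fun C => ?_
  obtain ⟨C, t, ht, rfl⟩ := C
  simp only [Set.mem_insert_iff, Set.mem_singleton_iff, Subtype.mk.injEq, ConjClasses.mk_eq_mk_iff_isConj]
  exact h t ht

/-! ### Quasi-dihedral Sylow subgroups -/

variable (P : Sylow 2 G) {d : ℕ} (D : QDData (P : Subgroup G) d)

theorem isConj_qo_zero {i : ℤ} (hi : Even i) : IsConj (qo P D i) (qo P D 0) :=
  isConj_qo P D (by simpa using hi)

theorem isConj_qo_one {i : ℤ} (hi : Odd i) : IsConj (qo P D i) (qo P D 1) :=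
  isConj_qo P D (hi.sub_odd odd_one)

theorem invol_class {t : G} (ht : orderOf t = 2) : IsConj t (qz P D) ∨ IsConj t (qo P D 0) := by
  obtain ⟨c, hc⟩ := exists_conj_mem P (k := 1) (by simpa using ht)
  have h2 : orderOf (⟨_, hc⟩ : (P : Subgroup G)) = 2 := by
    rw [Subgroup.orderOf_mk]; exact invol_conj ht c
  have hconj : IsConj t (c * t * c⁻¹) := isConj_iff.2 ⟨c, rfl⟩
  rcases D.cases_order h2 with h | ⟨i, hi, h⟩
  · exact Or.inl (hconj.trans (by rw [show c * t * c⁻¹ = qz P D from congrArg Subtype.val h]))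
  · refine Or.inr (hconj.trans ?_)
    rw [show c * t * c⁻¹ = qo P D i from congrArg Subtype.val h]
    exact isConj_qo_zero P D hi

theorem four_class {t : G} (ht : orderOf t = 4) : IsConj t (qw P D) ∨ IsConj t (qo P D 1) := by
  obtain ⟨c, hc⟩ := exists_conj_mem P (k := 2) (by simpa using ht)
  have h4 : orderOf (⟨_, hc⟩ : (P : Subgroup G)) = 4 := by
    rw [Subgroup.orderOf_mk, show c * t * c⁻¹ = MulAut.conj c t from rfl, MulEquiv.orderOf_eq, ht]
  have hconj : IsConj t (c * t * c⁻¹) := isConj_iff.2 ⟨c, rfl⟩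
  rcases D.order_four_cases h4 with h | h | ⟨i, hi, h⟩
  · exact Or.inl (hconj.trans (by rw [show c * t * c⁻¹ = qw P D from congrArg Subtype.val h]))
  · refine Or.inl (hconj.trans ?_)
    rw [show c * t * c⁻¹ = (qw P D)⁻¹ from congrArg Subtype.val h]
    exact (isConj_qw_inv P D).symm
  · refine Or.inr (hconj.trans ?_)
    rw [show c * t * c⁻¹ = qo P D i from congrArg Subtype.val h]
    exact isConj_qo_one P D hi

theorem invol_one (h : FusT P D) :
    Nat.card {C : ConjClasses G // ∃ t : G, orderOf t = 2 ∧ ConjClasses.mk t = C} = 1 :=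
  classes_card_one (qz_order P D) fun _ ht => (invol_class P D ht).elim id fun h' => h'.trans h.symm

theorem invol_two (h : ¬ FusT P D) :
    Nat.card {C : ConjClasses G // ∃ t : G, orderOf t = 2 ∧ ConjClasses.mk t = C} = 2 :=
  classes_card_two (qz_order P D) (qo_order_two P D Even.zero) h fun _ ht => invol_class P D ht

theorem four_one (h : FusQ P D) :
    Nat.card {C : ConjClasses G // ∃ t : G, orderOf t = 4 ∧ ConjClasses.mk t = C} = 1 :=
  classes_card_one (qw_order P D) fun _ ht => (four_class P D ht).elim id fun h' => h'.trans h.symm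

theorem four_two (h : ¬ FusQ P D) :
    Nat.card {C : ConjClasses G // ∃ t : G, orderOf t = 4 ∧ ConjClasses.mk t = C} = 2 :=
  classes_card_two (qw_order P D) (qo_order_four P D odd_one) h fun _ ht => four_class P D ht

include D in
theorem weaklyClosed_center (h : ¬ FusT P D) :
    Cfsg.IsWeaklyClosed ((Subgroup.center (P : Subgroup G)).map (P : Subgroup G).subtype) (P : Subgroup G) := by
  have hc : Subgroup.center (P : Subgroup G) = Subgroup.zpowers D.z :=
    (Subgroup.eq_of_le_of_card_ge (Subgroup.zpowers_le.2 D.z_central)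
      (by rw [Nat.card_zpowers, D.z_order, D.card_center])).symm
  have hm : (Subgroup.center (P : Subgroup G)).map (P : Subgroup G).subtype = Subgroup.zpowers (qz P D) := by
    rw [hc, MonoidHom.map_zpowers]; rfl
  rw [hm]
  refine ⟨Subgroup.zpowers_le.2 (SetLike.coe_mem _), fun g hg => ?_⟩
  rw [MonoidHom.map_zpowers] at hg ⊢
  have hmem : g * qz P D * g⁻¹ ∈ (P : Subgroup G) := hg (Subgroup.mem_zpowers _)
  have h2 : orderOf (⟨_, hmem⟩ : (P : Subgroup G)) = 2 := by
    rw [Subgroup.orderOf_mk]; exact invol_conj (qz_order P D) g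
  rcases D.cases_order h2 with e | ⟨i, hi, e⟩
  · show Subgroup.zpowers (g * qz P D * g⁻¹) = _
    rw [show g * qz P D * g⁻¹ = qz P D from congrArg Subtype.val e]
  · exact absurd ((isConj_iff.2 ⟨g, show g * qz P D * g⁻¹ = qo P D i from congrArg Subtype.val e⟩).trans
      (isConj_qo_zero P D hi)) h

theorem orderOf_pow_odd {i : ℤ} (hi : Odd i) : orderOf (D.x ^ i) = 2 ^ (d + 3) := by
  have h := D.card_zpow_sub (e := 0) (Nat.zero_le _)
  simp only [pow_zero, zpow_one, Nat.sub_zero] at h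
  rw [Nat.card_zpowers] at h
  obtain ⟨r, hr⟩ := hi
  apply Nat.dvd_antisymm
  · rw [← h]; exact orderOf_dvd_of_mem_zpowers (Subgroup.zpow_mem_zpowers _ _)
  · rw [← Int.natCast_dvd_natCast, Nat.cast_pow, Nat.cast_ofNat]
    have h1 : D.x ^ (i * (orderOf (D.x ^ i) : ℤ)) = 1 := by rw [zpow_mul, zpow_natCast, pow_orderOf_eq_one]
    rw [D.zpow_x_eq_one] at h1
    exact (IsCoprime.pow_left ⟨-r, 1, by rw [hr]; ring⟩).dvd_of_dvd_mul_left h1

theorem eq_pow_odd_of_order {u : (P : Subgroup G)} (hu : orderOf u = 2 ^ (d + 3)) : ∃ i : ℤ, Odd i ∧ u = D.x ^ i := by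
  have h8 : 8 ≤ 2 ^ (d + 3) := by rw [pow_add]; have := Nat.one_le_two_pow (n := d); omega
  rcases D.cases u with ⟨i, rfl⟩ | ⟨i, rfl⟩
  · rcases Int.even_or_odd i with hi | hi
    · exfalso
      have hmem : D.x ^ i ∈ Subgroup.zpowers (D.x ^ (2 : ℤ)) := D.mem_sq_iff.2 hi
      have h1 := orderOf_dvd_of_mem_zpowers hmem
      have h2 := D.card_zpow_sub (e := 1) (by omega)
      rw [Nat.card_zpowers, pow_one] at h2
      rw [hu, h2] at h1
      have := Nat.pow_dvd_pow_iff_le_right (x := 2) (by norm_num) |>.1 h1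
      omega
    · exact ⟨i, hi, rfl⟩
  · rcases Int.even_or_odd i with hi | hi
    · rw [D.out_sq_even hi] at hu; omega
    · rw [D.out_order_odd hi] at hu; omega

theorem pow_even_of_mem {e i : ℤ} (h : D.x ^ i ∈ D.outSub e) : Even i := by
  rcases (D.mem_outSub_iff e).1 h with ⟨j, hj, e'⟩ | ⟨j, -, e'⟩
  · refine D.mem_sq_iff.1 ?_
    rw [e']; exact D.mem_sq_iff.2 hj
  · exact absurd (e' ▸ Subgroup.zpow_mem_zpowers _ _) (D.out_not_mem j)

theorem out_par_of_mem {e i : ℤ} (h : D.x ^ i * D.y ∈ D.outSub e) : Even (i - e) := by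
  rcases (D.mem_outSub_iff e).1 h with ⟨j, -, e'⟩ | ⟨j, hj, e'⟩
  · exact absurd (e' ▸ Subgroup.zpow_mem_zpowers _ _) (D.out_not_mem i)
  · have h1 : Even (i - j) := by
      have := D.zpow_x_eq.1 (mul_right_cancel e')
      exact even_iff_two_dvd.2 ((dvd_pow_self 2 (by omega)).trans this)
    simpa using h1.add hj

theorem exists_subgroup_of_not_fused {e : ℤ}
    (hout : ∀ (i : ℤ) (g : G), ¬ Even (i - e) → ∀ h : g * qo P D i * g⁻¹ ∈ (P : Subgroup G),
      (⟨_, h⟩ : (P : Subgroup G)) ∉ D.outSub e) :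
    ∃ K : Subgroup G, K.Normal ∧ K.index = 2 ∧ K.subgroupOf (P : Subgroup G) = D.outSub e := by
  have key : ∀ (u : (P : Subgroup G)) (g : G) (h : g * (u : G) * g⁻¹ ∈ (P : Subgroup G)),
      u ∉ D.outSub e → (⟨_, h⟩ : (P : Subgroup G)) ∉ D.outSub e := by
    intro u g h hu
    rcases D.cases u with ⟨i, rfl⟩ | ⟨i, rfl⟩
    · have hi : Odd i := Int.not_even_iff_odd.1 fun hi => hu (D.mem_outSub_pow e hi)
      have ho : orderOf (⟨_, h⟩ : (P : Subgroup G)) = 2 ^ (d + 3) := by
        rw [Subgroup.orderOf_mk, show g * _ * g⁻¹ = MulAut.conj g ((D.x ^ i : (P : Subgroup G)) : G) from rfl,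
          MulEquiv.orderOf_eq, Subgroup.orderOf_coe, orderOf_pow_odd P D hi]
      obtain ⟨j, hj, e'⟩ := eq_pow_odd_of_order P D ho
      rw [e']
      exact fun hm => Int.not_even_iff_odd.2 hj (pow_even_of_mem P D hm)
    · exact hout i g (fun hi => hu (D.mem_outSub_out e hi)) h
  refine exists_normal_index_two P _ (D.index_outSub e) fun u g h => ?_
  constructor
  · exact fun hm => by_contra fun hu => key u g h hu hm
  · intro hu
    by_contra hm
    have h' : g⁻¹ * ((⟨_, h⟩ : (P : Subgroup G)) : G) * g⁻¹⁻¹ ∈ (P : Subgroup G) := by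
      simp [mul_assoc]
    refine key _ g⁻¹ h' hm ?_
    convert hu
    simp [mul_assoc]

/-- If the four subgroups are not fused there is a normal subgroup meeting `P` in the quaternion maximal subgroup. -/
theorem exists_quaternion_subgroup (hT : ¬ FusT P D) :
    ∃ K : Subgroup G, K.Normal ∧ K.index = 2 ∧ K.subgroupOf (P : Subgroup G) = D.outSub 1 := by
  refine exists_subgroup_of_not_fused P D fun i g hi h hm => ?_
  have hi' : Even i := by
    have := (Int.not_even_iff_odd.1 hi).add_odd odd_one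
    simpa using this
  have h2 : orderOf (⟨_, h⟩ : (P : Subgroup G)) = 2 := by
    rw [Subgroup.orderOf_mk]; exact invol_conj (qo_order_two P D hi') g
  rcases D.cases_order h2 with e | ⟨j, hj, e⟩
  · exact hT (((isConj_qo_zero P D hi').symm.trans
      (isConj_iff.2 ⟨g, show g * qo P D i * g⁻¹ = qz P D from congrArg Subtype.val e⟩)).symm)
  · rw [e] at hm
    have := out_par_of_mem P D hm
    exact Int.not_even_iff_odd.2 (hj.sub_odd odd_one) this

/-- If the quaternion subgroups are not fused there is a normal subgroup meeting `P` in the dihedral maximal subgroup. -/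
theorem exists_dihedral_subgroup (hQ : ¬ FusQ P D) :
    ∃ K : Subgroup G, K.Normal ∧ K.index = 2 ∧ K.subgroupOf (P : Subgroup G) = D.outSub 0 := by
  refine exists_subgroup_of_not_fused P D fun i g hi h hm => ?_
  have hi' : Odd i := by
    have := Int.not_even_iff_odd.1 hi
    simpa using this
  have h4 : orderOf (⟨_, h⟩ : (P : Subgroup G)) = 4 := by
    rw [Subgroup.orderOf_mk, show g * qo P D i * g⁻¹ = MulAut.conj g (qo P D i) from rfl,
      MulEquiv.orderOf_eq, qo_order_four P D hi']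
  have hb := (isConj_qo_one P D hi').symm
  rcases D.order_four_cases h4 with e | e | ⟨j, hj, e⟩
  · exact hQ ((hb.trans (isConj_iff.2 ⟨g, show g * qo P D i * g⁻¹ = qw P D from congrArg Subtype.val e⟩)).symm)
  · exact hQ (((hb.trans (isConj_iff.2 ⟨g, show g * qo P D i * g⁻¹ = (qw P D)⁻¹ from congrArg Subtype.val e⟩)).trans
      (isConj_qw_inv P D).symm).symm)
  · rw [e] at hm
    have := out_par_of_mem P D hm
    exact Int.not_even_iff_odd.2 hj (by simpa using this)

include D in
/-- No fusion at all gives a normal 2-complement. -/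
theorem npc_of_not_fused (hT : ¬ FusT P D) (hQ : ¬ FusQ P D) : Cfsg.HasNormalPComplement 2 G := by
  haveI : Fact (Nat.Prime 2) := ⟨Nat.prime_two⟩
  obtain ⟨K1, hn1, hi1, hK1⟩ := exists_quaternion_subgroup P D hT
  obtain ⟨K2, hn2, hi2, hK2⟩ := exists_dihedral_subgroup P D hQ
  haveI := hn1; haveI := hn2
  have hne : K1 ≠ K2 := by
    intro e
    rw [e, hK2] at hK1
    have h := D.mem_outSub_out 0 (i := 0) (by simp)
    rw [hK1] at h
    exact absurd (out_par_of_mem P D h) (by simp)
  have hidx : (K1 ⊓ K2).index = 2 ^ 2 := by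
    have h1 := Subgroup.relIndex_mul_index (inf_le_left : K1 ⊓ K2 ≤ K1)
    rw [hi1, Subgroup.inf_relIndex_left] at h1
    have h2 : K2.relIndex K1 = 2 := by
      have hd : K2.relIndex K1 ∣ 2 := hi2 ▸ Subgroup.relIndex_dvd_index_of_normal K2 K1
      rcases (Nat.dvd_prime Nat.prime_two).1 hd with h | h
      · exfalso
        have hle : K1 ≤ K2 := Subgroup.relIndex_eq_one.1 h
        refine hne (le_antisymm hle ?_)
        have := Subgroup.relIndex_mul_index hle
        rw [hi1, hi2] at this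
        exact Subgroup.relIndex_eq_one.1 (by omega)
      · exact h
    rw [h2] at h1
    exact h1.symm
  set K := K1 ⊓ K2 with hK
  obtain ⟨S, hS⟩ := IsPGroup.exists_le_sylow
    (IsPGroup.comap_of_injective P.2 K.subtype K.subtype_injective)
  have hle : ((S : Subgroup K).map K.subtype) ≤ K := Subgroup.map_subtype_le _
  obtain ⟨c, -, hc⟩ := exists_sylow_conj_le P (C := ⊤) le_top le_top (S.2.map K.subtype)
  refine npc_of_cyclic_normal hidx S ?_
  let f : (S : Subgroup K) →* (P : Subgroup G) :=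
    ((MulAut.conj c).toMonoidHom.comp (K.subtype.comp (S : Subgroup K).subtype)).codRestrict _ fun x => hc (by
      rw [CfsgLib.Solv.mem_conj_smul_iff]
      exact ⟨x.1, x.2, by simp [mul_assoc]⟩)
  have hf : Function.Injective f := fun a b hab => by
    have := congrArg Subtype.val hab
    exact Subtype.ext (Subtype.ext ((MulAut.conj c).injective this))
  have hcyc : f.range ≤ Subgroup.zpowers (D.x ^ (2 : ℤ)) := by
    rintro _ ⟨u, rfl⟩
    have hu : (f u : G) ∈ K := (inferInstance : K.Normal).conj_mem _ u.1.2 c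
    have h1 : f u ∈ D.outSub 1 := hK1 ▸ Subgroup.mem_subgroupOf.2 hu.1
    have h2 : f u ∈ D.outSub 0 := hK2 ▸ Subgroup.mem_subgroupOf.2 hu.2
    rcases D.cases (f u) with ⟨i, e⟩ | ⟨i, e⟩ <;> rw [e] at h1 h2 ⊢
    · exact D.mem_sq_iff.2 (pow_even_of_mem P D h1)
    · exfalso
      have a1 := out_par_of_mem P D h1
      have a2 := out_par_of_mem P D h2
      rw [Int.even_sub] at a1 a2
      simp at a1 a2
      exact Int.not_even_iff_odd.2 a1 a2
  haveI : IsCyclic f.range := Subgroup.isCyclic_of_le hcyc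
  exact isCyclic_of_surjective _ (MonoidHom.ofInjective hf).symm.surjective

/-! ### No subgroup of index two -/

theorem gen_qT (hF : FusT P D) {R L : Subgroup G}
    (hmul : ∀ a ∈ R, ∀ b ∈ R, a ∉ L → b ∉ L → a * b ∈ L) (hodd : ∀ g : G, Odd (orderOf g) → g ∈ L)
    {i : ℤ} (hi : Even i) (hz : qz P D ∈ R) (ho : qo P D i ∈ R) : qo P D i ∈ L := by
  obtain ⟨g, hg, hgo, hgK⟩ := fused_of_fusT P D hF hi
  have h := (triT P D hi).all_le hg hgo hgK (L := L)
    (fun x hx => mul_mem (mul_mem (hodd g hgo) hx) (inv_mem (hodd g hgo))) (by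
      rw [triT_A, triT_B, triT_C, Subgroup.zpowers_le, Subgroup.zpowers_le, Subgroup.zpowers_le]
      by_cases h1 : qz P D ∈ L
      · exact Or.inl h1
      · by_cases h2 : qo P D i ∈ L
        · exact Or.inr (Or.inl h2)
        · exact Or.inr (Or.inr (hmul _ hz _ ho h1 h2)))
  rw [triT_B, Subgroup.zpowers_le] at h
  exact h.2.1

theorem gen_qQ (hF : FusQ P D) {R L : Subgroup G}
    (hmul : ∀ a ∈ R, ∀ b ∈ R, a ∉ L → b ∉ L → a * b ∈ L) (hodd : ∀ g : G, Odd (orderOf g) → g ∈ L)
    {i : ℤ} (hi : Odd i) (hw : qw P D ∈ R) (ho : qo P D i ∈ R) : qo P D i ∈ L := by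
  obtain ⟨g, hg, hgo, hgK⟩ := fused_of_fusQ P D hF hi
  have h := (quatPair P D hi).tri.all_le hg hgo hgK (L := L)
    (fun x hx => mul_mem (mul_mem (hodd g hgo) hx) (inv_mem (hodd g hgo))) (by
      by_cases h1 : qw P D ∈ L
      · exact Or.inl (Subgroup.zpowers_le.2 h1)
      · by_cases h2 : qo P D i ∈ L
        · exact Or.inr (Or.inl (Subgroup.zpowers_le.2 h2))
        · exact Or.inr (Or.inr (Subgroup.zpowers_le.2 (hmul _ hw _ ho h1 h2))))
  exact Subgroup.zpowers_le.1 h.2.1

omit [Finite G] in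
theorem outSub_le_of_two {L : Subgroup G} {e : ℤ} (h1 : qo P D e ∈ L) (h2 : qo P D (e + 2) ∈ L) :
    D.outSub e ≤ L.subgroupOf (P : Subgroup G) := by
  have a1 : D.x ^ e * D.y ∈ L.subgroupOf (P : Subgroup G) := h1
  have a2 : D.x ^ (e + 2) * D.y ∈ L.subgroupOf (P : Subgroup G) := h2
  refine sup_le (Subgroup.zpowers_le.2 ?_) (Subgroup.zpowers_le.2 a1)
  have := mul_mem a2 (inv_mem a1)
  convert this using 1
  group

theorem no_index_two_top (hT : FusT P D) (hQ : FusQ P D) (H : Subgroup G) : H.index ≠ 2 := by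
  haveI : Fact (Nat.Prime 2) := ⟨Nat.prime_two⟩
  intro hH
  have hmul : ∀ a ∈ (⊤ : Subgroup G), ∀ b ∈ (⊤ : Subgroup G), a ∉ H → b ∉ H → a * b ∈ H := fun a _ b _ ha hb =>
    (Subgroup.mul_mem_iff_of_index_two hH).2 (iff_of_false ha hb)
  have hodd : ∀ g : G, Odd (orderOf g) → g ∈ H := fun g hg => odd_mem_of_index_two hH hg
  have h0 : qo P D 0 ∈ H := gen_qT P D hT hmul hodd Even.zero trivial trivial
  have h2 : qo P D (0 + 2) ∈ H := gen_qT P D hT hmul hodd (by simp) trivial trivial
  have h1 : qo P D 1 ∈ H := gen_qQ P D hQ hmul hodd odd_one trivial trivial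
  have hle := outSub_le_of_two P D h0 h2
  have hP : (P : Subgroup G) ≤ H := by
    intro u hu
    have key : ∀ v : (P : Subgroup G), v ∈ H.subgroupOf (P : Subgroup G) := by
      intro v
      rcases D.cases v with ⟨i, rfl⟩ | ⟨i, rfl⟩
      · rcases Int.even_or_odd i with hi | hi
        · exact hle (D.mem_outSub_pow 0 hi)
        · have e : D.x ^ i = D.x ^ (i - 1) * ((D.x ^ (1 : ℤ) * D.y) * (D.x ^ (0 : ℤ) * D.y)⁻¹) := by group
          rw [e]
          exact mul_mem (hle (D.mem_outSub_pow 0 (hi.sub_odd odd_one)))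
            (mul_mem (show D.x ^ (1 : ℤ) * D.y ∈ H.subgroupOf (P : Subgroup G) from h1) (inv_mem (hle (D.mem_outSub_out 0 (by simp)))))
      · rcases Int.even_or_odd i with hi | hi
        · exact hle (D.mem_outSub_out 0 (by simpa using hi))
        · have e : D.x ^ i * D.y = D.x ^ (i - 1) * (D.x ^ (1 : ℤ) * D.y) := by group
          rw [e]
          exact mul_mem (hle (D.mem_outSub_pow 0 (hi.sub_odd odd_one))) (show D.x ^ (1 : ℤ) * D.y ∈ H.subgroupOf (P : Subgroup G) from h1)
    exact key ⟨u, hu⟩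
  have h := Subgroup.index_dvd_of_le hP
  rw [hH] at h
  exact P.not_dvd_index h

theorem no_index_two_sub {K : Subgroup G} (hK : K.index = 2) {M : Subgroup (P : Subgroup G)}
    (hM : M.index = 2) (hKM : K.subgroupOf (P : Subgroup G) = M)
    (hgen : ∀ L : Subgroup G, (∀ a ∈ K, ∀ b ∈ K, a ∉ L → b ∉ L → a * b ∈ L) →
      (∀ g : G, Odd (orderOf g) → g ∈ L) → M ≤ L.subgroupOf (P : Subgroup G))
    (H : Subgroup K) : H.index ≠ 2 := by
  haveI : Fact (Nat.Prime 2) := ⟨Nat.prime_two⟩
  intro hH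
  have hmem : ∀ a : K, (a : G) ∈ H.map K.subtype ↔ a ∈ H := fun a => Subgroup.mem_map_iff_mem K.subtype_injective
  have hle := hgen (H.map K.subtype) (fun a ha b hb h1 h2 =>
    (hmem (⟨a, ha⟩ * ⟨b, hb⟩)).2 ((Subgroup.mul_mem_iff_of_index_two hH).2 (iff_of_false
      (fun h => h1 ((hmem ⟨a, ha⟩).2 h)) (fun h => h2 ((hmem ⟨b, hb⟩).2 h)))))
    (fun g hg => by
      have hgK : g ∈ K := odd_mem_of_index_two hK hg
      refine (hmem ⟨g, hgK⟩).2 (odd_mem_of_index_two hH ?_)
      rwa [Subgroup.orderOf_mk])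
  obtain ⟨S, hS, -⟩ := sylow_index_two P hK hM hKM
  have hSH : (S : Subgroup K) ≤ H := by
    intro a ha
    rw [hS, Subgroup.mem_subgroupOf] at ha
    have : (⟨(a : G), ha⟩ : (P : Subgroup G)) ∈ M := hKM ▸ Subgroup.mem_subgroupOf.2 a.2
    exact (hmem a).1 (Subgroup.mem_subgroupOf.1 (hle this))
  have h := Subgroup.index_dvd_of_le hSH
  rw [hH] at h
  exact S.not_dvd_index h

theorem no_index_two_quaternion (hQ : FusQ P D) {K : Subgroup G} (hK : K.index = 2)
    (hKM : K.subgroupOf (P : Subgroup G) = D.outSub 1) (H : Subgroup K) : H.index ≠ 2 := by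
  refine no_index_two_sub P hK (D.index_outSub 1) hKM (fun L hmul hodd => ?_) H
  have hin : ∀ {u : (P : Subgroup G)}, u ∈ D.outSub 1 → (u : G) ∈ K := fun {u} hu =>
    Subgroup.mem_subgroupOf.1 ((SetLike.ext_iff.1 hKM u).2 hu)
  have hw : qw P D ∈ K := hin (D.mem_outSub_pow 1 QDData.half_even)
  exact outSub_le_of_two P D (gen_qQ P D hQ hmul hodd odd_one hw (hin (D.mem_outSub_out 1 (by simp))))
    (gen_qQ P D hQ hmul hodd ⟨1, by norm_num⟩ hw (hin (D.mem_outSub_out 1 (by simp))))

theorem no_index_two_dihedral (hT : FusT P D) {K : Subgroup G} (hK : K.index = 2)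
    (hKM : K.subgroupOf (P : Subgroup G) = D.outSub 0) (H : Subgroup K) : H.index ≠ 2 := by
  refine no_index_two_sub P hK (D.index_outSub 0) hKM (fun L hmul hodd => ?_) H
  have hin : ∀ {u : (P : Subgroup G)}, u ∈ D.outSub 0 → (u : G) ∈ K := fun {u} hu =>
    Subgroup.mem_subgroupOf.1 ((SetLike.ext_iff.1 hKM u).2 hu)
  have hz : qz P D ∈ K := hin (D.mem_outSub_pow 0 QDData.quarter_even)
  exact outSub_le_of_two P D (gen_qT P D hT hmul hodd Even.zero hz (hin (D.mem_outSub_out 0 (by simp))))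
    (gen_qT P D hT hmul hodd (by simp) hz (hin (D.mem_outSub_out 0 (by simp))))

end CfsgLib.Inv
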