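import Cfsg.Agent.Inv.TriPair
import Cfsg.Agent.Inv.QuasiDihedral
import Cfsg.Agent.Inv.DihedralFusion
import Cfsg.Agent.Inv.Transfer

/-!
Fusion in groups with quasi-dihedral Sylow 2-subgroups.
-/

set_option autoImplicit false

namespace CfsgLib.Inv

open scoped Pointwise
open CfsgLib.Solv

namespace QDData

variable {S : Type*} [Group S] {d : ℕ} (D : QDData S d)

theorem k_mul_half {m : ℤ} (hm : (2 : ℤ) ^ (d + 1) ∣ m) :
    (2 : ℤ) ^ (d + 3) ∣ D.k * m + m := by
  obtain ⟨l, rfl⟩ := hm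
  refine ⟨(2 : ℤ) ^ d * l, ?_⟩
  simp only [k]
  ring

theorem out_conj_half (i : ℤ) {m : ℤ} (hm : (2 : ℤ) ^ (d + 1) ∣ m) :
    D.x ^ i * D.y * D.x ^ m * (D.x ^ i * D.y)⁻¹ = (D.x ^ m)⁻¹ := by
  have e : D.y * D.x ^ m * D.y⁻¹ = (D.x ^ m)⁻¹ := by
    rw [D.y_mul_zpow, mul_inv_cancel_right, ← zpow_neg, D.zpow_x_eq, sub_neg_eq_add]
    exact D.k_mul_half hm
  calc D.x ^ i * D.y * D.x ^ m * (D.x ^ i * D.y)⁻¹ = D.x ^ i * (D.y * D.x ^ m * D.y⁻¹) * (D.x ^ i)⁻¹ := by group
    _ = (D.x ^ m)⁻¹ := by rw [e]; group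

theorem z_mul_out (i : ℤ) : D.z * (D.x ^ i * D.y) = D.x ^ (i + (2 : ℤ) ^ (d + 2)) * D.y := by
  rw [z, ← mul_assoc, ← zpow_add, add_comm]

theorem w_mul_out (i : ℤ) : D.w * (D.x ^ i * D.y) = D.x ^ (i + (2 : ℤ) ^ (d + 1)) * D.y := by
  rw [w, ← mul_assoc, ← zpow_add, add_comm]

theorem odd_out_sq {i : ℤ} (hi : Odd i) : D.x ^ i * D.y * (D.x ^ i * D.y) = D.z := by
  rw [← pow_two, D.out_sq, z, D.zpow_x_eq, pow_succ (2 : ℤ) (d + 2)]
  obtain ⟨r, rfl⟩ := hi
  exact ⟨r, by ring⟩

theorem even_out_sq {i : ℤ} (hi : Even i) : D.x ^ i * D.y * (D.x ^ i * D.y) = 1 :=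
  invol_mul_self (D.out_sq_even hi)

theorem w_inv_sq : D.w⁻¹ * D.w⁻¹ = D.z := by
  rw [← mul_inv_rev, D.w_sq, invol_inv D.z_order]

theorem order_four_cases [Finite S] {u : S} (hu : orderOf u = 4) :
    u = D.w ∨ u = D.w⁻¹ ∨ ∃ i : ℤ, Odd i ∧ u = D.x ^ i * D.y := by
  rcases D.cases u with ⟨i, rfl⟩ | ⟨i, rfl⟩
  · rcases D.zpow_order_four hu with h | h
    · exact Or.inl h
    · exact Or.inr (Or.inl h)
  · rcases Int.even_or_odd i with h | h
    · rw [D.out_sq_even h] at hu; omega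
    · exact Or.inr (Or.inr ⟨i, h, rfl⟩)

theorem half_even : Even ((2 : ℤ) ^ (d + 1)) := ⟨2 ^ d, by ring⟩

theorem quarter_even : Even ((2 : ℤ) ^ (d + 2)) := ⟨2 ^ (d + 1), by ring⟩

end QDData

/-! ### Sylow level -/

variable {G : Type*} [Group G] [Finite G] (P : Sylow 2 G) {d : ℕ} (D : QDData (P : Subgroup G) d)

/-- The image of the central involution. -/
def qz : G := ((D.z : (P : Subgroup G)) : G)

/-- The image of the element of order four in the cyclic maximal subgroup. -/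
def qw : G := ((D.w : (P : Subgroup G)) : G)

/-- The image of an element outside the cyclic maximal subgroup. -/
def qo (i : ℤ) : G := ((D.x ^ i * D.y : (P : Subgroup G)) : G)

omit [Finite G] in
theorem qz_order : orderOf (qz P D) = 2 := (Subgroup.orderOf_coe _).trans D.z_order

omit [Finite G] in
theorem qw_order : orderOf (qw P D) = 4 := (Subgroup.orderOf_coe _).trans D.w_order

omit [Finite G] in
theorem qo_order_two {i : ℤ} (hi : Even i) : orderOf (qo P D i) = 2 :=
  (Subgroup.orderOf_coe _).trans (D.out_sq_even hi)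

omit [Finite G] in
theorem qo_order_four {i : ℤ} (hi : Odd i) : orderOf (qo P D i) = 4 :=
  (Subgroup.orderOf_coe _).trans (D.out_order_odd hi)

theorem qo_not_mem_pow (i : ℤ) {g : G} (hg : g ∈ Subgroup.zpowers ((D.x : (P : Subgroup G)) : G)) :
    qo P D i ≠ g := by
  rintro rfl
  obtain ⟨l, hl⟩ := hg
  refine D.out_not_mem i ?_
  rw [show D.x ^ i * D.y = D.x ^ l from Subtype.ext (by rw [SubgroupClass.coe_zpow]; exact hl.symm)]
  exact Subgroup.zpow_mem_zpowers _ _

omit [Finite G] in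
theorem qz_mem_pow : qz P D ∈ Subgroup.zpowers ((D.x : (P : Subgroup G)) : G) :=
  ⟨_, (SubgroupClass.coe_zpow D.x _).symm⟩

omit [Finite G] in
theorem qw_mem_pow : qw P D ∈ Subgroup.zpowers ((D.x : (P : Subgroup G)) : G) :=
  ⟨_, (SubgroupClass.coe_zpow D.x _).symm⟩

include D in
theorem isConj_qo {i j : ℤ} (h : Even (i - j)) : IsConj (qo P D i) (qo P D j) := by
  obtain ⟨l, hl⟩ := D.isConj_out h
  exact isConj_iff.2 ⟨((D.x ^ l : (P : Subgroup G)) : G), congrArg Subtype.val hl⟩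

omit [Finite G] in
theorem isConj_qw_inv : IsConj (qw P D) (qw P D)⁻¹ := by
  have h := D.out_conj_half 0 (dvd_refl ((2 : ℤ) ^ (d + 1)))
  exact isConj_iff.2 ⟨qo P D 0, congrArg Subtype.val h⟩

theorem qz_commute {g : G} (hg : g ∈ (P : Subgroup G)) : Commute g (qz P D) :=
  congrArg Subtype.val (Subgroup.mem_center_iff.1 D.z_central ⟨g, hg⟩)

/-- The three lines of a four subgroup of the Sylow subgroup. -/
noncomputable def triT {i : ℤ} (hi : Even i) :
    Tri (invPair_of_commute (c := qz P D) (b := qo P D i) (invol_mul_self (qz_order P D))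
      (invol_mul_self (qo_order_two P D hi)) (qz_commute P D (SetLike.coe_mem _)).symm).sub
      (Subgroup.centralizer ((invPair_of_commute (c := qz P D) (b := qo P D i) (invol_mul_self (qz_order P D))
      (invol_mul_self (qo_order_two P D hi)) (qz_commute P D (SetLike.coe_mem _)).symm).sub : Set G)) :=
  triKlein (invol_mul_self (qz_order P D)) (invol_mul_self (qo_order_two P D hi))
    (qz_commute P D (SetLike.coe_mem _)).symm (invol_ne_one (qz_order P D)) (invol_ne_one (qo_order_two P D hi))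
    (fun e => qo_not_mem_pow P D i (qz_mem_pow P D) e.symm)

theorem triT_A {i : ℤ} (hi : Even i) : (triT P D hi).A = Subgroup.zpowers (qz P D) := rfl

theorem triT_B {i : ℤ} (hi : Even i) : (triT P D hi).B = Subgroup.zpowers (qo P D i) := rfl

theorem triT_C {i : ℤ} (hi : Even i) : (triT P D hi).C = Subgroup.zpowers (qz P D * qo P D i) := rfl

theorem quatPair {i : ℤ} (hi : Odd i) : QuatPair (qw P D) (qo P D i) where
  inv := congrArg Subtype.val (D.out_conj_half i (dvd_refl ((2 : ℤ) ^ (d + 1))))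
  sq := by
    refine ⟨2, ?_⟩
    show qw P D ^ (2 : ℤ) = _
    rw [zpow_two]
    exact congrArg Subtype.val (D.w_sq.trans (D.odd_out_sq hi).symm)
  c_order := qw_order P D
  b_sq := congrArg Subtype.val ((D.odd_out_sq hi).trans D.w_sq.symm)
  b_not_mem := by
    intro h
    exact qo_not_mem_pow P D i (Subgroup.zpowers_le.2 (qw_mem_pow P D) h) rfl

/-- The four subgroup through `x ^ i * y`. -/
def qT (i : ℤ) (hi : Even i) : Subgroup G :=
  (invPair_of_commute (c := qz P D) (b := qo P D i) (invol_mul_self (qz_order P D))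
    (invol_mul_self (qo_order_two P D hi)) (qz_commute P D (SetLike.coe_mem _)).symm).sub

/-- The quaternion subgroup through `x ^ i * y`. -/
def qQ (i : ℤ) (hi : Odd i) : Subgroup G := (quatPair P D hi).sub

theorem qT_cases {i : ℤ} (hi : Even i) {g : G} (hg : g ∈ qT P D i hi) :
    g = 1 ∨ g = qz P D ∨ g = qo P D i ∨ g = qo P D (i + (2 : ℤ) ^ (d + 2)) := by
  have e : qz P D * qo P D i = qo P D (i + (2 : ℤ) ^ (d + 2)) := congrArg Subtype.val (D.z_mul_out i)
  rw [← e]
  exact four_cases (invol_mul_self (qz_order P D)) hg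

theorem qT_le {i : ℤ} (hi : Even i) : qT P D i hi ≤ (P : Subgroup G) :=
  InvPair.sub_le _ (SetLike.coe_mem _) (SetLike.coe_mem _)

theorem qQ_le {i : ℤ} (hi : Odd i) : qQ P D i hi ≤ (P : Subgroup G) :=
  InvPair.sub_le _ (SetLike.coe_mem _) (SetLike.coe_mem _)

include D in
theorem klein_eq_qT {T : Subgroup G} (hT : IsKleinFour T) (hTP : T ≤ (P : Subgroup G)) :
    ∃ (i : ℤ) (hi : Even i), T = qT P D i hi := by
  haveI := hT
  have e := Subgroup.subgroupOfEquivOfLe hTP
  have hT' : IsKleinFour (T.subgroupOf (P : Subgroup G)) :=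
    ⟨(Nat.card_congr e.toEquiv).trans IsKleinFour.card_four, (Monoid.exponent_eq_of_mulEquiv e).trans IsKleinFour.exponent_two⟩
  obtain ⟨i, hi, hTi⟩ := D.klein_eq hT'
  refine ⟨i, hi, ?_⟩
  rw [← Subgroup.map_subgroupOf_eq_of_le hTP, hTi]
  apply le_antisymm
  · rintro _ ⟨u, hu, rfl⟩
    rcases D.mem_commute_out.1 (Subgroup.mem_centralizer_singleton_iff.1 hu) with h | h | h | h <;> subst h
    · exact one_mem _
    · exact InvPair.left_mem _
    · exact InvPair.right_mem _
    · exact InvPair.prod_mem _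
  · refine InvPair.sub_le _ ⟨D.z, ?_, rfl⟩ ⟨D.x ^ i * D.y, ?_, rfl⟩
    · exact Subgroup.mem_centralizer_singleton_iff.2 (Subgroup.mem_center_iff.1 D.z_central _).symm
    · exact Subgroup.mem_centralizer_singleton_iff.2 rfl

include D in
theorem quaternion_eq_qQ {Q : Subgroup G} (e : Q ≃* QuaternionGroup 2) (hQP : Q ≤ (P : Subgroup G)) :
    ∃ (i : ℤ) (hi : Odd i), Q = qQ P D i hi := by
  obtain ⟨i, hi, hQi⟩ := D.quaternion_eq ((Subgroup.subgroupOfEquivOfLe hQP).trans e)
  refine ⟨i, hi, ?_⟩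
  rw [← Subgroup.map_subgroupOf_eq_of_le hQP, hQi, Subgroup.map_sup, MonoidHom.map_zpowers, MonoidHom.map_zpowers]
  exact le_antisymm (sup_le (Subgroup.zpowers_le.2 (InvPair.left_mem _)) (Subgroup.zpowers_le.2 (InvPair.right_mem _)))
    (InvPair.sub_le _ (Subgroup.mem_sup_left (Subgroup.mem_zpowers _)) (Subgroup.mem_sup_right (Subgroup.mem_zpowers _)))

theorem qT_swap {i : ℤ} (hi : Even i) :
    qw P D ∈ Subgroup.normalizer (qT P D i hi : Set G) ∧ qw P D ∉ Subgroup.centralizer (qT P D i hi : Set G) ∧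
      MulAut.conj (qw P D) • Subgroup.zpowers (qz P D) = Subgroup.zpowers (qz P D) := by
  have hz : qw P D * qz P D * (qw P D)⁻¹ = qz P D := by
    rw [(qz_commute P D (g := qw P D) (SetLike.coe_mem _)).eq, mul_inv_cancel_right]
  have hb : qw P D * qo P D i * (qw P D)⁻¹ = qz P D * qo P D i := by
    have h : D.w * (D.x ^ i * D.y) * D.w⁻¹ = D.z * (D.x ^ i * D.y) := by
      have h1 := D.out_conj_half i (dvd_refl ((2 : ℤ) ^ (d + 1)))
      have h3 : D.x ^ i * D.y * (D.x ^ (2 : ℤ) ^ (d + 1))⁻¹ = D.x ^ (2 : ℤ) ^ (d + 1) * (D.x ^ i * D.y) := by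
        conv_rhs => rw [← inv_inv (D.x ^ (2 : ℤ) ^ (d + 1)), ← h1]
        group
      show D.w * (D.x ^ i * D.y) * D.w⁻¹ = D.z * (D.x ^ i * D.y)
      rw [← D.w_sq, mul_assoc, QDData.w, h3, mul_assoc]
    exact congrArg Subtype.val h
  refine ⟨?_, ?_, ?_⟩
  · rw [← conj_smul_eq_self_iff]
    refine Subgroup.eq_of_le_of_card_ge ?_ (card_conj_smul _ _).ge
    intro x hx
    rw [mem_conj_smul_iff] at hx
    have h2 : x = qw P D * ((qw P D)⁻¹ * x * qw P D) * (qw P D)⁻¹ := by group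
    rw [h2]
    rcases four_cases (invol_mul_self (qz_order P D)) hx with e | e | e | e <;> rw [e]
    · rw [mul_one, mul_inv_cancel]; exact one_mem _
    · rw [hz]; exact InvPair.left_mem _
    · rw [hb]; exact InvPair.prod_mem _
    · rw [← conj_mul, hz, hb, ← mul_assoc, invol_mul_self (qz_order P D), one_mul]; exact InvPair.right_mem _
  · intro h
    have h1 := Subgroup.mem_centralizer_iff.1 h (qo P D i) (InvPair.right_mem _)
    rw [← h1, mul_inv_cancel_right] at hb
    exact invol_ne_one (qz_order P D) (mul_eq_right.1 hb.symm)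
  · rw [conj_smul_zpowers, hz]

theorem qQ_swap {i : ℤ} (hi : Odd i) :
    ∃ s ∈ Subgroup.normalizer (qQ P D i hi : Set G), s ∉ (qQ P D i hi ⊔ Subgroup.centralizer (qQ P D i hi : Set G)) ∧
      MulAut.conj s • Subgroup.zpowers (qw P D) = Subgroup.zpowers (qw P D) ∧ s ∈ (P : Subgroup G) := by
  set s0 : (P : Subgroup G) := D.x ^ ((2 : ℤ) ^ d) with hs0
  set s : G := (s0 : G) with hs
  have hw : s * qw P D * s⁻¹ = qw P D :=
    congrArg Subtype.val (show s0 * D.w * s0⁻¹ = D.w by rw [hs0, QDData.w]; group)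
  -- conjugation swaps the two outer lines
  set q : ℤ := 1 - (2 : ℤ) ^ (d + 1) with hq
  have hb0 : s0 * (D.x ^ i * D.y) * s0⁻¹ = D.w ^ q * (D.x ^ i * D.y) := by
    rw [hs0, D.conj_out, QDData.w, ← zpow_mul, ← mul_assoc, ← zpow_add]
    congr 2
    rw [hq, D.two_sub_k]
    ring
  have hb : s * qo P D i * s⁻¹ = qw P D ^ q * qo P D i := by
    have := congrArg Subtype.val hb0
    simp only [Subgroup.coe_mul, Subgroup.coe_inv, SubgroupClass.coe_zpow] at this
    exact this
  have hmem : s * qo P D i * s⁻¹ ∈ qQ P D i hi := by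
    rw [hb]; exact mul_mem (zpow_mem (InvPair.left_mem _) _) (InvPair.right_mem _)
  have hsN : s ∈ Subgroup.normalizer (qQ P D i hi : Set G) := by
    rw [← conj_smul_eq_self_iff]
    refine Subgroup.eq_of_le_of_card_ge ?_ (card_conj_smul _ _).ge
    intro x hx
    rw [mem_conj_smul_iff] at hx
    have h2 : x = s * (s⁻¹ * x * s) * s⁻¹ := by group
    rw [h2]
    obtain ⟨l, e | e⟩ := hx <;> rw [e]
    · rw [← conj_zpow, hw]; exact ⟨l, Or.inl rfl⟩
    · rw [← conj_mul, ← conj_zpow, hw]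
      exact mul_mem (zpow_mem (InvPair.left_mem _) l) hmem
  have hsA : MulAut.conj s • Subgroup.zpowers (qw P D) = Subgroup.zpowers (qw P D) := by
    rw [conj_smul_zpowers, hw]
  refine ⟨s, hsN, fun hK => ?_, hsA, SetLike.coe_mem _⟩
  have h1 := (quatPair P D hi).tri.hfix s hK (Subgroup.zpowers (qo P D i)) (Or.inr (Or.inl rfl))
  rw [conj_smul_zpowers, hb] at h1
  have h2 : qw P D ^ q * qo P D i ∈ Subgroup.zpowers (qo P D i) := h1 ▸ Subgroup.mem_zpowers _
  have h3 : qw P D ^ q ∈ Subgroup.zpowers (qo P D i) := by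
    simpa using mul_mem h2 (inv_mem (Subgroup.mem_zpowers (qo P D i)))
  obtain ⟨r, hr⟩ := Subgroup.mem_zpowers_iff.1 h3
  have hzz : ∀ n : ℤ, qo P D i ^ (2 * n) = qz P D ^ n := fun n => by
    rw [zpow_mul, zpow_two]; exact congrArg (fun u : G => u ^ n) (congrArg Subtype.val (D.odd_out_sq hi))
  rcases Int.even_or_odd r with ⟨n, rfl⟩ | ⟨n, rfl⟩
  · rw [← two_mul, hzz] at hr
    have h4 : qw P D ^ (2 * q) = 1 := by
      rw [mul_comm, zpow_mul, ← hr, zpow_two, ← zpow_add, ← two_mul, zpow_mul, zpow_two,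
        invol_mul_self (qz_order P D), one_zpow]
    have h5 := orderOf_dvd_iff_zpow_eq_one.2 h4
    rw [qw_order] at h5
    rw [hq, pow_succ] at h5
    push_cast at h5
    omega
  · rw [zpow_add_one, hzz] at hr
    refine qo_not_mem_pow P D i (mul_mem (inv_mem (zpow_mem (qz_mem_pow P D) n)) (zpow_mem (qw_mem_pow P D) q)) ?_
    rw [← hr, inv_mul_cancel_left]

/-- The hypothesis that the four subgroups are fused. -/
def FusT : Prop := IsConj (qz P D) (qo P D 0)

/-- The hypothesis that the quaternion subgroups are fused. -/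
def FusQ : Prop := IsConj (qw P D) (qo P D 1)

theorem fusT_of_fused {i : ℤ} (hi : Even i) (h : (triT P D hi).Fused) : FusT P D := by
  obtain ⟨g, hg, hodd, hgK⟩ := h
  have e1 : IsConj (qo P D i) (qo P D 0) := isConj_qo P D (by simpa using hi)
  have hzt : ∀ L : Subgroup G, MulAut.conj g • Subgroup.zpowers (qz P D) = L → ∀ j : ℤ, Even j →
      L = Subgroup.zpowers (qo P D j) → FusT P D := by
    intro L hL j hj hLj
    rw [hLj, conj_smul_zpowers] at hL
    have hmem : qo P D j ∈ Subgroup.zpowers (g * qz P D * g⁻¹) := hL ▸ Subgroup.mem_zpowers _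
    obtain ⟨r, hr⟩ := Subgroup.mem_zpowers_iff.1 hmem
    have h2 : g * qz P D * g⁻¹ = qo P D j := by
      have hsq : g * qz P D * g⁻¹ * (g * qz P D * g⁻¹) = 1 := invol_mul_self (invol_conj (qz_order P D) g)
      rcases Int.even_or_odd r with ⟨n, rfl⟩ | ⟨n, rfl⟩
      · rw [← two_mul, zpow_mul, zpow_two, hsq, one_zpow] at hr
        exact absurd hr.symm (invol_ne_one (qo_order_two P D hj))
      · rwa [zpow_add_one, zpow_mul, zpow_two, hsq, one_zpow, one_mul] at hr
    exact (isConj_iff.2 ⟨g, h2⟩).trans (isConj_qo P D (by simpa using hj))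
  rcases (triT P D hi).cycle hg hodd hgK with ⟨h1, -, -⟩ | ⟨h1, -, -⟩
  · rw [triT_A, triT_B] at h1; exact hzt _ h1 i hi rfl
  · rw [triT_A, triT_C] at h1; refine hzt _ h1 (i + (2 : ℤ) ^ (d + 2)) (hi.add QDData.quarter_even) ?_
    show Subgroup.zpowers (qz P D * qo P D i) = _
    rw [show qz P D * qo P D i = qo P D (i + (2 : ℤ) ^ (d + 2)) from congrArg Subtype.val (D.z_mul_out i)]

theorem fusQ_of_fused {i : ℤ} (hi : Odd i) (h : (quatPair P D hi).tri.Fused) : FusQ P D := by
  obtain ⟨g, hg, hodd, hgK⟩ := h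
  have hwj : ∀ L : Subgroup G, MulAut.conj g • Subgroup.zpowers (qw P D) = L → ∀ j : ℤ, Odd j →
      L = Subgroup.zpowers (qo P D j) → FusQ P D := by
    intro L hL j hj hLj
    rw [hLj, conj_smul_zpowers] at hL
    have hmem : qo P D j ∈ Subgroup.zpowers (g * qw P D * g⁻¹) := hL ▸ Subgroup.mem_zpowers _
    obtain ⟨r, hr⟩ := Subgroup.mem_zpowers_iff.1 hmem
    rw [conj_zpow] at hr
    have e : IsConj (qo P D j) (qo P D 1) := isConj_qo P D (hj.sub_odd odd_one)
    rcases (quatPair P D hi).pow_cases r with e' | e' | e' | e' <;> rw [e'] at hr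
    · rw [mul_one, mul_inv_cancel] at hr
      have := qo_order_four P D hj
      rw [← hr, orderOf_one] at this
      omega
    · exact (isConj_iff.2 ⟨g, hr⟩).trans e
    · have h1 := qo_order_four P D hj
      have h2 : orderOf (g * (qw P D * qw P D) * g⁻¹) = 2 :=
        invol_conj (show orderOf (qw P D * qw P D) = 2 by
          rw [show qw P D * qw P D = qz P D from congrArg Subtype.val D.w_sq]; exact qz_order P D) g
      rw [hr, h1] at h2
      omega
    · exact ((isConj_qw_inv P D).trans (isConj_iff.2 ⟨g, hr⟩)).trans e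
  rcases (quatPair P D hi).tri.cycle hg hodd hgK with ⟨h1, -, -⟩ | ⟨h1, -, -⟩
  · exact hwj _ h1 i hi rfl
  · refine hwj _ h1 (i + (2 : ℤ) ^ (d + 1)) (hi.add_even QDData.half_even) ?_
    show Subgroup.zpowers (qw P D * qo P D i) = _
    rw [show qw P D * qo P D i = qo P D (i + (2 : ℤ) ^ (d + 1)) from congrArg Subtype.val (D.w_mul_out i)]

theorem exists_sylow_conj_le {C U : Subgroup G} (hPC : (P : Subgroup G) ≤ C) (hUC : U ≤ C) (hU : IsPGroup 2 U) :
    ∃ c ∈ C, MulAut.conj c • U ≤ (P : Subgroup G) := by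
  haveI : Fact (Nat.Prime 2) := ⟨Nat.prime_two⟩
  obtain ⟨R, hR⟩ := ((P.2.comap_of_injective C.subtype C.subtype_injective :
    IsPGroup 2 ((P : Subgroup G).subgroupOf C))).exists_le_sylow
  obtain ⟨T, hT⟩ := ((hU.comap_of_injective C.subtype C.subtype_injective :
    IsPGroup 2 (U.subgroupOf C))).exists_le_sylow
  obtain ⟨c, hc⟩ := MulAction.exists_smul_eq C T R
  have hRP : (R : Subgroup C).map C.subtype = (P : Subgroup G) := by
    refine (P.3 (R.2.map _) ?_)
    intro x hx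
    exact ⟨⟨x, hPC hx⟩, hR (Subgroup.mem_subgroupOf.2 hx), rfl⟩
  refine ⟨c, c.2, fun x hx => ?_⟩
  rw [mem_conj_smul_iff] at hx
  rw [← hRP]
  refine ⟨c * ⟨(c : G)⁻¹ * x * c, hUC hx⟩ * c⁻¹, ?_, by simp [mul_assoc]⟩
  rw [← hc, Sylow.coe_subgroup_smul, SetLike.mem_coe, mem_conj_smul_iff]
  have e : c⁻¹ * (c * (⟨(c : G)⁻¹ * x * c, hUC hx⟩ : C) * c⁻¹) * c = ⟨(c : G)⁻¹ * x * c, hUC hx⟩ := by group
  rw [e]
  exact hT hx

theorem qT_isKlein {i : ℤ} (hi : Even i) : IsKleinFour (qT P D i hi) := by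
  have hset : (qT P D i hi : Set G) = {1, qz P D, qo P D i, qz P D * qo P D i} := by
    ext g
    constructor
    · intro hg; simpa using four_cases (invol_mul_self (qz_order P D)) hg
    · rintro (rfl | rfl | rfl | rfl)
      exacts [one_mem _, InvPair.left_mem _, InvPair.right_mem _, InvPair.prod_mem _]
  have hne : qz P D ≠ qo P D i := fun e => qo_not_mem_pow P D i (qz_mem_pow P D) e.symm
  have h1 := invol_ne_one (qz_order P D)
  have h2 := invol_ne_one (qo_order_two P D hi)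
  have h3 : qz P D * qo P D i ≠ 1 := fun e => hne (by rw [eq_inv_of_mul_eq_one_right e, invol_inv (qz_order P D)])
  have h4 : qz P D * qo P D i ≠ qz P D := fun e => h2 (mul_eq_left.1 e)
  have h5 : qz P D * qo P D i ≠ qo P D i := fun e => h1 (mul_eq_right.1 e)
  refine ⟨?_, Nat.dvd_antisymm (Monoid.exponent_dvd_of_forall_pow_eq_one fun g => Subtype.ext ?_) ?_⟩
  · show Nat.card (qT P D i hi : Set G) = 4
    rw [Nat.card_coe_set_eq, hset, Set.ncard_insert_of_notMem (by simp [h1.symm, h2.symm, h3.symm]),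
      Set.ncard_insert_of_notMem (by simp [hne, h4.symm]),
      Set.ncard_insert_of_notMem (by simp [h5.symm]), Set.ncard_singleton]
  · rw [SubmonoidClass.coe_pow, OneMemClass.coe_one, pow_two]
    have hc : Commute (qz P D) (qo P D i) := (qz_commute P D (SetLike.coe_mem _)).symm
    rcases four_cases (invol_mul_self (qz_order P D)) g.2 with h | h | h | h <;> rw [h]
    · exact one_mul 1
    · exact invol_mul_self (qz_order P D)
    · exact invol_mul_self (qo_order_two P D hi)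
    · rw [hc.symm.mul_mul_mul_comm, invol_mul_self (qz_order P D), invol_mul_self (qo_order_two P D hi), one_mul]
  · have := Monoid.order_dvd_exponent (⟨qz P D, InvPair.left_mem _⟩ : qT P D i hi)
    rw [← Subgroup.orderOf_coe] at this
    exact (qz_order P D) ▸ this

theorem fused_of_fusT (h : FusT P D) {i : ℤ} (hi : Even i) : (triT P D hi).Fused := by
  haveI : Fact (Nat.Prime 2) := ⟨Nat.prime_two⟩
  by_contra hnf
  set U := qT P D i hi with hUdef
  obtain ⟨g, hg⟩ := isConj_iff.1 ((h.trans (isConj_qo P D (by simpa using hi : Even (i - 0))).symm).symm)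
  set C := Subgroup.centralizer ({qz P D} : Set G) with hC
  have hK := qT_isKlein P D hi
  have hUC : MulAut.conj g • U ≤ C := by
    intro x hx
    rw [mem_conj_smul_iff] at hx
    have h1 : Commute (g⁻¹ * x * g) (qo P D i) :=
      congrArg Subtype.val (hK.isMulCommutative.is_comm.comm (⟨_, hx⟩ : U) ⟨_, InvPair.right_mem _⟩)
    have h2 := h1.map (MulAut.conj g).toMonoidHom
    simp only [MulEquiv.coe_toMonoidHom, MulAut.conj_apply] at h2
    rw [hg, show g * (g⁻¹ * x * g) * g⁻¹ = x by group] at h2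
    exact Subgroup.mem_centralizer_singleton_iff.2 h2.eq
  obtain ⟨c, hc, hle⟩ := exists_sylow_conj_le P
    (fun x hx => Subgroup.mem_centralizer_singleton_iff.2 (qz_commute P D hx).eq) hUC
    (IsPGroup.of_equiv (P.2.to_le (qT_le P D hi)) (Subgroup.equivSMul (MulAut.conj g) U))
  rw [← mul_smul, ← map_mul] at hle
  have eU := Subgroup.equivSMul (MulAut.conj (c * g)) U
  obtain ⟨j, hj, hjeq⟩ := klein_eq_qT P D ⟨(Nat.card_congr eU.toEquiv).symm.trans hK.card_four,
    (Monoid.exponent_eq_of_mulEquiv eU).symm.trans hK.exponent_two⟩ hle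
  obtain ⟨l, hl⟩ := D.isConj_out (i := j) (j := i) (hj.sub hi)
  set s : G := ((D.x ^ l : (P : Subgroup G)) : G) with hs
  have hsz : s * qz P D * s⁻¹ = qz P D := by
    rw [(qz_commute P D (SetLike.coe_mem _)).eq, mul_inv_cancel_right]
  have hsj : MulAut.conj s • qT P D j hj = U := by
    refine Subgroup.eq_of_le_of_card_ge ?_ (by rw [card_conj_smul, (qT_isKlein P D hj).card_four, hK.card_four])
    rw [conj_smul_eq_map, Subgroup.map_le_iff_le_comap]
    refine InvPair.sub_le _ ?_ ?_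
    · show s * qz P D * s⁻¹ ∈ U
      rw [hsz]; exact InvPair.left_mem _
    · show s * qo P D j * s⁻¹ ∈ U
      rw [show s * qo P D j * s⁻¹ = qo P D i from congrArg Subtype.val hl]
      exact InvPair.right_mem _
  set n := s * (c * g) with hn
  have hnN : n ∈ Subgroup.normalizer (U : Set G) := by
    rw [← conj_smul_eq_self_iff, hn, map_mul, mul_smul, hjeq, hsj]
  obtain ⟨w1, w2, w3⟩ := qT_swap P D hi
  rw [← triT_A P D hi] at w3
  have hfix := (triT P D hi).fix_of_not_fused w1 w2 w3 hnf hnN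
  rw [triT_A] at hfix
  have hnt : n * qo P D i * n⁻¹ = qz P D := by
    have e1 : n * qo P D i * n⁻¹ = s * (c * (g * qo P D i * g⁻¹) * c⁻¹) * s⁻¹ := by rw [hn]; group
    rw [e1, hg, Subgroup.mem_centralizer_singleton_iff.1 hc, mul_inv_cancel_right, hsz]
  have hA : MulAut.conj n • Subgroup.zpowers (qo P D i) = MulAut.conj n • Subgroup.zpowers (qz P D) := by
    rw [conj_smul_zpowers, hnt]; exact hfix.symm
  refine (triT P D hi).hAB ?_
  rw [triT_A, triT_B]
  exact (MulAction.injective (MulAut.conj n) hA).symm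

theorem quatEquivSub {i : ℤ} (hi : Odd i) :
    Nonempty (qQ P D i hi ≃* QuaternionGroup 2) := by
  classical
  let f : QuaternionGroup 2 → G := fun q => match q with
    | .a j => qw P D ^ (j.val : ℤ)
    | .xa j => qo P D i * qw P D ^ (j.val : ℤ)
  have hp := quatPair P D hi
  have hmod : ∀ a b : ℤ, (4 : ℤ) ∣ a - b → qw P D ^ a = qw P D ^ b := by
    intro a b hab
    rw [← mul_inv_eq_one, ← zpow_sub, ← orderOf_dvd_iff_zpow_eq_one, qw_order]
    exact_mod_cast hab
  have hv : ∀ (j : ZMod (2 * 2)) (a : ℤ), (a : ZMod (2 * 2)) = j → qw P D ^ (j.val : ℤ) = qw P D ^ a := by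
    intro j a ha
    refine hmod _ _ ?_
    have h1 : (((j.val : ℤ) - a : ℤ) : ZMod (2 * 2)) = 0 := by
      push_cast
      rw [ZMod.natCast_zmod_val, ha, sub_self]
    rw [ZMod.intCast_zmod_eq_zero_iff_dvd] at h1
    exact_mod_cast h1
  let φ : QuaternionGroup 2 →* G := MonoidHom.mk' f (by
    rintro (a | a) (b | b)
    · show qw P D ^ _ = qw P D ^ _ * qw P D ^ _
      rw [← zpow_add]; exact hv _ _ (by push_cast; rw [ZMod.natCast_zmod_val, ZMod.natCast_zmod_val])
    · show qo P D i * qw P D ^ _ = qw P D ^ _ * (qo P D i * qw P D ^ _)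
      rw [← mul_assoc, hv (b - a) ((b.val : ℤ) - a.val) (by push_cast; rw [ZMod.natCast_zmod_val, ZMod.natCast_zmod_val]),
        show qw P D ^ (a.val : ℤ) * qo P D i = qo P D i * qw P D ^ (-(a.val : ℤ)) by rw [hp.toInvPair.flip, neg_neg],
        mul_assoc, ← zpow_add]
      congr 2
      ring
    · show qo P D i * qw P D ^ _ = qo P D i * qw P D ^ _ * qw P D ^ _
      rw [mul_assoc, ← zpow_add]; congr 1
      exact hv _ _ (by push_cast; rw [ZMod.natCast_zmod_val, ZMod.natCast_zmod_val])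
    · show qw P D ^ _ = qo P D i * qw P D ^ _ * (qo P D i * qw P D ^ _)
      rw [hp.toInvPair.flip (a.val : ℤ), mul_assoc, ← mul_assoc (qo P D i) (qo P D i), hp.b_sq, ← zpow_two,
        ← zpow_add, ← zpow_add]
      exact hv _ _ (by push_cast; rw [ZMod.natCast_zmod_val, ZMod.natCast_zmod_val]; ring))
  have hr : φ.range = qQ P D i hi := by
    apply le_antisymm
    · rintro _ ⟨q, rfl⟩
      rcases q with a | a
      · exact zpow_mem (InvPair.left_mem _) _
      · exact mul_mem (InvPair.right_mem _) (zpow_mem (InvPair.left_mem _) _)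
    · refine InvPair.sub_le _ ⟨.a 1, ?_⟩ ⟨.xa 0, ?_⟩
      · show qw P D ^ (_ : ℤ) = qw P D
        rw [hv _ 1 (by simp), zpow_one]
      · show qo P D i * qw P D ^ (_ : ℤ) = qo P D i
        rw [hv _ 0 (by simp), zpow_zero, mul_one]
  have hinj : Function.Injective φ := by
    have hc : Nat.card φ.range = 8 := by rw [hr]; exact hp.card_sub
    have h2 : Function.Bijective φ.rangeRestrict := by
      rw [Nat.bijective_iff_surjective_and_card]
      exact ⟨φ.rangeRestrict_surjective, by rw [hc, Nat.card_eq_fintype_card, QuaternionGroup.card]⟩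
    exact fun a b hab => h2.1 (Subtype.ext hab)
  exact ⟨((MonoidHom.ofInjective hinj).trans (MulEquiv.subgroupCongr hr)).symm⟩

theorem fused_of_fusQ (h : FusQ P D) {i : ℤ} (hi : Odd i) : (quatPair P D hi).tri.Fused := by
  haveI : Fact (Nat.Prime 2) := ⟨Nat.prime_two⟩
  by_contra hnf
  set U := qQ P D i hi with hUdef
  set w := qw P D with hw
  set u := qo P D i with hu
  obtain ⟨g, hg⟩ := isConj_iff.1 ((h.trans (isConj_qo P D (hi.sub_odd odd_one : Even (i - 1))).symm).symm)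
  set C := Subgroup.normalizer (Subgroup.zpowers w : Set G) with hC
  have hPC : (P : Subgroup G) ≤ C := by
    intro x hx
    rw [hC, ← conj_smul_eq_self_iff, conj_smul_zpowers]
    rcases D.cases ⟨x, hx⟩ with ⟨l, hl⟩ | ⟨l, hl⟩
    · have h2 : (D.x ^ l) * D.w * (D.x ^ l)⁻¹ = D.w := by rw [QDData.w]; group
      rw [← hl] at h2
      rw [show x * w * x⁻¹ = w from congrArg Subtype.val h2]
    · have h2 := D.out_conj_half l (dvd_refl ((2 : ℤ) ^ (d + 1)))
      rw [← hl] at h2
      rw [show x * w * x⁻¹ = w⁻¹ from congrArg Subtype.val h2, Subgroup.zpowers_inv]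
  have hUC : MulAut.conj g • U ≤ C := by
    have h1 : U ≤ Subgroup.normalizer (Subgroup.zpowers u : Set G) := fun x hx => conj_smul_eq_self_iff.1
      ((quatPair P D hi).tri.hfix x (Subgroup.mem_sup_left hx) _ (Or.inr (Or.inl rfl)))
    intro x hx
    rw [mem_conj_smul_iff] at hx
    have h2 := conj_smul_eq_self_iff.2 (h1 hx)
    have h3 : MulAut.conj g • Subgroup.zpowers u = Subgroup.zpowers w := by rw [conj_smul_zpowers, hg]
    rw [hC, ← conj_smul_eq_self_iff, ← h3, ← mul_smul, ← map_mul,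
      show x * g = g * (g⁻¹ * x * g) by group, map_mul, mul_smul, h2]
  obtain ⟨c, hc, hle⟩ := exists_sylow_conj_le P hPC hUC
    (IsPGroup.of_equiv (P.2.to_le (qQ_le P D hi)) (Subgroup.equivSMul (MulAut.conj g) U))
  rw [← mul_smul, ← map_mul] at hle
  obtain ⟨eQ⟩ := quatEquivSub P D hi
  obtain ⟨j, hj, hjeq⟩ := quaternion_eq_qQ P D ((Subgroup.equivSMul (MulAut.conj (c * g)) U).symm.trans eQ) hle
  obtain ⟨l, hl⟩ := D.isConj_out (i := j) (j := i) (hj.sub_odd hi)
  set s : G := ((D.x ^ l : (P : Subgroup G)) : G) with hs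
  have hsw : s * w * s⁻¹ = w := congrArg Subtype.val (show D.x ^ l * D.w * (D.x ^ l)⁻¹ = D.w by rw [QDData.w]; group)
  have hsj : MulAut.conj s • qQ P D j hj = U := by
    refine Subgroup.eq_of_le_of_card_ge ?_ (by
      rw [card_conj_smul, hUdef]
      exact ((quatPair P D hi).card_sub).le.trans (quatPair P D hj).card_sub.ge)
    rw [conj_smul_eq_map, Subgroup.map_le_iff_le_comap]
    refine InvPair.sub_le _ ?_ ?_
    · show s * w * s⁻¹ ∈ U
      rw [hsw]; exact InvPair.left_mem _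
    · show s * qo P D j * s⁻¹ ∈ U
      rw [show s * qo P D j * s⁻¹ = qo P D i from congrArg Subtype.val hl]
      exact InvPair.right_mem _
  set n := s * (c * g) with hn
  have hnN : n ∈ Subgroup.normalizer (U : Set G) := by
    rw [← conj_smul_eq_self_iff, hn, map_mul, mul_smul, hjeq, hsj]
  obtain ⟨s', w1, w2, w3, -⟩ := qQ_swap P D hi
  have hfix := (quatPair P D hi).tri.fix_of_not_fused w1 w2 w3 hnf hnN
  have hA : MulAut.conj n • Subgroup.zpowers u = Subgroup.zpowers w := by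
    rw [hn, map_mul, map_mul, mul_smul, mul_smul, conj_smul_zpowers g, hg, conj_smul_eq_self_iff.2 hc,
      conj_smul_zpowers, hsw]
  exact (quatPair P D hi).tri.hAB (MulAction.injective (MulAut.conj n) (hA.trans hfix.symm)).symm

theorem idx_cases {n : ℕ} {p : Prop} (h6 : n ∣ 6) (h2 : 2 ∣ n) (h3 : 3 ∣ n ↔ p) :
    (n = 2 ↔ ¬ p) ∧ (n = 6 ↔ p) := by
  rw [← h3]
  have := Nat.le_of_dvd (by norm_num) h6
  have h0 : n ≠ 0 := fun h => by rw [h] at h6; exact absurd (zero_dvd_iff.1 h6) (by norm_num)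
  have : n = 2 ∨ n = 6 := by interval_cases n <;> omega
  constructor <;> constructor <;> intro h <;> omega

theorem qT_idx {i : ℤ} (hi : Even i) :
    ((Subgroup.centralizer (qT P D i hi : Set G)).relIndex (Subgroup.normalizer (qT P D i hi : Set G)) = 2 ↔ ¬ FusT P D) ∧
    ((Subgroup.centralizer (qT P D i hi : Set G)).relIndex (Subgroup.normalizer (qT P D i hi : Set G)) = 6 ↔ FusT P D) := by
  haveI : Fact (Nat.Prime 2) := ⟨Nat.prime_two⟩
  set n := (Subgroup.centralizer (qT P D i hi : Set G)).relIndex (Subgroup.normalizer (qT P D i hi : Set G)) with hn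
  have h6 : n ∣ 6 := (triT P D hi).index_dvd_six
  have h3 : 3 ∣ n ↔ FusT P D :=
    (triT P D hi).three_dvd_iff.trans ⟨fusT_of_fused P D hi, fun h => fused_of_fusT P D h hi⟩
  obtain ⟨w1, w2, -⟩ := qT_swap P D hi
  have h2 : 2 ∣ n := by
    set N := Subgroup.normalizer (qT P D i hi : Set G) with hN
    set K := (Subgroup.centralizer (qT P D i hi : Set G)).subgroupOf N with hK
    haveI : K.Normal := (triT P D hi).normal_subgroupOf
    have h1 : (QuotientGroup.mk (⟨qw P D, w1⟩ : N) : N ⧸ K) ≠ 1 := fun h =>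
      w2 (Subgroup.mem_subgroupOf.1 ((QuotientGroup.eq_one_iff (N := K) (⟨qw P D, w1⟩ : N)).1 h))
    have h4 : orderOf (QuotientGroup.mk (⟨qw P D, w1⟩ : N) : N ⧸ K) ∣ 2 ^ 2 := by
      have := orderOf_map_dvd (QuotientGroup.mk' K) (⟨qw P D, w1⟩ : N)
      rwa [Subgroup.orderOf_mk, qw_order] at this
    obtain ⟨a, -, ha⟩ := (Nat.dvd_prime_pow Nat.prime_two).1 h4
    have ha0 : a ≠ 0 := fun h => h1 (orderOf_eq_one_iff.1 (by rw [ha, h, pow_zero]))
    exact (dvd_pow_self 2 ha0).trans (ha ▸ orderOf_dvd_natCard _)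
  exact idx_cases h6 h2 h3

theorem qQ_idx {i : ℤ} (hi : Odd i) :
    ((qQ P D i hi ⊔ Subgroup.centralizer (qQ P D i hi : Set G)).relIndex (Subgroup.normalizer (qQ P D i hi : Set G)) = 2 ↔ ¬ FusQ P D) ∧
    ((qQ P D i hi ⊔ Subgroup.centralizer (qQ P D i hi : Set G)).relIndex (Subgroup.normalizer (qQ P D i hi : Set G)) = 6 ↔ FusQ P D) := by
  haveI : Fact (Nat.Prime 2) := ⟨Nat.prime_two⟩
  set n := (qQ P D i hi ⊔ Subgroup.centralizer (qQ P D i hi : Set G)).relIndex (Subgroup.normalizer (qQ P D i hi : Set G)) with hn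
  have h6 : n ∣ 6 := (quatPair P D hi).tri.index_dvd_six
  have h3 : 3 ∣ n ↔ FusQ P D :=
    (quatPair P D hi).tri.three_dvd_iff.trans ⟨fusQ_of_fused P D hi, fun h => fused_of_fusQ P D h hi⟩
  obtain ⟨s, w1, w2, -, hsP⟩ := qQ_swap P D hi
  have h2 : 2 ∣ n := by
    set N := Subgroup.normalizer (qQ P D i hi : Set G) with hN
    set K := (qQ P D i hi ⊔ Subgroup.centralizer (qQ P D i hi : Set G)).subgroupOf N with hK
    haveI : K.Normal := (quatPair P D hi).tri.normal_subgroupOf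
    have h1 : (QuotientGroup.mk (⟨s, w1⟩ : N) : N ⧸ K) ≠ 1 := fun h =>
      w2 (Subgroup.mem_subgroupOf.1 ((QuotientGroup.eq_one_iff (N := K) (⟨s, w1⟩ : N)).1 h))
    obtain ⟨k, hk⟩ := IsPGroup.iff_orderOf.1 P.2 ⟨s, hsP⟩
    rw [Subgroup.orderOf_mk] at hk
    have h4 : orderOf (QuotientGroup.mk (⟨s, w1⟩ : N) : N ⧸ K) ∣ 2 ^ k := by
      have := orderOf_map_dvd (QuotientGroup.mk' K) (⟨s, w1⟩ : N)
      rwa [Subgroup.orderOf_mk, hk] at this
    obtain ⟨a, -, ha⟩ := (Nat.dvd_prime_pow Nat.prime_two).1 h4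
    have ha0 : a ≠ 0 := fun h => h1 (orderOf_eq_one_iff.1 (by rw [ha, h, pow_zero]))
    exact (dvd_pow_self 2 ha0).trans (ha ▸ orderOf_dvd_natCard _)
  exact idx_cases h6 h2 h3

end CfsgLib.Inv
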