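import Cfsg.Agent.Inv.QuadPair
import Cfsg.Agent.Fus.FunctorCore

/-!
In a group of even order acting faithfully on an elementary abelian group of odd characteristic, the normalizer of the
subgroup generated by the quadratic elements of a Sylow subgroup has even order.
-/

set_option autoImplicit false
set_option linter.style.haveILetI false
set_option linter.unusedSectionVars false
set_option linter.deprecated false

open scoped Pointwise

namespace CfsgLib.Inv.QP

open CfsgLib.Glau Cfsg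

universe u v

variable {p : ℕ} [hp : Fact p.Prime] {X : Type v} [Group X] [Finite X] {W : Type u} [CommGroup W] [Finite W]
  {θ : X →* MulAut W}

theorem qe_pow (hθ : Function.Injective θ) (he : ∀ w : W, w ^ p = 1) {x : X} (h : Qe θ x) : x ^ p = 1 :=
  hθ (by rw [map_pow, qe_pow_p h he, map_one])

theorem isPGroup_sSup_of_pairs {G : Type*} [Group G] [Finite G] (x : G)
    (h : ∀ g : G, IsPGroup p ↥(Subgroup.closure ({x, g * x * g⁻¹} : Set G))) : x ∈ Cfsg.pCore p G := by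
  set Ω : Set (Subgroup G) := {Y | ∃ g : G, Y = Subgroup.zpowers (g * x * g⁻¹)} with hΩ
  have hmap : ∀ (g : G) (s : G), (Subgroup.zpowers s).map (MulAut.conj g).toMonoidHom =
      Subgroup.zpowers (g * s * g⁻¹) := fun g s => MonoidHom.map_zpowers _ s
  have hB : IsPGroup p ↥(sSup Ω) := by
    refine CfsgLib.Inv.baer_suzuki Ω ?_ ?_
    · rintro _ ⟨a, rfl⟩ b
      exact ⟨b * a, by rw [hmap]; group⟩
    · rintro _ ⟨a, rfl⟩ _ ⟨b, rfl⟩
      refine (h (a⁻¹ * b)).map (MulAut.conj a).toMonoidHom |>.to_le ?_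
      rw [MonoidHom.map_closure]
      refine sup_le (Subgroup.zpowers_le.2 (Subgroup.subset_closure ⟨x, .inl rfl, rfl⟩))
        (Subgroup.zpowers_le.2 (Subgroup.subset_closure ⟨_, .inr rfl, ?_⟩))
      show a * (a⁻¹ * b * x * (a⁻¹ * b)⁻¹) * a⁻¹ = b * x * b⁻¹
      group
  haveI hn : (sSup Ω).Normal := by
    refine ⟨fun y hy b => ?_⟩
    have : (sSup Ω).map (MulAut.conj b).toMonoidHom ≤ sSup Ω := by
      rw [Subgroup.map_le_iff_le_comap]
      refine sSup_le ?_
      rintro _ ⟨a, rfl⟩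
      rw [← Subgroup.map_le_iff_le_comap, hmap]
      exact le_sSup ⟨b * a, by group⟩
    exact this ⟨y, hy, rfl⟩
  exact CfsgLib.Solv.le_pCore hB ((le_sSup (show Subgroup.zpowers x ∈ Ω from ⟨1, by simp⟩)) (Subgroup.mem_zpowers x))

theorem two_dvd_orderOf {G : Type*} [Group G] [Finite G] {K : Subgroup G} {l : G} (hl : l ∉ K)
    (hl2 : l * l ∈ K) : 2 ∣ orderOf l := by
  by_contra h
  obtain ⟨m, hm⟩ := Nat.odd_iff.2 (Nat.two_dvd_ne_zero.1 h)
  refine hl ?_
  have h1 : l = (l * l) ^ (m + 1) := by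
    rw [← pow_two, ← pow_mul, show 2 * (m + 1) = orderOf l + 1 by omega, pow_succ, pow_orderOf_eq_one, one_mul]
  rw [h1]
  exact K.pow_mem hl2 _

/-- Two quadratic elements generate a `p`-group or a group of even order with an inverting element. -/
theorem pair_cases (hp2 : p ≠ 2) (hθ : Function.Injective θ) (he : ∀ w : W, w ^ p = 1) {x y : X}
    (hx : Qe θ x) (hy : Qe θ y) (hgen : Subgroup.closure ({x, y} : Set X) = ⊤) :
    IsPGroup p X ∨ ∃ K : Subgroup X, K.Normal ∧ x ∉ K ∧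
      ∃ l : X, l ∉ K ∧ l * l ∈ K ∧ ∀ g : X, g * l * g⁻¹ * l⁻¹ ∈ K := by
  rcases pair_dichotomy hp2 _ W rfl he X θ x y hx hy hgen with h | h
  · refine .inl fun g => ?_
    obtain ⟨k, hk⟩ := h g
    exact ⟨k, hθ (by rw [map_pow, hk, map_one])⟩
  · exact .inr h

theorem two_dvd_of_pair (hp2 : p ≠ 2) (hθ : Function.Injective θ) (he : ∀ w : W, w ^ p = 1) {x y : X}
    (hx : Qe θ x) (hy : Qe θ y) (hnp : ¬ IsPGroup p ↥(Subgroup.closure ({x, y} : Set X))) :
    2 ∣ Nat.card ↥(Subgroup.closure ({x, y} : Set X)) := by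
  set H := Subgroup.closure ({x, y} : Set X) with hH
  have hxH : x ∈ H := Subgroup.subset_closure (.inl rfl)
  have hyH : y ∈ H := Subgroup.subset_closure (.inr rfl)
  have hgen : Subgroup.closure ({⟨x, hxH⟩, ⟨y, hyH⟩} : Set H) = ⊤ := by
    refine Subgroup.map_injective H.subtype_injective ?_
    rw [MonoidHom.map_closure, ← MonoidHom.range_eq_map, H.range_subtype, Set.image_pair]
    rfl
  rcases pair_cases hp2 (θ := θ.comp H.subtype) (hθ.comp H.subtype_injective) he (x := ⟨x, hxH⟩) (y := ⟨y, hyH⟩)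
      hx hy hgen with h | ⟨K, -, -, l, hl, hl2, -⟩
  · exact absurd h hnp
  · exact (two_dvd_orderOf hl hl2).trans (orderOf_dvd_natCard l)

/-- The subgroup generated by the quadratic elements. -/
def qOf (θ : X →* MulAut W) (S : Subgroup X) : Subgroup X := Subgroup.closure {x | x ∈ S ∧ Qe θ x}

theorem qOf_le (S : Subgroup X) : qOf θ S ≤ S := (Subgroup.closure_le S).2 fun _ hx => hx.1

theorem mem_qOf {S : Subgroup X} {x : X} (hx : x ∈ S) (hq : Qe θ x) : x ∈ qOf θ S :=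
  Subgroup.subset_closure ⟨hx, hq⟩

theorem cj_qOf (g : X) (S : Subgroup X) : cj g (qOf θ S) = qOf θ (cj g S) := by
  rw [qOf, cj, MonoidHom.map_closure]
  congr 1
  ext y
  constructor
  · rintro ⟨x, ⟨hx, hq⟩, rfl⟩
    exact ⟨⟨x, hx, rfl⟩, qe_conj hq g⟩
  · rintro ⟨⟨x, hx, rfl⟩, hq⟩
    refine ⟨x, ⟨hx, ?_⟩, rfl⟩
    have h := qe_conj hq g⁻¹
    have e : g⁻¹ * ((MulAut.conj g).toMonoidHom x) * g⁻¹⁻¹ = x := by
      show g⁻¹ * (g * x * g⁻¹) * g⁻¹⁻¹ = x
      group
    rwa [e] at h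

theorem normalizer_le_qOf (S : Subgroup X) :
    Subgroup.normalizer (S : Set X) ≤ Subgroup.normalizer (qOf θ S : Set X) := fun g hg => by
  rw [mem_normalizer_iff_cj, cj_qOf, mem_normalizer_iff_cj.1 hg]

set_option maxHeartbeats 1000000 in
/-- The even order normalizer. -/
theorem two_dvd_normalizer_qOf (hp2 : p ≠ 2) (hθ : Function.Injective θ) (he : ∀ w : W, w ^ p = 1) :
    ∀ (n : ℕ) (L : Subgroup X), Nat.card L = n → 2 ∣ n → ∀ S₀ : Subgroup X, Syl p S₀ L →
      2 ∣ Nat.card ↥(L ⊓ Subgroup.normalizer (qOf θ S₀ : Set X)) := by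
  intro n
  induction n using Nat.strong_induction_on with
  | _ n IH =>
  intro L hn h2 S₀ hS₀
  set Q := pCoreOf p L with hQ
  have hQS : Q ≤ S₀ := hS₀.pc_le
  have hQp : IsPGroup p Q := pc_pg L
  by_cases hall : ∀ x ∈ S₀, Qe θ x → x ∈ Q
  · have he' : qOf θ S₀ = qOf θ Q := le_antisymm
      ((Subgroup.closure_le _).2 fun x hx => mem_qOf (hall x hx.1 hx.2) hx.2)
      ((Subgroup.closure_le _).2 fun x hx => mem_qOf (hQS hx.1) hx.2)
    rw [inf_eq_left.2 (he' ▸ (le_normalizer_pc L).trans (normalizer_le_qOf Q)), hn]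
    exact h2
  push Not at hall
  obtain ⟨x, hxS, hxq, hxQ⟩ := hall
  have hxL : x ∈ L := hS₀.le hxS
  -- some conjugate gives a pair which is not a `p`-group
  obtain ⟨h, hhL, hnp⟩ : ∃ h ∈ L, ¬ IsPGroup p ↥(Subgroup.closure ({x, h * x * h⁻¹} : Set X)) := by
    by_contra hcon
    push Not at hcon
    refine hxQ ⟨⟨x, hxL⟩, isPGroup_sSup_of_pairs _ fun g => ?_, rfl⟩
    refine (hcon g g.2).comap_of_injective L.subtype L.subtype_injective |>.to_le ?_
    rw [← Subgroup.map_le_iff_le_comap, MonoidHom.map_closure, Set.image_pair]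
    rfl
  by_cases hprop : ∃ L' : Subgroup X, L' < L ∧ 2 ∣ Nat.card L' ∧ ∃ a ∈ L', Qe θ a ∧ a ∉ Q
  · -- climb inside proper subgroups
    obtain ⟨L', ⟨hL', h2', a, haL', haq, haQ⟩, hmax⟩ := Set.exists_max_image
      {L' : Subgroup X | L' < L ∧ 2 ∣ Nat.card L' ∧ ∃ a ∈ L', Qe θ a ∧ a ∉ Q}
      (fun L' => p ^ (Nat.card L').factorization p) (Set.toFinite _) hprop
    obtain ⟨S₁, haS₁, hS₁⟩ := exists_syl (p := p) L' (Subgroup.zpowers_le.2 haL') (by
      refine IsPGroup.iff_orderOf.2 fun g => ?_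
      obtain ⟨i, hi, he⟩ := (Nat.dvd_prime_pow hp.out).1 ((orderOf_dvd_natCard g).trans
        ((Nat.card_zpowers a).symm ▸ (pow_one p).symm ▸ orderOf_dvd_of_pow_eq_one (qe_pow hθ he haq)))
      exact ⟨i, he⟩)
    have haS : a ∈ S₁ := haS₁ (Subgroup.mem_zpowers a)
    have h1 := IH _ (hn ▸ lt_of_le_of_ne (Subgroup.card_le_of_le hL'.le) fun h =>
      hL'.ne (Subgroup.eq_of_le_of_card_ge hL'.le h.ge)) L' rfl h2' S₁ hS₁
    set L₁ := L ⊓ Subgroup.normalizer (qOf θ S₁ : Set X) with hL₁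
    have h2₁ : 2 ∣ Nat.card L₁ := h1.trans (Subgroup.card_dvd_of_le (inf_le_inf_right _ hL'.le))
    have hS₁L₁ : S₁ ≤ L₁ := le_inf (hS₁.le.trans hL'.le) (Subgroup.le_normalizer.trans (normalizer_le_qOf S₁))
    have hlt : L₁ < L := by
      refine lt_of_le_of_ne inf_le_left fun heq => haQ ?_
      exact le_pc ((qOf_le S₁).trans (hS₁.le.trans hL'.le)) (hS₁.pg.to_le (qOf_le S₁))
        (inf_eq_left.1 heq) (mem_qOf haS haq)
    obtain ⟨c, hcL, hc⟩ := hS₀.exists_conj_le (hS₁.le.trans hL'.le) hS₁.pg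
    by_cases hfull : cj c S₁ = S₀
    · have e : L ⊓ Subgroup.normalizer (qOf θ S₀ : Set X) = cj c L₁ := by
        rw [hL₁, cj_inf, cj_normalizer, cj_qOf, hfull, cj_eq_of_mem hcL]
      rw [e, card_cj]
      exact h2₁
    · exfalso
      have hlt0 : cj c S₁ < S₀ := lt_of_le_of_ne hc hfull
      haveI := hS₀.pg.isNilpotent
      have hlt' : (cj c S₁).subgroupOf S₀ < ⊤ :=
        lt_top_iff_ne_top.2 fun ht => hlt0.not_ge (Subgroup.subgroupOf_eq_top.1 ht)
      obtain ⟨⟨g, hgS⟩, hgN, hgn⟩ := SetLike.exists_of_lt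
        (Group.normalizerCondition_of_isNilpotent (G := ↥S₀) _ hlt')
      have hgN' : g ∈ Subgroup.normalizer (cj c S₁ : Set X) := Subgroup.mem_normalizer_fintype fun y hy =>
        (Subgroup.mem_normalizer_iff.1 hgN ⟨y, hc hy⟩).1 hy
      have hg' : c⁻¹ * g * c ∈ Subgroup.normalizer (S₁ : Set X) := by
        rw [mem_normalizer_iff_cj, cj_mul, cj_mul, mem_normalizer_iff_cj.1 hgN', cj_inv_cj]
      set g' := c⁻¹ * g * c with hg'def
      have hg'L : g' ∈ L := L.mul_mem (L.mul_mem (L.inv_mem hcL) (hS₀.le hgS)) hcL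
      have hg'n : g' ∉ S₁ := fun hin => hgn (by
        show g ∈ cj c S₁
        exact ⟨g', hin, show c * g' * c⁻¹ = g by rw [hg'def]; group⟩)
      -- a bigger Sylow subgroup in `L₁`
      have hg'L₁ : g' ∈ L₁ := ⟨hg'L, normalizer_le_qOf S₁ hg'⟩
      have hg'p : IsPGroup p ↥(S₁ ⊔ Subgroup.zpowers g') := by
        refine hS₁.pg.to_sup_of_normal_left' ?_ (Subgroup.zpowers_le.2 hg')
        refine (hS₀.pg.map (MulAut.conj c⁻¹).toMonoidHom).to_le (Subgroup.zpowers_le.2 ⟨g, hgS, ?_⟩)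
        show c⁻¹ * g * c⁻¹⁻¹ = g'
        rw [inv_inv]
      obtain ⟨T, hT1, hT⟩ := exists_syl (p := p) L₁
        (sup_le hS₁L₁ (Subgroup.zpowers_le.2 hg'L₁)) hg'p
      have hb := hmax L₁ ⟨hlt, h2₁, a, hS₁L₁ haS, haq, haQ⟩
      rw [← hT.card, ← hS₁.card] at hb
      have : S₁ < T := lt_of_le_of_ne (le_sup_left.trans hT1) fun heq =>
        hg'n (heq ▸ hT1 (Subgroup.mem_sup_right (Subgroup.mem_zpowers g')))
      exact this.ne (Subgroup.eq_of_le_of_card_ge this.le hb)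
  push Not at hprop
  -- all pairs generate the whole subgroup
  have hmin : ∀ a ∈ L, ∀ b ∈ L, Qe θ a → Qe θ b →
      ¬ IsPGroup p ↥(Subgroup.closure ({a, b} : Set X)) → Subgroup.closure ({a, b} : Set X) = L := by
    intro a ha b hb hqa hqb hnp'
    by_contra hne
    have hlt : Subgroup.closure ({a, b} : Set X) < L :=
      lt_of_le_of_ne ((Subgroup.closure_le L).2 (by rintro z (rfl | rfl) <;> assumption)) hne
    have heven := two_dvd_of_pair hp2 hθ he hqa hqb hnp'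
    have haQ := hprop _ hlt heven a (Subgroup.subset_closure (.inl rfl)) hqa
    have hbQ := hprop _ hlt heven b (Subgroup.subset_closure (.inr rfl)) hqb
    exact hnp' (hQp.to_le ((Subgroup.closure_le Q).2 (by rintro z (rfl | rfl) <;> assumption)))
  set x₀ : L := ⟨x, hxL⟩ with hx₀
  set h₀ : L := ⟨h, hhL⟩ with hh₀
  set y₀ : L := h₀ * x₀ * h₀⁻¹ with hy₀
  let θ' : L →* MulAut W := θ.comp L.subtype
  have hθ' : Function.Injective θ' := hθ.comp L.subtype_injective
  have hyq : Qe θ' y₀ := qe_conj (show Qe θ' x₀ from hxq) h₀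
  have hgen : Subgroup.closure ({x₀, y₀} : Set L) = ⊤ := by
    refine Subgroup.map_injective L.subtype_injective ?_
    rw [MonoidHom.map_closure, ← MonoidHom.range_eq_map, L.range_subtype, Set.image_pair]
    exact hmin x hxL _ (L.mul_mem (L.mul_mem hhL hxL) (L.inv_mem hhL)) hxq (qe_conj hxq h) hnp
  rcases pair_cases hp2 hθ' he (show Qe θ' x₀ from hxq) hyq hgen with hpg | ⟨K, hKn, hxK, l, hlK, hl2, hlc⟩
  · exact absurd (hpg.to_subgroup (Subgroup.closure ({x₀, y₀} : Set L)) |>.map L.subtype) (by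
      rw [hgen, ← MonoidHom.range_eq_map, L.range_subtype]
      intro hpL
      exact hnp (hpL.to_le ((Subgroup.closure_le L).2 (by
        rintro z (rfl | rfl)
        exacts [hxL, L.mul_mem (L.mul_mem hhL hxL) (L.inv_mem hhL)]))))
  set Q₀ := Cfsg.pCore p L with hQ₀
  haveI hQ₀n : Q₀.Normal := CfsgLib.Solv.pCore_normal L p
  have hxp : ∀ z : L, Qe θ' z → z ^ p = 1 := fun z hz => qe_pow hθ' he hz
  -- the elements generate with `K` proper subgroups
  have hK : ∀ z : L, Qe θ' z → z ∉ K → ∀ k ∈ K, k * z * k⁻¹ * z⁻¹ ∈ Q₀ := by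
    intro z hz hzK k hk
    set K' := K ⊔ Subgroup.zpowers z with hK'
    have hK'ne : K' ≠ ⊤ := by
      intro htop
      obtain ⟨k', hk', w, hw, hkw⟩ := Subgroup.mem_sup_of_normal_left.1 (htop.ge (Subgroup.mem_top l))
      have hzp : Subgroup.zpowers z ≤ (Subgroup.zpowers z : Subgroup L) := le_rfl
      obtain ⟨i, rfl⟩ := Subgroup.mem_zpowers_iff.1 (hzp hw)
      have h1 : l ^ p ∈ K := by
        rw [← QuotientGroup.eq_one_iff (N := K), QuotientGroup.mk_pow, ← hkw, QuotientGroup.mk_mul,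
          (QuotientGroup.eq_one_iff k').2 hk', one_mul, ← QuotientGroup.mk_pow, ← zpow_natCast, ← zpow_mul,
          mul_comm, zpow_mul, zpow_natCast, hxp z hz, one_zpow, QuotientGroup.mk_one]
      refine hlK ?_
      obtain ⟨m, hm⟩ := hp.out.odd_of_ne_two hp2
      rw [hm, pow_succ, pow_mul, pow_two] at h1
      exact (Subgroup.mul_mem_cancel_left K (K.pow_mem hl2 m)).1 h1
    have hzK' : z ∈ K' := Subgroup.mem_sup_right (Subgroup.mem_zpowers z)
    have hkK' : k ∈ K' := Subgroup.mem_sup_left hk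
    have hz' : (⟨z, hzK'⟩ : K') ∈ Cfsg.pCore p K' := by
      refine isPGroup_sSup_of_pairs _ fun g => ?_
      by_contra hnpg
      have hq2 : Qe θ' ((g : L) * z * (g : L)⁻¹) := qe_conj hz _
      have h1 : ¬ IsPGroup p ↥(Subgroup.closure ({(z : X), (((g : L) * z * (g : L)⁻¹ : L) : X)} : Set X)) := by
        intro hP
        refine hnpg ((hP.comap_of_injective (L.subtype.comp K'.subtype)
          (L.subtype_injective.comp K'.subtype_injective)).to_le ?_)
        rw [← Subgroup.map_le_iff_le_comap, MonoidHom.map_closure, Set.image_pair]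
        rfl
      have h2 := hmin _ z.2 _ ((g : L) * z * (g : L)⁻¹).2 hz hq2 h1
      refine hK'ne (eq_top_iff.2 fun w _ => ?_)
      have h3 : (Subgroup.closure ({z, (g : L) * z * (g : L)⁻¹} : Set L)) = ⊤ := by
        refine Subgroup.map_injective L.subtype_injective ?_
        rw [MonoidHom.map_closure, ← MonoidHom.range_eq_map, L.range_subtype, Set.image_pair]
        exact h2
      exact (Subgroup.closure_le K').2 (by
        rintro u (rfl | rfl)
        exacts [hzK', K'.mul_mem (K'.mul_mem g.2 hzK') (K'.inv_mem g.2)]) (h3.ge (Subgroup.mem_top w))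
    haveI hcn : (Cfsg.pCore p K').Normal := CfsgLib.Solv.pCore_normal K' p
    set O := (Cfsg.pCore p K').map K'.subtype with hO
    have hcO : k * z * k⁻¹ * z⁻¹ ∈ O :=
      ⟨⟨k, hkK'⟩ * ⟨z, hzK'⟩ * ⟨k, hkK'⟩⁻¹ * ⟨z, hzK'⟩⁻¹,
        mul_mem (hcn.conj_mem _ hz' _) (inv_mem hz'), rfl⟩
    have hcK : k * z * k⁻¹ * z⁻¹ ∈ K := by
      rw [show k * z * k⁻¹ * z⁻¹ = k * (z * k⁻¹ * z⁻¹) by group]
      exact K.mul_mem hk (hKn.conj_mem _ (K.inv_mem hk) z)
    set D := O ⊓ K with hD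
    have hDn : K ≤ Subgroup.normalizer (D : Set L) := fun w hw => Subgroup.mem_normalizer_fintype fun u hu => by
      refine ⟨?_, hKn.conj_mem u hu.2 w⟩
      obtain ⟨u', hu', rfl⟩ := hu.1
      exact ⟨⟨w, Subgroup.mem_sup_left hw⟩ * u' * ⟨w, Subgroup.mem_sup_left hw⟩⁻¹, hcn.conj_mem _ hu' _, rfl⟩
    have hDp : IsPGroup p D := ((CfsgLib.Solv.pCore_isPGroup K' p).map _).to_le inf_le_left
    have hDQ : D ≤ pCoreOf p K := le_pc inf_le_right hDp hDn
    haveI : (pCoreOf p K).Normal := by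
      haveI : (Cfsg.pCore p K).Characteristic := CfsgLib.Solv.pCore_characteristic
      unfold pCoreOf
      exact CfsgLib.Solv.normal_map_subtype_of_characteristic (Cfsg.pCore p K)
    exact CfsgLib.Solv.le_pCore (pc_pg K) (hDQ ⟨hcO, hcK⟩)
  -- pass to the quotient by the core
  have hyK : y₀ ∉ K := fun hy => hxK (by
    have h1 := hKn.conj_mem _ hy h₀⁻¹
    rwa [show h₀⁻¹ * y₀ * h₀⁻¹⁻¹ = x₀ by rw [hy₀]; group] at h1)
  set π := QuotientGroup.mk' Q₀ with hπ
  have hcent : ∀ u : L ⧸ Q₀, u * π x₀ = π x₀ * u → u * π y₀ = π y₀ * u → u ∈ Subgroup.center (L ⧸ Q₀) := by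
    intro u hu1 hu2
    refine Subgroup.mem_center_iff.2 fun g => ?_
    obtain ⟨g, rfl⟩ := QuotientGroup.mk'_surjective Q₀ g
    have h1 : Subgroup.closure ({x₀, y₀} : Set L) ≤ (Subgroup.centralizer {u}).comap π := (Subgroup.closure_le _).2 (by
      rintro w (rfl | rfl)
      · exact Subgroup.mem_comap.2 (Subgroup.mem_centralizer_iff.2 (by rintro _ rfl; exact hu1))
      · exact Subgroup.mem_comap.2 (Subgroup.mem_centralizer_iff.2 (by rintro _ rfl; exact hu2)))
    exact ((h1 (hgen.ge (Subgroup.mem_top g)) : π g ∈ Subgroup.centralizer {u}) u rfl).symm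
  have hKc : ∀ k ∈ K, π k ∈ Subgroup.center (L ⧸ Q₀) := by
    intro k hk
    refine hcent _ ?_ ?_
    · have h1 : π (k * x₀ * k⁻¹ * x₀⁻¹) = 1 := (QuotientGroup.eq_one_iff _).2 (hK x₀ hxq hxK k hk)
      rw [map_mul, map_mul, map_mul, map_inv, map_inv, mul_inv_eq_one, mul_inv_eq_iff_eq_mul] at h1
      exact h1
    · have h1 : π (k * y₀ * k⁻¹ * y₀⁻¹) = 1 := (QuotientGroup.eq_one_iff _).2 (hK y₀ hyq hyK k hk)
      rw [map_mul, map_mul, map_mul, map_inv, map_inv, mul_inv_eq_one, mul_inv_eq_iff_eq_mul] at h1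
      exact h1
  have hfin : ∀ u : L ⧸ Q₀, u ∈ Subgroup.center (L ⧸ Q₀) → u ^ p = 1 → u = 1 := by
    intro u hu hup
    haveI : (Subgroup.zpowers u).Normal := ⟨fun v hv g => by
      obtain ⟨i, rfl⟩ := Subgroup.mem_zpowers_iff.1 hv
      rw [Subgroup.mem_center_iff.1 ((Subgroup.center _).zpow_mem hu i) g, mul_inv_cancel_right]
      exact hv⟩
    have hup' : IsPGroup p ↥(Subgroup.zpowers u) := by
      rintro ⟨v, hv⟩
      obtain ⟨i, rfl⟩ := Subgroup.mem_zpowers_iff.1 hv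
      exact ⟨1, Subtype.ext (by
        show (u ^ i) ^ p ^ 1 = 1
        rw [pow_one, ← zpow_natCast, ← zpow_mul, mul_comm, zpow_mul, zpow_natCast, hup, one_zpow])⟩
    have hpre : IsPGroup p ↥((Subgroup.zpowers u).comap π) := hup'.comap_of_ker_isPGroup π (by
      rw [hπ, QuotientGroup.ker_mk']; exact CfsgLib.Solv.pCore_isPGroup L p)
    obtain ⟨v, rfl⟩ := QuotientGroup.mk'_surjective Q₀ u
    haveI : ((Subgroup.zpowers (π v)).comap π).Normal := Subgroup.Normal.comap inferInstance π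
    exact (QuotientGroup.eq_one_iff v).2 (CfsgLib.Solv.le_pCore hpre
      (Subgroup.mem_comap.2 (Subgroup.mem_zpowers (π v))))
  have hlx : ∀ z : L, Qe θ' z → π l * π z = π z * π l := by
    intro z hz
    set c := z * l * z⁻¹ * l⁻¹ with hc
    have hcc := Subgroup.mem_center_iff.1 (hKc c (hlc z))
    have h1 : π l * π z * (π l)⁻¹ = (π c)⁻¹ * π z := by
      rw [hc]; simp only [map_mul, map_inv]; group
    have h2 : (π c)⁻¹ ^ p = 1 := by
      have h3 := congrArg (· ^ p) h1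
      simp only [conj_pow, (show Commute (π c)⁻¹ (π z) from (show Commute (π c) (π z) from (hcc (π z)).symm).inv_left).mul_pow] at h3
      rw [← map_pow π z, hxp z hz, map_one, mul_one, mul_one, mul_inv_cancel] at h3
      exact h3.symm
    have h4 : (π c)⁻¹ = 1 := hfin _ ((Subgroup.center _).inv_mem (hKc c (hlc z))) h2
    rw [h4, one_mul, mul_inv_eq_iff_eq_mul] at h1
    exact h1
  have hlcent : π l ∈ Subgroup.center (L ⧸ Q₀) := hcent _ (hlx x₀ hxq) (hlx y₀ hyq)
  have hlN : (l : X) ∈ Subgroup.normalizer (S₀ : Set X) := Subgroup.mem_normalizer_fintype fun s hs => by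
    have h1 : π (l * ⟨s, hS₀.le hs⟩ * l⁻¹ * ⟨s, hS₀.le hs⟩⁻¹) = 1 := by
      rw [map_mul, map_mul, map_mul, map_inv, map_inv, mul_inv_eq_one, mul_inv_eq_iff_eq_mul]
      exact (Subgroup.mem_center_iff.1 hlcent _).symm
    have h2 : (l : X) * s * (l : X)⁻¹ * s⁻¹ ∈ S₀ := hQS ⟨_, (QuotientGroup.eq_one_iff _).1 h1, rfl⟩
    have h3 := S₀.mul_mem h2 hs
    rwa [inv_mul_cancel_right] at h3
  refine (two_dvd_orderOf hlK hl2).trans ?_
  rw [← Subgroup.orderOf_coe l]
  have h := orderOf_dvd_natCard (⟨(l : X), l.2, normalizer_le_qOf S₀ hlN⟩ :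
    ↥(L ⊓ Subgroup.normalizer (qOf θ S₀ : Set X)))
  rw [← Subgroup.orderOf_coe] at h
  exact h

end CfsgLib.Inv.QP
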