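import Cfsg.Agent.Fus.QdModule
import Cfsg.Agent.Inv.BaerSuzuki
import Cfsg.Agent.Solv.Basic

/-!
Quadratic pairs: the negation of an irreducible module is induced, and in an even order group some element of even
order normalizes the quadratic elements of a Sylow subgroup.
-/

set_option autoImplicit false
set_option linter.style.haveILetI false
set_option linter.unusedSectionVars false
set_option linter.deprecated false

namespace CfsgLib.Dickson

open Matrix

variable (p : ℕ) [hp : Fact p.Prime]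

set_option maxHeartbeats 1000000 in
/-- Two nontrivial quadratic elements acting irreducibly induce the negation. -/
theorem exists_neg (hp2 : p ≠ 2) {W : Type*} [AddCommGroup W] [Finite W] (hpW : ∀ w : W, p • w = 0)
    {L : Type*} [Group L] (act : L →* AddMonoid.End W) (x y : L)
    (hx : ∀ w : W, act x (act x w - w) = act x w - w) (hy : ∀ w : W, act y (act y w - w) = act y w - w)
    (hx1 : ∃ w : W, act x w ≠ w) (hy1 : ∃ w : W, act y w ≠ w)
    (hirr : ∀ A : AddSubgroup W, (∀ a ∈ A, act x a ∈ A) → (∀ a ∈ A, act y a ∈ A) → A = ⊥ ∨ A = ⊤) :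
    ∃ l : L, ∀ w : W, act l w = -w := by
  classical
  set u : AddMonoid.End W := act x - 1 with hu
  set v : AddMonoid.End W := act y - 1 with hv
  have hu' : ∀ w, u w = act x w - w := fun _ => rfl
  have hv' : ∀ w, v w = act y w - w := fun _ => rfl
  have huu : ∀ w, u (u w) = 0 := fun w => by rw [hu' (u w), hu' w, hx w, sub_self]
  have hvv : ∀ w, v (v w) = 0 := fun w => by rw [hv' (v w), hv' w, hy w, sub_self]
  have hcom : ∀ c : W, u c = 0 → v c = 0 → c = 0 := by
    intro c huc hvc
    rcases hirr (AddSubgroup.zmultiples c)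
      (fun a ha => by
        obtain ⟨n, rfl⟩ := AddSubgroup.mem_zmultiples_iff.1 ha
        rw [map_zsmul, sub_eq_zero.1 ((hu' c).symm.trans huc)]
        exact AddSubgroup.zsmul_mem_zmultiples c n)
      (fun a ha => by
        obtain ⟨n, rfl⟩ := AddSubgroup.mem_zmultiples_iff.1 ha
        rw [map_zsmul, sub_eq_zero.1 ((hv' c).symm.trans hvc)]
        exact AddSubgroup.zsmul_mem_zmultiples c n) with h | h
    · exact AddSubgroup.zmultiples_eq_bot.1 h
    · exfalso
      obtain ⟨w, hw⟩ := hx1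
      obtain ⟨n, rfl⟩ := AddSubgroup.mem_zmultiples_iff.1 (h.ge (AddSubgroup.mem_top w))
      exact hw (by rw [map_zsmul, sub_eq_zero.1 ((hu' c).symm.trans huc)])
  -- the commutant
  set S : Subring (AddMonoid.End W) := Subring.centralizer {u, v} with hS
  have hSu : ∀ (f : ↥S) (w : W), u (f.1 w) = f.1 (u w) := fun f w =>
    DFunLike.congr_fun (Subring.mem_centralizer_iff.1 f.2 u (Or.inl rfl)) w
  have hSv : ∀ (f : ↥S) (w : W), v (f.1 w) = f.1 (v w) := fun f w =>
    DFunLike.congr_fun (Subring.mem_centralizer_iff.1 f.2 v (Or.inr rfl)) w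
  have hxf : ∀ (f : ↥S) (w : W), act x (f.1 w) = f.1 (act x w) := fun f w => by
    have h := hSu f w
    rw [hu', hu', map_sub] at h
    exact sub_left_inj.1 h
  have hyf : ∀ (f : ↥S) (w : W), act y (f.1 w) = f.1 (act y w) := fun f w => by
    have h := hSv f w
    rw [hv', hv', map_sub] at h
    exact sub_left_inj.1 h
  have hinj : ∀ f : ↥S, f ≠ 0 → ∀ w, f.1 w = 0 → w = 0 := by
    intro f hf w hw
    rcases hirr f.1.ker
      (fun a ha => by
        show f.1 (act x a) = 0
        rw [← hxf, show f.1 a = 0 from ha, map_zero])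
      (fun a ha => by
        show f.1 (act y a) = 0
        rw [← hyf, show f.1 a = 0 from ha, map_zero]) with h | h
    · exact AddSubgroup.mem_bot.1 (h ▸ (AddMonoidHom.mem_ker.2 hw : w ∈ f.1.ker))
    · exact absurd (Subtype.ext (AddMonoidHom.ker_eq_top_iff.1 h)) hf
  haveI : Finite (AddMonoid.End W) := Finite.of_injective (fun f => (f : W → W)) DFunLike.coe_injective
  haveI : Nontrivial W := by
    obtain ⟨w, hw⟩ := hx1
    exact ⟨⟨_, _, hw⟩⟩
  haveI : Nontrivial ↥S := ⟨⟨0, 1, fun h => by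
    obtain ⟨w, hw⟩ := exists_ne (0 : W)
    exact hw (DFunLike.congr_fun (congrArg Subtype.val h) w).symm⟩⟩
  haveI : NoZeroDivisors ↥S := ⟨fun {f g} h => by
    by_contra hc
    push_neg at hc
    obtain ⟨hf, hg⟩ := hc
    refine hg (Subtype.ext (AddMonoidHom.ext fun w => ?_))
    exact hinj f hf _ (DFunLike.congr_fun (congrArg Subtype.val h) w)⟩
  haveI : IsDomain ↥S := NoZeroDivisors.to_isDomain _
  letI : Field ↥S := (Finite.isDomain_to_isField ↥S).toField
  letI : Fintype ↥S := Fintype.ofFinite _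
  haveI : CharP ↥S p := (CharP.charP_iff_prime_eq_zero hp.out).2 (Subtype.ext (AddMonoidHom.ext fun w => by
    rw [show (((p : ↥S) : ↥S).1 : AddMonoid.End W) = (p : AddMonoid.End W) from map_natCast S.subtype p]
    exact (hpW w).trans rfl))
  have h2 : (2 : ↥S) ≠ 0 := fun h => hp2 ((Nat.prime_dvd_prime_iff_eq hp.out Nat.prime_two).1
    ((CharP.cast_eq_zero_iff ↥S p 2).1 (by exact_mod_cast h)))
  -- the element `uv + vu`
  have hwmem : u * v + v * u ∈ S := by
    refine Subring.mem_centralizer_iff.2 fun g hg => ?_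
    have e1 : u * u = 0 := AddMonoidHom.ext huu
    have e2 : v * v = 0 := AddMonoidHom.ext hvv
    rcases hg with rfl | rfl
    · rw [mul_add, add_mul, ← mul_assoc u u v, e1, zero_mul, mul_assoc v u u, e1, mul_zero, mul_assoc u v u]
      abel
    · rw [mul_add, add_mul, ← mul_assoc v v u, e2, zero_mul, mul_assoc u v v, e2, mul_zero, mul_assoc v u v]
      abel
  set ω : ↥S := ⟨u * v + v * u, hwmem⟩ with hω
  -- the basis
  obtain ⟨w₀, hw₀⟩ := hx1
  set a : W := u w₀ with ha
  set b : W := v a with hb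
  have ha0 : a ≠ 0 := fun h => hw₀ (sub_eq_zero.1 ((hu' w₀).symm.trans h))
  have hua : u a = 0 := huu w₀
  have hb0 : b ≠ 0 := fun h => ha0 (hcom a hua h)
  have hvb : v b = 0 := hvv a
  have hub : u b = ω.1 a := by
    show u b = u (v a) + v (u a)
    rw [hua, map_zero, add_zero]
  have hω0 : ω ≠ 0 := fun h => hb0 (hcom b (by rw [hub, h]; rfl) hvb)
  have hadd : ∀ (f g : ↥S) (w : W), (f + g).1 w = f.1 w + g.1 w := fun _ _ _ => rfl
  have hmul : ∀ (f g : ↥S) (w : W), (f * g).1 w = f.1 (g.1 w) := fun _ _ _ => rfl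
  let θ : (Fin 2 → ↥S) →+ W :=
    { toFun := fun c => (c 0).1 a + (c 1).1 b
      map_zero' := by simp
      map_add' := fun c d => by
        simp only [Pi.add_apply, hadd]
        abel }
  have hθ : ∀ c, θ c = (c 0).1 a + (c 1).1 b := fun _ => rfl
  have hθinj : Function.Injective θ := by
    refine (injective_iff_map_eq_zero θ).2 fun c hc => ?_
    rw [hθ] at hc
    have h0 : c 0 = 0 := by
      by_contra h
      have h' := congrArg v hc
      rw [map_add, hSv, hSv, hvb, map_zero, map_zero, add_zero, ← hb] at h'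
      exact hb0 (hinj _ h _ h')
    rw [h0] at hc
    have h1 : c 1 = 0 := by
      by_contra h
      exact hb0 (hinj _ h _ (by simpa using hc))
    funext i
    fin_cases i
    · exact h0
    · exact h1
  -- the group of matrices induced by `L`
  let H : Subgroup (SpecialLinearGroup (Fin 2) ↥S) :=
    { carrier := {g | ∃ l : L, ∀ c, act l (θ c) = θ (g.1 *ᵥ c)}
      one_mem' := ⟨1, fun c => by simp⟩
      mul_mem' := fun {g g'} ⟨l, hl⟩ ⟨l', hl'⟩ => ⟨l * l', fun c => by
        rw [map_mul, show (act l * act l') (θ c) = act l (act l' (θ c)) from rfl, hl', hl, mulVec_mulVec]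
        rfl⟩
      inv_mem' := fun {g} ⟨l, hl⟩ => ⟨l⁻¹, fun c => by
        have h := hl (g⁻¹.1 *ᵥ c)
        rw [mulVec_mulVec, show g.1 * (g⁻¹).1 = 1 from congrArg Subtype.val (mul_inv_cancel g), one_mulVec] at h
        rw [← h, show act l⁻¹ (act l (θ (g⁻¹.1 *ᵥ c))) = (act l⁻¹ * act l) (θ (g⁻¹.1 *ᵥ c)) from rfl, ← map_mul,
          inv_mul_cancel, map_one]
        rfl⟩ }
  have hax : act x a = a := sub_eq_zero.1 ((hu' a).symm.trans hua)
  have hbx : act x b = b + ω.1 a := by rw [← hub, hu']; abel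
  have hay : act y a = a + b := by rw [hb, hv']; abel
  have hby : act y b = b := sub_eq_zero.1 ((hv' b).symm.trans hvb)
  have hupH : up ω ∈ H := ⟨x, fun c => by
    rw [hθ, hθ, map_add, hxf, hxf, hax, hbx, map_add]
    simp only [mulVec, dotProduct, Fin.sum_univ_two, up, mk00, mk01, mk10, mk11, one_mul, zero_mul, zero_add,
      hadd]
    rw [mul_comm ω (c 1), hmul]
    abel⟩
  have hloH : lo (1 : ↥S) ∈ H := ⟨y, fun c => by
    rw [hθ, hθ, map_add, hyf, hyf, hay, hby, map_add]
    simp only [mulVec, dotProduct, Fin.sum_univ_two, lo, mk00, mk01, mk10, mk11, one_mul, zero_mul, add_zero,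
      hadd]
    abel⟩
  have hnc : ¬ Commute (up ω) (lo (1 : ↥S)) := fun h => hω0 (by
    have h' := congrArg (fun g : SpecialLinearGroup (Fin 2) ↥S => g.1 0 0) h.eq
    simp only [mul00, up, lo, mk00, mk01, mk10, mk11, mul_one, zero_mul, add_zero, mul_zero] at h'
    simpa using h')
  have hupp : up ω ^ p = 1 := by
    rw [up_pow, CharP.cast_eq_zero, zero_mul]; apply ext4 <;> simp [up]
  have hlop : lo (1 : ↥S) ^ p = 1 := by
    rw [lo_pow, CharP.cast_eq_zero, zero_mul]; apply ext4 <;> simp [lo]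
  obtain ⟨k, β, hβ, hU, hL⟩ := exists_transvections p h2 H hupH hloH hupp hlop hnc
  obtain ⟨l, hl⟩ := embed_mem p hβ hU hL (m1 (ZMod p))
  refine ⟨l, fun w => ?_⟩
  have hm : k * embed p β hβ (m1 (ZMod p)) * k⁻¹ = m1 ↥S := by
    have he : embed p β hβ (m1 (ZMod p)) = m1 ↥S := by
      apply ext4 <;> simp [embed, m1]
    rw [he, ← m1_mul k, mul_assoc, mul_inv_cancel, mul_one]
  rw [hm] at hl
  have hneg : ∀ c, act l (θ c) = - θ c := fun c => by
    rw [hl, ← map_neg]
    congr 1
    funext i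
    fin_cases i <;> simp [m1, mulVec, dotProduct, Fin.sum_univ_two]
  -- the image of `θ` is everything
  have hax' : ∀ g ∈ θ.range, act x g ∈ θ.range := by
    rintro _ ⟨c, rfl⟩
    refine ⟨![c 0 + ω * c 1, c 1], ?_⟩
    rw [hθ, hθ, map_add, hxf, hxf, hax, hbx, map_add]
    simp only [Matrix.cons_val_zero, Matrix.cons_val_one, hadd]
    rw [mul_comm ω (c 1), hmul]
    abel
  have hay' : ∀ g ∈ θ.range, act y g ∈ θ.range := by
    rintro _ ⟨c, rfl⟩
    refine ⟨![c 0, c 1 + c 0], ?_⟩
    rw [hθ, hθ, map_add, hyf, hyf, hay, hby, map_add]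
    simp only [Matrix.cons_val_zero, Matrix.cons_val_one, hadd]
    abel
  rcases hirr θ.range hax' hay' with h | h
  · exact absurd (AddSubgroup.mem_bot.1 (h ▸ (⟨![1, 0], by simp [hθ]⟩ : a ∈ θ.range))) ha0
  · obtain ⟨c, rfl⟩ := h.ge (AddSubgroup.mem_top w)
    exact hneg c

end CfsgLib.Dickson

namespace CfsgLib.Inv.QP

universe u v

variable {p : ℕ} [hp : Fact p.Prime]

/-- A quadratically acting element. -/
def Qe {X : Type v} [Group X] {W : Type u} [CommGroup W] (θ : X →* MulAut W) (x : X) : Prop :=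
  ∀ w : W, θ x (w⁻¹ * θ x w) = w⁻¹ * θ x w

theorem qe_pow_apply {X : Type v} [Group X] {W : Type u} [CommGroup W] {θ : X →* MulAut W} {x : X} (h : Qe θ x)
    (w : W) : ∀ i : ℕ, θ (x ^ i) w = w * (w⁻¹ * θ x w) ^ i
  | 0 => by simp
  | i + 1 => by
    rw [pow_succ', map_mul, MulAut.mul_apply, qe_pow_apply h w i, map_mul, map_pow, h w,
      pow_succ' (w⁻¹ * θ x w), ← mul_assoc, mul_inv_cancel_left]

theorem qe_pow_p {X : Type v} [Group X] {W : Type u} [CommGroup W] {θ : X →* MulAut W} {x : X} (h : Qe θ x)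
    (he : ∀ w : W, w ^ p = 1) : θ x ^ p = 1 := by
  refine MulEquiv.ext fun w => ?_
  rw [← map_pow, qe_pow_apply h, he, mul_one, MulAut.one_apply]

theorem qe_conj {X : Type v} [Group X] {W : Type u} [CommGroup W] {θ : X →* MulAut W} {x : X} (h : Qe θ x)
    (g : X) : Qe θ (g * x * g⁻¹) := by
  have e : ∀ w : W, θ (g * x * g⁻¹) w = θ g (θ x (θ g⁻¹ w)) := fun w => by
    rw [map_mul, map_mul, MulAut.mul_apply, MulAut.mul_apply]
  have e2 : ∀ w : W, θ g (θ g⁻¹ w) = w := fun w => by rw [map_inv, MulAut.apply_inv_self]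
  intro w
  have h3 : w⁻¹ * θ (g * x * g⁻¹) w = θ g ((θ g⁻¹ w)⁻¹ * θ x (θ g⁻¹ w)) := by
    rw [e, map_mul (θ g), map_inv (θ g), e2]
  rw [h3, e, map_inv θ g, MulAut.inv_apply_self, ← map_inv θ g, h]

/-- The alternative for a group generated by two quadratic elements. -/
theorem pair_dichotomy (hp2 : p ≠ 2) : ∀ (n : ℕ) (W : Type u) [CommGroup W] [Finite W], Nat.card W = n →
    (∀ w : W, w ^ p = 1) → ∀ (X : Type v) [Group X] (θ : X →* MulAut W) (x y : X), Qe θ x → Qe θ y →
      Subgroup.closure ({x, y} : Set X) = ⊤ →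
      (∀ g : X, ∃ k : ℕ, θ g ^ p ^ k = 1) ∨ ∃ K : Subgroup X, K.Normal ∧ x ∉ K ∧
        ∃ l : X, l ∉ K ∧ l * l ∈ K ∧ ∀ g : X, g * l * g⁻¹ * l⁻¹ ∈ K := by
  intro n
  induction n using Nat.strong_induction_on with
  | _ n IH =>
  intro W _ _ hn he X _ θ x y hx hy hgen
  subst hn
  have hW2 : ∀ w : W, w⁻¹ = w → w = 1 := fun w hw => by
    have h2 : w ^ 2 = 1 := by
      rw [pow_two]
      nth_rewrite 1 [← hw]
      rw [inv_mul_cancel]
    exact orderOf_eq_one_iff.1 (Nat.eq_one_of_dvd_coprimes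
      ((Nat.coprime_primes hp.out Nat.prime_two).2 hp2) (orderOf_dvd_of_pow_eq_one (he w)) (orderOf_dvd_of_pow_eq_one h2))
  by_cases hred : ∃ W' : Subgroup W, W' ≠ ⊥ ∧ W' ≠ ⊤ ∧ (∀ w ∈ W', θ x w ∈ W') ∧ ∀ w ∈ W', θ y w ∈ W'
  · obtain ⟨W', hb, ht, hxW, hyW⟩ := hred
    -- every element stabilizes `W'`
    have hstab : ∀ g : X, W'.map (θ g).toMonoidHom = W' := by
      let T : Subgroup X :=
        { carrier := {g | W'.map (θ g).toMonoidHom = W'}
          one_mem' := by
            show W'.map (θ 1).toMonoidHom = W'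
            rw [map_one]; exact Subgroup.map_id W'
          mul_mem' := fun {a b} (ha : W'.map (θ a).toMonoidHom = W') (hb : W'.map (θ b).toMonoidHom = W') => by
            show W'.map (θ (a * b)).toMonoidHom = W'
            conv_rhs => rw [← ha, ← hb, Subgroup.map_map]
            rw [map_mul]; rfl
          inv_mem' := fun {a} (ha : W'.map (θ a).toMonoidHom = W') => by
            show W'.map (θ a⁻¹).toMonoidHom = W'
            conv_lhs => rw [← ha, Subgroup.map_map]
            ext w
            simp }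
      have hmem : ∀ g : X, (∀ w ∈ W', θ g w ∈ W') → g ∈ T := fun g hg =>
        Subgroup.eq_of_le_of_card_ge (by rintro _ ⟨w, hw, rfl⟩; exact hg w hw)
          (Subgroup.card_map_of_injective (θ g).injective).ge
      have hT : T = ⊤ := eq_top_iff.2 (hgen ▸ (Subgroup.closure_le T).2 (by
        rintro g (rfl | rfl); exacts [hmem _ hxW, hmem _ hyW]))
      exact fun g => (hT.ge (Subgroup.mem_top g) : g ∈ T)
    have hres : ∀ (g : X) (w : W'), θ g w ∈ W' := fun g w => (hstab g).le ⟨w, w.2, rfl⟩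
    let ρ₁ : X →* MulAut W' :=
      { toFun := fun g =>
          { toFun := fun w => ⟨θ g w, hres g w⟩
            invFun := fun w => ⟨θ g⁻¹ w, hres g⁻¹ w⟩
            left_inv := fun w => Subtype.ext (by simp [map_inv])
            right_inv := fun w => Subtype.ext (by simp [map_inv])
            map_mul' := fun a b => Subtype.ext (map_mul (θ g) _ _) }
        map_one' := MulEquiv.ext fun w => Subtype.ext (by simp)
        map_mul' := fun a b => MulEquiv.ext fun w => Subtype.ext (by simp) }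
    let ρ₂ : X →* MulAut (W ⧸ W') :=
      { toFun := fun g => QuotientGroup.congr W' W' (θ g) (hstab g)
        map_one' := MulEquiv.ext fun q => by
          obtain ⟨w, rfl⟩ := QuotientGroup.mk_surjective q
          simp
        map_mul' := fun a b => MulEquiv.ext fun q => by
          obtain ⟨w, rfl⟩ := QuotientGroup.mk_surjective q
          show ((θ (a * b) w : W) : W ⧸ W') = ((θ a (θ b w) : W) : W ⧸ W')
          rw [map_mul, MulAut.mul_apply] }
    have hc1 : Nat.card W' < Nat.card W := lt_of_le_of_ne (Subgroup.card_le_card_group W') fun h =>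
      ht ((Subgroup.card_eq_iff_eq_top W').1 h)
    have hc2 : Nat.card (W ⧸ W') < Nat.card W := by
      rw [← W'.index_eq_card, ← W'.card_mul_index]
      exact lt_mul_left W'.index_ne_zero_of_finite.bot_lt ((Subgroup.one_lt_card_iff_ne_bot W').2 hb)
    rcases IH _ hc1 W' rfl (fun w => Subtype.ext (by rw [Subgroup.coe_pow, he]; rfl)) X ρ₁ x y
        (fun w => Subtype.ext (hx w)) (fun w => Subtype.ext (hy w)) hgen with h1 | h1
    · have hQ : ∀ g, Qe θ g → Qe ρ₂ g := fun g hg q => by
        obtain ⟨w, rfl⟩ := QuotientGroup.mk_surjective q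
        show ((θ g (w⁻¹ * θ g w) : W) : W ⧸ W') = ((w⁻¹ * θ g w : W) : W ⧸ W')
        rw [hg w]
      rcases IH _ hc2 (W ⧸ W') rfl (fun q => by
          obtain ⟨w, rfl⟩ := QuotientGroup.mk_surjective q
          rw [← QuotientGroup.mk_pow, he]; rfl) X ρ₂ x y (hQ x hx) (hQ y hy) hgen with h2 | h2
      · left
        intro g
        obtain ⟨k₁, hk₁⟩ := h1 g
        obtain ⟨k₂, hk₂⟩ := h2 g
        refine ⟨k₁ + k₂ + 1, ?_⟩
        set h := g ^ p ^ (k₁ + k₂) with hh
        have e1 : ρ₁ h = 1 := by rw [hh, map_pow, pow_add, pow_mul, hk₁, one_pow]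
        have e2 : ρ₂ h = 1 := by rw [hh, map_pow, pow_add, mul_comm, pow_mul, hk₂, one_pow]
        have hfix : ∀ w ∈ W', θ h w = w := fun w hw =>
          congrArg (fun a : MulAut W' => ((a ⟨w, hw⟩ : W') : W)) e1
        have hq : Qe θ h := fun w => by
          have hmod : ((θ h w : W) : W ⧸ W') = (w : W ⧸ W') :=
            congrArg (fun a : MulAut (W ⧸ W') => a (w : W ⧸ W')) e2
          exact hfix _ (QuotientGroup.eq.1 hmod.symm)
        rw [pow_succ, pow_mul, ← map_pow, ← hh]
        exact qe_pow_p hq he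
      · exact .inr h2
    · exact .inr h1
  -- the irreducible case
  by_cases hx1 : θ x = 1
  · left
    intro g
    refine ⟨1, ?_⟩
    have hg : θ g ∈ Subgroup.zpowers (θ y) := by
      have : Subgroup.closure ({x, y} : Set X) ≤ (Subgroup.zpowers (θ y)).comap θ := (Subgroup.closure_le _).2 (by
        rintro z (rfl | rfl)
        · exact Subgroup.mem_comap.2 (by rw [hx1]; exact one_mem _)
        · exact Subgroup.mem_zpowers _)
      exact this (hgen.ge (Subgroup.mem_top g))
    obtain ⟨i, hi⟩ := Subgroup.mem_zpowers_iff.1 hg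
    rw [pow_one, ← hi, ← zpow_natCast, ← zpow_mul, mul_comm, zpow_mul, zpow_natCast, qe_pow_p hy he, one_zpow]
  by_cases hy1 : θ y = 1
  · left
    intro g
    refine ⟨1, ?_⟩
    have hg : θ g ∈ Subgroup.zpowers (θ x) := by
      have : Subgroup.closure ({x, y} : Set X) ≤ (Subgroup.zpowers (θ x)).comap θ := (Subgroup.closure_le _).2 (by
        rintro z (rfl | rfl)
        · exact Subgroup.mem_zpowers _
        · exact Subgroup.mem_comap.2 (by rw [hy1]; exact one_mem _))
      exact this (hgen.ge (Subgroup.mem_top g))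
    obtain ⟨i, hi⟩ := Subgroup.mem_zpowers_iff.1 hg
    rw [pow_one, ← hi, ← zpow_natCast, ← zpow_mul, mul_comm, zpow_mul, zpow_natCast, qe_pow_p hx he, one_zpow]
  right
  let act : X →* AddMonoid.End (Additive W) :=
    { toFun := fun g => MonoidHom.toAdditive (θ g).toMonoidHom
      map_one' := by rw [map_one]; rfl
      map_mul' := fun a b => by rw [map_mul]; rfl }
  have hact : ∀ g (w : W), act g (Additive.ofMul w) = Additive.ofMul (θ g w) := fun _ _ => rfl
  have hquad : ∀ z, Qe θ z → ∀ w : Additive W, act z (act z w - w) = act z w - w := fun z hz w => by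
    obtain ⟨w, rfl⟩ := Additive.ofMul.surjective w
    rw [hact, ← ofMul_div, hact, div_eq_inv_mul, hz]
  have hmove : ∀ z, θ z ≠ 1 → ∃ w : Additive W, act z w ≠ w := fun z hz => by
    by_contra h
    push Not at h
    exact hz (MulEquiv.ext fun w => Additive.ofMul.injective (h (Additive.ofMul w)))
  obtain ⟨l, hl⟩ := CfsgLib.Dickson.exists_neg p hp2 (W := Additive W) (fun w => by
    obtain ⟨w, rfl⟩ := Additive.ofMul.surjective w
    rw [← ofMul_pow, he, ofMul_one]) act x y (hquad x hx) (hquad y hy) (hmove x hx1) (hmove y hy1) fun A hAx hAy => by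
      by_contra hcon
      rw [not_or] at hcon
      refine hred ⟨A.toSubgroup', fun h => hcon.1 ?_, fun h => hcon.2 ?_, fun w hw => hAx _ hw, fun w hw => hAy _ hw⟩
      · exact AddSubgroup.toSubgroup'.injective (h.trans (map_bot AddSubgroup.toSubgroup').symm)
      · exact AddSubgroup.toSubgroup'.injective (h.trans (map_top AddSubgroup.toSubgroup').symm)
  have hlw : ∀ w, θ l w = w⁻¹ := fun w => Additive.ofMul.injective (hl (Additive.ofMul w))
  refine ⟨θ.ker, inferInstance, fun h => hx1 (MonoidHom.mem_ker.1 h), l, fun h => hx1 ?_, ?_, fun g => ?_⟩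
  · refine MulEquiv.ext fun w => ?_
    have h1 : ∀ w, w = (1 : W) := fun w => hW2 w (by rw [← hlw, MonoidHom.mem_ker.1 h, MulAut.one_apply])
    rw [h1 w, map_one, map_one]
  · refine MonoidHom.mem_ker.2 (MulEquiv.ext fun w => ?_)
    rw [map_mul, MulAut.mul_apply, hlw, hlw, inv_inv, MulAut.one_apply]
  · refine MonoidHom.mem_ker.2 ?_
    rw [map_mul, map_mul, map_mul, map_inv, map_inv, mul_inv_eq_one, mul_inv_eq_iff_eq_mul]
    refine MulEquiv.ext fun w => ?_
    rw [MulAut.mul_apply, MulAut.mul_apply, hlw, hlw, map_inv]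

end CfsgLib.Inv.QP
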