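import Cfsg.Prelude.Def_RootSubgroups

/-!
Quadratic pairs: the subgroup of elements with the same action.
-/

set_option autoImplicit false

namespace CfsgLib.Inv.Quad

open Cfsg

variable {k : Type*} [Field k] {M : Type*} [AddCommGroup M] [Module k M]

/-- The map `g - 1`. -/
noncomputable abbrev dif (g : LinearMap.GeneralLinearGroup k M) : M →ₗ[k] M := (g : M →ₗ[k] M) - 1

theorem coe_eq (g : LinearMap.GeneralLinearGroup k M) : (g : M →ₗ[k] M) = 1 + dif g := by simp [dif]

theorem dif_one : dif (1 : LinearMap.GeneralLinearGroup k M) = 0 := by simp [dif]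

theorem dif_mul_of_zero {g h : LinearMap.GeneralLinearGroup k M} (h0 : dif g * dif h = 0) :
    dif (g * h) = dif g + dif h := by
  have e : (((g * h : LinearMap.GeneralLinearGroup k M)) : M →ₗ[k] M) = (1 + dif g) * (1 + dif h) := by
    rw [← coe_eq, ← coe_eq]; rfl
  show (((g * h : LinearMap.GeneralLinearGroup k M)) : M →ₗ[k] M) - 1 = _
  rw [e, mul_add, mul_one, add_mul, one_mul, h0]
  abel

theorem dif_eq_zero {g : LinearMap.GeneralLinearGroup k M} : dif g = 0 ↔ g = 1 := by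
  refine ⟨fun h => Units.ext ?_, fun h => h ▸ dif_one⟩
  rw [coe_eq g, h, add_zero]; rfl

theorem range_le_ker {g : LinearMap.GeneralLinearGroup k M} (h : dif g * dif g = 0) :
    LinearMap.range (dif g) ≤ LinearMap.ker (dif g) := by
  rintro _ ⟨m, rfl⟩
  rw [LinearMap.mem_ker]
  exact LinearMap.congr_fun h m

theorem mul_zero_of_le {f g : M →ₗ[k] M} (h : LinearMap.range g ≤ LinearMap.ker f) : f * g = 0 := by
  ext m
  exact LinearMap.mem_ker.1 (h ⟨m, rfl⟩)

/-- The scalar multiples of a quadratic element. -/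
noncomputable def famUnit (g : LinearMap.GeneralLinearGroup k M) (h : dif g * dif g = 0) (c : k) : LinearMap.GeneralLinearGroup k M where
  val := 1 + c • dif g
  inv := 1 + (-c) • dif g
  val_inv := by
    rw [mul_add, mul_one, add_mul, one_mul, smul_mul_assoc, mul_smul_comm, h, smul_zero, smul_zero, add_zero, neg_smul]
    abel
  inv_val := by
    rw [mul_add, mul_one, add_mul, one_mul, smul_mul_assoc, mul_smul_comm, h, smul_zero, smul_zero, add_zero, neg_smul]
    abel

theorem dif_fam (g : LinearMap.GeneralLinearGroup k M) (h : dif g * dif g = 0) (c : k) :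
    dif (famUnit g h c) = c • dif g := by
  show (1 + c • dif g) - 1 = _
  abel

theorem mem_family {g τ : LinearMap.GeneralLinearGroup k M} :
    τ ∈ scalarFamily g ↔ ∃ c : k, dif τ = c • dif g := by
  constructor
  · rintro ⟨c, hc⟩; exact ⟨c, by show _ - 1 = _; rw [hc]; abel⟩
  · rintro ⟨c, hc⟩; exact ⟨c, by rw [coe_eq τ, hc]⟩

theorem class_spec {G : Subgroup (LinearMap.GeneralLinearGroup k M)} {σ τ : LinearMap.GeneralLinearGroup k M}
    (hτ : τ ∈ sameActionClass G σ) :
    τ ∈ G ∧ dif τ * dif τ = 0 ∧ dif τ ≠ 0 ∧ LinearMap.ker (dif τ) = LinearMap.ker (dif σ) ∧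
      LinearMap.range (dif τ) = LinearMap.range (dif σ) :=
  ⟨hτ.1.1.1, hτ.1.1.2.1.1, hτ.1.1.2.1.2, hτ.2.1, hτ.2.2⟩

theorem self_mem_class {G : Subgroup (LinearMap.GeneralLinearGroup k M)} {σ : LinearMap.GeneralLinearGroup k M}
    (hσ : σ ∈ minimalQuadraticElements G) : σ ∈ sameActionClass G σ := ⟨hσ, rfl, rfl⟩

theorem class_cross {G : Subgroup (LinearMap.GeneralLinearGroup k M)} {σ τ₁ τ₂ : LinearMap.GeneralLinearGroup k M}
    (h₁ : τ₁ ∈ sameActionClass G σ) (h₂ : τ₂ ∈ sameActionClass G σ) : dif τ₁ * dif τ₂ = 0 :=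
  mul_zero_of_le (((class_spec h₂).2.2.2.2.trans (class_spec h₁).2.2.2.2.symm).le.trans (range_le_ker (class_spec h₁).2.1))

variable [FiniteDimensional k M]

theorem class_mul {G : Subgroup (LinearMap.GeneralLinearGroup k M)} {σ τ₁ τ₂ : LinearMap.GeneralLinearGroup k M}
    (hσ : σ ∈ minimalQuadraticElements G) (h₁ : τ₁ ∈ sameActionClass G σ) (h₂ : τ₂ ∈ sameActionClass G σ)
    (hne : τ₁ * τ₂ ≠ 1) : τ₁ * τ₂ ∈ sameActionClass G σ := by
  obtain ⟨g₁, q₁, -, k₁, r₁⟩ := class_spec h₁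
  obtain ⟨g₂, q₂, -, k₂, r₂⟩ := class_spec h₂
  have hd := dif_mul_of_zero (class_cross h₁ h₂)
  have hker : LinearMap.ker (dif σ) ≤ LinearMap.ker (dif (τ₁ * τ₂)) := by
    intro m hm
    rw [LinearMap.mem_ker, hd, LinearMap.add_apply, LinearMap.mem_ker.1 (k₁.ge hm), LinearMap.mem_ker.1 (k₂.ge hm), add_zero]
  have hrange : LinearMap.range (dif (τ₁ * τ₂)) ≤ LinearMap.range (dif σ) := by
    rintro _ ⟨m, rfl⟩
    rw [hd, LinearMap.add_apply]
    exact add_mem (r₁.le ⟨m, rfl⟩) (r₂.le ⟨m, rfl⟩)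
  have hsq : dif (τ₁ * τ₂) * dif (τ₁ * τ₂) = 0 :=
    mul_zero_of_le (hrange.trans ((range_le_ker hσ.1.2.1.1).trans hker))
  have hq : τ₁ * τ₂ ∈ quadraticElements G := by
    refine ⟨mul_mem g₁ g₂, ⟨hsq, fun e => hne (dif_eq_zero.1 e)⟩, fun τ hτ => ?_⟩
    obtain ⟨c, hc⟩ := mem_family.1 hτ
    have e : τ = famUnit τ₁ q₁ c * famUnit τ₂ q₂ c := by
      refine Units.ext ?_
      rw [coe_eq τ, coe_eq (famUnit τ₁ q₁ c * famUnit τ₂ q₂ c), hc, hd, smul_add, dif_mul_of_zero, dif_fam, dif_fam]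
      rw [dif_fam, dif_fam, smul_mul_assoc, mul_smul_comm, class_cross h₁ h₂, smul_zero, smul_zero]
    rw [e]
    exact mul_mem (h₁.1.1.2.2 (mem_family.2 ⟨c, dif_fam _ _ _⟩)) (h₂.1.1.2.2 (mem_family.2 ⟨c, dif_fam _ _ _⟩))
  have hre : LinearMap.range (dif (τ₁ * τ₂)) = LinearMap.range (dif σ) :=
    Submodule.eq_of_le_of_finrank_le hrange (hσ.2 _ hq)
  refine ⟨⟨hq, fun τ hτ => ?_⟩, (Submodule.eq_of_le_of_finrank_le hker ?_).symm, hre⟩
  · show Module.finrank k (LinearMap.range (dif (τ₁ * τ₂))) ≤ _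
    rw [hre]; exact hσ.2 τ hτ
  · have e1 := LinearMap.finrank_range_add_finrank_ker (dif (τ₁ * τ₂))
    have e2 := LinearMap.finrank_range_add_finrank_ker (dif σ)
    rw [hre] at e1
    omega

theorem class_inv {G : Subgroup (LinearMap.GeneralLinearGroup k M)} {σ τ : LinearMap.GeneralLinearGroup k M}
    (hτ : τ ∈ sameActionClass G σ) : τ⁻¹ ∈ sameActionClass G σ := by
  obtain ⟨hg, hq, hne, hk, hr⟩ := class_spec hτ
  have hinv : dif τ⁻¹ = -dif τ := by
    have e : τ⁻¹ = famUnit τ hq (-1) := by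
      refine inv_eq_of_mul_eq_one_right (dif_eq_zero.1 ?_)
      rw [dif_mul_of_zero (by rw [dif_fam, mul_smul_comm, hq, smul_zero]), dif_fam, neg_one_smul, add_neg_cancel]
    rw [e, dif_fam, neg_one_smul]
  refine ⟨⟨⟨inv_mem hg, ⟨?_, ?_⟩, fun x hx => hτ.1.1.2.2 ?_⟩, fun x hx => ?_⟩, ?_, ?_⟩
  · show dif τ⁻¹ * dif τ⁻¹ = 0
    rw [hinv, neg_mul_neg, hq]
  · show dif τ⁻¹ ≠ 0
    rw [hinv]; exact neg_ne_zero.2 hne
  · obtain ⟨c, hc⟩ := mem_family.1 hx
    exact mem_family.2 ⟨-c, by rw [hc, hinv, smul_neg, neg_smul]⟩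
  · show Module.finrank k (LinearMap.range (dif τ⁻¹)) ≤ _
    rw [hinv, LinearMap.range_neg]; exact hτ.1.2 x hx
  · show LinearMap.ker (dif τ⁻¹) = _
    rw [hinv, ← hτ.2.1]
    ext m; rw [LinearMap.mem_ker, LinearMap.mem_ker, LinearMap.neg_apply, neg_eq_zero]
  · show LinearMap.range (dif τ⁻¹) = _
    rw [hinv, LinearMap.range_neg]; exact hr

theorem sameAction_eq {G : Subgroup (LinearMap.GeneralLinearGroup k M)} {σ : LinearMap.GeneralLinearGroup k M}
    (hσ : σ ∈ minimalQuadraticElements G) :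
    (sameActionSubgroup G σ : Set (LinearMap.GeneralLinearGroup k M)) = sameActionClass G σ ∪ {1} := by
  refine Set.Subset.antisymm ?_ (Set.union_subset Subgroup.subset_closure
    (Set.singleton_subset_iff.2 (one_mem _)))
  intro x hx
  induction hx using Subgroup.closure_induction with
  | mem x hx => exact Or.inl hx
  | one => exact Or.inr rfl
  | mul x y _ _ hx hy =>
    rcases hx with hx | hx
    · rcases hy with hy | hy
      · rcases eq_or_ne (x * y) 1 with e | e
        · exact Or.inr e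
        · exact Or.inl (class_mul hσ hx hy e)
      · rw [Set.mem_singleton_iff.1 hy, mul_one]; exact Or.inl hx
    · rw [Set.mem_singleton_iff.1 hx, one_mul]; exact hy
  | inv x _ hx =>
    rcases hx with hx | hx
    · exact Or.inl (class_inv hx)
    · rw [Set.mem_singleton_iff.1 hx, inv_one]; exact Or.inr rfl

theorem sameAction_comm {G : Subgroup (LinearMap.GeneralLinearGroup k M)} {σ : LinearMap.GeneralLinearGroup k M} :
    IsMulCommutative ↥(sameActionSubgroup G σ) := by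
  refine Subgroup.isMulCommutative_closure fun x hx y hy => ?_
  refine Units.ext ?_
  rw [coe_eq (x * y), coe_eq (y * x), dif_mul_of_zero (class_cross hx hy), dif_mul_of_zero (class_cross hy hx), add_comm (dif x)]

theorem pow_dif {g : LinearMap.GeneralLinearGroup k M} (hq : dif g * dif g = 0) (n : ℕ) :
    dif (g ^ n) = n • dif g := by
  induction n with
  | zero => rw [pow_zero, zero_nsmul]; exact dif_one
  | succ n ih =>
    rw [pow_succ, dif_mul_of_zero (by rw [ih, smul_mul_assoc, hq, smul_zero]), ih, succ_nsmul]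

theorem sameAction_pow {G : Subgroup (LinearMap.GeneralLinearGroup k M)} {σ : LinearMap.GeneralLinearGroup k M}
    (hσ : σ ∈ minimalQuadraticElements G) {p : ℕ} (hp : ringChar k = p) {x : LinearMap.GeneralLinearGroup k M}
    (hx : x ∈ sameActionSubgroup G σ) : x ^ p = 1 := by
  rcases (sameAction_eq hσ).le hx with h | h
  · refine dif_eq_zero.1 ?_
    rw [pow_dif (class_spec h).2.1, ← Nat.cast_smul_eq_nsmul k, ← hp, ringChar.Nat.cast_ringChar, zero_smul]
  · rw [Set.mem_singleton_iff.1 h, one_pow]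

end CfsgLib.Inv.Quad
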