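import Cfsg.Prelude.Def_RootSubgroups

/-!
Rank one groups and abstract root subgroups: first properties.
-/

set_option autoImplicit false

namespace CfsgLib.Inv.RankOne

open Cfsg
open scoped commutatorElement

variable {G : Type*} [Group G] {A B : Subgroup G}

theorem mem_cj {x g : G} : x ∈ conjBy A g ↔ g⁻¹ * x * g ∈ A := by
  constructor
  · rintro ⟨a, ha, rfl⟩; simpa [mul_assoc] using ha
  · intro h; exact ⟨_, h, by simp [mul_assoc]⟩

theorem cj_mem {a : G} (ha : a ∈ A) (g : G) : g * a * g⁻¹ ∈ conjBy A g := ⟨a, ha, rfl⟩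

theorem cj_one : conjBy A 1 = A := by ext x; simp [mem_cj]

theorem cj_cj (g h : G) : conjBy (conjBy A h) g = conjBy A (g * h) := by
  ext x; simp [mem_cj, mul_assoc]

theorem cj_inv_cj (g : G) : conjBy (conjBy A g) g⁻¹ = A := by rw [cj_cj, inv_mul_cancel, cj_one]

theorem cj_cj_inv (g : G) : conjBy (conjBy A g⁻¹) g = A := by rw [cj_cj, mul_inv_cancel, cj_one]

theorem cj_inj {C D : Subgroup G} {g : G} (h : conjBy C g = conjBy D g) : C = D := by
  rw [← cj_inv_cj (A := C) g, h, cj_inv_cj]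

theorem mem_norm {g : G} : g ∈ Subgroup.normalizer (A : Set G) ↔ conjBy A g = A := by
  constructor
  · intro hg; ext x
    rw [mem_cj, Subgroup.mem_normalizer_iff.1 hg (g⁻¹ * x * g)]
    simp [mul_assoc]
  · intro h
    refine Subgroup.mem_normalizer_iff.2 fun x => ?_
    rw [← SetLike.ext_iff.1 h (g * x * g⁻¹), mem_cj]
    simp [mul_assoc]

theorem cj_of_comm {g : G} (hg : ∀ x ∈ A, g * x = x * g) : conjBy A g = A := by
  ext x
  rw [mem_cj]
  constructor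
  · intro h
    have := hg _ h
    rw [← mul_assoc, ← mul_assoc, mul_inv_cancel, one_mul] at this
    rw [mul_right_cancel this]
    exact h
  · intro h
    rwa [mul_assoc, ← hg x h, inv_mul_cancel_left]

theorem cj_self [IsMulCommutative A] {g : G} (hg : g ∈ A) : conjBy A g = A :=
  cj_of_comm fun x hx => congrArg Subtype.val (mul_comm' (⟨g, hg⟩ : A) ⟨x, hx⟩)

theorem cj_of_mem {g : G} (hg : g ∈ A) : conjBy A g = A := mem_norm.1 (Subgroup.le_normalizer hg)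

variable (h : IsRankOnePair A B)
include h

theorem inf_norm {a : G} (ha : a ∈ A) (hn : conjBy B a = B) : a = 1 := by
  by_contra h1
  obtain ⟨b, hb, -, e⟩ := h.cond_left a ha h1
  have hB : conjBy B a⁻¹ = B := by
    conv_lhs => rw [← hn, cj_inv_cj]
  rw [hB] at e
  exact h.ne (by rw [← cj_cj_inv (A := A) b, e, cj_of_mem hb])

theorem ne_bot_left : A ≠ ⊥ := by
  intro hA
  by_cases hB : B = ⊥
  · exact h.ne (hA.trans hB.symm)
  obtain ⟨b, hb, hb1⟩ := (Subgroup.bot_or_exists_ne_one B).resolve_left hB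
  obtain ⟨a, ha, ha1, -⟩ := h.cond_right b hb hb1
  rw [hA, Subgroup.mem_bot] at ha
  exact ha1 ha

theorem exists_b {a : G} (ha : a ∈ A) (h1 : a ≠ 1) : ∃ b ∈ B, b ≠ 1 ∧ conjBy B a = conjBy A b := by
  obtain ⟨b, hb, hb1, e⟩ := h.cond_left a⁻¹ (inv_mem ha) (inv_ne_one.2 h1)
  exact ⟨b⁻¹, inv_mem hb, inv_ne_one.2 hb1, by rw [inv_inv] at e; exact e.symm⟩

theorem exists_a {b : G} (hb : b ∈ B) (h1 : b ≠ 1) : ∃ a ∈ A, a ≠ 1 ∧ conjBy A b = conjBy B a :=
  exists_b (RankOnePair_symm h) hb h1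

theorem cj_B_ne {a : G} (ha : a ∈ A) : conjBy B a ≠ A := fun e => h.ne (cj_inj ((cj_of_mem ha).trans e.symm))

theorem reg_inj {a a' : G} (ha : a ∈ A) (ha' : a' ∈ A) (e : conjBy B a = conjBy B a') : a = a' := by
  have := inf_norm h (mul_mem (inv_mem ha') ha) (by rw [← cj_cj, e, cj_inv_cj])
  exact (inv_mul_eq_one.1 this).symm

theorem mem_unip {C : Subgroup G} :
    C ∈ unipotentSubgroups A B ↔ C = A ∨ ∃ a ∈ A, C = conjBy B a := by
  let P : Subgroup G → Prop := fun C => C = A ∨ ∃ a ∈ A, C = conjBy B a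
  have hA : ∀ a ∈ A, ∀ C, P C → P (conjBy C a) := by
    rintro a ha C (rfl | ⟨a', ha', rfl⟩)
    · exact Or.inl (cj_of_mem ha)
    · exact Or.inr ⟨a * a', mul_mem ha ha', cj_cj _ _⟩
  have hAb : ∀ b ∈ B, P (conjBy A b) := by
    intro b hb
    by_cases h1 : b = 1
    · exact Or.inl (h1 ▸ cj_one)
    · obtain ⟨a, ha, -, e⟩ := exists_a h hb h1
      exact Or.inr ⟨a, ha, e⟩
  have hB : ∀ b ∈ B, ∀ C, P C → P (conjBy C b) := by
    rintro b hb C (rfl | ⟨a, ha, rfl⟩)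
    · exact hAb b hb
    · by_cases h1 : a = 1
      · exact Or.inr ⟨1, one_mem _, by rw [h1, cj_one, cj_of_mem hb]⟩
      · obtain ⟨b', hb', -, e⟩ := exists_b h ha h1
        rw [e, cj_cj]
        exact hAb _ (mul_mem hb hb')
  let T : Subgroup G :=
    { carrier := {x | ∀ C, P C ↔ P (conjBy C x)}
      one_mem' := fun C => by rw [cj_one]
      mul_mem' := fun {x y} hx hy C => by rw [← cj_cj]; exact (hy C).trans (hx _)
      inv_mem' := fun {x} hx C => by rw [hx (conjBy C x⁻¹), cj_cj_inv] }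
  have hle : A ⊔ B ≤ T := sup_le
    (fun a ha C => ⟨hA a ha C, fun hC => by simpa [cj_inv_cj] using hA _ (inv_mem ha) _ hC⟩)
    (fun b hb C => ⟨hB b hb C, fun hC => by simpa [cj_inv_cj] using hB _ (inv_mem hb) _ hC⟩)
  constructor
  · rintro ⟨x, hx, rfl⟩
    exact (hle hx A).1 (Or.inl rfl)
  · rintro (rfl | ⟨a, ha, rfl⟩)
    · exact ⟨1, one_mem _, cj_one.symm⟩
    · obtain ⟨a0, ha0, h10⟩ := (Subgroup.bot_or_exists_ne_one A).resolve_left (ne_bot_left h)
      obtain ⟨b, hb, -, e⟩ := exists_b h ha0 h10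
      refine ⟨a * a0⁻¹ * b, mul_mem (Subgroup.mem_sup_left (mul_mem ha (inv_mem ha0))) (Subgroup.mem_sup_right hb), ?_⟩
      rw [← cj_cj (a * a0⁻¹), ← e, ← cj_cj a, cj_inv_cj]

theorem self_mem : A ∈ unipotentSubgroups A B := (mem_unip h).2 (Or.inl rfl)

theorem other_mem : B ∈ unipotentSubgroups A B := (mem_unip h).2 (Or.inr ⟨1, one_mem _, cj_one.symm⟩)

omit h in
theorem cj_unip {C : Subgroup G} (hC : C ∈ unipotentSubgroups A B) {x : G} (hx : x ∈ A ⊔ B) :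
    conjBy C x ∈ unipotentSubgroups A B := by
  obtain ⟨y, hy, rfl⟩ := hC
  exact ⟨x * y, mul_mem hx hy, cj_cj _ _⟩

omit h in
theorem unip_le {C : Subgroup G} (hC : C ∈ unipotentSubgroups A B) : C ≤ A ⊔ B := by
  obtain ⟨y, hy, rfl⟩ := hC
  rintro _ ⟨a, ha, rfl⟩
  exact mul_mem (mul_mem hy (Subgroup.mem_sup_left ha)) (inv_mem hy)

theorem regular {C D : Subgroup G} (hC : C ∈ unipotentSubgroups A B) (hD : D ∈ unipotentSubgroups A B)
    (hCA : C ≠ A) (hDA : D ≠ A) : ∃! a : G, a ∈ A ∧ conjBy C a = D := by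
  obtain ⟨c, hc, rfl⟩ := ((mem_unip h).1 hC).resolve_left hCA
  obtain ⟨d, hd, rfl⟩ := ((mem_unip h).1 hD).resolve_left hDA
  refine ⟨d * c⁻¹, ⟨mul_mem hd (inv_mem hc), by rw [cj_cj, inv_mul_cancel_right]⟩, ?_⟩
  rintro a ⟨ha, e⟩
  rw [cj_cj] at e
  rw [← reg_inj h (mul_mem ha hc) hd e, mul_inv_cancel_right]

theorem fix_left {x : G} (hx : x ∈ A) (h1 : x ≠ 1) {C : Subgroup G} (hC : C ∈ unipotentSubgroups A B)
    (e : conjBy C x = C) : C = A := by
  by_contra hne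
  exact h1 ((regular h hC hC hne hne).unique ⟨hx, e⟩ ⟨one_mem _, cj_one⟩)

theorem fix_point {x : G} {D : Subgroup G} (hD : D ∈ unipotentSubgroups A B) (hx : x ∈ D) (h1 : x ≠ 1)
    {C : Subgroup G} (hC : C ∈ unipotentSubgroups A B) (e : conjBy C x = C) : C = D := by
  obtain ⟨g, hg, rfl⟩ := hD
  have e' : conjBy (conjBy C g⁻¹) (g⁻¹ * x * g) = conjBy C g⁻¹ := by
    rw [cj_cj, mul_inv_cancel_right, ← cj_cj, e]
  have h2 := fix_left h (mem_cj.1 hx) (fun h0 => h1 (by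
    have : x = g * (g⁻¹ * x * g) * g⁻¹ := by group
    rw [h0] at this; simpa using this)) (cj_unip hC (inv_mem hg)) e'
  rw [← h2, cj_cj_inv]

theorem two_trans {C₁ C₂ : Subgroup G} (h1 : C₁ ∈ unipotentSubgroups A B) (h2 : C₂ ∈ unipotentSubgroups A B)
    (hne : C₁ ≠ C₂) : ∃ x ∈ A ⊔ B, conjBy A x = C₁ ∧ conjBy B x = C₂ := by
  obtain ⟨g, hg, rfl⟩ := h1
  have hne' : conjBy C₂ g⁻¹ ≠ A := fun e => hne (by rw [← e, cj_cj_inv])
  obtain ⟨a, ha, e⟩ := ((mem_unip h).1 (cj_unip h2 (inv_mem hg))).resolve_left hne'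
  refine ⟨g * a, mul_mem hg (Subgroup.mem_sup_left ha), ?_, ?_⟩
  · rw [← cj_cj, cj_of_mem ha]
  · rw [← cj_cj, ← e, cj_cj_inv]

theorem kernel_comm_left {n : G} (hfix : ∀ C ∈ unipotentSubgroups A B, conjBy C n = C) {a : G} (ha : a ∈ A) :
    n * a = a * n := by
  have hA := hfix A (self_mem h)
  have hm : n * a * n⁻¹ * a⁻¹ ∈ A := mul_mem (by
    have := cj_mem ha n
    rwa [hA] at this) (inv_mem ha)
  have hB : conjBy B (n * a * n⁻¹ * a⁻¹) = B := by
    have h1 : conjBy (conjBy B a⁻¹) n⁻¹ = conjBy B a⁻¹ := by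
      have := hfix _ (cj_unip (other_mem h) (Subgroup.mem_sup_left (inv_mem ha)))
      calc conjBy (conjBy B a⁻¹) n⁻¹ = conjBy (conjBy (conjBy B a⁻¹) n) n⁻¹ := by rw [this]
        _ = conjBy B a⁻¹ := cj_inv_cj _
    rw [← cj_cj (n * a * n⁻¹) a⁻¹, ← cj_cj (n * a) n⁻¹, h1, cj_cj, mul_inv_cancel_right, hfix B (other_mem h)]
  exact mul_inv_eq_iff_eq_mul.1 (mul_inv_eq_one.1 (inf_norm h hm hB))

omit h in
theorem unip_symm (h : IsRankOnePair A B) : unipotentSubgroups B A = unipotentSubgroups A B := by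
  obtain ⟨x, hx, e⟩ := other_mem h
  ext C
  constructor
  · rintro ⟨y, hy, rfl⟩
    rw [sup_comm] at hy
    exact ⟨y * x, mul_mem hy hx, by rw [e, cj_cj]⟩
  · rintro ⟨y, hy, rfl⟩
    refine ⟨y * x⁻¹, by rw [sup_comm]; exact mul_mem hy (inv_mem hx), ?_⟩
    rw [e, cj_cj, inv_mul_cancel_right]

theorem kernel_central {n : G} (hfix : ∀ C ∈ unipotentSubgroups A B, conjBy C n = C) :
    ∀ x ∈ A ⊔ B, n * x = x * n := by
  have hle : A ⊔ B ≤ Subgroup.centralizer ({n} : Set G) := sup_le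
    (fun a ha => Subgroup.mem_centralizer_singleton_iff.2 (kernel_comm_left h hfix ha).symm)
    (fun b hb => Subgroup.mem_centralizer_singleton_iff.2
      (kernel_comm_left (RankOnePair_symm h) (fun C hC => hfix C (unip_symm h ▸ hC)) hb).symm)
  exact fun x hx => (Subgroup.mem_centralizer_singleton_iff.1 (hle hx)).symm

end CfsgLib.Inv.RankOne
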