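import Cfsg.Agent.Inv.RankOne
import Cfsg.Prelude.Def_Transfer

/-!
Rank one groups: dichotomy for normal subgroups; quadratic actions.
-/

set_option autoImplicit false

namespace CfsgLib.Inv.RankOne

open Cfsg
open scoped commutatorElement

variable {X : Type*} [Group X] {A B : Subgroup X}

theorem central_left_eq_one (h : IsRankOnePair A B) {a : X} (ha : a ∈ A) (hc : a ∈ Subgroup.center X) : a = 1 :=
  inf_norm h ha (cj_of_comm fun b _ => (Subgroup.mem_center_iff.1 hc b).symm)

theorem normal_dichotomy (h : IsRankOneGroup X A B) (N : Subgroup X) [N.Normal] :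
    N ⊔ A = ⊤ ∨ N ≤ Subgroup.center X := by
  obtain ⟨htop, h⟩ := h
  have hX : ∀ x : X, x ∈ A ⊔ B := fun x => htop.ge (Subgroup.mem_top x)
  by_cases hall : ∀ n ∈ N, conjBy A n = A
  · right
    intro n hn
    refine Subgroup.mem_center_iff.2 fun x => (kernel_central h (fun C hC => ?_) x (hX x)).symm
    obtain ⟨g, -, rfl⟩ := hC
    rw [cj_cj, show n * g = g * (g⁻¹ * n * g) by group, ← cj_cj]
    congr 1
    exact hall _ (by simpa using (inferInstance : N.Normal).conj_mem n hn g⁻¹)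
  · left
    push Not at hall
    obtain ⟨n, hn, hne⟩ := hall
    obtain ⟨a, ⟨ha, e⟩, -⟩ := regular h (cj_unip (self_mem h) (hX n)) (other_mem h) hne h.ne.symm
    refine eq_top_iff.2 (htop ▸ sup_le le_sup_right ?_)
    rw [← e, cj_cj]
    rintro _ ⟨w, hw, rfl⟩
    have hm : a * n ∈ N ⊔ A := mul_mem (Subgroup.mem_sup_right ha) (Subgroup.mem_sup_left hn)
    exact mul_mem (mul_mem hm (Subgroup.mem_sup_right hw)) (inv_mem hm)

theorem commutator_le_of_comm [IsMulCommutative A] (N : Subgroup X) [N.Normal] (hN : N ⊔ A = ⊤) :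
    commutator X ≤ N := by
  have key : ∀ x : X, ∃ a ∈ A, (x : X ⧸ N) = (a : X ⧸ N) := fun x => by
    obtain ⟨n, hn, a, ha, rfl⟩ := Subgroup.mem_sup_of_normal_left.1 (hN.ge (Subgroup.mem_top x))
    exact ⟨a, ha, by rw [QuotientGroup.mk_mul, (QuotientGroup.eq_one_iff n).2 hn, one_mul]⟩
  rw [commutator_def, Subgroup.commutator_le]
  rintro x - y -
  obtain ⟨a, ha, ea⟩ := key x
  obtain ⟨b, hb, eb⟩ := key y
  rw [← QuotientGroup.eq_one_iff, commutatorElement_def, QuotientGroup.mk_mul, QuotientGroup.mk_mul, QuotientGroup.mk_mul,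
    QuotientGroup.mk_inv, QuotientGroup.mk_inv, ea, eb, ← QuotientGroup.mk_inv, ← QuotientGroup.mk_inv,
    ← QuotientGroup.mk_mul, ← QuotientGroup.mk_mul, ← QuotientGroup.mk_mul,
    show a * b = b * a from congrArg Subtype.val (mul_comm' (⟨a, ha⟩ : A) ⟨b, hb⟩), mul_inv_cancel_right, mul_inv_cancel]
  rfl

variable {V : Type*} [AddCommGroup V] [DistribMulAction X V]

theorem quad_add (hq : ∀ a ∈ A, ∀ a' ∈ A, ∀ v : V, a' • (a • v - v) = a • v - v) {a a' : X} (ha : a ∈ A) (ha' : a' ∈ A)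
    (v : V) : (a' * a) • v - v = (a' • v - v) + (a • v - v) := by
  have h := hq a ha a' ha' v
  rw [smul_sub] at h
  rw [mul_smul]
  calc a' • a • v - v = (a' • a • v - a' • v) + (a' • v - v) := by abel
    _ = (a • v - v) + (a' • v - v) := by rw [h]
    _ = _ := by abel

theorem quad_pow (hq : ∀ a ∈ A, ∀ a' ∈ A, ∀ v : V, a' • (a • v - v) = a • v - v) {a : X} (ha : a ∈ A) (n : ℕ)
    (v : V) : a ^ n • v - v = n • (a • v - v) := by
  induction n with
  | zero => rw [pow_zero, one_smul, sub_self, zero_nsmul]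
  | succ n ih => rw [pow_succ, quad_add hq ha (pow_mem ha n), ih, succ_nsmul]

theorem quad_comm (hf : ∀ x : X, (∀ v : V, x • v = v) → x = 1)
    (hq : ∀ a ∈ A, ∀ a' ∈ A, ∀ v : V, a' • (a • v - v) = a • v - v) : IsMulCommutative A := ⟨⟨by
  rintro ⟨a, ha⟩ ⟨b, hb⟩
  refine Subtype.ext (inv_mul_eq_one.1 (hf ((a * b)⁻¹ * (b * a)) fun v => ?_))
  have h1 : (a * b) • v = (b * a) • v := by
    have e1 := quad_add hq hb ha v
    have e2 := quad_add hq ha hb v
    have : (a * b) • v - v = (b * a) • v - v := by rw [e1, e2]; abel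
    exact sub_left_inj.1 this
  rw [mul_smul, ← h1, inv_smul_smul]⟩⟩

/-- A quadratically and faithfully acting unipotent subgroup is torsion-free or elementary abelian. -/
theorem quad_torsion (h : IsRankOneGroup X A B) (hf : ∀ x : X, (∀ v : V, x • v = v) → x = 1)
    (hq : ∀ a ∈ A, ∀ a' ∈ A, ∀ v : V, a' • (a • v - v) = a • v - v) :
    (∀ a ∈ A, a ≠ 1 → ¬ IsOfFinOrder a) ∨ ∃ p : ℕ, p.Prime ∧ Cfsg.IsElementaryAbelian p A := by
  haveI := quad_comm hf hq
  by_cases hex : ∃ a ∈ A, a ≠ 1 ∧ IsOfFinOrder a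
  swap
  · exact Or.inl fun a ha ha1 hfin => hex ⟨a, ha, ha1, hfin⟩
  right
  obtain ⟨a₀, ha₀, ha₀1, hfin⟩ := hex
  obtain ⟨p, hp, hdvd⟩ := Nat.exists_prime_and_dvd (fun e => ha₀1 (orderOf_eq_one_iff.1 e) : orderOf a₀ ≠ 1)
  refine ⟨p, hp, inferInstance, fun c hc => ?_⟩
  set a := a₀ ^ (orderOf a₀ / p) with hadef
  have ha : a ∈ A := pow_mem ha₀ _
  have hap : a ^ p = 1 := by rw [hadef, ← pow_mul, Nat.div_mul_cancel hdvd, pow_orderOf_eq_one]
  have ha1 : a ≠ 1 := by
    intro e
    have h1 := Nat.le_of_dvd (Nat.div_pos (Nat.le_of_dvd hfin.orderOf_pos hdvd) hp.pos) (orderOf_dvd_of_pow_eq_one e)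
    have h2 := Nat.div_lt_self hfin.orderOf_pos hp.one_lt
    omega
  have hpd : ∀ v : V, p • (a • v - v) = 0 := fun v => by rw [← quad_pow hq ha, hap, one_smul, sub_self]
  by_contra hcp
  have hns : ∀ (x : X) (n : ℕ) (w : V), x • (n • w) = n • (x • w) := fun x n w => by
    induction n with
    | zero => rw [zero_nsmul, zero_nsmul, smul_zero]
    | succ n ih => rw [succ_nsmul, succ_nsmul, smul_add, ih]
  -- the three kernels
  let K : Subgroup X :=
    { carrier := {x | (∀ v : V, p • (x • v - v) = 0) ∧ ∀ v : V, x • (p • v) = p • v}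
      one_mem' := ⟨fun v => by rw [one_smul, sub_self, smul_zero], fun v => one_smul _ _⟩
      mul_mem' := fun {x y} hx hy => by
        refine ⟨fun v => ?_, fun v => by rw [mul_smul, hy.2, hx.2]⟩
        rw [mul_smul, show x • y • v - v = (x • (y • v) - y • v) + (y • v - v) by abel, nsmul_add, hx.1, hy.1, add_zero]
      inv_mem' := fun {x} hx => by
        refine ⟨fun v => ?_, fun v => by conv_lhs => rw [← hx.2 v, inv_smul_smul]⟩
        have := hx.1 (x⁻¹ • v)
        rw [smul_inv_smul, ← neg_sub, smul_neg, neg_eq_zero] at this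
        exact this }
  let L : Subgroup X :=
    { carrier := {x | ∀ w : V, p • w = 0 → x • w = w}
      one_mem' := fun w _ => one_smul _ _
      mul_mem' := fun {x y} hx hy w hw => by rw [mul_smul, hy w hw, hx w hw]
      inv_mem' := fun {x} hx w hw => by conv_lhs => rw [← hx w hw, inv_smul_smul] }
  haveI hK : K.Normal := ⟨fun x hx g => by
    refine ⟨fun v => ?_, fun v => ?_⟩
    · rw [mul_smul, mul_smul, show g • x • g⁻¹ • v - v = g • (x • (g⁻¹ • v) - g⁻¹ • v) by rw [smul_sub, smul_inv_smul],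
        ← hns, hx.1, smul_zero]
    · rw [mul_smul, mul_smul, hns g⁻¹, hx.2, hns g, smul_inv_smul]⟩
  haveI hL : L.Normal := ⟨fun x hx g w hw => by
    rw [mul_smul, mul_smul, hx _ (by rw [← hns, hw, smul_zero]), smul_inv_smul]⟩
  have haK : a ∈ K := ⟨hpd, fun v => sub_eq_zero.1 (by rw [hns a p v, ← smul_sub]; exact hpd v)⟩
  have hcL : c ^ p ∈ L := fun w hw => sub_eq_zero.1 (by rw [quad_pow hq hc, smul_sub, ← hns c p w, hw, smul_zero, sub_zero])
  have hKA := (normal_dichotomy h K).resolve_right fun hle => ha1 (central_left_eq_one h.2 ha (hle haK))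
  have hLA := (normal_dichotomy h L).resolve_right fun hle => hcp (central_left_eq_one h.2 (pow_mem hc p) (hle hcL))
  have hfixA : ∀ d ∈ commutator X, conjBy A d = A := by
    intro d hd
    have hdK := commutator_le_of_comm K hKA hd
    have hdL := commutator_le_of_comm L hLA hd
    have hcomm : c ^ p * d = d * c ^ p := by
      refine inv_mul_eq_one.1 (hf _ fun v => ?_) |>.symm
      have e1 : (c ^ p * d) • v = (d * c ^ p) • v := by
        rw [mul_smul, mul_smul]
        have h1 : c ^ p • (d • v - v) = d • v - v := hcL _ (hdK.1 v)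
        have h2 : d • (p • (c • v - v)) = p • (c • v - v) := hdK.2 _
        rw [← quad_pow hq hc] at h2
        rw [smul_sub] at h1 h2
        calc c ^ p • d • v = (c ^ p • d • v - c ^ p • v) + c ^ p • v := by abel
          _ = d • v + (c ^ p • v - v) := by rw [h1]; abel
          _ = d • c ^ p • v := by rw [← h2]; abel
      rw [mul_smul, e1, inv_smul_smul]
    refine fix_left h.2 (pow_mem hc p) hcp ⟨d, h.1.ge (Subgroup.mem_top d), rfl⟩ ?_
    rw [cj_cj, hcomm, ← cj_cj, cj_of_mem (pow_mem hc p)]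
  have hnorm : A.Normal := by
    refine ⟨fun x hx g => ?_⟩
    have h1 : g * x * g⁻¹ * x⁻¹ ∈ commutator X := by
      rw [← commutatorElement_def, commutator_def]
      exact Subgroup.commutator_mem_commutator (Subgroup.mem_top g) (Subgroup.mem_top x)
    rcases normal_dichotomy h (commutator X) with hc' | hc'
    · obtain ⟨n, hn, a', ha', rfl⟩ := Subgroup.mem_sup_of_normal_left.1 (hc'.ge (Subgroup.mem_top g))
      have := (hfixA n hn).le (cj_mem (mul_mem (mul_mem ha' hx) (inv_mem ha')) n)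
      rwa [show n * a' * x * (n * a')⁻¹ = n * (a' * x * a'⁻¹) * n⁻¹ by group]
    · have hzz : g * x * g⁻¹ * x⁻¹ ∈ Subgroup.center X := hc' h1
      obtain ⟨htop', hc''⟩ := h
      have hfix : conjBy (conjBy A g) (g * x * g⁻¹) = conjBy A g := cj_of_mem (cj_mem hx g)
      rw [show g * x * g⁻¹ = (g * x * g⁻¹ * x⁻¹) * x by group, ← cj_cj] at hfix
      rw [cj_of_comm fun y _ => (Subgroup.mem_center_iff.1 hzz y).symm] at hfix
      by_cases hx1 : x = 1
      · rw [hx1, mul_one, mul_inv_cancel]; exact one_mem _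
      · exact (fix_left hc'' hx hx1 ⟨g, htop'.ge (Subgroup.mem_top g), rfl⟩ hfix).le (cj_mem hx g)
  obtain ⟨g, -, e⟩ := other_mem h.2
  exact h.2.ne (by rw [e, mem_norm.1 (Subgroup.normalizer_eq_top_iff.2 hnorm ▸ Subgroup.mem_top g)])

end CfsgLib.Inv.RankOne
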