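import Cfsg.Agent.S2970
import Cfsg.Agent.Solv.UniqueSub
import Cfsg.Agent.Solv.PComplement
import Cfsg.Agent.Inv.IsolatedP
import Cfsg.Prelude.Def_CaseTheorems

/-!
Isolated elements in groups of `p`-rank one, `p` odd.
-/

set_option autoImplicit false
set_option linter.style.haveILetI false

namespace CfsgLib.Inv.RankOneIsolated

variable {G : Type*} [Group G] [Finite G] {p : ℕ} [hp : Fact p.Prime]

theorem cyclic_of_rank_one (hp2 : p ≠ 2) (hrk : Cfsg.PRankLE p 1 G) (P : Sylow p G) :
    IsCyclic (P : Subgroup G) := by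
  have huniq : ∀ x y : (P : Subgroup G), orderOf x = p → orderOf y = p → y ∈ Subgroup.zpowers x := by
    intro x y hx hy
    haveI : Nontrivial (P : Subgroup G) :=
      ⟨⟨x, 1, fun e => hp.out.ne_one (by rw [← hx, e, orderOf_one])⟩⟩
    haveI := P.2.center_nontrivial
    obtain ⟨n, hn⟩ := IsPGroup.iff_card.1 (P.2.to_subgroup (Subgroup.center (P : Subgroup G)))
    have hn0 : n ≠ 0 := fun e => by
      rw [e, pow_zero] at hn
      exact absurd hn (Finite.one_lt_card (α := Subgroup.center (P : Subgroup G))).ne'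
    obtain ⟨⟨z, hzc⟩, hz⟩ := exists_prime_orderOf_dvd_card' p (hn ▸ dvd_pow_self p hn0)
    rw [Subgroup.orderOf_mk] at hz
    have key : ∀ w : (P : Subgroup G), orderOf w = p → Subgroup.zpowers w = Subgroup.zpowers z := by
      intro w hw
      have hwz : Commute (w : G) (z : G) :=
        congrArg Subtype.val (Subgroup.mem_center_iff.1 hzc w)
      set A := Subgroup.closure ({(w : G), (z : G)} : Set G) with hA
      have hcomm : ∀ a ∈ ({(w : G), (z : G)} : Set G), ∀ b ∈ ({(w : G), (z : G)} : Set G), a * b = b * a := by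
        intro a ha b hb
        simp only [Set.mem_insert_iff, Set.mem_singleton_iff] at ha hb
        rcases ha with rfl | rfl <;> rcases hb with rfl | rfl
        exacts [rfl, hwz, hwz.symm, rfl]
      haveI hAc : IsMulCommutative A := Subgroup.isMulCommutative_closure hcomm
      have hexp : ∀ a ∈ A, a ^ p = 1 := by
        intro a ha
        induction ha using Subgroup.closure_induction with
        | mem u hu =>
          simp only [Set.mem_insert_iff, Set.mem_singleton_iff] at hu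
          rcases hu with rfl | rfl
          · exact orderOf_dvd_iff_pow_eq_one.1 (by rw [Subgroup.orderOf_coe, hw])
          · exact orderOf_dvd_iff_pow_eq_one.1 (by rw [Subgroup.orderOf_coe, hz])
        | one => exact one_pow p
        | mul a b ha hb iha ihb =>
          have hab : Commute a b := congrArg Subtype.val (hAc.is_comm.comm (⟨a, ha⟩ : A) ⟨b, hb⟩)
          rw [hab.mul_pow, iha, ihb, one_mul]
        | inv a ha iha => rw [inv_pow, iha, inv_one]
      have hcard : Nat.card A ≤ p := (hrk A hAc hexp).trans (pow_one p).le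
      have e1 : Subgroup.zpowers (w : G) = A :=
        Subgroup.eq_of_le_of_card_ge (Subgroup.zpowers_le.2 (Subgroup.subset_closure (by simp)))
          (by rw [Nat.card_zpowers, Subgroup.orderOf_coe, hw]; exact hcard)
      have e2 : Subgroup.zpowers (z : G) = A :=
        Subgroup.eq_of_le_of_card_ge (Subgroup.zpowers_le.2 (Subgroup.subset_closure (by simp)))
          (by rw [Nat.card_zpowers, Subgroup.orderOf_coe, hz]; exact hcard)
      refine Subgroup.map_injective (P : Subgroup G).subtype_injective ?_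
      rw [MonoidHom.map_zpowers, MonoidHom.map_zpowers]
      exact e1.trans e2.symm
    rw [key x hx, ← key y hy]
    exact Subgroup.mem_zpowers y
  exact (CfsgLib.Solv.pgroup_unique_sub P.2 huniq).resolve_right fun h => hp2 h.1

theorem inZStar_of_rank_one (hp2 : p ≠ 2) (hrk : Cfsg.PRankLE p 1 G) (x : G) (hx : orderOf x = p)
    (hiso : Cfsg.IsIsolated x) : Cfsg.InZStar p x := by
  have hxp : ∃ k : ℕ, orderOf x = p ^ k := ⟨1, by rw [hx, pow_one]⟩
  obtain ⟨P, N, hNn, hNP⟩ := (Cfsg.Agent.S2970.result x hxp hiso).2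
    (fun e => hp.out.ne_one (by rw [← hx, e, orderOf_one])) (cyclic_of_rank_one hp2 hrk)
  haveI := hNn
  have hNcop : (Nat.card N).Coprime p := by
    rw [← hNP.index_eq_card]
    exact (hp.out.coprime_iff_not_dvd.2 P.not_dvd_index).symm
  obtain ⟨S, hS⟩ := (CfsgLib.Inv.isPGroup_zpowers_of_pow hxp).exists_le_sylow
  have hxS : x ∈ (S : Subgroup G) := hS (Subgroup.mem_zpowers x)
  obtain ⟨c, hc⟩ := MulAction.exists_smul_eq G S P
  have hxP : c * x * c⁻¹ ∈ (P : Subgroup G) := by
    rw [← hc, Sylow.coe_subgroup_smul, CfsgLib.Solv.mem_conj_smul_iff,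
      show c⁻¹ * (c * x * c⁻¹) * c = x by group]
    exact hxS
  -- the commutator of `x` with anything lies in `N`
  have hN : ∀ g : G, g * x * g⁻¹ * x⁻¹ ∈ N := by
    intro g
    obtain ⟨⟨⟨n, hn⟩, ⟨u, hu⟩⟩, e, -⟩ := hNP.existsUnique (c * g * c⁻¹)
    have hiso' : Cfsg.IsIsolated (c * x * c⁻¹) := by
      intro h hh
      have h1 := hiso (c⁻¹ * h * c) (by
        have h2 := hh.map (MulAut.conj c⁻¹).toMonoidHom
        simp only [MulEquiv.coe_toMonoidHom, MulAut.conj_apply, inv_inv] at h2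
        rw [show c⁻¹ * (c * x * c⁻¹) * c = x by group] at h2
        rw [show c⁻¹ * h * c * x * (c⁻¹ * h * c)⁻¹ = c⁻¹ * (h * (c * x * c⁻¹) * h⁻¹) * c by group]
        exact h2)
      calc h * (c * x * c⁻¹) * h⁻¹ = c * (c⁻¹ * h * c * x * (c⁻¹ * h * c)⁻¹) * c⁻¹ := by group
        _ = c * x * c⁻¹ := by rw [h1]
    have hcomm := CfsgLib.Inv.iso_commute hiso' P.2 hxP hu
    have h4 : c * g * c⁻¹ * (c * x * c⁻¹) * (c * g * c⁻¹)⁻¹ * (c * x * c⁻¹)⁻¹ ∈ N := by
      rw [← e]
      show n * u * (c * x * c⁻¹) * (n * u)⁻¹ * (c * x * c⁻¹)⁻¹ ∈ N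
      generalize hy : c * x * c⁻¹ = y at hcomm ⊢
      rw [show n * u * y * (n * u)⁻¹ * y⁻¹ = n * ((u * y) * u⁻¹) * n⁻¹ * y⁻¹ by group, hcomm,
        mul_inv_cancel_right, show n * y * n⁻¹ * y⁻¹ = n * (y * n⁻¹ * y⁻¹) by group]
      exact mul_mem hn (hNn.conj_mem _ (inv_mem hn) y)
    have h5 := hNn.conj_mem _ h4 c⁻¹
    have e6 : c⁻¹ * (c * g * c⁻¹ * (c * x * c⁻¹) * (c * g * c⁻¹)⁻¹ * (c * x * c⁻¹)⁻¹) * c⁻¹⁻¹ =
        g * x * g⁻¹ * x⁻¹ := by group
    rwa [e6] at h5
  exact fun g => CfsgLib.Solv.le_pPrimeCore hNcop (hN g)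

end CfsgLib.Inv.RankOneIsolated
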