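import Cfsg.Agent.Inv.RankOne

/-!
Sets of abstract root subgroups: first properties.
-/

set_option autoImplicit false

namespace CfsgLib.Inv.RootSet

open Cfsg CfsgLib.Inv.RankOne
open scoped commutatorElement

variable {G : Type*} [Group G] {S : Set (Subgroup G)}

theorem comm_of_bot {A B : Subgroup G} (h : ⁅A, B⁆ = ⊥) {a b : G} (ha : a ∈ A) (hb : b ∈ B) : a * b = b * a :=
  ((Subgroup.mem_centralizer_iff.1 (Subgroup.commutator_eq_bot_iff_le_centralizer.1 h ha)) b hb).symm

theorem cj_fix_of_comm {A : Subgroup G} (hS : IsRootSubgroupSet S) (hA : A ∈ S) {g : G} (hg : g ∈ A) :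
    ∀ y ∈ A, g * y = y * g := fun y hy =>
  congrArg Subtype.val ((hS.commutative A hA).is_comm.comm (⟨g, hg⟩ : A) ⟨y, hy⟩)

/-- A conjugate of a member under a member in the commutator case commutes with it. -/
theorem conj_commutes (hS : IsRootSubgroupSet S) {A C : Subgroup G} (hC : C ∈ S) (hAC : RootCommutatorCase S A C)
    {a : G} (ha : a ∈ A) {y c : G} (hy : y ∈ conjBy C a) (hc : c ∈ C) : y * c = c * y := by
  have hc0 := mem_cj.1 hy
  obtain ⟨c0, hc0', rfl⟩ : ∃ c0 ∈ C, a * c0 * a⁻¹ = y := ⟨_, hc0, by group⟩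
  have he : a * c0 * a⁻¹ * c0⁻¹ ∈ ⁅A, C⁆ := by
    rw [← commutatorElement_def]; exact Subgroup.commutator_mem_commutator ha hc0'
  have h1 := hAC.2.1 _ he c (Subgroup.mem_sup_right hc)
  calc a * c0 * a⁻¹ * c = (a * c0 * a⁻¹ * c0⁻¹) * (c0 * c) := by group
    _ = (a * c0 * a⁻¹ * c0⁻¹) * c * c0 := by simp only [cj_fix_of_comm hS hC hc0' c hc, mul_assoc]
    _ = c * (a * c0 * a⁻¹) := by rw [h1]; group

theorem not_comm_points {A B : Subgroup G} (h : IsRankOnePair A B) {C D : Subgroup G}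
    (hC : C ∈ unipotentSubgroups A B) (hD : D ∈ unipotentSubgroups A B) (hD1 : D ≠ ⊥)
    (hcomm : ∀ c ∈ C, ∀ d ∈ D, c * d = d * c) : C = D := by
  obtain ⟨d, hd, h1⟩ := (Subgroup.bot_or_exists_ne_one D).resolve_left hD1
  exact fix_point h hD hd h1 hC (cj_of_comm fun c hc => (hcomm c hc d hd).symm)

theorem unip_ne_bot {A B : Subgroup G} (h : IsRankOnePair A B) {C : Subgroup G}
    (hC : C ∈ unipotentSubgroups A B) : C ≠ ⊥ := by
  obtain ⟨g, hg, rfl⟩ := hC
  exact fun e => ne_bot_left h ((Subgroup.map_eq_bot_iff_of_injective _ (MulAut.conj g).injective).1 e)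

theorem unip_mem (hS : IsRootSubgroupSet S) {A B : Subgroup G} (hA : A ∈ S) {C : Subgroup G}
    (hC : C ∈ unipotentSubgroups A B) : C ∈ S := by
  obtain ⟨g, -, rfl⟩ := hC
  exact hS.conj_mem A hA g

/-- A member with a rank one partner inside a rank one group is one of its unipotent subgroups. -/
theorem mem_unip_of_le (hS : IsRootSubgroupSet S) {A B C D : Subgroup G} (hA : A ∈ S) (hC : C ∈ S)
    (hAB : IsRankOnePair A B) (hCD : IsRankOnePair C D) (hle : A ⊔ B ≤ C ⊔ D) :
    A ∈ unipotentSubgroups C D := by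
  by_cases hex : ∃ C' ∈ unipotentSubgroups C D, IsRankOnePair A C'
  · obtain ⟨C', hC', h⟩ := hex
    obtain ⟨x, hx, e⟩ := other_mem h
    have hle' : A ⊔ C' ≤ C ⊔ D := sup_le (le_sup_left.trans hle) (unip_le hC')
    have := cj_unip hC' (inv_mem (hle' hx))
    rwa [e, cj_inv_cj] at this
  exfalso
  obtain ⟨a, ha, h1⟩ := (Subgroup.bot_or_exists_ne_one A).resolve_left (ne_bot_left hAB)
  have haX : a ∈ C ⊔ D := hle (Subgroup.mem_sup_left ha)
  have hfix : ∀ C' ∈ unipotentSubgroups C D, conjBy C' a = C' := by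
    intro C' hC'
    have hC'S := unip_mem hS hC hC'
    rcases hS.pair A hA C' hC'S with h | h | h
    · exact cj_of_comm fun c hc => comm_of_bot h ha hc
    · exact absurd ⟨C', hC', h⟩ hex
    · exact not_comm_points hCD (cj_unip hC' haX) hC' (unip_ne_bot hCD hC')
        fun y hy c hc => conj_commutes hS hC'S h ha hy hc
  have hcen := kernel_central hCD hfix
  exact h1 (inf_norm hAB ha (cj_of_comm fun b hb => hcen b (hle (Subgroup.mem_sup_right hb))))

theorem translate_not_root (hS : IsRootSubgroupSet S) {A B : Subgroup G} (hA : A ∈ S) (hB : B ∈ rankOnePartners S A)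
    {z : G} (hz : z ∈ Subgroup.centralizer ((A ⊔ B : Subgroup G) : Set G)) (hz1 : z ≠ 1)
    {a : G} (ha : a ∈ A) (ha1 : a ≠ 1) : z * a ∉ rootElements S := by
  rintro ⟨hne, C, hC, hm⟩
  obtain ⟨hBS, h⟩ := hB
  have hzc : ∀ y ∈ A ⊔ B, z * y = y * z := fun y hy => (hz y hy).symm
  have hBa : conjBy B (z * a) = conjBy B a := by
    rw [← cj_cj]
    exact cj_of_comm fun y hy => hzc y (unip_le (cj_unip (other_mem h) (Subgroup.mem_sup_left ha)) hy)
  have hne' : conjBy B a ≠ B := fun e => ha1 (inf_norm h ha e)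
  rcases hS.pair C hC B hBS with hc | hr | hcc
  · exact hne' (hBa.symm.trans (cj_of_comm fun b hb => comm_of_bot hc hm hb))
  · obtain ⟨b', hb', -, e'⟩ := exists_b hr hm hne
    obtain ⟨b, hb, -, e⟩ := exists_b h ha ha1
    rw [hBa, e] at e'
    have hCe : C = conjBy A (b'⁻¹ * b) := by rw [← cj_cj, e', cj_inv_cj]
    have hCΩ : C ∈ unipotentSubgroups A B :=
      ⟨_, Subgroup.mem_sup_right (mul_mem (inv_mem hb') hb), hCe⟩
    haveI := hS.commutative A hA
    have hCA : C = A := (fix_point h hCΩ hm hne (self_mem h) (cj_of_comm fun y hy => by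
      rw [mul_assoc, cj_fix_of_comm hS hA ha y hy, ← mul_assoc, hzc y (Subgroup.mem_sup_left hy), mul_assoc])).symm
    rw [hCA] at hm
    have hzA : z ∈ A := by simpa using mul_mem hm (inv_mem ha)
    exact hz1 (inf_norm h hzA (cj_of_comm fun b hb => hzc b (Subgroup.mem_sup_right hb)))
  · refine hne' (not_comm_points h (cj_unip (other_mem h) (Subgroup.mem_sup_left ha)) (other_mem h)
      (unip_ne_bot h (other_mem h)) fun y hy b hb => ?_)
    rw [← hBa] at hy
    exact conj_commutes hS hBS hcc hm hy hb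

theorem partner_of_not_isolated (hS : IsRootSubgroupSet S) {A : Subgroup G}
    (hA : ¬ IsIsolatedIn (FAdj S) S A) (hAS : A ∈ S) : ∃ B, B ∈ rankOnePartners S A := by
  by_contra hno
  refine hA ⟨hAS, fun B => ⟨fun h => hno ⟨B, h.2.1, h.2.2⟩, fun h => hno ⟨B, h.1, RankOnePair_symm h.2.2⟩⟩⟩

theorem member_ti (hS : IsRootSubgroupSet S) {A : Subgroup G} (hA : ¬ IsIsolatedIn (FAdj S) S A) (hAS : A ∈ S)
    {C : Subgroup G} (hC : C ∈ S) : A ⊓ C = ⊥ ∨ A = C := by
  by_contra hne
  rw [not_or] at hne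
  obtain ⟨x, ⟨hxA, hxC⟩, hx1⟩ := (Subgroup.bot_or_exists_ne_one (A ⊓ C)).resolve_left hne.1
  obtain ⟨D, hDS, h⟩ := partner_of_not_isolated hS hA hAS
  have hne' : conjBy D x ≠ D := fun e => hx1 (inf_norm h hxA e)
  rcases hS.pair C hC D hDS with hc | hr | hcc
  · exact hne' (cj_of_comm fun b hb => comm_of_bot hc hxC hb)
  · obtain ⟨d', hd', -, e'⟩ := exists_b hr hxC hx1
    obtain ⟨d, hd, -, e⟩ := exists_b h hxA hx1
    rw [e] at e'
    have hCe : C = conjBy A (d'⁻¹ * d) := by rw [← cj_cj, e', cj_inv_cj]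
    have hCΩ : C ∈ unipotentSubgroups A D :=
      ⟨_, Subgroup.mem_sup_right (mul_mem (inv_mem hd') hd), hCe⟩
    exact hne.2 (fix_point h hCΩ hxC hx1 (self_mem h) (cj_of_mem hxA))
  · exact hne' (not_comm_points h (cj_unip (other_mem h) (Subgroup.mem_sup_left hxA)) (other_mem h)
      (unip_ne_bot h (other_mem h)) fun y hy b hb => conj_commutes hS hDS hcc hxC hy hb)

theorem second_center (hS : IsRootSubgroupSet S) (hF : ∀ A ∈ S, ¬ IsIsolatedIn (FAdj S) S A) {z : G}
    (hz : ∀ g : G, ⁅z, g⁆ ∈ Subgroup.center G) : z ∈ Subgroup.center G := by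
  have hle : (⨆ A ∈ S, A) ≤ Subgroup.centralizer ({z} : Set G) := iSup₂_le fun A hA a ha => by
    refine Subgroup.mem_centralizer_singleton_iff.2 ?_
    by_cases ha1 : a = 1
    · rw [ha1, one_mul, mul_one]
    by_contra hne
    obtain ⟨B, hB⟩ := partner_of_not_isolated hS (hF A hA) hA
    have h1 : ⁅z, a⁆ ≠ 1 := fun h => hne (commutatorElement_eq_one_iff_mul_comm.1 h).symm
    refine translate_not_root hS hA hB (fun y _ => Subgroup.mem_center_iff.1 (hz a) y) h1 ha ha1 ?_
    rw [commutatorElement_def, inv_mul_cancel_right]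
    exact ⟨fun e => ha1 (conj_eq_one_iff.1 e), _, hS.conj_mem A hA z, cj_mem ha z⟩
  rw [hS.generates] at hle
  exact Subgroup.mem_center_iff.2 fun g => Subgroup.mem_centralizer_singleton_iff.1 (hle (Subgroup.mem_top g))

theorem centralizes_of_product (hS : IsRootSubgroupSet S) (hdeg : IsDegenerateRootSet S) {a b : G}
    (ha : a ∈ rootElements S) (hb : b ∈ rootElements S) (hab : a * b = b * a) (hab1 : a * b ≠ 1)
    {C : Subgroup G} (hC : C ∈ S) (hCc : ∀ c ∈ C, c * (a * b) = a * b * c) : ∀ c ∈ C, c * a = a * c := by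
  obtain ⟨ha1, A, hA, haA⟩ := ha
  obtain ⟨hb1, B, hB, hbB⟩ := hb
  rcases hS.pair C hC A hA with h | h | h
  · exact fun c hc => comm_of_bot h hc haA
  · exfalso
    have h' := RankOnePair_symm h
    by_cases hAB : ∀ y ∈ A, b * y = y * b
    · have hz : a * b ∈ Subgroup.centralizer ((A ⊔ C : Subgroup G) : Set G) := by
        have hle : A ⊔ C ≤ Subgroup.centralizer ({a * b} : Set G) := sup_le
          (fun y hy => Subgroup.mem_centralizer_singleton_iff.2 (by
            rw [← mul_assoc, ← cj_fix_of_comm hS hA haA y hy, mul_assoc, ← hAB y hy, mul_assoc]))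
          (fun c hc => Subgroup.mem_centralizer_singleton_iff.2 (hCc c hc))
        exact fun y hy => Subgroup.mem_centralizer_singleton_iff.1 (hle hy)
      refine translate_not_root hS hA ⟨hC, h'⟩ hz hab1 (inv_mem haA) (inv_ne_one.2 ha1) ?_
      rw [hab, mul_inv_cancel_right]
      exact ⟨hb1, B, hB, hbB⟩
    · rcases hS.pair A hA B hB with hh | hh | hh
      · exact hAB fun y hy => (comm_of_bot hh hy hbB).symm
      · have hne : conjBy B a ≠ B := fun e => ha1 (inf_norm hh haA e)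
        refine hne (fix_point hh (other_mem hh) hbB hb1 (cj_unip (other_mem hh) (Subgroup.mem_sup_left haA)) ?_)
        rw [cj_cj, ← hab, ← cj_cj, cj_of_mem hbB]
      · exact hdeg A hA B hB hh
  · exact absurd h (hdeg C hC A hA)

end CfsgLib.Inv.RootSet
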