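import Cfsg.Agent.Inv.RankOneSpecial
import Cfsg.Agent.Inv.RootSet

/-!
Special rank one pairs with more than three elements in each unipotent subgroup generate perfect groups.
-/

set_option autoImplicit false
set_option linter.unusedSectionVars false

namespace CfsgLib.Inv.RankOnePerfect

open Cfsg CfsgLib.Inv.RankOne
open scoped commutatorElement

variable {G : Type*} [Group G] {A B : Subgroup G}

theorem exists_avoid (h4 : 3 < ENat.card ↥A) (p q r : G) : ∃ x ∈ A, x ≠ p ∧ x ≠ q ∧ x ≠ r := by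
  by_contra hno
  push Not at hno
  have hsub : (A : Set G) ⊆ ({p, q, r} : Set G) := fun x hx => by
    by_cases h1 : x = p
    · exact Or.inl h1
    by_cases h2 : x = q
    · exact Or.inr (Or.inl h2)
    exact Or.inr (Or.inr (hno x hx h1 h2))
  have h3 : (A : Set G).encard ≤ 3 := by
    refine (Set.encard_le_encard hsub).trans ((Set.encard_insert_le _ _).trans ?_)
    refine le_trans (add_le_add_left (Set.encard_insert_le _ _) 1) ?_
    rw [Set.encard_singleton]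
    rfl
  exact (lt_irrefl _) (h4.trans_le ((ENat.card_coe_set_eq _).trans_le h3))

theorem exists_rel_right (h : IsRankOnePair A B) {b : G} (hb : b ∈ B) (hb1 : b ≠ 1) : ∃ a, Rel A B a b := by
  obtain ⟨a, ha⟩ := rel_exists (RankOnePair_symm h) hb hb1
  exact ⟨a, ha.symm⟩

theorem w_maps_back {a b : G} (h : Rel A B a b) (hs : IsSpecialRankOnePair A B) :
    conjBy A (a * b⁻¹ * a) = B := by
  rw [braid hs h, ← cj_cj, ← cj_cj, h.2.2.2.2, show conjBy (conjBy B a⁻¹) a = B from cj_cj_inv a]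
  exact cj_of_mem (inv_mem h.2.2.1)

/-- A homomorphism from the unipotent subgroups which is equivariant for the switching elements is trivial. -/
theorem hom_trivial (hs : IsSpecialRankOnePair A B) (hab : HasAbelianUnipotents A B) (h4 : 3 < ENat.card ↥A)
    {M : Type*} [CommGroup M] (f g : G → M) (hf : ∀ x ∈ A, ∀ y ∈ A, f (x * y) = f x * f y)
    (hg : ∀ x ∈ B, ∀ y ∈ B, g (x * y) = g x * g y)
    (hw : ∀ a b, Rel A B a b → ∀ x ∈ A, g (a * b⁻¹ * a * x * (a * b⁻¹ * a)⁻¹) = f x) :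
    ∀ a ∈ A, f a = 1 := by
  have hf1 : f 1 = 1 := by simpa using hf 1 (one_mem _) 1 (one_mem _)
  have hg1 : g 1 = 1 := by simpa using hg 1 (one_mem _) 1 (one_mem _)
  have hAc : ∀ x ∈ A, ∀ y ∈ A, x * y = y * x := fun x hx y hy =>
    congrArg Subtype.val (hab.1.is_comm.comm (⟨x, hx⟩ : A) ⟨y, hy⟩)
  have hBc : ∀ x ∈ B, ∀ y ∈ B, x * y = y * x := fun x hx y hy =>
    congrArg Subtype.val (hab.2.is_comm.comm (⟨x, hx⟩ : B) ⟨y, hy⟩)
  have hrel : ∀ {a b}, Rel A B a b → g b = (f a)⁻¹ := fun {a b} h => by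
    have h1 := hw a b h a h.1
    rw [w_conj_left hs h] at h1
    have h2 := hg b⁻¹ (inv_mem h.2.2.1) b h.2.2.1
    rw [inv_mul_cancel, hg1, h1] at h2
    exact eq_inv_of_mul_eq_one_right h2.symm
  have key : ∀ a ∈ A, a ≠ 1 → ∀ c ∈ A, c ≠ 1 → c ≠ a⁻¹ → f a * f c * f c = 1 := by
    intro a ha ha1 c hc hc1 hca
    obtain ⟨b, hab'⟩ := rel_exists hs.1 ha ha1
    obtain ⟨d, hcd⟩ := rel_exists hs.1 hc hc1
    have hbd1 : b * d ≠ 1 := fun e => hca (by
      have h1 : Rel A B a⁻¹ d := by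
        have h2 := rel_inv hs hab'
        rwa [← eq_inv_of_mul_eq_one_right e] at h2
      exact rel_unique (RankOnePair_symm hs.1) hcd.symm h1.symm)
    obtain ⟨e, he⟩ := exists_rel_right hs.1 (mul_mem hab'.2.2.1 hcd.2.2.1) hbd1
    set w := a * b⁻¹ * a with hwdef
    have hac1 : a * c ≠ 1 := fun e0 => hca (eq_inv_of_mul_eq_one_right e0)
    set φ := w * (a * c)⁻¹ * w⁻¹ with hφ
    have hφB : φ ∈ B := by
      have h1 := cj_mem (inv_mem (mul_mem ha hc)) w (A := A)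
      rwa [hwdef, w_maps_back hab' hs] at h1
    have hφ1 : φ ≠ 1 := fun e0 => hac1 (inv_eq_one.1 (conj_eq_one_iff.1 e0))
    obtain ⟨r, hr⟩ := exists_rel_right hs.1 (inv_mem hφB) (inv_ne_one.2 hφ1)
    have hac : (a * c)⁻¹ = c⁻¹ * a⁻¹ := mul_inv_rev a c
    have e1 : conjBy B (a * e⁻¹) = conjBy B r⁻¹ := by
      rw [← cj_cj, ← he.2.2.2.2, cj_cj, ← hr.2.2.2.2, inv_inv]
      calc conjBy A (a * (b * d)⁻¹) = conjBy (conjBy A d⁻¹) (a * b⁻¹) := by
            rw [cj_cj, hBc b hab'.2.2.1 d hcd.2.2.1, mul_inv_rev, mul_assoc]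
        _ = conjBy B (a * b⁻¹ * c⁻¹) := by rw [hcd.2.2.2.2, cj_cj]
        _ = conjBy B (φ * w) := by
          rw [hφ, inv_mul_cancel_right, hwdef, hac]
          congr 1
          rw [show a * b⁻¹ * a * (c⁻¹ * a⁻¹) = a * b⁻¹ * (a * c⁻¹) * a⁻¹ by group, hAc a ha _ (inv_mem hc)]
          group
        _ = conjBy A φ := by rw [← cj_cj, hwdef, w_maps hs hab']
    have e2 : a * e⁻¹ = r⁻¹ := reg_inj hs.1 (mul_mem ha (inv_mem he.1)) (inv_mem hr.1) e1
    have e3 : f r * f a = f e := by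
      rw [← hf r hr.1 a ha, show r * a = e by
        rw [show a = r⁻¹ * e by rw [← e2, inv_mul_cancel_right]]; group]
    have e4 : f e = f a * f c := by
      have h1 := hrel he
      rw [hg b hab'.2.2.1 d hcd.2.2.1, hrel hab', hrel hcd, ← mul_inv] at h1
      exact (inv_injective h1).symm
    have e5 : g φ = (f (a * c))⁻¹ := by
      rw [hφ, hwdef, hw a b hab' _ (inv_mem (mul_mem ha hc))]
      have h2 := hf (a * c)⁻¹ (inv_mem (mul_mem ha hc)) (a * c) (mul_mem ha hc)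
      rw [inv_mul_cancel, hf1] at h2
      exact eq_inv_of_mul_eq_one_left h2.symm
    have e6 : f r = g φ := by
      have h1 := hrel hr
      have h2 := hg φ hφB φ⁻¹ (inv_mem hφB)
      rw [mul_inv_cancel, hg1, h1] at h2
      exact (mul_inv_eq_one.1 h2.symm).symm
    rw [e6, e5, hf a ha c hc, e4] at e3
    calc f a * f c * f c = ((f a * f c)⁻¹ * f a)⁻¹ * (f a * f c) := by
          rw [mul_inv_rev, inv_inv, mul_assoc (f a)⁻¹, mul_comm (f a)⁻¹, mul_assoc, mul_assoc, mul_assoc]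
          simp [mul_comm, mul_left_comm]
      _ = 1 := by rw [e3, inv_mul_cancel]
  have hsame : ∀ a ∈ A, a ≠ 1 → ∀ a' ∈ A, a' ≠ 1 → f a = f a' := by
    intro a ha ha1 a' ha' ha1'
    obtain ⟨c, hc, hc1, hca, hca'⟩ := exists_avoid h4 1 a⁻¹ a'⁻¹
    exact mul_right_cancel (mul_right_cancel ((key a ha ha1 c hc hc1 hca).trans (key a' ha' ha1' c hc hc1 hca').symm))
  intro a ha
  by_cases ha1 : a = 1
  · rw [ha1, hf1]
  obtain ⟨a', ha', ha1', hne, -⟩ := exists_avoid h4 1 a 1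
  have hx1 : a⁻¹ * a' ≠ 1 := fun e => hne (inv_mul_eq_one.1 e).symm
  have h1 := hsame a' ha' ha1' _ (mul_mem (inv_mem ha) ha') hx1
  rw [hf a⁻¹ (inv_mem ha) a' ha', right_eq_mul] at h1
  have h2 := hf a⁻¹ (inv_mem ha) a ha
  rw [inv_mul_cancel, hf1, h1, one_mul] at h2
  exact h2.symm

open Classical in
/-- Both unipotent subgroups lie in the commutator subgroup. -/
theorem le_commutator (hs : IsSpecialRankOnePair A B) (hab : HasAbelianUnipotents A B) (h4 : 3 < ENat.card ↥A) :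
    A ≤ ⁅A ⊔ B, A ⊔ B⁆ ∧ B ≤ ⁅A ⊔ B, A ⊔ B⁆ := by
  set X := A ⊔ B with hX
  let π := Abelianization.of (G := ↥X)
  let f : G → Abelianization ↥X := fun x => if hx : x ∈ X then π ⟨x, hx⟩ else 1
  have hfeq : ∀ x (hx : x ∈ X), f x = π ⟨x, hx⟩ := fun x hx => dif_pos hx
  have hmul : ∀ x ∈ X, ∀ y ∈ X, f (x * y) = f x * f y := fun x hx y hy => by
    rw [hfeq x hx, hfeq y hy, hfeq _ (mul_mem hx hy), ← map_mul]; rfl
  have hA : A ≤ X := le_sup_left
  have hB : B ≤ X := le_sup_right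
  have h1 := hom_trivial hs hab h4 f f (fun x hx y hy => hmul x (hA hx) y (hA hy))
    (fun x hx y hy => hmul x (hB hx) y (hB hy)) (fun a b h x hx => by
      have hwX : a * b⁻¹ * a ∈ X := mul_mem (mul_mem (hA h.1) (inv_mem (hB h.2.2.1))) (hA h.1)
      have h2 := hmul _ hwX _ (hA hx)
      rw [hmul _ (mul_mem hwX (hA hx)) _ (inv_mem hwX), h2, mul_right_comm, ← hmul _ hwX _ (inv_mem hwX),
        mul_inv_cancel, hfeq 1 (one_mem _), show (⟨1, one_mem X⟩ : ↥X) = 1 from rfl, map_one, one_mul])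
  have hAle : A ≤ ⁅X, X⁆ := fun a ha => by
    have h2 : (⟨a, hA ha⟩ : ↥X) ∈ commutator ↥X := by
      rw [← Abelianization.ker_of, MonoidHom.mem_ker]
      exact (hfeq a (hA ha)).symm.trans (h1 a ha)
    have h3 := Subgroup.mem_map_of_mem X.subtype h2
    rwa [Subgroup.map_subtype_commutator] at h3
  refine ⟨hAle, ?_⟩
  obtain ⟨x, hx, e⟩ := other_mem hs.1
  rw [e]
  rintro _ ⟨a, ha, rfl⟩
  show x * a * x⁻¹ ∈ ⁅X, X⁆
  rw [show x * a * x⁻¹ = ⁅x, a⁆ * a by rw [commutatorElement_def]; group]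
  exact mul_mem (Subgroup.commutator_mem_commutator hx (hA ha)) (hAle ha)

open Classical in
/-- The unipotent subgroup is its commutator with the diagonal subgroup. -/
theorem le_commutator_diagonal (hs : IsSpecialRankOnePair A B) (hab : HasAbelianUnipotents A B)
    (h4 : 3 < ENat.card ↥A) : A ≤ ⁅A, rankOneDiagonal A B⁆ := by
  haveI := hab.1
  set K := ⁅A, rankOneDiagonal A B⁆ with hK
  obtain ⟨a₀, ha₀, ha₀1, -⟩ := exists_avoid h4 1 1 1
  obtain ⟨b₀, h₀⟩ := rel_exists hs.1 ha₀ ha₀1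
  letI : CommGroup ↥A := { (inferInstance : Group ↥A) with mul_comm := fun u v => hab.1.is_comm.comm u v }
  let f : G → ↥A ⧸ (K.subgroupOf A) := fun x => if hx : x ∈ A then QuotientGroup.mk ⟨x, hx⟩ else 1
  have hfeq : ∀ x (hx : x ∈ A), f x = QuotientGroup.mk ⟨x, hx⟩ := fun x hx => dif_pos hx
  have hfmul : ∀ x ∈ A, ∀ y ∈ A, f (x * y) = f x * f y := fun x hx y hy => by
    rw [hfeq x hx, hfeq y hy, hfeq _ (mul_mem hx hy)]; rfl
  set w₀ := a₀ * b₀⁻¹ * a₀ with hw₀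
  have hwB : ∀ y ∈ B, w₀⁻¹ * y * w₀ ∈ A := fun y hy => by
    rw [← mem_cj, hw₀, w_maps_back h₀ hs]; exact hy
  have h1 := hom_trivial hs hab h4 f (fun y => f (w₀⁻¹ * y * w₀)) hfmul
    (fun x hx y hy => by
      show f (w₀⁻¹ * (x * y) * w₀) = f (w₀⁻¹ * x * w₀) * f (w₀⁻¹ * y * w₀)
      rw [← hfmul _ (hwB x hx) _ (hwB y hy)]
      congr 1
      group)
    (fun a b h x hx => by
      show f (w₀⁻¹ * (a * b⁻¹ * a * x * (a * b⁻¹ * a)⁻¹) * w₀) = f x
      set t := w₀⁻¹ * (a * b⁻¹ * a) with ht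
      rw [show w₀⁻¹ * (a * b⁻¹ * a * x * (a * b⁻¹ * a)⁻¹) * w₀ = t * x * t⁻¹ by rw [ht]; group]
      have htA : conjBy A t = A := by
        rw [ht, ← cj_cj, w_maps_back h hs, hw₀]
        conv_rhs => rw [← cj_inv_cj (A := A) (a₀ * b₀⁻¹ * a₀), w_maps_back h₀ hs]
      have htB : conjBy B t = B := by
        rw [ht, ← cj_cj, w_maps hs h, hw₀]
        conv_rhs => rw [← cj_inv_cj (A := B) (a₀ * b₀⁻¹ * a₀), w_maps hs h₀]
      have htH : t ∈ rankOneDiagonal A B := by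
        refine Subgroup.mem_inf.2 ⟨Subgroup.mem_inf.2 ⟨?_, mem_norm.2 htA⟩, mem_norm.2 htB⟩
        have hm : ∀ {a b}, Rel A B a b → a * b⁻¹ * a ∈ A ⊔ B := fun {a b} h =>
          mul_mem (mul_mem (Subgroup.mem_sup_left h.1) (inv_mem (Subgroup.mem_sup_right h.2.2.1)))
            (Subgroup.mem_sup_left h.1)
        exact mul_mem (inv_mem (hm h₀)) (hm h)
      have hmem : t * x * t⁻¹ ∈ A := htA.le (cj_mem hx t)
      rw [hfeq _ hmem, hfeq x hx, QuotientGroup.eq, Subgroup.mem_subgroupOf]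
      show (t * x * t⁻¹)⁻¹ * x ∈ K
      rw [show (t * x * t⁻¹)⁻¹ * x = ⁅t, x⁻¹⁆ by rw [commutatorElement_def]; group, hK, Subgroup.commutator_comm]
      exact Subgroup.commutator_mem_commutator htH (inv_mem hx))
  intro a ha
  have h2 := h1 a ha
  rw [hfeq a ha, QuotientGroup.eq_one_iff] at h2
  exact h2

end CfsgLib.Inv.RankOnePerfect
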