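import Cfsg.Agent.Inv.RankOne
import Cfsg.Agent.Inv.RankOneAct

/-!
A rank one group with abelian unipotent subgroups acting quadratically is special.
-/

set_option autoImplicit false
set_option linter.unusedSectionVars false

namespace CfsgLib.Inv.RankOne

open Cfsg

variable {X : Type*} [Group X] {A B : Subgroup X} {N : Type*} [AddCommGroup N] [DistribMulAction X N]

/-- Common fixed points. -/
def fixedGrp (X : Type*) [Group X] (N : Type*) [AddCommGroup N] [DistribMulAction X N] : AddSubgroup N where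
  carrier := {n | ∀ x : X, x • n = n}
  add_mem' := fun {a b} ha hb x => by rw [smul_add, ha x, hb x]
  zero_mem' := fun x => smul_zero _
  neg_mem' := fun {a} ha x => by rw [smul_neg, ha x]

/-- The fixed points of a subgroup. -/
def fixedSub (A : Subgroup X) (N : Type*) [AddCommGroup N] [DistribMulAction X N] : AddSubgroup N where
  carrier := {n | ∀ a ∈ A, a • n = n}
  add_mem' := fun {p q} hp hq a ha => by rw [smul_add, hp a ha, hq a ha]
  zero_mem' := fun a _ => smul_zero _
  neg_mem' := fun {p} hp a ha => by rw [smul_neg, hp a ha]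

/-- The commutator module of a subgroup. -/
def commMod (A : Subgroup X) (N : Type*) [AddCommGroup N] [DistribMulAction X N] : AddSubgroup N :=
  AddSubgroup.closure {w | ∃ a ∈ A, ∃ n : N, w = a • n - n}

theorem mem_commMod {A : Subgroup X} {a : X} (ha : a ∈ A) (n : N) : a • n - n ∈ commMod A N :=
  AddSubgroup.subset_closure ⟨a, ha, n, rfl⟩

theorem commMod_le_fixed {A : Subgroup X}
    (hq : ∀ a ∈ A, ∀ a' ∈ A, ∀ n : N, a' • (a • n - n) = a • n - n) : commMod A N ≤ fixedSub A N :=
  (AddSubgroup.closure_le _).2 (by rintro _ ⟨a, ha, n, rfl⟩ a' ha'; exact hq a ha a' ha' n)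

theorem commMod_conj {A : Subgroup X} (g : X) {z : N} (hz : z ∈ commMod A N) :
    g • z ∈ commMod (conjBy A g) N := by
  have : commMod A N ≤ (commMod (conjBy A g) N).comap (DistribMulAction.toAddMonoidHom N g) := by
    refine (AddSubgroup.closure_le _).2 ?_
    rintro _ ⟨a, ha, n, rfl⟩
    show g • (a • n - n) ∈ commMod (conjBy A g) N
    have h := mem_commMod (cj_mem ha g) (g • n)
    rwa [mul_smul, mul_smul, inv_smul_smul, ← smul_sub] at h
  exact this hz

theorem mem_fixed_of_closure (htop : A ⊔ B = ⊤) {n : N} (hA : ∀ a ∈ A, a • n = n) (hB : ∀ b ∈ B, b • n = n) :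
    n ∈ fixedGrp X N := by
  intro x
  have : A ⊔ B ≤ MulAction.stabilizer X n := sup_le hA hB
  exact this (htop ▸ Subgroup.mem_top x)

theorem smul_mem_fixed {n : N} (hn : n ∈ fixedGrp X N) (x : X) : x • n ∈ fixedGrp X N := by
  rwa [hn x]

theorem quad_special (h : IsRankOneGroup X A B) (hab : HasAbelianUnipotents A B)
    (hq : ∀ a ∈ A, ∀ a' ∈ A, ∀ n : N, a' • (a • n - n) = a • n - n)
    (hX : ∃ x y : X, ∃ n : N, y • (x • n - n) ≠ x • n - n) : IsSpecialRankOnePair A B := by
  obtain ⟨htop, hp⟩ := h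
  haveI := hab.1
  obtain ⟨g, -, hBg⟩ := other_mem hp
  have hqB : ∀ b ∈ B, ∀ b' ∈ B, ∀ n : N, b' • (b • n - n) = b • n - n := by
    intro b hb b' hb' n
    rw [hBg] at hb hb'
    have e := hq _ (mem_cj.1 hb) _ (mem_cj.1 hb') (g⁻¹ • n)
    simp only [mul_smul, smul_inv_smul, ← smul_sub] at e
    exact MulAction.injective g⁻¹ e
  set C := fixedGrp X N
  set WA := commMod A N
  set WB := commMod B N
  have hWA : ∀ z ∈ WA, ∀ a ∈ A, a • z = z := fun z hz => commMod_le_fixed hq hz
  have hWB : ∀ z ∈ WB, ∀ b ∈ B, b • z = z := fun z hz => commMod_le_fixed hqB hz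
  set V := WA ⊔ WB with hV
  have hVmem : ∀ (x : X) (n : N), x • n - n ∈ V := by
    intro x n
    have : x ∈ A ⊔ B := htop ▸ Subgroup.mem_top x
    rw [Subgroup.sup_eq_closure] at this
    induction this using Subgroup.closure_induction generalizing n with
    | mem x hx =>
      rcases hx with hx | hx
      · exact AddSubgroup.mem_sup_left (mem_commMod hx n)
      · exact AddSubgroup.mem_sup_right (mem_commMod hx n)
    | one => rw [one_smul, sub_self]; exact zero_mem _
    | mul x y _ _ ihx ihy =>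
      rw [mul_smul, show x • y • n - n = (x • y • n - y • n) + (y • n - n) by abel]
      exact add_mem (ihx _) (ihy _)
    | inv x _ ih =>
      have := ih (x⁻¹ • n)
      rw [smul_inv_smul] at this
      rw [show x⁻¹ • n - n = -(n - x⁻¹ • n) by abel]
      exact neg_mem this
  -- elements fixed modulo `C` and by one unipotent subgroup are fixed
  have inC : ∀ z : N, (∀ a ∈ A, a • z = z) → (∀ b ∈ B, b • z - z ∈ C) → z ∈ C := by
    intro z hzA hzB
    have hzD : ∀ x : X, x • z - z ∈ C := by
      intro x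
      have : x ∈ A ⊔ B := htop ▸ Subgroup.mem_top x
      rw [Subgroup.sup_eq_closure] at this
      induction this using Subgroup.closure_induction with
      | mem x hx =>
        rcases hx with hx | hx
        · rw [hzA x hx, sub_self]; exact zero_mem _
        · exact hzB x hx
      | one => rw [one_smul, sub_self]; exact zero_mem _
      | mul x y _ _ ihx ihy =>
        have : (x * y) • z - z = x • (y • z - z) + (x • z - z) := by rw [mul_smul, smul_sub]; abel
        rw [this]; exact add_mem (smul_mem_fixed ihy x) ihx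
      | inv x _ ih =>
        have : x⁻¹ • z - z = -(x⁻¹ • (x • z - z)) := by rw [smul_sub, inv_smul_smul]; abel
        rw [this]; exact neg_mem (smul_mem_fixed ih _)
    refine mem_fixed_of_closure htop hzA fun b hb => ?_
    rw [hBg] at hb
    have ha := hzA _ (mem_cj.1 hb)
    have hc := hzD g⁻¹
    have e1 : g⁻¹ • z = z + (g⁻¹ • z - z) := by abel
    have e2 : (g⁻¹ * b * g) • (g⁻¹ • z) = g⁻¹ • z := by
      rw [e1, smul_add, ha, hc]
    rw [mul_smul, mul_smul, smul_inv_smul] at e2
    exact MulAction.injective g⁻¹ e2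
  have inC' : ∀ z : N, (∀ b ∈ B, b • z = z) → (∀ a ∈ A, a • z - z ∈ C) → z ∈ C := by
    intro z hzB hzA
    have hzg : ∀ a ∈ A, a • (g⁻¹ • z) = g⁻¹ • z := by
      intro a ha
      have h' := hzB _ (hBg ▸ cj_mem ha g)
      rw [mul_smul, mul_smul] at h'
      conv_rhs => rw [← h']
      rw [inv_smul_smul]
    have hzD : ∀ x : X, x • z - z ∈ C := by
      intro x
      have : x ∈ A ⊔ B := htop ▸ Subgroup.mem_top x
      rw [Subgroup.sup_eq_closure] at this
      induction this using Subgroup.closure_induction with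
      | mem x hx =>
        rcases hx with hx | hx
        · exact hzA x hx
        · rw [hzB x hx, sub_self]; exact zero_mem _
      | one => rw [one_smul, sub_self]; exact zero_mem _
      | mul x y _ _ ihx ihy =>
        have : (x * y) • z - z = x • (y • z - z) + (x • z - z) := by rw [mul_smul, smul_sub]; abel
        rw [this]; exact add_mem (smul_mem_fixed ihy x) ihx
      | inv x _ ih =>
        have : x⁻¹ • z - z = -(x⁻¹ • (x • z - z)) := by rw [smul_sub, inv_smul_smul]; abel
        rw [this]; exact neg_mem (smul_mem_fixed ih _)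
    refine mem_fixed_of_closure htop (fun a ha => ?_) hzB
    have e1 : z = g⁻¹ • z + (z - g⁻¹ • z) := by abel
    have hc : z - g⁻¹ • z ∈ C := by
      rw [show z - g⁻¹ • z = -(g⁻¹ • z - z) by abel]; exact neg_mem (hzD _)
    rw [e1, smul_add, hzg a ha, hc]
  -- uniqueness modulo `C`
  have split : ∀ x ∈ WA, ∀ y ∈ WB, x + y ∈ C → x ∈ C ∧ y ∈ C := by
    intro x hx y hy hxy
    have hxC : x ∈ C := by
      refine mem_fixed_of_closure htop (hWA x hx) fun b hb => ?_
      have h1 := hxy b
      rw [smul_add, hWB y hy b hb] at h1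
      exact add_right_cancel h1
    exact ⟨hxC, by simpa using sub_mem hxy hxC⟩
  -- the kernel of the action on the section
  let K : Subgroup X :=
    { carrier := {x | ∀ v ∈ V, x • v - v ∈ C}
      one_mem' := fun v _ => by rw [one_smul, sub_self]; exact zero_mem _
      mul_mem' := fun {x y} hx hy v hv => by
        have : (x * y) • v - v = x • (y • v - v) + (x • v - v) := by rw [mul_smul, smul_sub]; abel
        rw [this]; exact add_mem (smul_mem_fixed (hy v hv) x) (hx v hv)
      inv_mem' := fun {x} hx v hv => by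
        have : x⁻¹ • v - v = -(x⁻¹ • (x • v - v)) := by rw [smul_sub, inv_smul_smul]; abel
        rw [this]; exact neg_mem (smul_mem_fixed (hx v hv) _) }
  haveI hKn : K.Normal := ⟨fun x hx w v hv => by
    have hv' : w⁻¹ • v ∈ V := by
      rw [show w⁻¹ • v = (w⁻¹ • v - v) + v by abel]
      exact add_mem (hVmem _ _) hv
    have : (w * x * w⁻¹) • v - v = w • (x • (w⁻¹ • v) - w⁻¹ • v) := by
      rw [smul_sub, smul_inv_smul, mul_smul, mul_smul]
    rw [this]; exact smul_mem_fixed (hx _ hv') w⟩
  have hKA : ∀ a ∈ A, a ∈ K → a = 1 := by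
    rcases normal_dichotomy ⟨htop, hp⟩ K with hK | hK
    · exfalso
      have hstab : ∀ z ∈ WA, ∀ x : X, x • z - z ∈ C := by
        intro z hz x
        obtain ⟨k, hk, a, ha, rfl⟩ := Subgroup.mem_sup_of_normal_left.1 (hK ▸ Subgroup.mem_top x)
        rw [mul_smul, hWA z hz a ha]
        exact hk z (AddSubgroup.mem_sup_left hz)
      have hle : ∀ z ∈ WB, ∀ a ∈ A, a • z = z := by
        intro z hz a ha
        have hz' : g⁻¹ • z ∈ WA := by
          have h := commMod_conj g⁻¹ hz
          rwa [hBg, cj_inv_cj] at h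
        have hc := hstab _ hz' g
        rw [smul_inv_smul] at hc
        rw [show z = g⁻¹ • z + (z - g⁻¹ • z) by abel, smul_add, hWA _ hz' a ha, hc a]
      have hVA : ∀ v ∈ V, ∀ a ∈ A, a • v = v := fun v hv a ha => by
        obtain ⟨p, hp', q, hq', rfl⟩ := AddSubgroup.mem_sup.1 hv
        rw [smul_add, hWA p hp' a ha, hle q hq' a ha]
      obtain ⟨x, y, n, hne⟩ := hX
      refine hne (mem_fixed_of_closure htop (hVA _ (hVmem x n)) (fun b hb => ?_) y)
      have hb' : g⁻¹ * b * g ∈ A := mem_cj.1 (hBg ▸ hb)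
      have hv' : g⁻¹ • (x • n - n) ∈ V := by
        rw [show g⁻¹ • (x • n - n) = (g⁻¹ • (x • n - n) - (x • n - n)) + (x • n - n) by abel]
        exact add_mem (hVmem _ _) (hVmem _ _)
      have e := hVA _ hv' _ hb'
      rw [mul_smul, mul_smul, smul_inv_smul] at e
      exact MulAction.injective g⁻¹ e
    · exact fun a ha haK => central_left_eq_one hp ha (hK haK)
  refine ⟨hp, fun a₀ ha₀ ha₁ b₀ hb₀ hb₁ hcond => ?_⟩
  -- pass to the inverses
  set a := a₀⁻¹ with had
  set b := b₀⁻¹ with hbd
  have ha : a ∈ A := inv_mem ha₀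
  have hb : b ∈ B := inv_mem hb₀
  have hba : ∀ b' ∈ B, ∃ a' ∈ A, b * a' * b⁻¹ = a * b' * a⁻¹ := fun b' hb' => by
    have h1 := hcond.ge (cj_mem hb' a)
    obtain ⟨a', ha', e⟩ := h1
    exact ⟨a', ha', e⟩
  have hab' : ∀ a' ∈ A, ∃ b' ∈ B, b * a' * b⁻¹ = a * b' * a⁻¹ := fun a' ha' => by
    obtain ⟨b', hb', e⟩ := hcond.le (cj_mem ha' b)
    exact ⟨b', hb', e.symm⟩
  -- nilpotent parts
  let d : X → N → N := fun x z => x • z - z
  have dA : ∀ x ∈ A, ∀ z, d x z ∈ WA := fun x hx z => mem_commMod hx z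
  have dB : ∀ x ∈ B, ∀ z, d x z ∈ WB := fun x hx z => mem_commMod hx z
  have dC : ∀ x z, z ∈ C → d x z = 0 := fun x z hz => sub_eq_zero.2 (hz x)
  have dadd : ∀ x z z', d x (z + z') = d x z + d x z' := fun x z z' => by
    simp only [d, smul_add]; abel
  have dneg : ∀ x z, d x (-z) = -d x z := fun x z => by simp only [d, smul_neg]; abel
  have dsub : ∀ x z z', d x (z - z') = d x z - d x z' := fun x z z' => by
    simp only [d, smul_sub]; abel
  have sd : ∀ x z, x • z = z + d x z := fun x z => by simp only [d]; abel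
  have dinv : ∀ (H : Subgroup X), (∀ z ∈ commMod H N, ∀ x ∈ H, x • z = z) → ∀ x ∈ H, ∀ z, x⁻¹ • z = z - d x z := by
    intro H hH x hx z
    have e : x⁻¹ • d x z = d x z := hH _ (mem_commMod hx z) _ (inv_mem hx)
    calc x⁻¹ • z = x⁻¹ • (x • z - d x z) := by congr 1; simp only [d]; abel
      _ = _ := by rw [smul_sub, inv_smul_smul, e]
  -- the two equations
  have eqs : ∀ a' ∈ A, ∀ b' ∈ B, b * a' * b⁻¹ = a * b' * a⁻¹ →
      (∀ x ∈ WA, d a (d b' x) + d a' (d b x) ∈ C ∧ d b' x + d b (d a' (d b x)) ∈ C) ∧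
      (∀ y ∈ WB, d a' y + d a (d b' (d a y)) ∈ C) := by
    intro a' ha' b' hb' e
    refine ⟨fun x hx => ?_, fun y hy => ?_⟩
    · have e' := congrArg (fun w : X => w • x) e
      simp only [mul_smul] at e'
      rw [dinv A hWA a ha, dinv B hWB b hb, show d a x = 0 from sub_eq_zero.2 (hWA x hx a ha), sub_zero,
        sd b' x, smul_add a, hWA x hx a ha, smul_sub a', hWA x hx a' ha', sd a' (d b x), smul_sub b, smul_add b,
        hWB _ (dB b hb x) b hb, sd b x, sd a (d b' x), sd b (d a' (d b x))] at e'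
      have h0 : (d a (d b' x) + d a' (d b x)) + (d b' x + d b (d a' (d b x))) = 0 := by
        rw [← sub_eq_zero.2 e'.symm]; abel
      exact split _ (add_mem (dA a ha _) (dA a' ha' _)) _ (add_mem (dB b' hb' _) (dB b hb _))
        (h0 ▸ zero_mem _)
    · have e' := congrArg (fun w : X => w • y) e
      simp only [mul_smul] at e'
      rw [dinv A hWA a ha, dinv B hWB b hb, show d b y = 0 from sub_eq_zero.2 (hWB y hy b hb), sub_zero,
        smul_sub b', hWB y hy b' hb', sd b' (d a y), smul_sub a, smul_add a, hWA _ (dA a ha y) a ha, sd a y,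
        sd a' y, smul_add b, hWB y hy b hb, sd b (d a' y), sd a (d b' (d a y))] at e'
      have h0 : (d a' y + d a (d b' (d a y))) + (d b (d a' y) + d b' (d a y)) = 0 := by
        rw [← sub_eq_zero.2 e']; abel
      exact (split _ (add_mem (dA a' ha' _) (dA a ha _)) _ (add_mem (dB b hb _) (dB b' hb' _))
        (h0 ▸ zero_mem _)).1
  have subC : ∀ x p q, p + q ∈ C → d x p = -d x q := fun x p q hpq => by
    rw [← add_eq_zero_iff_eq_neg, ← dadd]; exact dC x _ hpq
  have hab1 : ∀ x ∈ WA, x - d a (d b x) ∈ C := by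
    intro x hx
    refine inC _ (fun c hc => by rw [smul_sub, hWA x hx c hc, hWA _ (dA a ha _) c hc]) fun b' hb' => ?_
    set z := x - d a (d b x) with hz
    have hzA : z ∈ WA := sub_mem hx (dA a ha _)
    obtain ⟨a', ha', e⟩ := hba b' hb'
    obtain ⟨hx1, -⟩ := (eqs a' ha' b' hb' e).1 x hx
    have hy := (eqs a' ha' b' hb' e).2 (d b x) (dB b hb x)
    obtain ⟨hz1, hz2⟩ := (eqs a' ha' b' hb' e).1 z hzA
    have h3 : d a (d b' z) ∈ C := by
      rw [hz, dsub b', dsub a]
      have := sub_mem hx1 hy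
      convert this using 1
      abel
    have h5 : d a' (d b z) ∈ C := by simpa using sub_mem hz1 h3
    rw [dC b _ h5, add_zero] at hz2
    exact hz2
  have hba1 : ∀ y ∈ WB, y - d b (d a y) ∈ C := by
    intro y hy
    refine inC' _ (fun c hc => by rw [smul_sub, hWB y hy c hc, hWB _ (dB b hb _) c hc]) fun a' ha' => ?_
    set z := y - d b (d a y) with hz
    have hzB : z ∈ WB := sub_mem hy (dB b hb _)
    obtain ⟨b', hb', e⟩ := hab' a' ha'
    have h := (eqs a' ha' b' hb' e).2 z hzB
    have h2 : d a z ∈ C := by rw [hz, dsub]; exact hab1 _ (dA a ha y)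
    rw [dC b' _ h2, show d a 0 = 0 by simp [d], add_zero] at h
    exact h
  -- the special equation
  obtain ⟨a', ha', e⟩ := hba b⁻¹ (inv_mem hb)
  have hmem : a⁻¹ * a' ∈ K := by
    intro v hv
    obtain ⟨x, hx, y, hy, rfl⟩ := AddSubgroup.mem_sup.1 hv
    have h := (eqs a' ha' b⁻¹ (inv_mem hb) e).2 y hy
    have hbi : d b⁻¹ (d a y) = -d b (d a y) := by
      show b⁻¹ • d a y - d a y = _
      rw [dinv B hWB b hb]; abel
    rw [hbi, dneg] at h
    have hba2 : d a (y - d b (d a y)) = 0 := dC a _ (hba1 y hy)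
    rw [dsub, sub_eq_zero] at hba2
    rw [← hba2] at h
    rw [mul_smul, smul_add a', hWA x hx a' ha', sd a' y, smul_add a⁻¹, smul_add a⁻¹,
      hWA x hx _ (inv_mem ha), hWA _ (dA a' ha' y) _ (inv_mem ha), dinv A hWA a ha]
    convert h using 1
    abel
  have h1 := inv_mul_eq_one.1 (hKA _ (mul_mem (inv_mem ha) ha') hmem)
  rw [← h1, inv_inv] at e
  have e' := congrArg (fun w : X => w⁻¹) e
  simp only [had, hbd, _root_.mul_inv_rev, inv_inv] at e'
  simpa [mul_assoc] using e'

end CfsgLib.Inv.RankOne
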