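import Cfsg.Agent.Inv.RankOnePerfect
import Cfsg.Agent.Perm.SL23
import Cfsg.Agent.Lie.SUThreeTwo
import Cfsg.Agent.Chev.TwistWord
import Cfsg.Agent.S5017
import Cfsg.Agent.Inv.Component

/-!
Special rank one groups with abelian unipotent subgroups: the small cases, and quasisimplicity.
-/

set_option autoImplicit false
set_option linter.unusedSectionVars false

namespace CfsgLib.Inv.RankOneSmall

open Cfsg CfsgLib.Inv.RankOne
open scoped commutatorElement

local notation "SL23" => Matrix.SpecialLinearGroup (Fin 2) (ZMod 3)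
local notation "SL22" => Matrix.SpecialLinearGroup (Fin 2) (ZMod 2)
local notation "Q8" => QuaternionGroup 2

theorem sl23_center : ∀ g : SL23, (∀ h : SL23, h * g = g * h) ↔ (g = 1 ∨ g = -1) := by decide +kernel

theorem sl23_commutators : ∀ g h : SL23, g * h * g⁻¹ * h⁻¹ = 1 ∨ g * h * g⁻¹ * h⁻¹ = -1 ∨
    (g * h * g⁻¹ * h⁻¹) * (g * h * g⁻¹ * h⁻¹) = -1 := by decide +kernel

theorem sl23_noncentral : ∀ g : SL23, g = 1 ∨ g = -1 ∨
    ∃ h : SL23, (g * h * g⁻¹ * h⁻¹) * (g * h * g⁻¹ * h⁻¹) = -1 := by decide +kernel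

theorem sl23_conj : ∀ p q : SL23, p * p = -1 → q * q = -1 → ∃ k : SL23, k * p * k⁻¹ = q := by decide +kernel

theorem alpha_agree {X : Type*} [Group X] (f : Q8 →* X) (t : X)
    (hA : t * f (.a 1) * t⁻¹ = f (CfsgLib.Perm.SLTwoThree.alpha (.a 1)))
    (hB : t * f (.xa 0) * t⁻¹ = f (CfsgLib.Perm.SLTwoThree.alpha (.xa 0))) :
    ∀ q, t * f q * t⁻¹ = f (CfsgLib.Perm.SLTwoThree.alpha q) := by
  intro q
  have hgen : ∀ q : Q8, ∃ m : Fin 4, ∃ k : Fin 2, q = .a 1 ^ (m : ℕ) * .xa 0 ^ (k : ℕ) := by decide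
  obtain ⟨m, k, rfl⟩ := hgen q
  rw [map_mul, map_mul, map_mul, map_pow, map_pow, map_pow, map_pow, map_pow, map_pow, ← hA, ← hB, conj_pow, conj_pow]
  group

/-- Two generators of order three in the braid relation. -/
theorem iso_three {X : Type*} [Group X] {a c : X} (ha : a ^ 3 = 1) (hb : a * c * a = c * a * c)
    (hgen : Subgroup.closure {a, c} = ⊤) (hnc : a * c ≠ c * a) :
    Nonempty (X ≃* SL23) ∨ Nonempty (X ≃* Matrix.ProjectiveSpecialLinearGroup (Fin 2) (ZMod 3)) := by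
  obtain ⟨u, hu⟩ : ∃ u, u = a * c * a := ⟨_, rfl⟩
  have ha2 : a * a = a⁻¹ := eq_inv_of_mul_eq_one_left (by rw [← pow_two, ← pow_succ, ha])
  have hai : (a * a)⁻¹ = a := by rw [ha2, inv_inv]
  have hua : u * a * u⁻¹ = c := mul_inv_eq_iff_eq_mul.2 (by
    calc u * a = c * a * c * a := by rw [hu, hb]
      _ = c * u := by rw [hu]; group)
  have huc : u * c * u⁻¹ = a := mul_inv_eq_iff_eq_mul.2 (by
    calc u * c = a * (c * a * c) := by rw [hu]; group
      _ = a * u := by rw [← hb, hu])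
  have hc3 : c ^ 3 = 1 := by rw [← hua, conj_pow, ha, mul_one, mul_inv_cancel]
  have hci : (c * c)⁻¹ = c := inv_eq_of_mul_eq_one_right (by rw [← pow_two, ← pow_succ, hc3])
  have hz : Commute (u * u) a := mul_inv_eq_iff_eq_mul.1 (by
    calc u * u * a * (u * u)⁻¹ = u * (u * a * u⁻¹) * u⁻¹ := by group
      _ = a := by rw [hua, huc])
  have hcac : c⁻¹ * a * c = a * c * a⁻¹ := by
    calc c⁻¹ * a * c = c⁻¹ * (a * c * a) * a⁻¹ := by group
      _ = a * c * a⁻¹ := by rw [hb]; group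
  have hcac' : c * a * c⁻¹ = a⁻¹ * c * a := by
    calc c * a * c⁻¹ = a⁻¹ * ((a * c * a) * c⁻¹) := by group
      _ = a⁻¹ * c * a := by rw [hb]; group
  have e1 : (u * u)⁻¹ = c * a⁻¹ * c * a⁻¹ := by
    calc (u * u)⁻¹ = a⁻¹ * c⁻¹ * (a * a)⁻¹ * c⁻¹ * a⁻¹ := by rw [hu]; group
      _ = a⁻¹ * ((c⁻¹ * a * c) * (c * c)⁻¹) * a⁻¹ := by rw [hai]; group
      _ = _ := by rw [hcac, hci]; group
  have hzinv : a * (u * u)⁻¹ * a⁻¹ = u * u := by
    rw [e1]
    calc a * (c * a⁻¹ * c * a⁻¹) * a⁻¹ = a * c * a⁻¹ * c * (a * a)⁻¹ := by group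
      _ = a * c * (a * a) * c * a := by rw [hai, ha2]
      _ = u * u := by rw [hu]; group
  have hu4 : u * u * (u * u) = 1 := by
    have e3 : a * (u * u)⁻¹ * a⁻¹ = (u * u)⁻¹ := by rw [← hz.inv_left.eq, mul_inv_cancel_right]
    exact eq_inv_iff_mul_eq_one.1 (hzinv.symm.trans e3)
  obtain ⟨α, hα⟩ : ∃ α, α = u⁻¹ := ⟨_, rfl⟩
  obtain ⟨β, hβ⟩ : ∃ β, β = a * α * a⁻¹ := ⟨_, rfl⟩
  have hα4 : α ^ 4 = 1 := by
    rw [hα, inv_pow, inv_eq_one, ← hu4]; simp [pow_succ, mul_assoc]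
  have hα3 : α ^ 3 = α⁻¹ := eq_inv_of_mul_eq_one_left (by rw [← pow_succ, hα4])
  have hsq : β * β = α * α := by
    calc β * β = a * (u * u)⁻¹ * a⁻¹ := by rw [hβ, hα]; group
      _ = u * u := hzinv
      _ = α * α := by rw [hα, ← mul_inv_rev, eq_inv_iff_mul_eq_one, hu4]
  have hv : a * u * a⁻¹ = a⁻¹ * c := by
    calc a * u * a⁻¹ = (a * a) * c := by rw [hu]; group
      _ = _ := by rw [ha2]
  have e2 : a * u * a⁻¹ * u * (a * u * a⁻¹)⁻¹ = u⁻¹ := by
    rw [hv, hu]
    calc a⁻¹ * c * (a * c * a) * (a⁻¹ * c)⁻¹ = a⁻¹ * (c * a * c) * a * c⁻¹ * a := by group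
      _ = c * (a * a) * c⁻¹ * a := by rw [← hb]; group
      _ = (c * a * c⁻¹)⁻¹ * a := by rw [ha2]; group
      _ = a⁻¹ * c⁻¹ * (a * a) := by rw [hcac']; group
      _ = (a * c * a)⁻¹ := by rw [ha2]; group
  have hcomm : α * β = β * α ^ 3 := by
    rw [hα3]
    calc α * β = β * (a * u * a⁻¹ * u * (a * u * a⁻¹)⁻¹)⁻¹ := by rw [hβ, hα]; group
      _ = β * α⁻¹ := by rw [e2, hα]
  let f : Q8 →* X := CfsgLib.Lie.SUThreeTwo.ofRel α β hα4 hsq hcomm
  have hf1 : f (.a 1) = α := by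
    show α ^ (1 : ZMod (2 * 2)).val = α
    rw [show (1 : ZMod (2 * 2)).val = 1 by decide, pow_one]
  have hf0 : f (.xa 0) = β := by
    show β * α ^ (0 : ZMod (2 * 2)).val = β
    rw [ZMod.val_zero, pow_zero, mul_one]
  have hf3 : f (.xa 3) = β * α⁻¹ := by
    show β * α ^ (3 : ZMod (2 * 2)).val = β * α⁻¹
    rw [show (3 : ZMod (2 * 2)).val = 3 by decide, hα3]
  have hβ' : a * β * a⁻¹ = β * α⁻¹ := by
    calc a * β * a⁻¹ = (a * a) * u⁻¹ * (a * a)⁻¹ := by rw [hβ, hα]; group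
      _ = a⁻¹ * u⁻¹ * a := by rw [ha2, inv_inv]
      _ = (a * a)⁻¹ * c⁻¹ := by rw [hu]; group
      _ = (a * c * a⁻¹)⁻¹ * a := by rw [hai]; group
      _ = (c⁻¹ * a * c)⁻¹ * a := by rw [hcac]
      _ = β * α⁻¹ := by rw [hβ, hα, hu]; group
  have hq : ∀ q, a * f q * a⁻¹ = f (CfsgLib.Perm.SLTwoThree.alpha q) := by
    refine alpha_agree f a ?_ ?_
    · rw [CfsgLib.Perm.SLTwoThree.alpha_apply, show CfsgLib.Perm.SLTwoThree.alphaFun (.a 1) = .xa 0 by decide, hf1, hf0, hβ]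
    · rw [CfsgLib.Perm.SLTwoThree.alpha_apply, show CfsgLib.Perm.SLTwoThree.alphaFun (.xa 0) = .xa 3 by decide, hf0, hf3,
        hβ']
  let g : Multiplicative (ZMod 3) →* X :=
    AddMonoidHom.toMultiplicativeLeft (ZMod.lift 3 ⟨zmultiplesHom _ (Additive.ofMul a), by
      rw [zmultiplesHom_apply, natCast_zsmul, ← ofMul_pow, ha, ofMul_one]⟩)
  have hg1 : g (Multiplicative.ofAdd 1) = a := by
    show Additive.toMul (ZMod.lift 3 _ (1 : ZMod 3)) = a
    rw [show (1 : ZMod 3) = ((1 : ℤ) : ZMod 3) by norm_num, ZMod.lift_coe]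
    simp
  have key : ∀ (k : ℕ) (q : Q8), a ^ k * f q * (a ^ k)⁻¹ = f ((CfsgLib.Perm.SLTwoThree.alpha ^ k) q) := by
    intro k
    induction k with
    | zero => intro q; simp
    | succ k ih =>
      intro q
      calc a ^ (k + 1) * f q * (a ^ (k + 1))⁻¹ = a * (a ^ k * f q * (a ^ k)⁻¹) * a⁻¹ := by rw [pow_succ']; group
        _ = f ((CfsgLib.Perm.SLTwoThree.alpha ^ (k + 1)) q) := by rw [ih, hq, pow_succ', MulAut.mul_apply]
  let F : SemidirectProduct Q8 (Multiplicative (ZMod 3)) CfsgLib.Perm.SLTwoThree.phi →* X :=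
    SemidirectProduct.lift f g fun x => by
      refine MonoidHom.ext fun q => ?_
      show f (CfsgLib.Perm.SLTwoThree.phi x q) = g x * f q * (g x)⁻¹
      rw [CfsgLib.Perm.SLTwoThree.gen_three x, map_pow, map_pow, CfsgLib.Perm.SLTwoThree.phi_one, hg1, key]
  obtain ⟨f0, t0, h0, h0t, h0c⟩ := CfsgLib.Perm.SLTwoThree.model
  obtain ⟨e0⟩ := CfsgLib.Perm.SLTwoThree.recognize CfsgLib.Perm.SLTwoThree.card_sl23 f0 h0 t0 h0t h0c
  let φ : SL23 →* X := F.comp e0.symm.toMonoidHom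
  have hφ : Function.Surjective φ := by
    have hF : F.range = ⊤ := by
      rw [eq_top_iff, ← hgen, Subgroup.closure_le]
      have haR : a ∈ F.range := ⟨SemidirectProduct.inr (Multiplicative.ofAdd 1), by
        simp only [F, SemidirectProduct.lift_inr, hg1]⟩
      have huR : u ∈ F.range := by
        have h1 : α ∈ F.range := ⟨SemidirectProduct.inl (.a 1), by simp only [F, SemidirectProduct.lift_inl, hf1]⟩
        simpa [hα] using inv_mem h1
      rintro x (rfl | rfl)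
      · exact haR
      · rw [SetLike.mem_coe, ← hua]
        exact mul_mem (mul_mem huR haR) (inv_mem huR)
    exact (MonoidHom.range_eq_top.1 hF).comp e0.symm.surjective
  have hker : φ.ker ≤ Subgroup.center SL23 := by
    intro x hx
    rw [Subgroup.mem_center_iff]
    refine (sl23_center x).2 ?_
    rcases sl23_noncentral x with h | h | ⟨h, hh⟩
    · exact Or.inl h
    · exact Or.inr h
    exfalso
    have hk : x * h * x⁻¹ * h⁻¹ ∈ φ.ker := by
      rw [show x * h * x⁻¹ * h⁻¹ = x * (h * x⁻¹ * h⁻¹) by group]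
      exact mul_mem hx (φ.normal_ker.conj_mem _ (inv_mem hx) h)
    have hneg : (-1 : SL23) ∈ φ.ker := hh ▸ mul_mem hk hk
    refine hnc ?_
    obtain ⟨p, hp⟩ := hφ a
    obtain ⟨q, hq'⟩ := hφ c
    have hpq : p * q * p⁻¹ * q⁻¹ ∈ φ.ker := by
      rcases sl23_commutators p q with e | e | e
      · rw [e]; exact one_mem _
      · rw [e]; exact hneg
      · obtain ⟨k, hk'⟩ := sl23_conj _ _ hh e
        rw [← hk']
        exact φ.normal_ker.conj_mem _ hk k
    rw [MonoidHom.mem_ker, map_mul, map_mul, map_mul, map_inv, map_inv, hp, hq', mul_inv_eq_one, mul_inv_eq_iff_eq_mul] at hpq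
    exact hpq
  by_cases h1 : φ.ker = ⊥
  · exact Or.inl ⟨(MulEquiv.ofBijective φ ⟨(MonoidHom.ker_eq_bot_iff φ).1 h1, hφ⟩).symm⟩
  · right
    have heq : φ.ker = Subgroup.center SL23 := by
      refine le_antisymm hker fun x hx => ?_
      rcases (sl23_center x).1 (Subgroup.mem_center_iff.1 hx) with rfl | rfl
      · exact one_mem _
      · obtain ⟨y, hy, hy1⟩ := (Subgroup.bot_or_exists_ne_one _).resolve_left h1
        rcases (sl23_center y).1 (Subgroup.mem_center_iff.1 (hker hy)) with rfl | rfl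
        · exact absurd rfl hy1
        · exact hy
    exact ⟨(QuotientGroup.quotientKerEquivOfSurjective φ hφ).symm.trans (QuotientGroup.quotientMulEquivOfEq heq)⟩

theorem sl22_data : ∃ s t : SL22, s * s = 1 ∧ t * t = 1 ∧ orderOf (s * t) = 3 := by
  haveI : Fact (Nat.Prime 3) := ⟨Nat.prime_three⟩
  refine ⟨⟨!![1, 1; 0, 1], by decide⟩, ⟨!![1, 0; 1, 1], by decide⟩, by decide, by decide,
    orderOf_eq_prime (by decide) (fun h => absurd (congrFun (congrFun (congrArg Subtype.val h) 0) 1) (by decide))⟩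

/-- Two involutions in the braid relation. -/
theorem iso_two {X : Type*} [Group X] {a c : X} (ha : a * a = 1) (hc : c * c = 1) (hb : a * c * a = c * a * c)
    (hgen : Subgroup.closure {a, c} = ⊤) (hne : a ≠ c) : Nonempty (X ≃* SL22) := by
  haveI : Fact (Nat.Prime 3) := ⟨Nat.prime_three⟩
  have h3 : orderOf (a * c) = 3 := by
    refine orderOf_eq_prime ?_ fun e => hne ?_
    · calc (a * c) ^ 3 = (a * c * a) * (c * a * c) := by simp [pow_succ, mul_assoc]
        _ = (a * c * a) * (a * c * a) := by rw [hb]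
        _ = a * c * (a * a) * c * a := by group
        _ = 1 := by rw [ha, mul_one, mul_assoc a c c, hc, mul_one, ha]
    · rw [← inv_eq_of_mul_eq_one_right ha, ← eq_inv_of_mul_eq_one_right e]
  obtain ⟨f, hf, hfr⟩ := CfsgLib.Chev.exists_dihedral_hom (le_refl 3) ha hc h3
  obtain ⟨s, t, hs, ht, hst⟩ := sl22_data
  obtain ⟨f', hf', -⟩ := CfsgLib.Chev.exists_dihedral_hom (le_refl 3) hs ht hst
  have hcard : Nat.card (DihedralGroup 3) = Nat.card SL22 := by
    rw [DihedralGroup.nat_card, Nat.card_eq_fintype_card]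
    decide +kernel
  exact ⟨((MulEquiv.ofBijective f ⟨hf, MonoidHom.range_eq_top.1 (hfr.trans hgen)⟩).symm).trans
    (MulEquiv.ofBijective f' ((Nat.bijective_iff_injective_and_card f').2 ⟨hf', hcard⟩))⟩

theorem main {X : Type*} [Group X] {A B : Subgroup X} (h : IsRankOneGroup X A B)
    (hs : IsSpecialRankOnePair A B) (hab : HasAbelianUnipotents A B) :
    (ENat.card A ≤ 3 ∧ (Nonempty (X ≃* SL22) ∨ Nonempty (X ≃* SL23) ∨
        Nonempty (X ≃* Matrix.ProjectiveSpecialLinearGroup (Fin 2) (ZMod 3)))) ∨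
    (commutator X ⊔ A = ⊤ ∧ IsQuasisimple (commutator X) ∧
      3 < ENat.card ↥(⁅A, rankOneDiagonal A B⁆ : Subgroup X)) := by
  by_cases h4 : 3 < ENat.card ↥A
  · right
    obtain ⟨hA, hB⟩ := RankOnePerfect.le_commutator hs hab h4
    have htop : commutator X = ⊤ := by
      rw [eq_top_iff, commutator_def, ← h.1]
      exact sup_le (hA.trans (by rw [h.1])) (hB.trans (by rw [h.1]))
    refine ⟨by rw [htop, top_sup_eq], ?_, h4.trans_le ?_⟩
    · exact CfsgLib.Inv.quasisimple_congr ((Subgroup.topEquiv).symm.trans (MulEquiv.subgroupCongr htop.symm))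
        ((Cfsg.Agent.S5017.result h).2 (Group.isPerfect_def.2 htop))
    · exact ENat.card_le_card_of_injective
        (Subgroup.inclusion_injective (RankOnePerfect.le_commutator_diagonal hs hab h4))
  · left
    rw [not_lt] at h4
    refine ⟨h4, ?_⟩
    have hA1 : A ≠ ⊥ := CfsgLib.Inv.RootSet.unip_ne_bot h.2 (self_mem h.2)
    haveI hfin : Finite ↥A := by
      rw [← ENat.card_lt_top]; exact lt_of_le_of_lt h4 (by exact_mod_cast ENat.coe_lt_top 3)
    have hn : Nat.card ↥A ≤ 3 := by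
      rw [ENat.card_eq_coe_natCard] at h4
      exact_mod_cast h4
    have hn2 : 2 ≤ Nat.card ↥A := by
      have h0 := Nat.card_pos (α := ↥A)
      have h1 : Nat.card ↥A ≠ 1 := fun e => hA1 (Subgroup.card_eq_one.1 e)
      omega
    obtain ⟨a, ha, ha1⟩ := (Subgroup.bot_or_exists_ne_one A).resolve_left hA1
    obtain ⟨b, hab'⟩ := rel_exists hs.1 ha ha1
    have hbr := braid hs hab'
    obtain ⟨x, hx, eB⟩ := other_mem h.2
    have hBcard : Nat.card ↥B = Nat.card ↥A := by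
      rw [eB]; exact Nat.card_congr (A.equivMapOfInjective _ (MulAut.conj x).injective).symm.toEquiv
    have hgenz : ∀ {H : Subgroup X}, (Nat.card ↥H).Prime → ∀ {z}, z ∈ H → z ≠ 1 → Subgroup.zpowers z = H := by
      intro H hp z hz hz1
      haveI := Fact.mk hp
      haveI : Finite ↥H := Nat.finite_of_card_ne_zero hp.ne_zero
      refine Subgroup.eq_of_le_of_card_ge ((Subgroup.zpowers_le).2 hz) ?_
      rw [Nat.card_zpowers]
      have h1 : orderOf z ∣ Nat.card ↥H := by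
        rw [← Subgroup.orderOf_mk z hz]; exact orderOf_dvd_natCard _
      rcases hp.eq_one_or_self_of_dvd _ h1 with e | e
      · exact absurd (orderOf_eq_one_iff.1 e) hz1
      · exact e.ge
    have hpow : ∀ {H : Subgroup X}, ∀ {z}, z ∈ H → z ^ Nat.card ↥H = 1 := fun {H z} hz =>
      congrArg Subtype.val (pow_card_eq_one' (x := (⟨z, hz⟩ : H)))
    have hgen : (Nat.card ↥A).Prime → Subgroup.closure {a, b⁻¹} = ⊤ := by
      intro hp
      rw [← h.1, ← hgenz hp ha ha1, ← hgenz (hBcard.symm ▸ hp) (inv_mem hab'.2.2.1) (inv_ne_one.2 hab'.2.2.2.1),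
        Subgroup.zpowers_eq_closure, Subgroup.zpowers_eq_closure, ← Subgroup.closure_union]
      rfl
    have hnc : a * b⁻¹ ≠ b⁻¹ * a := fun e => hab'.2.2.2.1 (inv_eq_one.1 (inf_norm (RankOnePair_symm hs.1) (inv_mem hab'.2.2.1) (by
      have hle : conjBy A b⁻¹ ≤ A := by
        rintro _ ⟨w, hw, rfl⟩
        have hp : (Nat.card ↥A).Prime := by
          rcases (show Nat.card ↥A = 2 ∨ Nat.card ↥A = 3 by omega) with e' | e' <;> rw [e'] <;> norm_num
        rw [← hgenz hp ha ha1, SetLike.mem_coe, Subgroup.mem_zpowers_iff] at hw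
        obtain ⟨k, rfl⟩ := hw
        show b⁻¹ * a ^ k * b⁻¹⁻¹ ∈ A
        rw [((show Commute b⁻¹ a from e.symm).zpow_right k).eq, mul_inv_cancel_right]
        exact zpow_mem ha k
      haveI : Finite ↥A := hfin
      exact Subgroup.eq_of_le_of_card_ge hle
        (le_of_eq (Nat.card_congr (A.equivMapOfInjective _ (MulAut.conj b⁻¹).injective).toEquiv)))))
    rcases (show Nat.card ↥A = 2 ∨ Nat.card ↥A = 3 by omega) with e | e
    · left
      have ha2 : a * a = 1 := by have := hpow ha; rwa [e, pow_two] at this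
      have hb2 : b⁻¹ * b⁻¹ = 1 := by have := hpow (inv_mem hab'.2.2.1); rwa [hBcard, e, pow_two] at this
      exact iso_two ha2 hb2 hbr (hgen (e ▸ Nat.prime_two)) fun e' => hnc (by rw [← e'])
    · right
      exact iso_three (by have := hpow ha; rwa [e] at this) hbr (hgen (e ▸ Nat.prime_three)) hnc

end CfsgLib.Inv.RankOneSmall
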