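import Cfsg.Agent.Inv.RankOne
import Cfsg.Prelude.Def_Transfer

/-!
Special rank one groups with abelian unipotent subgroups: roots.
-/

set_option autoImplicit false

namespace CfsgLib.Inv.RankOne

open Cfsg

variable {G : Type*} [Group G] {A B : Subgroup G}

/-- The pairing between non-identity elements. -/
def Rel (A B : Subgroup G) (a b : G) : Prop :=
  a ∈ A ∧ a ≠ 1 ∧ b ∈ B ∧ b ≠ 1 ∧ conjBy A b⁻¹ = conjBy B a⁻¹

theorem Rel.symm {a b : G} (h : Rel A B a b) : Rel B A b a :=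
  ⟨h.2.2.1, h.2.2.2.1, h.1, h.2.1, h.2.2.2.2.symm⟩

theorem rel_exists (h : IsRankOnePair A B) {a : G} (ha : a ∈ A) (h1 : a ≠ 1) : ∃ b, Rel A B a b := by
  obtain ⟨b, hb, hb1, e⟩ := h.cond_left a ha h1
  exact ⟨b, ha, h1, hb, hb1, e⟩

theorem rel_unique (h : IsRankOnePair A B) {a b b' : G} (h1 : Rel A B a b) (h2 : Rel A B a b') : b = b' :=
  inv_injective (reg_inj (RankOnePair_symm h) (inv_mem h1.2.2.1) (inv_mem h2.2.2.1) (h1.2.2.2.2.trans h2.2.2.2.2.symm))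

theorem special_symm (hs : IsSpecialRankOnePair A B) : IsSpecialRankOnePair B A := by
  refine ⟨RankOnePair_symm hs.1, fun b hb hb1 a ha ha1 e => ?_⟩
  have h := congrArg (·⁻¹) (hs.2 a ha ha1 b hb hb1 e.symm)
  simp only [mul_inv_rev, inv_inv] at h
  rw [mul_assoc, ← h, mul_assoc]

variable (hs : IsSpecialRankOnePair A B)
include hs

theorem braid {a b : G} (h : Rel A B a b) : a * b⁻¹ * a = b⁻¹ * a * b⁻¹ := by
  have e := hs.2 a h.1 h.2.1 b h.2.2.1 h.2.2.2.1 h.2.2.2.2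
  calc a * b⁻¹ * a = (a * (b⁻¹ * a * b)) * b⁻¹ := by group
    _ = b⁻¹ * a * b⁻¹ := by rw [e]; group

theorem w_conj_left {a b : G} (h : Rel A B a b) :
    a * b⁻¹ * a * a * (a * b⁻¹ * a)⁻¹ = b⁻¹ := by
  calc a * b⁻¹ * a * a * (a * b⁻¹ * a)⁻¹ = a * b⁻¹ * a * b * a⁻¹ := by group
    _ = (b⁻¹ * a * b⁻¹) * b * a⁻¹ := by rw [braid hs h]
    _ = b⁻¹ := by group

theorem rel_inv {a b : G} (h : Rel A B a b) : Rel A B a⁻¹ b⁻¹ := by
  obtain ⟨ha, ha1, hb, hb1, -⟩ := id h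
  refine ⟨inv_mem ha, inv_ne_one.2 ha1, inv_mem hb, inv_ne_one.2 hb1, ?_⟩
  rw [inv_inv, inv_inv]
  have e : b * a * b⁻¹ = a * b⁻¹ * a⁻¹ := by
    calc b * a * b⁻¹ = b * (a * b⁻¹ * a) * a⁻¹ := by group
      _ = a * b⁻¹ * a⁻¹ := by rw [braid hs h]; group
  refine fix_point hs.1 (cj_unip (other_mem hs.1) (Subgroup.mem_sup_left ha)) (x := b * a * b⁻¹)
    (e ▸ cj_mem (inv_mem hb) a) (fun e0 => ha1 (conj_eq_one_iff.1 e0)) (cj_unip (self_mem hs.1) (Subgroup.mem_sup_right hb)) ?_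
  exact cj_of_mem (cj_mem ha b)

theorem w_maps {a b : G} (h : Rel A B a b) :
    conjBy B (a * b⁻¹ * a) = A := by
  have h' := (rel_inv hs h).2.2.2.2
  rw [inv_inv, inv_inv] at h'
  calc conjBy B (a * b⁻¹ * a) = conjBy (conjBy (conjBy B a) b⁻¹) a := by rw [cj_cj, cj_cj]
    _ = A := by rw [← h', cj_inv_cj, cj_of_mem h.1]

theorem pow_eq_one_iff_rel {a b : G} (h : Rel A B a b) (n : ℕ) : a ^ n = 1 ↔ b ^ n = 1 := by
  have e := congrArg (· ^ n) (w_conj_left hs h)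
  simp only [conj_pow, inv_pow] at e
  rw [← inv_eq_one (a := b ^ n), ← e, conj_eq_one_iff]

theorem exists_pow_one_symm {m : ℕ} (hno : ∀ z ∈ A, z ^ m = 1 → z = 1) : ∀ y ∈ B, y ^ m = 1 → y = 1 := by
  intro y hy e
  by_contra hy1
  obtain ⟨x, hx⟩ := rel_exists (RankOnePair_symm hs.1) hy hy1
  exact hx.symm.2.1 (hno x hx.symm.1 ((pow_eq_one_iff_rel hs hx.symm m).2 e))

omit hs

/-- `k`-th roots through the pairing. -/
theorem root_pow : ∀ (k : ℕ) {A B : Subgroup G}, IsSpecialRankOnePair A B → IsMulCommutative A → IsMulCommutative B →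
    ∀ {a b e : G}, Rel A B a b → Rel A B e (b ^ k) → e ^ k = a := by
  intro k
  induction k using Nat.strong_induction_on with
  | _ k ih =>
  intro A B hs hA hB a b e hab heb
  have hAc : ∀ x ∈ A, ∀ y ∈ A, Commute x y := fun x hx y hy =>
    congrArg Subtype.val (hA.is_comm.comm (⟨x, hx⟩ : A) ⟨y, hy⟩)
  have hBA := RankOnePair_symm hs.1
  rcases Nat.lt_or_ge k 2 with hk | hk
  · interval_cases k
    · exact absurd (pow_zero b) heb.2.2.2.1
    · rw [pow_one] at heb ⊢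
      exact rel_unique hBA heb.symm hab.symm
  by_cases htor : ∃ z ∈ A, z ≠ 1 ∧ z ^ (k - 1) = 1
  · -- an exponent smaller than `k`
    obtain ⟨z₀, hz₀, hz₀1, hz₀k⟩ := htor
    obtain ⟨q, hq, hqd⟩ := Nat.exists_prime_and_dvd (fun e => hz₀1 (orderOf_eq_one_iff.1 e) : orderOf z₀ ≠ 1)
    have hqk : q < k := by
      have := Nat.le_of_dvd (by omega) (hqd.trans (orderOf_dvd_of_pow_eq_one hz₀k))
      omega
    have hfin : 0 < orderOf z₀ := Nat.pos_of_dvd_of_pos (orderOf_dvd_of_pow_eq_one hz₀k) (by omega)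
    set z := z₀ ^ (orderOf z₀ / q)
    have hz : z ∈ A := pow_mem hz₀ _
    have hzq : z ^ q = 1 := by rw [← pow_mul, Nat.div_mul_cancel hqd, pow_orderOf_eq_one]
    have hz1 : z ≠ 1 := fun e0 => by
      have h1 := Nat.le_of_dvd (Nat.div_pos (Nat.le_of_dvd hfin hqd) hq.pos) (orderOf_dvd_of_pow_eq_one e0)
      have h2 := Nat.div_lt_self hfin hq.one_lt
      omega
    have hexpA : ∀ x ∈ A, x ^ q = 1 := by
      intro x hx
      by_contra hxq
      have hzx : (z * x) ^ q = x ^ q := by rw [(hAc z hz x hx).mul_pow, hzq, one_mul]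
      obtain ⟨c, hc⟩ := rel_exists hs.1 (pow_mem hx q) hxq
      obtain ⟨b1, hb1⟩ := rel_exists hs.1 hx (fun e0 => hxq (by rw [e0, one_pow]))
      obtain ⟨b2, hb2⟩ := rel_exists hs.1 (mul_mem hz hx) (fun e0 => hxq (by rw [← hzx, e0, one_pow]))
      have e1 := ih q hqk (special_symm hs) hB hA hb1.symm hc.symm
      have e2 := ih q hqk (special_symm hs) hB hA hb2.symm (hzx.symm ▸ hc.symm)
      have e3 : b1 = b2 := e1.symm.trans e2
      have := rel_unique hBA (e3 ▸ hb1.symm) hb2.symm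
      exact hz1 (by simpa using this.symm)
    have hexpB : b ^ q = 1 := (pow_eq_one_iff_rel hs hab q).1 (hexpA a hab.1)
    have hkr : ∀ x : G, x ^ q = 1 → x ^ k = x ^ (k % q) := fun x hx => by
      conv_lhs => rw [← Nat.div_add_mod k q, pow_add, pow_mul, hx, one_pow, one_mul]
    rw [hkr b hexpB] at heb
    rw [hkr e (hexpA e heb.1)]
    exact ih (k % q) ((Nat.mod_lt k hq.pos).trans hqk) hs hA hB hab heb
  push Not at htor
  have hnoA : ∀ x ∈ A, x ^ (k - 1) = 1 → x = 1 := fun x hx e0 => by_contra fun hx1 => htor x hx hx1 e0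
  have hnoB := exists_pow_one_symm hs hnoA
  obtain ⟨C, hC⟩ := rel_exists hs.1 (pow_mem hab.1 (k - 1)) (fun e0 => hab.2.1 (hnoA a hab.1 e0))
  have hCk : C ^ (k - 1) = b := ih (k - 1) (by omega) (special_symm hs) hB hA hab.symm hC.symm
  set w := a * b⁻¹ * a with hw
  have hk1 : a ^ k = a * a ^ (k - 1) := by rw [← pow_succ', Nat.sub_add_cancel (by omega : 1 ≤ k)]
  have hCk' : C ^ k = b * C := by rw [← hCk, ← pow_succ, Nat.sub_add_cancel (by omega : 1 ≤ k)]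
  have hCinv := (rel_inv hs hC).2.2.2.2
  rw [inv_inv, inv_inv] at hCinv
  have hwB := w_maps hs hab
  have hwa : ∀ n : ℕ, w * (a ^ n)⁻¹ * w⁻¹ = b ^ n := fun n => by
    rw [← conj_inv, ← conj_pow, w_conj_left hs hab, inv_pow, inv_inv]
  -- the two values of the same point
  have h0 : conjBy B e = conjBy (conjBy A (C ^ k)⁻¹) a := by
    have hlhs : conjBy (conjBy B (a ^ k)⁻¹) w = conjBy A (b ^ k) := by
      rw [cj_cj, show w * (a ^ k)⁻¹ = (w * (a ^ k)⁻¹ * w⁻¹) * w by group, hwa, ← cj_cj, hwB]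
    have hrhs : conjBy (conjBy B (a ^ k)⁻¹) w = conjBy (conjBy A (C ^ k)⁻¹) a := by
      rw [hw, hk1, cj_cj, show a * b⁻¹ * a * (a * a ^ (k - 1))⁻¹ = a * b⁻¹ * (a * (a ^ (k - 1))⁻¹ * a⁻¹) by group,
        (hAc a hab.1 _ (inv_mem (pow_mem hab.1 (k - 1)))).eq, mul_inv_cancel_right, ← cj_cj, ← hC.2.2.2.2, cj_cj,
        cj_cj, hCk']
      congr 1
      rw [show b * C = C * b from congrArg Subtype.val (hB.is_comm.comm (⟨b, hab.2.2.1⟩ : B) ⟨C, hC.2.2.1⟩)]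
      group
    have he' := (rel_inv hs heb).2.2.2.2
    rw [inv_inv, inv_inv] at he'
    exact he'.symm.trans (hlhs.symm.trans hrhs)
  have hCk1 : C ^ k ≠ 1 := fun e0 => by
    rw [e0, inv_one, cj_one, cj_of_mem hab.1] at h0
    exact cj_B_ne hs.1 heb.1 h0
  obtain ⟨g, hg⟩ := rel_exists hBA (pow_mem hC.2.2.1 k) hCk1
  rw [hg.symm.2.2.2.2, cj_cj] at h0
  have heg : e = a * g⁻¹ := reg_inj hs.1 heb.1 (mul_mem hab.1 (inv_mem hg.symm.1)) h0
  obtain ⟨D, hD⟩ := rel_exists hs.1 (pow_mem heb.1 (k - 1)) (fun e0 => heb.2.1 (hnoA e heb.1 e0))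
  have hDk : D ^ (k - 1) = b ^ k := ih (k - 1) (by omega) (special_symm hs) hB hA heb.symm hD.symm
  have hDC : D = C ^ k := by
    have h1 : (D⁻¹ * C ^ k) ^ (k - 1) = 1 := by
      rw [Commute.mul_pow (show Commute D⁻¹ (C ^ k) from congrArg Subtype.val
        (hB.is_comm.comm (⟨_, inv_mem hD.2.2.1⟩ : B) ⟨_, pow_mem hC.2.2.1 k⟩)), inv_pow, hDk, ← pow_mul, mul_comm k,
        pow_mul, hCk, inv_mul_cancel]
    exact inv_mul_eq_one.1 (hnoB _ (mul_mem (inv_mem hD.2.2.1) (pow_mem hC.2.2.1 k)) h1)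
  have hge : g = e ^ (k - 1) := rel_unique hBA hg (hDC ▸ hD.symm)
  calc e ^ k = e ^ (k - 1) * e := by rw [← pow_succ, Nat.sub_add_cancel (by omega : 1 ≤ k)]
    _ = g * (a * g⁻¹) := by rw [← hge, heg]
    _ = a := by rw [← mul_assoc, (hAc g hg.symm.1 a hab.1).eq, mul_inv_cancel_right]

/-- The unipotent subgroups are elementary abelian or torsion-free and divisible. -/
theorem special_torsion (hs : IsSpecialRankOnePair A B) (hab : HasAbelianUnipotents A B) :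
    (∃ p : ℕ, p.Prime ∧ IsElementaryAbelian p A) ∨
    ((∀ a ∈ A, a ≠ 1 → ¬ IsOfFinOrder a) ∧ ∀ a ∈ A, ∀ n : ℕ, 0 < n → ∃ c ∈ A, c ^ n = a) := by
  obtain ⟨hA, hB⟩ := hab
  by_cases hex : ∃ a ∈ A, a ≠ 1 ∧ IsOfFinOrder a
  · obtain ⟨z₀, hz₀, hz₀1, hfin⟩ := hex
    obtain ⟨q, hq, hqd⟩ := Nat.exists_prime_and_dvd (fun e => hz₀1 (orderOf_eq_one_iff.1 e) : orderOf z₀ ≠ 1)
    refine Or.inl ⟨q, hq, hA, fun x hx => ?_⟩
    set z := z₀ ^ (orderOf z₀ / q)
    have hz : z ∈ A := pow_mem hz₀ _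
    have hzq : z ^ q = 1 := by rw [← pow_mul, Nat.div_mul_cancel hqd, pow_orderOf_eq_one]
    have hz1 : z ≠ 1 := fun e0 => by
      have h1 := Nat.le_of_dvd (Nat.div_pos (Nat.le_of_dvd hfin.orderOf_pos hqd) hq.pos) (orderOf_dvd_of_pow_eq_one e0)
      have h2 := Nat.div_lt_self hfin.orderOf_pos hq.one_lt
      omega
    by_contra hxq
    have hzx : (z * x) ^ q = x ^ q := by
      rw [Commute.mul_pow (show Commute z x from congrArg Subtype.val (hA.is_comm.comm (⟨z, hz⟩ : A) ⟨x, hx⟩)), hzq, one_mul]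
    obtain ⟨c, hc⟩ := rel_exists hs.1 (pow_mem hx q) hxq
    obtain ⟨b1, hb1⟩ := rel_exists hs.1 hx (fun e0 => hxq (by rw [e0, one_pow]))
    obtain ⟨b2, hb2⟩ := rel_exists hs.1 (mul_mem hz hx) (fun e0 => hxq (by rw [← hzx, e0, one_pow]))
    have e1 := root_pow q (special_symm hs) hB hA hb1.symm hc.symm
    have e2 := root_pow q (special_symm hs) hB hA hb2.symm (hzx.symm ▸ hc.symm)
    have e3 : b1 = b2 := e1.symm.trans e2
    have := rel_unique (RankOnePair_symm hs.1) (e3 ▸ hb1.symm) hb2.symm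
    exact hz1 (by simpa using this.symm)
  · refine Or.inr ⟨fun a ha ha1 hf => hex ⟨a, ha, ha1, hf⟩, fun a ha n hn => ?_⟩
    rcases eq_or_ne a 1 with rfl | ha1
    · exact ⟨1, one_mem _, one_pow n⟩
    obtain ⟨b, hb⟩ := rel_exists hs.1 ha ha1
    have hbn : b ^ n ≠ 1 := fun e0 => hex ⟨a, ha, ha1, isOfFinOrder_iff_pow_eq_one.2 ⟨n, hn, (pow_eq_one_iff_rel hs hb n).2 e0⟩⟩
    obtain ⟨e, he⟩ := rel_exists (RankOnePair_symm hs.1) (pow_mem hb.2.2.1 n) hbn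
    exact ⟨e, he.symm.1, root_pow n hs hA hB hb he.symm⟩

end CfsgLib.Inv.RankOne
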