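import Cfsg.Agent.Inv.RootLine

/-!
Members inside a line, and connected components of rank one pairs.
-/

set_option autoImplicit false

namespace CfsgLib.Inv.RootSet

open Cfsg CfsgLib.Inv.RankOne
open scoped commutatorElement

variable {G : Type*} [Group G] {S : Set (Subgroup G)}

theorem not_isolated_conj (hS : IsRootSubgroupSet S) {A : Subgroup G} (hA : A ∈ S)
    (hp : ¬ IsIsolatedIn (FAdj S) S A) (g : G) : ¬ IsIsolatedIn (FAdj S) S (conjBy A g) := by
  obtain ⟨D, hD⟩ := partner_of_not_isolated hS hp hA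
  exact not_isolated_of_partner (hS.conj_mem A hA g) ⟨hS.conj_mem D hD.1 g, pair_conj hD.2 g⟩

theorem mem_sup_central {A C : Subgroup G} (hc : ∀ a ∈ A, ∀ c ∈ C, a * c = c * a) {m : G} (hm : m ∈ A ⊔ C) :
    ∃ a ∈ A, ∃ c ∈ C, a * c = m := by
  refine Subgroup.closure_induction (p := fun x _ => ∃ a ∈ A, ∃ c ∈ C, a * c = x) ?_ ?_ ?_ ?_
    (show m ∈ Subgroup.closure ((A : Set G) ∪ C) by rwa [Subgroup.closure_union, Subgroup.closure_eq, Subgroup.closure_eq])
  · rintro x (hx | hx)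
    · exact ⟨x, hx, 1, one_mem _, mul_one x⟩
    · exact ⟨1, one_mem _, x, hx, one_mul x⟩
  · exact ⟨1, one_mem _, 1, one_mem _, one_mul _⟩
  · rintro _ _ _ _ ⟨a, ha, c, hc', rfl⟩ ⟨a', ha', c', hc'', rfl⟩
    refine ⟨a * a', mul_mem ha ha', c * c', mul_mem hc' hc'', ?_⟩
    calc a * a' * (c * c') = a * (a' * c) * c' := by group
      _ = a * c * (a' * c') := by rw [hc a' ha' c hc']; group
  · rintro _ _ ⟨a, ha, c, hc', rfl⟩
    exact ⟨a⁻¹, inv_mem ha, c⁻¹, inv_mem hc', by rw [mul_inv_rev, hc a⁻¹ (inv_mem ha) c⁻¹ (inv_mem hc')]⟩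

theorem closure_hom_image {B C : Subgroup G} {f : G → G} (hBC : ∀ b ∈ B, f b ∈ C)
    (hmul : ∀ b ∈ B, ∀ b' ∈ B, f (b * b') = f b * f b') (hgen : Subgroup.closure (f '' (B : Set G)) = C) :
    ∀ c ∈ C, ∃ b ∈ B, f b = c := by
  have h1 : f 1 = 1 := by
    have := hmul 1 (one_mem _) 1 (one_mem _)
    rw [one_mul] at this
    simpa using this
  intro c hc
  rw [← hgen] at hc
  induction hc using Subgroup.closure_induction with
  | mem x hx => obtain ⟨b, hb, rfl⟩ := hx; exact ⟨b, hb, rfl⟩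
  | one => exact ⟨1, one_mem _, h1⟩
  | mul x y _ _ ihx ihy =>
    obtain ⟨b, hb, rfl⟩ := ihx; obtain ⟨b', hb', rfl⟩ := ihy
    exact ⟨b * b', mul_mem hb hb', hmul b hb b' hb'⟩
  | inv x _ ih =>
    obtain ⟨b, hb, rfl⟩ := ih
    exact ⟨b⁻¹, inv_mem hb, eq_inv_of_mul_eq_one_left (by rw [← hmul _ (inv_mem hb) b hb, inv_mul_cancel, h1])⟩

/-- Commutation with a fixed element is a homomorphism in the commutator case. -/
theorem rcc_hom (hS : IsRootSubgroupSet S) {A B : Subgroup G} (hB : B ∈ S) (h : RootCommutatorCase S A B) {a : G}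
    (ha : a ∈ A) {b b' : G} (hb : b ∈ B) (hb' : b' ∈ B) :
    a * (b * b') * a⁻¹ * (b * b')⁻¹ = (a * b * a⁻¹ * b⁻¹) * (a * b' * a⁻¹ * b'⁻¹) := by
  have hc : a * b' * a⁻¹ * b'⁻¹ ∈ ⁅A, B⁆ := by
    rw [← commutatorElement_def]; exact Subgroup.commutator_mem_commutator ha hb'
  have h1 := h.2.1 _ hc b⁻¹ (inv_mem (Subgroup.mem_sup_right hb))
  calc a * (b * b') * a⁻¹ * (b * b')⁻¹ = a * b * a⁻¹ * ((a * b' * a⁻¹ * b'⁻¹) * b⁻¹) := by group
    _ = (a * b * a⁻¹ * b⁻¹) * (a * b' * a⁻¹ * b'⁻¹) := by rw [h1]; group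

/-- The members inside the line of `A` and `⁅A, B⁆`. -/
theorem line_members (hS : IsRootSubgroupSet S) {A B : Subgroup G} (hA : ¬ IsIsolatedIn (FAdj S) S A) (hAS : A ∈ S)
    (hB : B ∈ S) (hC : ⁅A, B⁆ ∈ S) :
    membersIn S (A ⊔ ⁅A, B⁆) = (fun b : G => conjBy A b) '' (B : Set G) ∪ {⁅A, B⁆} ∧
    IsSubgroupPartition (A ⊔ ⁅A, B⁆) (membersIn S (A ⊔ ⁅A, B⁆)) ∧
    A ∈ linePartners S ⁅A, B⁆ ∧
    ∀ a ∈ A, a ≠ 1 → ∃ φ : ↥B ≃* ↥⁅A, B⁆, ∀ b : ↥B, (φ b : G) = a⁻¹ * (b : G)⁻¹ * a * b := by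
  have hR := commutator_case hS hAS hB hC
  set C := ⁅A, B⁆ with hCdef
  have hCc : ∀ c ∈ C, ∀ x ∈ A ⊔ B, c * x = x * c := hR.2.1
  have hAC : ∀ a ∈ A, ∀ c ∈ C, a * c = c * a := fun a ha c hc => (hCc c hc a (Subgroup.mem_sup_left ha)).symm
  have hmem : ∀ a ∈ A, ∀ b ∈ B, a * b * a⁻¹ * b⁻¹ ∈ C := fun a ha b hb => by
    rw [← commutatorElement_def]; exact Subgroup.commutator_mem_commutator ha hb
  have hne : A ≠ C := fun e => by
    refine hS.ne_bot C hC ?_
    rw [hCdef, Subgroup.commutator_eq_bot_iff_le_centralizer]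
    exact fun x hx y hy => (hCc x (e ▸ hx) y (Subgroup.mem_sup_right hy)).symm
  have hTI : A ⊓ C = ⊥ := (member_ti hS hA hAS hC).resolve_right hne
  have hinj : ∀ a ∈ A, a ≠ 1 → ∀ b ∈ B, a * b = b * a → b = 1 := fun a ha ha1 b hb e =>
    by_contra fun hb1 => commutator_commutes_false hS hAS hA hR ha ha1 hb hb1 e
  have hsurj : ∀ a ∈ A, a ≠ 1 → ∀ c ∈ C, ∃ b ∈ B, a * b * a⁻¹ * b⁻¹ = c := fun a ha ha1 =>
    closure_hom_image (f := fun b => a * b * a⁻¹ * b⁻¹) (hmem a ha) (fun b hb b' hb' => rcc_hom hS hB hR ha hb hb')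
      (hR.2.2.1 a ha ha1)
  have hcj : ∀ b ∈ B, conjBy A b ≤ A ⊔ C := by
    rintro b hb _ ⟨a, ha, rfl⟩
    show b * a * b⁻¹ ∈ A ⊔ C
    rw [show b * a * b⁻¹ = (a * b * a⁻¹ * b⁻¹)⁻¹ * a by group]
    exact mul_mem (Subgroup.mem_sup_right (inv_mem (hmem a ha b hb))) (Subgroup.mem_sup_left ha)
  have hcover : ∀ m ∈ A ⊔ C, m ∉ C → ∃ b ∈ B, m ∈ conjBy A b := by
    intro m hm hmC
    obtain ⟨a, ha, c, hc, rfl⟩ := mem_sup_central hAC hm
    have ha1 : a ≠ 1 := fun e => hmC (by rwa [e, one_mul])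
    obtain ⟨b, hb, e⟩ := hsurj a ha ha1 c⁻¹ (inv_mem hc)
    refine ⟨b, hb, ⟨a, ha, ?_⟩⟩
    show b * a * b⁻¹ = a * c
    rw [hAC a ha c hc, show b * a * b⁻¹ = (a * b * a⁻¹ * b⁻¹)⁻¹ * a by group, e, inv_inv]
  have hp : ∀ b : G, ¬ IsIsolatedIn (FAdj S) S (conjBy A b) := not_isolated_conj hS hAS hA
  have hdisjC : ∀ b ∈ B, conjBy A b ⊓ C = ⊥ := fun b hb => by
    refine (member_ti hS (hp b) (hS.conj_mem A hAS b) hC).resolve_right fun e => hne ?_
    refine cj_inj (g := b) (e.trans ?_)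
    exact (cj_of_comm fun x hx => (hCc x hx b (Subgroup.mem_sup_right hb)).symm).symm
  obtain ⟨a₀, ha₀, ha₀1⟩ := (Subgroup.bot_or_exists_ne_one A).resolve_left (hS.ne_bot A hAS)
  obtain ⟨D, hD⟩ := partner_of_not_isolated hS hA hAS
  have hcases : ∀ M ∈ membersIn S (A ⊔ C), (∃ b ∈ B, M = conjBy A b) ∨ M = C := by
    rintro M ⟨hM, hle⟩
    by_cases hMC : M ≤ C
    · refine Or.inr (le_antisymm hMC fun c hc => ?_)
      obtain ⟨m, hm, hm1⟩ := (Subgroup.bot_or_exists_ne_one M).resolve_left (hS.ne_bot M hM)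
      rcases hS.pair C hC D hD.1 with hh | hh | hh
      · by_contra hcM
        have hc1 : c ≠ 1 := fun e => hcM (e ▸ one_mem M)
        have hz : c ∈ Subgroup.centralizer ((A ⊔ D : Subgroup G) : Set G) := fun w hw => by
          have hle' : A ⊔ D ≤ Subgroup.centralizer ({c} : Set G) := sup_le
            (fun w hw => Subgroup.mem_centralizer_singleton_iff.2 (hAC w hw c hc))
            (fun w hw => Subgroup.mem_centralizer_singleton_iff.2 (comm_of_bot hh hc hw).symm)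
          exact Subgroup.mem_centralizer_singleton_iff.1 (hle' hw)
        obtain ⟨b, hb, e⟩ := hsurj a₀ ha₀ ha₀1 c⁻¹ (inv_mem hc)
        refine translate_not_root hS hAS hD hz hc1 ha₀ ha₀1 ?_
        have e2 : c * a₀ = b * a₀ * b⁻¹ := by
          rw [show b * a₀ * b⁻¹ = (a₀ * b * a₀⁻¹ * b⁻¹)⁻¹ * a₀ by group, e, inv_inv]
        rw [e2]
        exact ⟨fun e0 => ha₀1 (conj_eq_one_iff.1 e0), _, hS.conj_mem A hAS b, cj_mem ha₀ b⟩
      · have hpC : ¬ IsIsolatedIn (FAdj S) S C := not_isolated_of_partner hC ⟨hD.1, hh⟩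
        rcases member_ti hS hpC hC hM with e | e
        · exact absurd (Subgroup.mem_bot.1 (e ▸ Subgroup.mem_inf.2 ⟨hMC hm, hm⟩ : m ∈ (⊥ : Subgroup G))) hm1
        · rw [← e]; exact hc
      · obtain ⟨d, hd, hd1⟩ := (Subgroup.bot_or_exists_ne_one D).resolve_left (hS.ne_bot D hD.1)
        have hpD : ¬ IsIsolatedIn (FAdj S) S D := not_isolated_of_partner hD.1 ⟨hAS, RankOnePair_symm hD.2⟩
        have hR' := rcc_symm hh
        rcases hS.pair M hM D hD.1 with hm' | hm' | hm'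
        · exact absurd (comm_of_bot hm' hm hd) fun e =>
            commutes_false hS hC hD.1 (Or.inr hpD) hh (hMC hm) hm1 hd hd1 e
        · obtain ⟨d0, hd0, hd01⟩ := (Subgroup.bot_or_exists_ne_one D).resolve_left (hS.ne_bot D hD.1)
          refine absurd (inf_norm hm' hm (not_comm_points hm' (cj_unip (other_mem hm') (Subgroup.mem_sup_left hm))
            (other_mem hm') (unip_ne_bot hm' (other_mem hm')) fun y hy z hz => ?_)) hm1
          exact conj_commutes hS hD.1 hh (hMC hm) hy hz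
        · -- both sides map onto the commutator through the same element
          have hmD : ∀ x ∈ C, d * x * d⁻¹ * x⁻¹ ∈ ⁅D, C⁆ := fun x hx => by
            rw [← commutatorElement_def]; exact Subgroup.commutator_mem_commutator hd hx
          have hle2 : ⁅D, M⁆ = ⁅D, C⁆ := by
            refine le_antisymm (Subgroup.commutator_mono le_rfl hMC) ?_
            rw [← hR'.2.2.2 m (hMC hm) hm1, Subgroup.closure_le]
            rintro _ ⟨x, hx, rfl⟩
            show x * m * x⁻¹ * m⁻¹ ∈ ⁅D, M⁆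
            rw [← commutatorElement_def]; exact Subgroup.commutator_mem_commutator hx hm
          have hRM := rcc_symm hm'
          obtain ⟨m', hm'', e⟩ := closure_hom_image (f := fun x => d * x * d⁻¹ * x⁻¹) (B := M) (C := ⁅D, M⁆)
            (fun x hx => by rw [← commutatorElement_def]; exact Subgroup.commutator_mem_commutator hd hx)
            (fun x hx y hy => rcc_hom hS hM hRM hd hx hy) (hRM.2.2.1 d hd hd1) _ (hle2 ▸ hmD c hc)
          have hcm : c * m'⁻¹ = 1 := by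
            by_contra hne1
            refine commutes_false hS hC hD.1 (Or.inr hpD) hh (mul_mem hc (inv_mem (hMC hm''))) hne1 hd hd1 ?_
            have h1 := rcc_hom hS hC hR' hd (mul_mem hc (inv_mem (hMC hm''))) (hMC hm'')
            rw [inv_mul_cancel_right, e] at h1
            have h2 : d * (c * m'⁻¹) * d⁻¹ * (c * m'⁻¹)⁻¹ = 1 := mul_right_cancel (b := d * c * d⁻¹ * c⁻¹) (by rw [one_mul, ← h1])
            exact (mul_inv_eq_iff_eq_mul.1 (mul_inv_eq_one.1 h2)).symm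
          rw [mul_inv_eq_one.1 hcm]
          exact hm''
    · left
      obtain ⟨m, hm, hmC⟩ := SetLike.not_le_iff_exists.1 hMC
      obtain ⟨b, hb, hmb⟩ := hcover m (hle hm) hmC
      refine ⟨b, hb, ((member_ti hS (hp b) (hS.conj_mem A hAS b) hM).resolve_left fun e => hmC ?_).symm⟩
      rw [Subgroup.mem_bot.1 (e ▸ Subgroup.mem_inf.2 ⟨hmb, hm⟩ : m ∈ (⊥ : Subgroup G))]
      exact one_mem _
  have hset : membersIn S (A ⊔ C) = (fun b : G => conjBy A b) '' (B : Set G) ∪ {C} := by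
    ext M
    constructor
    · intro hM
      rcases hcases M hM with ⟨b, hb, e⟩ | e
      · exact Or.inl ⟨b, hb, e.symm⟩
      · exact Or.inr e
    · rintro (⟨b, hb, rfl⟩ | rfl)
      · exact ⟨hS.conj_mem A hAS b, hcj b hb⟩
      · exact ⟨hC, le_sup_right⟩
  have hpart : IsSubgroupPartition (A ⊔ C) (membersIn S (A ⊔ C)) := by
    refine ⟨fun M hM => hM.2, fun x hx hx1 => ?_, fun M hM N hN hMN => ?_⟩
    · by_cases hxC : x ∈ C
      · exact ⟨C, ⟨hC, le_sup_right⟩, hxC⟩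
      · obtain ⟨b, hb, hxb⟩ := hcover x hx hxC
        exact ⟨_, ⟨hS.conj_mem A hAS b, hcj b hb⟩, hxb⟩
    · rcases hcases M hM with ⟨b, hb, rfl⟩ | rfl
      · exact (member_ti hS (hp b) hM.1 hN.1).resolve_right hMN
      · rcases hcases N hN with ⟨b, hb, rfl⟩ | rfl
        · rw [inf_comm]; exact hdisjC b hb
        · exact absurd rfl hMN
  refine ⟨hset, hpart, ⟨⟨hAS, hne, ?_⟩, sup_comm A C ▸ hpart⟩, fun a ha ha1 => ?_⟩
  · rw [Subgroup.commutator_eq_bot_iff_le_centralizer]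
    exact fun c hc x hx => hAC x hx c hc
  · have hf : ∀ b ∈ B, a⁻¹ * b⁻¹ * a * b = a⁻¹ * b⁻¹ * a⁻¹⁻¹ * b⁻¹⁻¹ := fun b _ => by rw [inv_inv, inv_inv]
    let f : ↥B →* ↥C :=
      { toFun := fun b => ⟨a⁻¹ * (b : G)⁻¹ * a * b, by
          rw [hf b b.2]; exact hmem _ (inv_mem ha) _ (inv_mem b.2)⟩
        map_one' := Subtype.ext (by simp)
        map_mul' := fun b b' => Subtype.ext (by
          have h1 := rcc_hom hS hB hR (inv_mem ha) (inv_mem b.2) (inv_mem b'.2)
          rw [← hf b b.2, ← hf b' b'.2] at h1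
          show a⁻¹ * ((b : G) * b')⁻¹ * a * ((b : G) * b') = (a⁻¹ * (b : G)⁻¹ * a * b) * (a⁻¹ * (b' : G)⁻¹ * a * b')
          rw [← h1, inv_inv, mul_inv_rev, mul_inv_rev, inv_inv, inv_inv,
            show (b : G)⁻¹ * (b' : G)⁻¹ = (b' : G)⁻¹ * (b : G)⁻¹ from cj_fix_of_comm hS hB (inv_mem b.2) _ (inv_mem b'.2),
            show (b' : G) * b = b * b' from cj_fix_of_comm hS hB b'.2 _ b.2]) }
    have hfc : ∀ b : B, ((f b : C) : G) = a⁻¹ * (b : G)⁻¹ * a * b := fun _ => rfl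
    have hbij : Function.Bijective f := by
      refine ⟨(injective_iff_map_eq_one f).2 fun b hb => Subtype.ext (hinj a ha ha1 _ b.2 ?_), fun c => ?_⟩
      · have h1 : a⁻¹ * (b : G)⁻¹ * a * b = 1 := congrArg Subtype.val hb
        calc a * (b : G) = (b : G) * a * (a⁻¹ * (b : G)⁻¹ * a * b) := by group
          _ = (b : G) * a := by rw [h1, mul_one]
      · obtain ⟨b, hb, e⟩ := hsurj a⁻¹ (inv_mem ha) (inv_ne_one.2 ha1) c c.2
        refine ⟨⟨b⁻¹, inv_mem hb⟩, Subtype.ext ?_⟩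
        rw [hfc, ← e, inv_inv, inv_inv]
    exact ⟨MulEquiv.ofBijective f hbij, fun b => hfc b⟩

theorem reach_conj (hS : IsRootSubgroupSet S) {A B : Subgroup G} (h : Relation.ReflTransGen (FAdj S) A B) (g : G) :
    Relation.ReflTransGen (FAdj S) (conjBy A g) (conjBy B g) := by
  induction h with
  | refl => exact Relation.ReflTransGen.refl
  | tail _ hbc ih => exact ih.tail ⟨hS.conj_mem _ hbc.1 g, hS.conj_mem _ hbc.2.1 g, pair_conj hbc.2.2 g⟩

theorem isConj_of_reach {A B : Subgroup G} (h : Relation.ReflTransGen (FAdj S) A B) : ∃ g : G, B = conjBy A g := by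
  induction h with
  | refl => exact ⟨1, cj_one.symm⟩
  | tail _ hbc ih =>
    obtain ⟨g, rfl⟩ := ih
    obtain ⟨x, -, e⟩ := other_mem hbc.2.2
    exact ⟨x * g, by rw [e, cj_cj]⟩

/-- A member outside a component either lies in it or commutes with all of it. -/
theorem reach_or_commute (hS : IsRootSubgroupSet S) (hall : ∀ X ∈ S, ¬ IsIsolatedIn (FAdj S) S X)
    {X C : Subgroup G} (hX : X ∈ S) (hC : C ∈ S) :
    Relation.ReflTransGen (FAdj S) X C ∨ ⁅C, X⁆ = ⊥ := by
  rcases hS.pair C hC X hX with h | h | h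
  · exact Or.inr h
  · exact Or.inl (Relation.ReflTransGen.single ⟨hX, hC, RankOnePair_symm h⟩)
  · left
    have hE := h.1
    have h1 := (line_members hS (hall C hC) hC hX hE).2.2.1
    have hE' : ⁅X, C⁆ ∈ S := (Subgroup.commutator_comm X C).symm ▸ hE
    have h2 := (line_members hS (hall X hX) hX hC hE').2.2.1
    rw [Subgroup.commutator_comm X C] at h2
    exact (fadj_reach_symm (line_partner_reach hS hE (hall _ hE) (hall X hX) h2)).trans
      (line_partner_reach hS hE (hall _ hE) (hall C hC) h1)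

theorem connected_iff (hS : IsRootSubgroupSet S) (h2 : ∃ A ∈ S, ∃ B ∈ S, A ≠ B) :
    IsConnectedFamily (FAdj S) S ↔
      (IsConjClassOfSubgroups S ∧ ∃ A ∈ S, ¬ IsIsolatedIn (FAdj S) S A) := by
  constructor
  · intro hc
    obtain ⟨A, hA, B, hB, hne⟩ := h2
    refine ⟨⟨⟨A, hA⟩, fun X hX Y hY => isConj_of_reach (hc X hX Y hY)⟩, A, hA, fun h => ?_⟩
    rcases (hc A hA B hB).cases_head with e | ⟨c, hc', -⟩
    · exact hne e
    · exact (h.2 c).1 hc'
  · rintro ⟨⟨-, hconj⟩, A, hA, hp⟩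
    have hall : ∀ X ∈ S, ¬ IsIsolatedIn (FAdj S) S X := fun X hX => by
      obtain ⟨g, rfl⟩ := hconj A hA X hX
      exact not_isolated_conj hS hA hp g
    intro X hX Y hY
    let T : Subgroup G :=
      { carrier := {g | ∀ Z ∈ S, Relation.ReflTransGen (FAdj S) Z (conjBy Z g)}
        one_mem' := fun Z _ => by rw [cj_one]
        mul_mem' := fun {g k} hg hk Z hZ => by
          rw [← cj_cj]; exact (hk Z hZ).trans (hg _ (hS.conj_mem Z hZ k))
        inv_mem' := fun {g} hg Z hZ => by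
          have := hg _ (hS.conj_mem Z hZ g⁻¹)
          rw [cj_cj_inv] at this
          exact fadj_reach_symm this }
    have hT : (⨆ C ∈ S, C) ≤ T := iSup₂_le fun C hC c hc Z hZ => by
      rcases reach_or_commute hS hall hZ hC with h | h
      · have h' := reach_conj hS h c
        rw [cj_of_mem hc] at h'
        exact h.trans (fadj_reach_symm h')
      · rw [cj_of_comm fun z hz => comm_of_bot h hc hz]
    rw [hS.generates] at hT
    obtain ⟨g, rfl⟩ := hconj X hX Y hY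
    exact hT (Subgroup.mem_top g) X hX

theorem image_root_set {H : Type*} [Group H] (hS : IsRootSubgroupSet S) (hc : IsConnectedFamily (FAdj S) S)
    (f : G →* H) (hf : Function.Surjective f) :
    (IsRootSubgroupSet ((fun A : Subgroup G => A.map f) '' S) ∧
      IsConnectedFamily (FAdj ((fun A : Subgroup G => A.map f) '' S)) ((fun A : Subgroup G => A.map f) '' S)) ∨
    ∃ A ∈ S, A.map f = ⊤ := by
  have hmapcj : ∀ (A : Subgroup G) (g : G), (conjBy A g).map f = conjBy (A.map f) (f g) := fun A g => by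
    rw [conjBy, conjBy, Subgroup.map_map, Subgroup.map_map]
    congr 1
    ext x
    simp
  have hgen : (⨆ A ∈ (fun A : Subgroup G => A.map f) '' S, A) = ⊤ := by
    refine top_le_iff.1 ?_
    rw [← Subgroup.map_top_of_surjective f hf, ← hS.generates, Subgroup.map_iSup]
    refine iSup_le fun A => ?_
    rw [Subgroup.map_iSup]
    exact iSup_le fun hA => le_iSup₂_of_le (A.map f) ⟨A, hA, rfl⟩ le_rfl
  by_cases hbot : ∃ A ∈ S, A.map f = ⊥
  · obtain ⟨A, hA, e⟩ := hbot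
    refine Or.inr ⟨A, hA, top_le_iff.1 ?_⟩
    rw [← hgen]
    refine iSup₂_le ?_
    rintro _ ⟨B, hB, rfl⟩
    obtain ⟨g, rfl⟩ := isConj_of_reach (hc A hA B hB)
    show (conjBy A g).map f ≤ A.map f
    rw [hmapcj, e]
    simp [conjBy]
  push Not at hbot
  left
  have habel : ∀ A ∈ S, IsMulCommutative (A.map f) := fun A hA => ⟨⟨by
    rintro ⟨_, a, ha, rfl⟩ ⟨_, b, hb, rfl⟩
    exact Subtype.ext (by simp only [Subgroup.coe_mul, ← map_mul, cj_fix_of_comm hS hA ha b hb])⟩⟩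
  have hbotcomm : ∀ A ∈ S, ∀ B ∈ S, A.map f = B.map f → ⁅A.map f, B.map f⁆ = ⊥ := fun A hA B hB e => by
    rw [← e, Subgroup.commutator_eq_bot_iff_le_centralizer]
    haveI := habel A hA
    exact Subgroup.le_centralizer (A.map f)
  have hrank : ∀ A ∈ S, ∀ B ∈ S, IsRankOnePair A B → A.map f ≠ B.map f → IsRankOnePair (A.map f) (B.map f) := by
    have hcond : ∀ A B : Subgroup G, RankOneCondition A B → A.map f ≠ B.map f →
        RankOneCondition (A.map f) (B.map f) := by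
      rintro A B h hne _ ⟨a, ha, rfl⟩ ha1
      obtain ⟨b, hb, hb1, e⟩ := h a ha (fun e => ha1 (by rw [e, map_one]))
      refine ⟨f b, ⟨b, hb, rfl⟩, fun e0 => hne ?_, by rw [← map_inv, ← map_inv, ← hmapcj, ← hmapcj, e]⟩
      have h' := congrArg (fun K : Subgroup G => K.map f) e
      simp only [hmapcj, map_inv, e0, inv_one, cj_one] at h'
      refine cj_inj (g := (f a)⁻¹) ?_
      rw [← h']
      exact cj_of_mem (inv_mem ⟨a, ha, rfl⟩)
    intro A hA B hB h hne
    exact ⟨hne, @CommGroup.isNilpotent _ { (inferInstance : Group (A.map f)) with mul_comm := (habel A hA).is_comm.comm },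
      @CommGroup.isNilpotent _ { (inferInstance : Group (B.map f)) with mul_comm := (habel B hB).is_comm.comm },
      hcond A B h.cond_left hne, hcond B A h.cond_right hne.symm⟩
  refine ⟨⟨?_, ?_, hgen, ?_, ?_⟩, ?_⟩
  · rintro _ ⟨A, hA, rfl⟩; exact habel A hA
  · rintro _ ⟨A, hA, rfl⟩; exact hbot A hA
  · rintro _ ⟨A, hA, rfl⟩ g
    obtain ⟨g0, rfl⟩ := hf g
    exact ⟨conjBy A g0, hS.conj_mem A hA g0, hmapcj A g0⟩
  · rintro _ ⟨A, hA, rfl⟩ _ ⟨B, hB, rfl⟩
    rcases hS.pair A hA B hB with h | h | h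
    · left; rw [← Subgroup.map_commutator, h, Subgroup.map_bot]
    · rcases eq_or_ne (A.map f) (B.map f) with e | e
      · exact Or.inl (hbotcomm A hA B hB e)
      · exact Or.inr (Or.inl (hrank A hA B hB h e))
    · right; right
      obtain ⟨h1, h2, h3, h4⟩ := h
      refine ⟨⟨⁅A, B⁆, h1, Subgroup.map_commutator _ _ _⟩, ?_, ?_, ?_⟩
      · rw [← Subgroup.map_commutator, ← Subgroup.map_sup]
        rintro _ ⟨c, hc, rfl⟩ _ ⟨x, hx, rfl⟩
        rw [← map_mul, ← map_mul, h2 c hc x hx]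
      · rintro _ ⟨a, ha, rfl⟩ ha1
        rw [← Subgroup.map_commutator, ← h3 a ha (fun e => ha1 (by rw [e, map_one])), MonoidHom.map_closure,
          Subgroup.coe_map, Set.image_image, Set.image_image]
        simp only [map_mul, map_inv]
      · rintro _ ⟨b, hb, rfl⟩ hb1
        rw [← Subgroup.map_commutator, ← h4 b hb (fun e => hb1 (by rw [e, map_one])), MonoidHom.map_closure,
          Subgroup.coe_map, Set.image_image, Set.image_image]
        simp only [map_mul, map_inv]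
  · rintro _ ⟨A, hA, rfl⟩ _ ⟨B, hB, rfl⟩
    have key : ∀ {X Y : Subgroup G}, Relation.ReflTransGen (FAdj S) X Y →
        Relation.ReflTransGen (FAdj ((fun A : Subgroup G => A.map f) '' S)) (X.map f) (Y.map f) := by
      intro X Y h
      induction h with
      | refl => exact Relation.ReflTransGen.refl
      | @tail Y Z _ hYZ ih =>
        rcases eq_or_ne (Y.map f) (Z.map f) with e | e
        · rwa [← e]
        · exact ih.tail ⟨⟨Y, hYZ.1, rfl⟩, ⟨Z, hYZ.2.1, rfl⟩, hrank Y hYZ.1 Z hYZ.2.1 hYZ.2.2 e⟩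
    exact key (hc A hA B hB)

end CfsgLib.Inv.RootSet
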