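import Cfsg.Agent.Inv.RootSet

/-!
The commutator case, line partners, and components of the graph of rank one pairs.
-/

set_option autoImplicit false

namespace CfsgLib.Inv.RootSet

open Cfsg CfsgLib.Inv.RankOne
open scoped commutatorElement

variable {G : Type*} [Group G] {S : Set (Subgroup G)}

theorem commute_of_closure {s t : Set G} (h : ∀ a ∈ s, ∀ b ∈ t, a * b = b * a) {u v : G}
    (hu : u ∈ Subgroup.closure s) (hv : v ∈ Subgroup.closure t) : u * v = v * u := by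
  have h1 : Subgroup.closure s ≤ Subgroup.centralizer t := (Subgroup.closure_le _).2 fun a ha b hb => (h a ha b hb).symm
  have h2 : Subgroup.closure t ≤ Subgroup.centralizer ({u} : Set G) := (Subgroup.closure_le _).2 fun b hb =>
    Subgroup.mem_centralizer_singleton_iff.2 (h1 hu b hb)
  exact (Subgroup.mem_centralizer_singleton_iff.1 (h2 hv)).symm

theorem rcc_symm {A B : Subgroup G} (h : RootCommutatorCase S A B) : RootCommutatorCase S B A := by
  have hc : ⁅B, A⁆ = ⁅A, B⁆ := Subgroup.commutator_comm B A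
  obtain ⟨h1, h2, h3, h4⟩ := h
  refine ⟨hc ▸ h1, fun c hc' x hx => h2 c (hc ▸ hc') x (sup_comm B A ▸ hx), fun b hb hb1 => ?_, fun a ha ha1 => ?_⟩
  · rw [hc, ← h4 b hb hb1]
    refine le_antisymm ((Subgroup.closure_le _).2 ?_) ((Subgroup.closure_le _).2 ?_)
    · rintro _ ⟨a, ha, rfl⟩
      show b * a * b⁻¹ * a⁻¹ ∈ Subgroup.closure _
      rw [show b * a * b⁻¹ * a⁻¹ = (a * b * a⁻¹ * b⁻¹)⁻¹ by group]
      exact inv_mem (Subgroup.subset_closure ⟨a, ha, rfl⟩)
    · rintro _ ⟨a, ha, rfl⟩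
      show a * b * a⁻¹ * b⁻¹ ∈ Subgroup.closure _
      rw [show a * b * a⁻¹ * b⁻¹ = (b * a * b⁻¹ * a⁻¹)⁻¹ by group]
      exact inv_mem (Subgroup.subset_closure ⟨a, ha, rfl⟩)
  · rw [hc, ← h3 a ha ha1]
    refine le_antisymm ((Subgroup.closure_le _).2 ?_) ((Subgroup.closure_le _).2 ?_)
    · rintro _ ⟨b, hb, rfl⟩
      show b * a * b⁻¹ * a⁻¹ ∈ Subgroup.closure _
      rw [show b * a * b⁻¹ * a⁻¹ = (a * b * a⁻¹ * b⁻¹)⁻¹ by group]
      exact inv_mem (Subgroup.subset_closure ⟨b, hb, rfl⟩)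
    · rintro _ ⟨b, hb, rfl⟩
      show a * b * a⁻¹ * b⁻¹ ∈ Subgroup.closure _
      rw [show a * b * a⁻¹ * b⁻¹ = (b * a * b⁻¹ * a⁻¹)⁻¹ by group]
      exact inv_mem (Subgroup.subset_closure ⟨b, hb, rfl⟩)

theorem pair_conj {A B : Subgroup G} (h : IsRankOnePair A B) (g : G) : IsRankOnePair (conjBy A g) (conjBy B g) := by
  have hc : ∀ {A B : Subgroup G}, RankOneCondition A B → RankOneCondition (conjBy A g) (conjBy B g) := by
    intro A B hAB x hx hx1
    obtain ⟨b, hb, hb1, e⟩ := hAB _ (mem_cj.1 hx) (fun h0 => hx1 (by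
      rw [show x = g * (g⁻¹ * x * g) * g⁻¹ by group, h0]; group))
    refine ⟨g * b * g⁻¹, cj_mem hb g, fun h0 => hb1 (conj_eq_one_iff.1 h0), ?_⟩
    rw [cj_cj, cj_cj, show (g * b * g⁻¹)⁻¹ * g = g * b⁻¹ by group,
      show x⁻¹ * g = g * (g⁻¹ * x * g)⁻¹ by group, ← cj_cj, e, cj_cj]
  exact ⟨fun e => h.ne (cj_inj e),
    @Group.nilpotent_of_mulEquiv _ _ _ _ h.nilpotent_left (A.equivMapOfInjective (MulAut.conj g).toMonoidHom (MulAut.conj g).injective),
    @Group.nilpotent_of_mulEquiv _ _ _ _ h.nilpotent_right (B.equivMapOfInjective (MulAut.conj g).toMonoidHom (MulAut.conj g).injective),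
    hc h.cond_left, hc h.cond_right⟩

theorem not_isolated_of_partner {A D : Subgroup G} (hA : A ∈ S) (hD : D ∈ rankOnePartners S A) :
    ¬ IsIsolatedIn (FAdj S) S A := fun h => (h.2 D).1 ⟨hA, hD.1, hD.2⟩

/-- A partner of a member determines the rank one group from two conjugates. -/
theorem sup_two_points {A B : Subgroup G} (h : IsRankOnePair A B) {C C' : Subgroup G}
    (hC : C ∈ unipotentSubgroups A B) (hC' : C' ∈ unipotentSubgroups A B) (hne : C ≠ C') : A ⊔ B = C ⊔ C' := by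
  obtain ⟨x, hx, e1, e2⟩ := two_trans h hC hC' hne
  rw [← e1, ← e2, ← Subgroup.map_sup]
  exact (cj_of_mem hx).symm

theorem commutator_commutes_false (hS : IsRootSubgroupSet S) {A B : Subgroup G} (hA : A ∈ S)
    (hpart : ¬ IsIsolatedIn (FAdj S) S A) (hAB : RootCommutatorCase S A B)
    {a b : G} (ha : a ∈ A) (ha1 : a ≠ 1) (hb : b ∈ B) (hb1 : b ≠ 1) (hab : a * b = b * a) : False := by
  obtain ⟨hE, hcen, -, hclb⟩ := hAB
  have hne : A ≠ ⁅A, B⁆ := fun e => by
    have : ⁅A, B⁆ = ⊥ := by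
      rw [Subgroup.commutator_eq_bot_iff_le_centralizer]
      exact fun x hx y hy => (hcen x (e ▸ hx) y (Subgroup.mem_sup_right hy)).symm
    exact hS.ne_bot _ hE this
  have hTI : A ⊓ ⁅A, B⁆ = ⊥ := (member_ti hS hpart hA hE).resolve_right hne
  have hAb : conjBy A b = A := by
    rcases member_ti hS hpart hA (hS.conj_mem A hA b) with e | e
    · have hm : a ∈ A ⊓ conjBy A b := ⟨ha, mem_cj.2 (by rw [mul_assoc, hab, inv_mul_cancel_left]; exact ha)⟩
      rw [e, Subgroup.mem_bot] at hm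
      exact absurd hm ha1
    · exact e.symm
  refine hS.ne_bot _ hE ?_
  rw [← hclb b hb hb1, Subgroup.closure_eq_bot_iff]
  rintro _ ⟨x, hx, rfl⟩
  have h1 : x * b * x⁻¹ * b⁻¹ ∈ A ⊓ ⁅A, B⁆ := by
    refine ⟨?_, by rw [← commutatorElement_def]; exact Subgroup.commutator_mem_commutator hx hb⟩
    have h2 : b * x⁻¹ * b⁻¹ ∈ A := hAb.le (cj_mem (inv_mem hx) b)
    have h3 := mul_mem hx h2
    rwa [← mul_assoc, ← mul_assoc] at h3
  rw [hTI] at h1
  exact h1

theorem commutes_false (hS : IsRootSubgroupSet S) {A B : Subgroup G} (hA : A ∈ S) (hB : B ∈ S)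
    (hpart : ¬ IsIsolatedIn (FAdj S) S A ∨ ¬ IsIsolatedIn (FAdj S) S B) (hAB : RootCommutatorCase S A B)
    {a b : G} (ha : a ∈ A) (ha1 : a ≠ 1) (hb : b ∈ B) (hb1 : b ≠ 1) (hab : a * b = b * a) : False :=
  hpart.elim (fun h => commutator_commutes_false hS hA h hAB ha ha1 hb hb1 hab)
    (fun h => commutator_commutes_false hS hB h (rcc_symm hAB) hb hb1 ha ha1 hab.symm)

/-- If a member `D` is a rank one partner of `A`, at most one other member of a line through `A` is in the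
commutator case with `D`. -/
theorem no_two_commutator (hS : IsRootSubgroupSet S) {A B M D : Subgroup G} (hA : A ∈ S) (hB : B ∈ S) (hM : M ∈ S)
    (hD : D ∈ rankOnePartners S A) (hAB : ⁅A, B⁆ = ⊥) {x y : G} (hx : x ∈ B) (hx1 : x ≠ 1) (hy : y ∈ M) (hy1 : y ≠ 1)
    (hxy : x * y ∈ A) (hxy1 : x * y ≠ 1) (hBD : RootCommutatorCase S B D) (hMD : RootCommutatorCase S M D) : False := by
  obtain ⟨hDS, h⟩ := hD
  have hAx : ∀ w ∈ A, w * x = x * w := fun w hw => comm_of_bot hAB hw hx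
  have cxy : x * y = y * x := by
    have := hAx _ hxy
    rw [mul_assoc] at this
    exact (mul_left_cancel this).symm
  have hAy : ∀ w ∈ A, w * y = y * w := fun w hw => by
    have h1 := (Commute.inv_right (hAx w hw : Commute w x)).mul_right (cj_fix_of_comm hS hA hw _ hxy : Commute w (x * y))
    rw [inv_mul_cancel_left] at h1
    exact h1
  set E := ⁅B, D⁆ with hEdef
  set F := ⁅M, D⁆ with hFdef
  have hES : E ∈ S := hBD.1
  have hFS : F ∈ S := hMD.1
  have hEx : ∀ e ∈ E, e * x = x * e := fun e he => hBD.2.1 e he x (Subgroup.mem_sup_left hx)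
  have hFy : ∀ f ∈ F, f * y = y * f := fun f hf => hMD.2.1 f hf y (Subgroup.mem_sup_left hy)
  have hED : ∀ e ∈ E, ∀ d ∈ D, e * d = d * e := fun e he d hd => hBD.2.1 e he d (Subgroup.mem_sup_right hd)
  have hFD : ∀ f ∈ F, ∀ d ∈ D, f * d = d * f := fun f hf d hd => hMD.2.1 f hf d (Subgroup.mem_sup_right hd)
  have hEgen := hBD.2.2.1 x hx hx1
  have hFgen := hMD.2.2.1 y hy hy1
  have hnE : ¬ IsRankOnePair A E := fun hr => by
    have hz : x⁻¹ ∈ Subgroup.centralizer ((A ⊔ E : Subgroup G) : Set G) := by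
      refine inv_mem fun w hw => ?_
      have hle : A ⊔ E ≤ Subgroup.centralizer ({x} : Set G) := sup_le
        (fun w hw => Subgroup.mem_centralizer_singleton_iff.2 (hAx w hw))
        (fun w hw => Subgroup.mem_centralizer_singleton_iff.2 (hEx w hw))
      exact Subgroup.mem_centralizer_singleton_iff.1 (hle hw)
    refine translate_not_root hS hA ⟨hES, hr⟩ hz (inv_ne_one.2 hx1) hxy hxy1 ?_
    rw [inv_mul_cancel_left]
    exact ⟨hy1, M, hM, hy⟩
  have hnF : ¬ IsRankOnePair A F := fun hr => by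
    have hz : y⁻¹ ∈ Subgroup.centralizer ((A ⊔ F : Subgroup G) : Set G) := by
      refine inv_mem fun w hw => ?_
      have hle : A ⊔ F ≤ Subgroup.centralizer ({y} : Set G) := sup_le
        (fun w hw => Subgroup.mem_centralizer_singleton_iff.2 (hAy w hw))
        (fun w hw => Subgroup.mem_centralizer_singleton_iff.2 (hFy w hw))
      exact Subgroup.mem_centralizer_singleton_iff.1 (hle hw)
    refine translate_not_root hS hA ⟨hFS, hr⟩ hz (inv_ne_one.2 hy1) hxy hxy1 ?_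
    rw [cxy, inv_mul_cancel_left]
    exact ⟨hx1, B, hB, hx⟩
  -- conjugates of `E` and `F` under `x * y`
  have hEa : ∀ e ∈ E, ∀ w ∈ E, (y * e * y⁻¹) * w = w * (y * e * y⁻¹) := by
    intro e he w hw
    have e1 : y * e * y⁻¹ = (x * y) * e * (x * y)⁻¹ := by
      calc y * e * y⁻¹ = y * (e * x) * x⁻¹ * y⁻¹ := by group
        _ = (y * x) * e * (y * x)⁻¹ := by rw [hEx e he]; group
        _ = _ := by rw [← cxy]
    rw [e1]
    rcases hS.pair A hA E hES with hh | hh | hh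
    · rw [show (x * y) * e = e * (x * y) from comm_of_bot hh hxy he, mul_inv_cancel_right]
      exact cj_fix_of_comm hS hES he w hw
    · exact absurd hh hnE
    · exact conj_commutes hS hES hh hxy (cj_mem he _) hw
  have hk : ∀ f ∈ F, (∀ w ∈ F, (x * f * x⁻¹ * f⁻¹) * w = w * (x * f * x⁻¹ * f⁻¹)) ∧
      (x * f * x⁻¹ * f⁻¹) * (x * y) = (x * y) * (x * f * x⁻¹ * f⁻¹) := by
    intro f hf
    have e1 : x * f * x⁻¹ * f⁻¹ = (x * y) * f * (x * y)⁻¹ * f⁻¹ := by
      calc x * f * x⁻¹ * f⁻¹ = x * (f * y) * y⁻¹ * x⁻¹ * f⁻¹ := by group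
        _ = _ := by rw [hFy f hf]; group
    rw [e1]
    rcases hS.pair A hA F hFS with hh | hh | hh
    · rw [show (x * y) * f = f * (x * y) from comm_of_bot hh hxy hf, mul_inv_cancel_right, mul_inv_cancel]
      exact ⟨fun w _ => by rw [one_mul, mul_one], by rw [one_mul, mul_one]⟩
    · exact absurd hh hnF
    · have hm : ⁅x * y, f⁆ ∈ ⁅A, F⁆ := Subgroup.commutator_mem_commutator hxy hf
      rw [commutatorElement_def] at hm
      exact ⟨fun w hw => hh.2.1 _ hm w (Subgroup.mem_sup_right hw), hh.2.1 _ hm _ (Subgroup.mem_sup_left hxy)⟩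
  -- generators of `E` and `F` commute
  have hEF : ∀ e ∈ E, ∀ f ∈ F, e * f = f * e := by
    rcases hS.pair E hES F hFS with hh | hh | hh
    · exact fun e he f hf => comm_of_bot hh he hf
    · exfalso
      obtain ⟨d, hd, he⟩ : ∃ d ∈ D, x * d * x⁻¹ * d⁻¹ ≠ 1 := by
        by_contra hno
        push Not at hno
        refine hS.ne_bot E hES ?_
        rw [hEdef, ← hEgen, Subgroup.closure_eq_bot_iff]
        rintro _ ⟨d, hd, rfl⟩
        exact hno d hd
      have heE : x * d * x⁻¹ * d⁻¹ ∈ E := by rw [← commutatorElement_def]; exact Subgroup.commutator_mem_commutator hx hd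
      have hz : d ∈ Subgroup.centralizer ((E ⊔ F : Subgroup G) : Set G) := fun w hw => by
        have hle : E ⊔ F ≤ Subgroup.centralizer ({d} : Set G) := sup_le
          (fun w hw => Subgroup.mem_centralizer_singleton_iff.2 (hED w hw d hd))
          (fun w hw => Subgroup.mem_centralizer_singleton_iff.2 (hFD w hw d hd))
        exact Subgroup.mem_centralizer_singleton_iff.1 (hle hw)
      have hd1 : d ≠ 1 := fun e0 => he (by rw [e0]; group)
      refine translate_not_root hS hES ⟨hFS, hh⟩ hz hd1 heE he ?_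
      rw [← hED _ heE d hd, inv_mul_cancel_right]
      exact ⟨fun e0 => hd1 (conj_eq_one_iff.1 e0), _, hS.conj_mem D hDS x, cj_mem hd x⟩
    · intro e he f hf
      rw [hEdef, ← hEgen] at he
      rw [hFdef, ← hFgen] at hf
      refine commute_of_closure ?_ he hf
      rintro _ ⟨d₁, hd₁, rfl⟩ _ ⟨d₂, hd₂, rfl⟩
      show x * d₁ * x⁻¹ * d₁⁻¹ * (y * d₂ * y⁻¹ * d₂⁻¹) = y * d₂ * y⁻¹ * d₂⁻¹ * (x * d₁ * x⁻¹ * d₁⁻¹)
      set e₁ := x * d₁ * x⁻¹ * d₁⁻¹ with he₁def
      set f₂ := y * d₂ * y⁻¹ * d₂⁻¹ with hf₂def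
      have he₁ : e₁ ∈ E := by rw [he₁def, ← commutatorElement_def]; exact Subgroup.commutator_mem_commutator hx hd₁
      have hf₂ : f₂ ∈ F := by rw [hf₂def, ← commutatorElement_def]; exact Subgroup.commutator_mem_commutator hy hd₂
      by_contra hcne
      have hH : ∀ e ∈ E, ∀ f ∈ F, ∀ w ∈ E ⊔ F, (e * f * e⁻¹ * f⁻¹) * w = w * (e * f * e⁻¹ * f⁻¹) := fun e he f hf w hw =>
        hh.2.1 _ (by rw [← commutatorElement_def]; exact Subgroup.commutator_mem_commutator he hf) w hw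
      have hid : ∀ d, x * (y * d * y⁻¹ * d⁻¹) * x⁻¹ * (y * d * y⁻¹ * d⁻¹)⁻¹ =
          (y * (x * d * x⁻¹ * d⁻¹) * y⁻¹ * (x * d * x⁻¹ * d⁻¹)⁻¹) *
          ((x * d * x⁻¹ * d⁻¹) * (y * d * y⁻¹ * d⁻¹) * (x * d * x⁻¹ * d⁻¹)⁻¹ * (y * d * y⁻¹ * d⁻¹)⁻¹) := fun d => by
        calc _ = (x * y * x⁻¹) * (x * d * x⁻¹) * (x * y * x⁻¹)⁻¹ * (x * d * x⁻¹)⁻¹ * (y * d * y⁻¹ * d⁻¹)⁻¹ := by group
          _ = y * (x * d * x⁻¹) * y⁻¹ * (x * d * x⁻¹)⁻¹ * (y * d * y⁻¹ * d⁻¹)⁻¹ := by rw [cxy, mul_inv_cancel_right]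
          _ = _ := by group
      set k := x * f₂ * x⁻¹ * f₂⁻¹ with hkdef
      set c := e₁ * f₂ * e₁⁻¹ * f₂⁻¹ with hcdef
      have kf : Commute k f₂ := (hk f₂ hf₂).1 f₂ hf₂
      have ky : Commute k y := by
        have c1 : Commute y x := cxy.symm
        have c2 : Commute y f₂ := (hFy f₂ hf₂).symm
        exact ((((c1.mul_right c2).mul_right c1.inv_right).mul_right c2.inv_right)).symm
      have kx : Commute k x := by
        have h1 : Commute k (x * y) := (hk f₂ hf₂).2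
        have h2 := h1.mul_right ky.inv_right
        rwa [mul_inv_cancel_right] at h2
      set e₂ := x * d₂ * x⁻¹ * d₂⁻¹ with he₂def
      have he₂ : e₂ ∈ E := by rw [he₂def, ← commutatorElement_def]; exact Subgroup.commutator_mem_commutator hx hd₂
      have ke : Commute k e₁ := by
        rw [show k = (y * e₂ * y⁻¹ * e₂⁻¹) * (e₂ * f₂ * e₂⁻¹ * f₂⁻¹) from hid d₂]
        exact ((show Commute (y * e₂ * y⁻¹) e₁ from hEa e₂ he₂ e₁ he₁).mul_left
          (Commute.inv_left (cj_fix_of_comm hS hES he₂ e₁ he₁ : Commute e₂ e₁))).mul_left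
          (hH e₂ he₂ f₂ hf₂ e₁ (Subgroup.mem_sup_left he₁))
      set f₁ := y * d₁ * y⁻¹ * d₁⁻¹ with hf₁def
      have hf₁ : f₁ ∈ F := by rw [hf₁def, ← commutatorElement_def]; exact Subgroup.commutator_mem_commutator hy hd₁
      set k' := y * e₁ * y⁻¹ * e₁⁻¹ with hk'def
      have k'e : Commute k' e₁ := (show Commute (y * e₁ * y⁻¹) e₁ from hEa e₁ he₁ e₁ he₁).mul_left
        (Commute.inv_left (Commute.refl e₁))
      have k'f : Commute k' f₂ := by
        have h1 : Commute (k' * (e₁ * f₁ * e₁⁻¹ * f₁⁻¹)) f₂ := by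
          rw [← hid d₁]; exact (hk f₁ hf₁).1 f₂ hf₂
        have h2 : Commute (e₁ * f₁ * e₁⁻¹ * f₁⁻¹) f₂ := hH e₁ he₁ f₁ hf₁ f₂ (Subgroup.mem_sup_right hf₂)
        have h3 := h1.mul_left h2.inv_left
        rwa [mul_inv_cancel_right] at h3
      have hce : Commute c e₁ := hH e₁ he₁ f₂ hf₂ e₁ (Subgroup.mem_sup_left he₁)
      have hcf : Commute c f₂ := hH e₁ he₁ f₂ hf₂ f₂ (Subgroup.mem_sup_right hf₂)
      have kc : Commute k c := (((ke.mul_right kf).mul_right ke.inv_right).mul_right kf.inv_right)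
      have k'c : Commute k' c := (((k'e.mul_right k'f).mul_right k'e.inv_right).mul_right k'f.inv_right)
      have cx : Commute c x := by
        refine (Commute.symm ?_)
        refine mul_inv_eq_iff_eq_mul.1 ?_
        have e1x : x * e₁ * x⁻¹ = e₁ := by rw [← hEx e₁ he₁, mul_inv_cancel_right]
        calc x * c * x⁻¹ = (x * e₁ * x⁻¹) * (x * f₂ * x⁻¹) * (x * e₁ * x⁻¹)⁻¹ * (x * f₂ * x⁻¹)⁻¹ := by rw [hcdef]; group
          _ = e₁ * (k * f₂) * e₁⁻¹ * (k * f₂)⁻¹ := by rw [e1x, hkdef]; group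
          _ = (k * e₁) * f₂ * e₁⁻¹ * (k * f₂)⁻¹ := by rw [ke.eq]; group
          _ = k * c * k⁻¹ := by rw [hcdef]; group
          _ = c := by rw [kc.eq, mul_inv_cancel_right]
      have cy : Commute c y := by
        refine (Commute.symm ?_)
        refine mul_inv_eq_iff_eq_mul.1 ?_
        have f2y : y * f₂ * y⁻¹ = f₂ := by rw [← hFy f₂ hf₂, mul_inv_cancel_right]
        calc y * c * y⁻¹ = (y * e₁ * y⁻¹) * (y * f₂ * y⁻¹) * (y * e₁ * y⁻¹)⁻¹ * (y * f₂ * y⁻¹)⁻¹ := by rw [hcdef]; group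
          _ = (k' * e₁) * f₂ * (k' * e₁)⁻¹ * f₂⁻¹ := by rw [f2y, hk'def]; group
          _ = k' * e₁ * f₂ * e₁⁻¹ * (k'⁻¹ * f₂⁻¹) := by group
          _ = k' * e₁ * f₂ * e₁⁻¹ * (f₂⁻¹ * k'⁻¹) := by rw [k'f.inv_left.inv_right.eq]
          _ = k' * c * k'⁻¹ := by rw [hcdef]; group
          _ = c := by rw [k'c.eq, mul_inv_cancel_right]
      set u := x * d₁ * x⁻¹ with hudef
      have hd1 : d₁ ≠ 1 := fun e0 => hcne (by simp [he₁def, hudef, e0])
      set D' := conjBy D x with hD'def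
      have huD : u ∈ D' := cj_mem hd₁ x
      have hu1 : u ≠ 1 := fun e0 => hd1 (conj_eq_one_iff.1 e0)
      have hDc : ∀ w ∈ D', Commute c w := by
        rintro _ ⟨d, hd, rfl⟩
        show Commute c (x * d * x⁻¹)
        have hcd : Commute c d :=
          ((((show Commute e₁ d from hED e₁ he₁ d hd).mul_left (show Commute f₂ d from hFD f₂ hf₂ d hd)).mul_left
            (show Commute e₁ d from hED e₁ he₁ d hd).inv_left).mul_left (show Commute f₂ d from hFD f₂ hf₂ d hd).inv_left)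
        exact (cx.mul_right hcd).mul_right cx.inv_right
      have hpair : IsRankOnePair A D' := by
        have := pair_conj h x
        rwa [show conjBy A x = A from cj_of_comm fun w hw => (hAx w hw).symm] at this
      have hzc : c⁻¹ ∈ Subgroup.centralizer ((D' ⊔ A : Subgroup G) : Set G) := by
        have ha : Commute c (x * y) := cx.mul_right cy
        have hsup := sup_two_points hpair (other_mem hpair) (cj_unip (other_mem hpair) (Subgroup.mem_sup_left hxy))
          (fun e0 => hxy1 (inf_norm hpair hxy e0.symm))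
        have hle : A ⊔ D' ≤ Subgroup.centralizer ({c} : Set G) := by
          rw [hsup]
          refine sup_le (fun w hw => Subgroup.mem_centralizer_singleton_iff.2 (hDc w hw).eq.symm) ?_
          rintro _ ⟨w, hw, rfl⟩
          exact Subgroup.mem_centralizer_singleton_iff.2 (((ha.mul_right (hDc w hw)).mul_right ha.inv_right).eq.symm)
        refine inv_mem fun w hw => ?_
        exact Subgroup.mem_centralizer_singleton_iff.1 (hle (sup_comm D' A ▸ hw))
      have hc1 : c ≠ 1 := fun e0 => hcne (mul_inv_eq_iff_eq_mul.1 (mul_inv_eq_one.1 e0))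
      refine translate_not_root hS (hS.conj_mem D hDS x) ⟨hA, RankOnePair_symm hpair⟩ hzc (inv_ne_one.2 hc1) huD hu1 ?_
      have hconj : k⁻¹ * u * k = c⁻¹ * u := by
        have ue : u = e₁ * d₁ := by rw [he₁def, hudef]; group
        have e1x : Commute e₁ x := hEx e₁ he₁
        have ux : u * x * u⁻¹ = e₁⁻¹ * x := by
          calc u * x * u⁻¹ = e₁ * (d₁ * x * d₁⁻¹ * x⁻¹) * (x * e₁⁻¹) := by rw [ue]; group
            _ = e₁ * e₁⁻¹ * (e₁⁻¹ * x) := by
              rw [← e1x.inv_left.eq, show d₁ * x * d₁⁻¹ * x⁻¹ = e₁⁻¹ by rw [he₁def, hudef]; group]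
            _ = e₁⁻¹ * x := by group
        have uf : u * f₂ * u⁻¹ = c * f₂ := by
          calc u * f₂ * u⁻¹ = e₁ * (d₁ * f₂) * d₁⁻¹ * e₁⁻¹ := by rw [ue]; group
            _ = c * f₂ := by rw [← hFD f₂ hf₂ d₁ hd₁, hcdef]; group
        have ukey : u * k * u⁻¹ = k * c⁻¹ := by
          calc u * k * u⁻¹ = (u * x * u⁻¹) * (u * f₂ * u⁻¹) * (u * x * u⁻¹)⁻¹ * (u * f₂ * u⁻¹)⁻¹ := by rw [hkdef]; group
            _ = (e₁⁻¹ * x) * (c * f₂) * (e₁⁻¹ * x)⁻¹ * (c * f₂)⁻¹ := by rw [ux, uf]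
            _ = e₁⁻¹ * (x * c) * f₂ * x⁻¹ * e₁ * f₂⁻¹ * c⁻¹ := by group
            _ = (e₁⁻¹ * c) * x * f₂ * x⁻¹ * e₁ * f₂⁻¹ * c⁻¹ := by rw [← cx.eq]; group
            _ = c * (e₁⁻¹ * k) * f₂ * e₁ * f₂⁻¹ * c⁻¹ := by rw [← hce.inv_right.eq, hkdef]; group
            _ = (c * k) * (e₁⁻¹ * c⁻¹ * e₁) * c⁻¹ := by rw [← ke.inv_right.eq, hcdef]; group
            _ = (k * c) * (c⁻¹ * e₁⁻¹ * e₁) * c⁻¹ := by rw [← kc.eq, ← (hce.inv_left.inv_right).eq]
            _ = k * c⁻¹ := by group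
        calc k⁻¹ * u * k = k⁻¹ * (u * k * u⁻¹) * u := by group
          _ = c⁻¹ * u := by rw [ukey]; group
      rw [← hconj]
      refine ⟨fun e0 => hu1 ?_, _, hS.conj_mem D' (hS.conj_mem D hDS x) k⁻¹, mem_cj.2 ?_⟩
      · have := conj_eq_one_iff.1 (show k⁻¹ * u * k⁻¹⁻¹ = 1 by rw [inv_inv]; exact e0)
        exact this
      · rwa [show k⁻¹⁻¹ * (k⁻¹ * u * k) * k⁻¹ = u by group]
  -- the point conjugate to `D` commutes with it
  refine hxy1 (inf_norm h hxy (not_comm_points h (cj_unip (other_mem h) (Subgroup.mem_sup_left hxy)) (other_mem h)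
    (unip_ne_bot h (other_mem h)) ?_))
  rintro _ ⟨d, hd, rfl⟩ d' hd'
  show (x * y) * d * (x * y)⁻¹ * d' = d' * ((x * y) * d * (x * y)⁻¹)
  rw [show (x * y) * d * (x * y)⁻¹ = (x * (y * d * y⁻¹ * d⁻¹) * x⁻¹) * (x * d * x⁻¹) by group]
  have c1 : Commute (x * d * x⁻¹) d' := conj_commutes hS hDS hBD hx (cj_mem hd x) hd'
  refine (Commute.mul_left ?_ c1).eq
  have hfF : y * d * y⁻¹ * d⁻¹ ∈ F := by rw [← commutatorElement_def]; exact Subgroup.commutator_mem_commutator hy hd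
  have heE : x⁻¹ * d' * x⁻¹⁻¹ * d'⁻¹ ∈ E := by
    rw [← commutatorElement_def]; exact Subgroup.commutator_mem_commutator (inv_mem hx) hd'
  have h1 : Commute (y * d * y⁻¹ * d⁻¹) (x⁻¹ * d' * x) := by
    rw [show x⁻¹ * d' * x = (x⁻¹ * d' * x⁻¹⁻¹ * d'⁻¹) * d' by group]
    exact (show Commute _ _ from (hEF _ heE _ hfF).symm).mul_right (show Commute _ _ from hFD _ hfF d' hd')
  calc x * (y * d * y⁻¹ * d⁻¹) * x⁻¹ * d' = x * ((y * d * y⁻¹ * d⁻¹) * (x⁻¹ * d' * x)) * x⁻¹ := by group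
    _ = x * ((x⁻¹ * d' * x) * (y * d * y⁻¹ * d⁻¹)) * x⁻¹ := by rw [h1.eq]
    _ = d' * (x * (y * d * y⁻¹ * d⁻¹) * x⁻¹) := by group

theorem fadj_reach_symm {A B : Subgroup G} (h : Relation.ReflTransGen (FAdj S) A B) :
    Relation.ReflTransGen (FAdj S) B A := by
  induction h with
  | refl => exact Relation.ReflTransGen.refl
  | tail _ hbc ih => exact Relation.ReflTransGen.head ⟨hbc.2.1, hbc.1, RankOnePair_symm hbc.2.2⟩ ih

theorem component_eq {A B : Subgroup G} (h : Relation.ReflTransGen (FAdj S) A B) :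
    componentOf (FAdj S) S A = componentOf (FAdj S) S B :=
  Set.ext fun _ => ⟨fun hC => ⟨hC.1, (fadj_reach_symm h).trans hC.2⟩, fun hC => ⟨hC.1, h.trans hC.2⟩⟩

theorem line_partner_reach (hS : IsRootSubgroupSet S) {A B : Subgroup G} (hA : A ∈ S)
    (hpA : ¬ IsIsolatedIn (FAdj S) S A) (hpB : ¬ IsIsolatedIn (FAdj S) S B) (hline : B ∈ linePartners S A) :
    Relation.ReflTransGen (FAdj S) A B := by
  obtain ⟨⟨hB, hne, hcomm⟩, -, hcov, -⟩ := hline
  obtain ⟨a, ha, ha1⟩ := (Subgroup.bot_or_exists_ne_one A).resolve_left (hS.ne_bot A hA)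
  obtain ⟨b, hb, hb1⟩ := (Subgroup.bot_or_exists_ne_one B).resolve_left (hS.ne_bot B hB)
  have hTI : A ⊓ B = ⊥ := (member_ti hS hpA hA hB).resolve_right (Ne.symm hne)
  have hab : a * b ≠ 1 := fun e => by
    have hm : a ∈ A ⊓ B := Subgroup.mem_inf.2 ⟨ha, by rw [mul_eq_one_iff_eq_inv.1 e]; exact inv_mem hb⟩
    rw [hTI] at hm
    exact ha1 hm
  obtain ⟨M, ⟨hM, -⟩, hm⟩ := hcov (a * b) (mul_mem (Subgroup.mem_sup_left ha) (Subgroup.mem_sup_right hb)) hab
  have key : ∀ {A B : Subgroup G}, A ∈ S → B ∈ S → ¬ IsIsolatedIn (FAdj S) S A → ⁅A, B⁆ = ⊥ →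
      ∀ a ∈ A, a ≠ 1 → ∀ b ∈ B, b ≠ 1 → a * b ∈ M → a * b ≠ 1 →
      Relation.ReflTransGen (FAdj S) A B ∨ Relation.ReflTransGen (FAdj S) A M := by
    intro A B hA hB hpA hcomm a ha ha1 b hb hb1 hm hab
    obtain ⟨D, hD⟩ := partner_of_not_isolated hS hpA hA
    have hAD : FAdj S A D := ⟨hA, hD.1, hD.2⟩
    rcases hS.pair B hB D hD.1 with hh | hh | hh
    · exfalso
      have hle : A ⊔ D ≤ Subgroup.centralizer ({b} : Set G) := sup_le
        (fun w hw => Subgroup.mem_centralizer_singleton_iff.2 (comm_of_bot hcomm hw hb))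
        (fun w hw => Subgroup.mem_centralizer_singleton_iff.2 (comm_of_bot hh hb hw).symm)
      refine translate_not_root hS hA hD
        (fun w hw => Subgroup.mem_centralizer_singleton_iff.1 (hle hw)) hb1 ha ha1 ?_
      rw [← comm_of_bot hcomm ha hb]
      exact ⟨hab, M, hM, hm⟩
    · exact Or.inl ((Relation.ReflTransGen.single hAD).tail ⟨hD.1, hB, RankOnePair_symm hh⟩)
    · rcases hS.pair M hM D hD.1 with hm' | hm' | hm'
      · exfalso
        refine ha1 (inf_norm hD.2 ha (not_comm_points hD.2 (cj_unip (other_mem hD.2) (Subgroup.mem_sup_left ha))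
          (other_mem hD.2) (unip_ne_bot hD.2 (other_mem hD.2)) fun w hw d hd => ?_))
        have he : conjBy D a = conjBy D b⁻¹ := by
          refine cj_inj (g := b) ?_
          rw [cj_cj, cj_cj_inv, ← comm_of_bot hcomm ha hb]
          exact cj_of_comm fun d hd => comm_of_bot hm' hm hd
        exact conj_commutes hS hD.1 hh (inv_mem hb) (he ▸ hw) hd
      · exact Or.inr ((Relation.ReflTransGen.single hAD).tail ⟨hD.1, hM, RankOnePair_symm hm'⟩)
      · refine (no_two_commutator hS hA hB hM hD hcomm (inv_mem hb) (inv_ne_one.2 hb1) hm hab ?_ ?_ hh hm').elim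
        · rwa [comm_of_bot hcomm ha hb, inv_mul_cancel_left]
        · rwa [comm_of_bot hcomm ha hb, inv_mul_cancel_left]
  rcases key hA hB hpA hcomm a ha ha1 b hb hb1 hm hab with h | h
  · exact h
  · have e := comm_of_bot hcomm ha hb
    rcases key hB hA hpB (by rw [Subgroup.commutator_comm, hcomm]) b hb hb1 a ha ha1 (e ▸ hm) (e ▸ hab) with h' | h'
    · exact fadj_reach_symm h'
    · exact h.trans (fadj_reach_symm h')

theorem commutator_case (hS : IsRootSubgroupSet S) {A B : Subgroup G} (hA : A ∈ S) (hB : B ∈ S)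
    (hC : ⁅A, B⁆ ∈ S) : RootCommutatorCase S A B := by
  rcases hS.pair A hA B hB with h | h | h
  · exact absurd h (hS.ne_bot _ hC)
  · exfalso
    obtain ⟨a, ha, ha1⟩ := (Subgroup.bot_or_exists_ne_one A).resolve_left (ne_bot_left h)
    have hEX : ⁅A, B⁆ ≤ A ⊔ B := Subgroup.commutator_le.2 fun a ha b hb => by
      rw [commutatorElement_def]
      exact mul_mem (mul_mem (mul_mem (Subgroup.mem_sup_left ha) (Subgroup.mem_sup_right hb))
        (inv_mem (Subgroup.mem_sup_left ha))) (inv_mem (Subgroup.mem_sup_right hb))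
    -- the conjugate of `B` by `a` commutes with `B`
    refine ha1 (inf_norm h ha (not_comm_points h (cj_unip (other_mem h) (Subgroup.mem_sup_left ha)) (other_mem h)
      (unip_ne_bot h (other_mem h)) ?_))
    rintro _ ⟨w, hw, rfl⟩ b hb
    show a * w * a⁻¹ * b = b * (a * w * a⁻¹)
    have he : a * w * a⁻¹ * w⁻¹ ∈ ⁅A, B⁆ := by
      rw [← commutatorElement_def]; exact Subgroup.commutator_mem_commutator ha hw
    suffices hc : Commute (a * w * a⁻¹ * w⁻¹) b by
      have := hc.mul_left (cj_fix_of_comm hS hB hw b hb : Commute w b)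
      rw [inv_mul_cancel_right] at this
      exact this
    -- `⁅A, B⁆` fixes every point, hence is central
    have hEn : ∀ g ∈ A ⊔ B, conjBy ⁅A, B⁆ g = ⁅A, B⁆ := fun g hg =>
      mem_norm.1 ((sup_le (Subgroup.normalizer_commutator_ge_left A B) (Subgroup.normalizer_commutator_ge_right A B) : A ⊔ B ≤ _) hg)
    refine kernel_central h (fun P hP => ?_) b (Subgroup.mem_sup_right hb)
    have hPS := unip_mem hS hA hP
    rcases hS.pair _ hC P hPS with hh | hh | hh
    · exact cj_of_comm fun x hx => comm_of_bot hh he hx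
    · obtain ⟨p0, hp0, hp1⟩ := (Subgroup.bot_or_exists_ne_one P).resolve_left (hS.ne_bot P hPS)
      exact absurd (inf_norm (RankOnePair_symm hh) hp0 (hEn p0 (unip_le hP hp0))) hp1
    · exact not_comm_points h (cj_unip hP (hEX he)) hP (unip_ne_bot h hP)
        fun y hy c hc => conj_commutes hS hPS hh he hy hc
  · exact h

end CfsgLib.Inv.RootSet
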