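import Cfsg.Agent.Inv.RootSpecial

/-!
Lines of abstract root subgroups: their setwise stabiliser is doubly transitive, and in a non-degenerate
class the graph of line partners is connected.
-/

set_option autoImplicit false
set_option linter.unusedSectionVars false

namespace CfsgLib.Inv.RootLines

open Cfsg CfsgLib.Inv.RankOne CfsgLib.Inv.RootSet CfsgLib.Inv.RootSpecial
open scoped commutatorElement

variable {G : Type*} [Group G] {S : Set (Subgroup G)}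

theorem cj_sup (A C : Subgroup G) (g : G) : conjBy (A ⊔ C) g = conjBy A g ⊔ conjBy C g := Subgroup.map_sup _ _ _

theorem cj_commutator (A C : Subgroup G) (g : G) : ⁅conjBy A g, conjBy C g⁆ = conjBy ⁅A, C⁆ g :=
  (Subgroup.map_commutator _ _ _).symm

theorem cj_mono {A C : Subgroup G} (h : A ≤ C) (g : G) : conjBy A g ≤ conjBy C g := Subgroup.map_mono h

theorem line_commutative (hS : IsRootSubgroupSet S) {A C : Subgroup G} (hA : A ∈ S) (hC : C ∈ S) (hAC : ⁅A, C⁆ = ⊥)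
    {x y : G} (hx : x ∈ A ⊔ C) (hy : y ∈ A ⊔ C) : x * y = y * x := by
  obtain ⟨a, ha, c, hc, rfl⟩ := mem_sup_central (fun a ha c hc => comm_of_bot hAC ha hc) hx
  obtain ⟨a', ha', c', hc', rfl⟩ := mem_sup_central (fun a ha c hc => comm_of_bot hAC ha hc) hy
  have c1 : Commute a (a' * c') :=
    (show Commute a a' from cj_fix_of_comm hS hA ha a' ha').mul_right (comm_of_bot hAC ha hc')
  have c2 : Commute c (a' * c') :=
    (show Commute c a' from (comm_of_bot hAC ha' hc).symm).mul_right (cj_fix_of_comm hS hC hc c' hc')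
  exact (c1.mul_left c2).eq

theorem line_comm_bot (hS : IsRootSubgroupSet S) {A C P Q : Subgroup G} (hA : A ∈ S) (hC : C ∈ S) (hAC : ⁅A, C⁆ = ⊥)
    (hP : P ≤ A ⊔ C) (hQ : Q ≤ A ⊔ C) : ⁅P, Q⁆ = ⊥ := by
  rw [Subgroup.commutator_eq_bot_iff_le_centralizer]
  exact fun p hp q hq => line_commutative hS hA hC hAC (hQ hq) (hP hp)

/-- On a line through `A` some member is the commutator of `A` with the member it forms with a partner of `A`. -/
theorem centre_exists (hS : IsRootSubgroupSet S) {A B C : Subgroup G} (hA : A ∈ S) (hB : B ∈ rankOnePartners S A)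
    (hC : C ∈ linePartners S A) :
    ∃ M ∈ S, ⁅M, B⁆ ∈ S ∧ ⁅A, ⁅M, B⁆⁆ = M ∧ M ≠ A ∧ A ⊔ M = A ⊔ C := by
  obtain ⟨M, hM, hMA, hR⟩ := exists_commutator_partner hS hA hB hC
  obtain ⟨⟨hCS, -, hcomm⟩, -, hcov, hdisj⟩ := hC
  have hAmem : A ∈ membersIn S (A ⊔ C) := ⟨hA, le_sup_left⟩
  have hCmem : C ∈ membersIn S (A ⊔ C) := ⟨hCS, le_sup_right⟩
  have hmeet : A ⊓ M = ⊥ := hdisj A hAmem M hM (Ne.symm hMA)
  have hMB : ⁅M, B⁆ ∈ S := Subgroup.commutator_comm B M ▸ hR.1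
  have hle : A ⊔ M ≤ A ⊔ C := sup_le le_sup_left hM.2
  have htri : ⁅A, ⁅M, B⁆⁆ = M := triangle_eq' hS hA hB hM.1 (line_comm_bot hS hA hCS hcomm le_sup_left hM.2) hmeet
    (fun x hx hx1 => by
      obtain ⟨N, hN, hxN⟩ := hcov x (hle hx) hx1
      exact ⟨N, hN.1, hxN⟩) hMB
  have hpart := (line_members hS (not_isolated_of_partner hA hB) hA hMB (htri.symm ▸ hM.1)).2.1
  rw [htri] at hpart
  refine ⟨M, hM.1, hMB, htri, hMA, le_antisymm hle (sup_le le_sup_left ?_)⟩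
  obtain ⟨m, hm, hm1⟩ := (Subgroup.bot_or_exists_ne_one M).resolve_left (hS.ne_bot M hM.1)
  obtain ⟨a, ha, c, hc, e⟩ := mem_sup_central (fun a ha c hc => comm_of_bot hcomm ha hc) (hM.2 hm)
  have hc' : c ∈ A ⊔ M := by
    rw [show c = a⁻¹ * m by rw [← e, inv_mul_cancel_left]]
    exact mul_mem (Subgroup.mem_sup_left (inv_mem ha)) (Subgroup.mem_sup_right hm)
  have hc1 : c ≠ 1 := fun e1 => hm1 (by
    have h1 : m ∈ A ⊓ M := Subgroup.mem_inf.2 ⟨by rw [← e, e1, mul_one]; exact ha, hm⟩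
    rwa [hmeet, Subgroup.mem_bot] at h1)
  obtain ⟨N, hN, hcN⟩ := hpart.2.1 c hc' hc1
  by_cases hNC : N = C
  · exact hNC ▸ hN.2
  · have h1 : c ∈ N ⊓ C := Subgroup.mem_inf.2 ⟨hcN, hc⟩
    rw [hdisj N ⟨hN.1, hN.2.trans hle⟩ C hCmem hNC, Subgroup.mem_bot] at h1
    exact absurd h1 hc1

theorem fix_commutator (hS : IsRootSubgroupSet S) {P F : Subgroup G} (hP : P ∈ S) (hF : F ∈ S) (hQ : ⁅P, F⁆ ∈ S)
    {f : G} (hf : f ∈ F) : conjBy ⁅P, F⁆ f = ⁅P, F⁆ :=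
  cj_of_comm fun x hx => ((commutator_case hS hP hF hQ).2.1 x hx f (Subgroup.mem_sup_right hf)).symm

theorem le_normalizer_line (hS : IsRootSubgroupSet S) (hall : ∀ X ∈ S, ¬ IsIsolatedIn (FAdj S) S X) {P F : Subgroup G}
    (hP : P ∈ S) (hF : F ∈ S) (hQ : ⁅P, F⁆ ∈ S) :
    F ≤ Subgroup.normalizer ((P ⊔ ⁅P, F⁆ : Subgroup G) : Set G) := by
  intro f hf
  rw [mem_norm, cj_sup, fix_commutator hS hP hF hQ hf]
  have key : ∀ g ∈ F, conjBy P g ≤ P ⊔ ⁅P, F⁆ := fun g hg =>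
    ((Set.ext_iff.1 (line_members hS (hall P hP) hP hF hQ).1 _).2 (Or.inl ⟨g, hg, rfl⟩)).2
  refine le_antisymm (sup_le (key f hf) le_sup_right) (sup_le ?_ le_sup_right)
  have h1 : conjBy (conjBy P f⁻¹) f ≤ conjBy (P ⊔ ⁅P, F⁆) f := cj_mono (key f⁻¹ (inv_mem hf)) f
  rwa [cj_cj_inv, cj_sup, fix_commutator hS hP hF hQ hf] at h1

theorem move (hS : IsRootSubgroupSet S) (hall : ∀ X ∈ S, ¬ IsIsolatedIn (FAdj S) S X) {P' F Q L : Subgroup G}
    (hP' : P' ∈ S) (hF : F ∈ S) (hQ : Q ∈ S) (e : ⁅P', F⁆ = Q) (eL : P' ⊔ Q = L) {P : Subgroup G}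
    (hP : P ∈ membersIn S L) (hne : P ≠ Q) : ∃ f ∈ F, conjBy P' f = P ∧ ⁅P, F⁆ = Q ∧ P ⊔ Q = L := by
  subst e eL
  rw [(line_members hS (hall P' hP') hP' hF hQ).1] at hP
  rcases hP with ⟨f, hf, rfl⟩ | hP
  · refine ⟨f, hf, rfl, ?_, ?_⟩
    · calc ⁅conjBy P' f, F⁆ = ⁅conjBy P' f, conjBy F f⁆ := by rw [show conjBy F f = F from cj_of_mem hf]
        _ = _ := by rw [cj_commutator, fix_commutator hS hP' hF hQ hf]
    · have h1 := mem_norm.1 (le_normalizer_line hS hall hP' hF hQ hf)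
      rwa [cj_sup, fix_commutator hS hP' hF hQ hf] at h1
  · exact absurd hP hne

/-- For two members of a line some root subgroup has the second as its commutator with the first. -/
theorem swap (hS : IsRootSubgroupSet S) (hall : ∀ X ∈ S, ¬ IsIsolatedIn (FAdj S) S X) {A C : Subgroup G}
    (hA : A ∈ S) (hC : C ∈ linePartners S A) {P Q : Subgroup G} (hP : P ∈ membersIn S (A ⊔ C))
    (hQ : Q ∈ membersIn S (A ⊔ C)) (hne : P ≠ Q) : ∃ F ∈ S, ⁅P, F⁆ = Q ∧ P ⊔ Q = A ⊔ C := by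
  obtain ⟨B, hB⟩ := partner_of_not_isolated hS (hall A hA) hA
  obtain ⟨M, hM, hF, eM, hMA, eL⟩ := centre_exists hS hA hB hC
  set F := ⁅M, B⁆ with hFdef
  by_cases hQM : Q = M
  · subst hQM
    obtain ⟨f, hf, -, h1, h2⟩ := move hS hall hA hF hM eM eL hP hne
    exact ⟨F, hF, h1, h2⟩
  have hAline : A ∈ linePartners S M := eM ▸ (line_members hS (hall A hA) hA hF (eM.symm ▸ hM)).2.2.1
  obtain ⟨B', hB'⟩ := partner_of_not_isolated hS (hall M hM) hM
  obtain ⟨M', hM', hF', eM', hM'M, eL'⟩ := centre_exists hS hM hB' hAline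
  rw [sup_comm M A, eL] at eL'
  have hM'mem : M' ∈ membersIn S (A ⊔ C) := ⟨hM', eL' ▸ le_sup_right⟩
  obtain ⟨q, hq, eq, -, -⟩ := move hS hall hA hF hM eM eL hQ hQM
  obtain ⟨r, hr, er, -, -⟩ := move hS hall hA hF hM eM eL hM'mem hM'M
  have hg : q * r⁻¹ ∈ F := mul_mem hq (inv_mem hr)
  have hgQ : conjBy M' (q * r⁻¹) = Q := by rw [← er, cj_cj, inv_mul_cancel_right, eq]
  have hgL : conjBy (A ⊔ C) (q * r⁻¹) = A ⊔ C := by
    rw [← eL, ← eM]
    exact mem_norm.1 (le_normalizer_line hS hall hA hF (eM.symm ▸ hM) hg)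
  obtain ⟨f, hf, -, h1, h2⟩ := move hS hall (hS.conj_mem M hM (q * r⁻¹)) (hS.conj_mem _ hF' (q * r⁻¹)) hQ.1
    (by rw [cj_commutator, eM', hgQ]) (by rw [← hgQ, ← cj_sup, eL', hgL]) hP hne
  exact ⟨_, hS.conj_mem _ hF' _, h1, h2⟩

theorem line_partner_of_mem (hS : IsRootSubgroupSet S) (hall : ∀ X ∈ S, ¬ IsIsolatedIn (FAdj S) S X)
    {A C : Subgroup G} (hA : A ∈ S) (hC : C ∈ linePartners S A) {P : Subgroup G} (hP : P ∈ membersIn S (A ⊔ C))
    (hne : P ≠ A) : P ∈ linePartners S A := by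
  obtain ⟨F, -, -, e⟩ := swap hS hall hA hC ⟨hA, le_sup_left⟩ hP (Ne.symm hne)
  exact ⟨⟨hP.1, hne, line_comm_bot hS hA hC.1.1 hC.1.2.2 le_sup_left hP.2⟩, e.symm ▸ hC.2⟩

theorem moved (hS : IsRootSubgroupSet S) (hall : ∀ X ∈ S, ¬ IsIsolatedIn (FAdj S) S X) {P F : Subgroup G}
    (hP : P ∈ S) (hF : F ∈ S) (hQ : ⁅P, F⁆ ∈ S) {f : G} (hf : f ∈ F) (hf1 : f ≠ 1) :
    conjBy P f ≠ P ∧ conjBy P f ≠ ⁅P, F⁆ := by
  have hne : P ≠ ⁅P, F⁆ := (line_members hS (hall P hP) hP hF hQ).2.2.1.1.2.1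
  refine ⟨fun e => ?_, fun e => hne (cj_inj (g := f) (e.trans (fix_commutator hS hP hF hQ hf).symm))⟩
  obtain ⟨p, hp, hp1⟩ := (Subgroup.bot_or_exists_ne_one P).resolve_left (hS.ne_bot P hP)
  refine commutes_false hS hP hF (Or.inl (hall P hP)) (commutator_case hS hP hF hQ) hp hp1 hf hf1 ?_
  have h1 : p * f * p⁻¹ * f⁻¹ ∈ P ⊓ ⁅P, F⁆ := by
    refine Subgroup.mem_inf.2 ⟨?_, by rw [← commutatorElement_def]; exact Subgroup.commutator_mem_commutator hp hf⟩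
    rw [show p * f * p⁻¹ * f⁻¹ = p * (f * p⁻¹ * f⁻¹) by group]
    exact mul_mem hp (e.le (cj_mem (inv_mem hp) f))
  rw [(member_ti hS (hall P hP) hP hQ).resolve_right hne, Subgroup.mem_bot] at h1
  calc p * f = (p * f * p⁻¹ * f⁻¹) * (f * p) := by group
    _ = f * p := by rw [h1, one_mul]

theorem exists_third (hS : IsRootSubgroupSet S) (hall : ∀ X ∈ S, ¬ IsIsolatedIn (FAdj S) S X) {A C : Subgroup G}
    (hA : A ∈ S) (hC : C ∈ linePartners S A) (P Q : Subgroup G) : ∃ R ∈ membersIn S (A ⊔ C), R ≠ P ∧ R ≠ Q := by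
  have hAmem : A ∈ membersIn S (A ⊔ C) := ⟨hA, le_sup_left⟩
  have hCmem : C ∈ membersIn S (A ⊔ C) := ⟨hC.1.1, le_sup_right⟩
  obtain ⟨F, hF, e, -⟩ := swap hS hall hA hC hAmem hCmem (Ne.symm hC.1.2.1)
  obtain ⟨f, hf, hf1⟩ := (Subgroup.bot_or_exists_ne_one F).resolve_left (hS.ne_bot F hF)
  have hm := moved hS hall hA hF (e.symm ▸ hC.1.1) hf hf1
  rw [e] at hm
  have hR : conjBy A f ∈ membersIn S (A ⊔ C) := by
    refine ⟨hS.conj_mem A hA f, ?_⟩
    have h1 := mem_norm.1 (le_normalizer_line hS hall hA hF (e.symm ▸ hC.1.1) hf)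
    rw [e] at h1
    exact h1 ▸ cj_mono le_sup_left f
  by_cases h1 : A ≠ P ∧ A ≠ Q
  · exact ⟨A, hAmem, h1⟩
  by_cases h2 : C ≠ P ∧ C ≠ Q
  · exact ⟨C, hCmem, h2⟩
  refine ⟨_, hR, ?_⟩
  rcases eq_or_ne A P with rfl | hP
  · rcases eq_or_ne C Q with rfl | hQ
    · exact hm
    · exact absurd ⟨hC.1.2.1, hQ⟩ h2
  · have hQ : A = Q := by_contra fun hQ => h1 ⟨hP, hQ⟩
    subst hQ
    have hC' : C = P := by_contra fun hC' => h2 ⟨hC', hC.1.2.1⟩
    subst hC'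
    exact ⟨hm.2, hm.1⟩

/-- The members normalising a line permute its members doubly transitively. -/
theorem two_transitive (hS : IsRootSubgroupSet S) (hall : ∀ X ∈ S, ¬ IsIsolatedIn (FAdj S) S X) {A B : Subgroup G}
    (hA : A ∈ S) (hB : B ∈ linePartners S A) :
    ∀ C₁ ∈ membersIn S (A ⊔ B), ∀ C₂ ∈ membersIn S (A ⊔ B), ∀ D₁ ∈ membersIn S (A ⊔ B),
      ∀ D₂ ∈ membersIn S (A ⊔ B), C₁ ≠ C₂ → D₁ ≠ D₂ →
        ∃ x ∈ ⨆ E ∈ normalizingMembers S (A ⊔ B), E, conjBy C₁ x = D₁ ∧ conjBy C₂ x = D₂ := by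
  set L := A ⊔ B with hL
  set H := ⨆ E ∈ normalizingMembers S L, E with hH
  have fixmove : ∀ Q ∈ membersIn S L, ∀ P ∈ membersIn S L, ∀ P' ∈ membersIn S L, P ≠ Q → P' ≠ Q →
      ∃ x ∈ H, conjBy Q x = Q ∧ conjBy P x = P' ∧ conjBy L x = L := by
    intro Q hQ P hP P' hP' hne hne'
    obtain ⟨F, hF, e, eL⟩ := swap hS hall hA hB hP hQ hne
    obtain ⟨f, hf, h1, -, -⟩ := move hS hall hP.1 hF hQ.1 e eL hP' hne'
    subst e
    have hn : F ≤ Subgroup.normalizer (L : Set G) := by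
      have := le_normalizer_line hS hall hP.1 hF hQ.1
      rwa [eL] at this
    exact ⟨f, (le_iSup₂ (f := fun E (_ : E ∈ normalizingMembers S L) => E) F ⟨hF, hn⟩) hf,
      fix_commutator hS hP.1 hF hQ.1 hf, h1, mem_norm.1 (hn hf)⟩
  intro C₁ h1 C₂ h2 D₁ k1 D₂ k2 hC hD
  obtain ⟨x, hx, e1, eL⟩ : ∃ x ∈ H, conjBy C₁ x = D₁ ∧ conjBy L x = L := by
    obtain ⟨R, hR, r1, r2⟩ := exists_third hS hall hA hB C₁ D₁
    obtain ⟨x, hx, -, e, eL⟩ := fixmove R hR C₁ h1 D₁ k1 (Ne.symm r1) (Ne.symm r2)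
    exact ⟨x, hx, e, eL⟩
  have h2' : conjBy C₂ x ∈ membersIn S L := ⟨hS.conj_mem C₂ h2.1 x, eL ▸ cj_mono h2.2 x⟩
  obtain ⟨y, hy, e2, e3, -⟩ := fixmove D₁ k1 (conjBy C₂ x) h2' D₂ k2
    (fun e => hC (cj_inj (g := x) (e1.trans e.symm))) hD.symm
  exact ⟨y * x, mul_mem hy hx, by rw [← cj_cj, e1, e2], by rw [← cj_cj, e3]⟩

theorem line_conj (hS : IsRootSubgroupSet S) {A C : Subgroup G} (h : C ∈ linePartners S A) (g : G) :
    conjBy C g ∈ linePartners S (conjBy A g) := by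
  obtain ⟨⟨hC, hne, hcomm⟩, -, hcov, hdisj⟩ := h
  refine ⟨⟨hS.conj_mem C hC g, fun e => hne (cj_inj e), by rw [cj_commutator, hcomm]; exact Subgroup.map_bot _⟩, ?_⟩
  rw [← cj_sup]
  have key : ∀ M ∈ membersIn S (conjBy (A ⊔ C) g), conjBy M g⁻¹ ∈ membersIn S (A ⊔ C) := fun M hM =>
    ⟨hS.conj_mem M hM.1 _, by have := cj_mono hM.2 g⁻¹; rwa [cj_inv_cj] at this⟩
  refine ⟨fun M hM => hM.2, fun x hx hx1 => ?_, fun M hM N hN hMN => ?_⟩
  · obtain ⟨M, hM, hxM⟩ := hcov _ (mem_cj.1 hx) (fun e => hx1 (by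
      rw [show x = g * (g⁻¹ * x * g) * g⁻¹ by group, e, mul_one, mul_inv_cancel]))
    exact ⟨conjBy M g, ⟨hS.conj_mem M hM.1 g, cj_mono hM.2 g⟩, mem_cj.2 hxM⟩
  · have h1 := hdisj _ (key M hM) _ (key N hN) (fun e => hMN (cj_inj e))
    rw [← cj_cj_inv (A := M) g, ← cj_cj_inv (A := N) g]
    show conjBy _ g ⊓ conjBy _ g = ⊥
    rw [← Subgroup.map_inf _ _ _ (MulAut.conj g).injective, h1]
    exact Subgroup.map_bot _

theorem eadj_symm {A B : Subgroup G} (h : EAdj S S A B) : EAdj S S B A :=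
  ⟨h.2.1, h.1, line_symm h.2.1 h.2.2 h.1⟩

theorem all_not_isolated (hS : IsRootSubgroupClass S) (hnd : IsNondegenerateRootSet S) :
    ∀ X ∈ S, ¬ IsIsolatedIn (FAdj S) S X := by
  intro X hX
  obtain ⟨-, ⟨A, hA, B, hB, h⟩, -⟩ := hnd
  obtain ⟨g, rfl⟩ := hS.2.2 A hA X hX
  exact not_isolated_conj hS.1 hA (not_isolated_of_partner hA ⟨hB, h⟩) g

/-- In a non-degenerate class the graph of line partners is connected. -/
theorem connected (hS : IsRootSubgroupClass S) (hnd : IsNondegenerateRootSet S) :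
    IsConnectedFamily (EAdj S S) S := by
  intro A hA X hX
  have hall := all_not_isolated hS hnd
  let R := Relation.ReflTransGen (EAdj S S)
  have hsymm : ∀ {P Q}, R P Q → R Q P := fun {P Q} h => by
    induction h with
    | refl => exact Relation.ReflTransGen.refl
    | tail _ hbc ih => exact Relation.ReflTransGen.head (eadj_symm hbc) ih
  have hconj : ∀ (g : G) {P Q}, R P Q → R (conjBy P g) (conjBy Q g) := fun g P Q h =>
    by
      induction h with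
      | refl => exact Relation.ReflTransGen.refl
      | tail _ e ih => exact ih.tail ⟨hS.1.conj_mem _ e.1 g, hS.1.conj_mem _ e.2.1 g, line_conj hS.1 e.2.2 g⟩
  have hrcc : ∀ P ∈ S, ∀ Q ∈ S, ⁅P, Q⁆ ∈ S → R P Q := by
    intro P hP Q hQ h
    have h1 : EAdj S S ⁅P, Q⁆ P := ⟨h, hP, (line_members hS.1 (hall P hP) hP hQ h).2.2.1⟩
    have hc := Subgroup.commutator_comm Q P
    have h2 := (line_members hS.1 (hall Q hQ) hQ hP (hc.symm ▸ h)).2.2.1
    rw [hc] at h2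
    exact (Relation.ReflTransGen.single (eadj_symm h1)).tail ⟨h, hQ, h2⟩
  have hrk : ∀ P ∈ S, ∀ Q ∈ rankOnePartners S P, R P Q := by
    intro P hP Q hQ
    obtain ⟨E, -, -, hl⟩ := exists_line_partner hS hnd hP hQ
    obtain ⟨M, hM, hMP, hR⟩ := exists_commutator_partner hS.1 hP hQ hl
    have h1 : EAdj S S P M := ⟨hP, hM.1, line_partner_of_mem hS.1 hall hP hl hM hMP⟩
    exact (Relation.ReflTransGen.single (r := EAdj S S) h1).trans (hsymm (hrcc Q hQ.1 M hM.1 hR.1))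
  have hmem : ∀ {P}, R A P → P ∈ S := fun {P} h =>
    (Relation.ReflTransGen.cases_tail h).elim (fun e => e ▸ hA) fun ⟨_, _, e⟩ => e.2.1
  let K : Subgroup G :=
    { carrier := {g | ∀ P, R A P ↔ R A (conjBy P g)}
      one_mem' := fun P => by rw [cj_one]
      mul_mem' := fun {g h} hg hh P => by rw [← cj_cj]; exact (hh P).trans (hg _)
      inv_mem' := fun {g} hg P => by
        have h1 := hg (conjBy P g⁻¹)
        rw [cj_cj_inv] at h1
        exact h1.symm }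
  have hle : (⨆ Y ∈ S, Y) ≤ K := by
    refine iSup₂_le fun Y hY => ?_
    have fwd : ∀ y ∈ Y, ∀ P, R A P → R A (conjBy P y) := by
      intro y hy P hP
      by_cases hAY : R A Y
      · have h1 := hconj y ((hsymm hAY).trans hP)
        rw [show conjBy Y y = Y from cj_of_mem hy] at h1
        exact hAY.trans h1
      · rcases hS.1.pair P (hmem hP) Y hY with h | h | h
        · rwa [show conjBy P y = P from cj_of_comm fun x hx => (comm_of_bot h hx hy).symm]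
        · exact absurd (hP.trans (hrk P (hmem hP) Y ⟨hY, h⟩)) hAY
        · exact absurd (hP.trans (hrcc P (hmem hP) Y hY h.1)) hAY
    exact fun y hy P => ⟨fwd y hy P, fun h => by
      have h1 := fwd y⁻¹ (inv_mem hy) _ h
      rwa [cj_inv_cj] at h1⟩
  obtain ⟨g, rfl⟩ := hS.2.2 A hA X hX
  rw [hS.1.generates] at hle
  exact ((hle (Subgroup.mem_top g)) A).1 Relation.ReflTransGen.refl

theorem generated (hS : IsRootSubgroupClass S) (hnd : IsNondegenerateRootSet S) {A B : Subgroup G} (hA : A ∈ S)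
    (hB : B ∈ rankOnePartners S A) : (⨆ C ∈ linePartners S A, C) ⊔ B = ⊤ := by
  have hall := all_not_isolated hS hnd
  set H := (⨆ C ∈ linePartners S A, C) ⊔ B with hH
  have hline : ∀ C ∈ linePartners S A, C ≤ H := fun C hC =>
    (le_iSup₂ (f := fun C (_ : C ∈ linePartners S A) => C) C hC).trans le_sup_left
  have hBH : B ≤ H := le_sup_right
  have hAH : A ≤ H := by
    obtain ⟨E, -, -, hl⟩ := exists_line_partner hS hnd hA hB
    obtain ⟨R, hR, r1, r2⟩ := exists_third hS.1 hall hA hl A ⁅A, E⁆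
    obtain ⟨F, -, -, e⟩ := swap hS.1 hall hA hl hR ⟨hl.1.1, le_sup_right⟩ r2
    exact le_trans (e.symm ▸ le_sup_left)
      (sup_le (hline R (line_partner_of_mem hS.1 hall hA hl hR r1)) (hline _ hl))
  obtain ⟨x, hx, ex⟩ := other_mem hB.2
  have hxH : x ∈ H := (sup_le hAH hBH) hx
  have hconj : ∀ {g : G} {P : Subgroup G}, g ∈ H → P ≤ H → conjBy P g ≤ H := by
    rintro g P hg hP _ ⟨p, hp, rfl⟩
    exact mul_mem (mul_mem hg (hP hp)) (inv_mem hg)
  have hlineB : ∀ C ∈ linePartners S B, C ≤ H := by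
    intro C hC
    have h1 : conjBy C x⁻¹ ∈ linePartners S A := by
      have := line_conj hS.1 hC x⁻¹
      rwa [ex, cj_inv_cj] at this
    rw [← cj_cj_inv (A := C) x]
    exact hconj hxH (hline _ h1)
  have step : ∀ C ∈ linePartners S A, ∃ g ∈ H, C = conjBy A g := by
    intro C hC
    obtain ⟨M, hM, hF, eM, hMA, eL⟩ := centre_exists hS.1 hA hB hC
    have hFH : ⁅M, B⁆ ≤ H := by
      have hc := Subgroup.commutator_comm B M
      have h1 := (line_members hS.1 (hall B hB.1) hB.1 hM (hc.symm ▸ hF)).2.2.1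
      rw [hc] at h1
      exact hlineB _ (line_symm hB.1 h1 hF)
    have hAmem : A ∈ membersIn S (A ⊔ C) := ⟨hA, le_sup_left⟩
    have hMmem : M ∈ membersIn S (A ⊔ C) := ⟨hM, eL ▸ le_sup_right⟩
    by_cases hCM : C = M
    · obtain ⟨D, hD, eD, eL'⟩ := swap hS.1 hall hA hC hMmem hAmem hMA
      have hDH : D ≤ H := by
        have hc : ⁅D, M⁆ = A := (Subgroup.commutator_comm D M).trans eD
        have h1 := (line_members hS.1 (hall D hD) hD hM (hc.symm ▸ hA)).2.2.1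
        rw [hc] at h1
        exact hline D h1
      obtain ⟨f, hf, hf1⟩ := (Subgroup.bot_or_exists_ne_one _).resolve_left (hS.1.ne_bot _ hF)
      have hm := moved hS.1 hall hA hF (eM.symm ▸ hM) hf hf1
      have hR : conjBy A f ∈ membersIn S (A ⊔ C) := by
        refine ⟨hS.1.conj_mem A hA f, ?_⟩
        have h1 := mem_norm.1 (le_normalizer_line hS.1 hall hA hF (eM.symm ▸ hM) hf)
        rw [eM, eL] at h1
        exact h1 ▸ cj_mono le_sup_left f
      obtain ⟨d, hd, ed, -, -⟩ := move hS.1 hall hM hD hA eD eL' hR hm.1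
      refine ⟨d⁻¹ * f, mul_mem (inv_mem (hDH hd)) (hFH hf), ?_⟩
      rw [← cj_cj, ← ed, cj_inv_cj, hCM]
    · obtain ⟨f, hf, ef, -, -⟩ := move hS.1 hall hA hF hM eM eL ⟨hC.1.1, le_sup_right⟩ hCM
      exact ⟨f, hFH hf, ef.symm⟩
  have hall' : ∀ P ∈ S, ∃ g ∈ H, P = conjBy A g := by
    intro P hP
    have h := connected hS hnd A hA P hP
    clear hP
    induction h with
    | refl => exact ⟨1, one_mem _, cj_one.symm⟩
    | tail _ hbc ih =>
      obtain ⟨g, hg, rfl⟩ := ih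
      have h1 := line_conj hS.1 hbc.2.2 g⁻¹
      rw [cj_inv_cj] at h1
      obtain ⟨k, hk, e⟩ := step _ h1
      exact ⟨g * k, mul_mem hg hk, by rw [← cj_cj, ← e, cj_cj_inv]⟩
  rw [eq_top_iff, ← hS.1.generates]
  refine iSup₂_le fun P hP => ?_
  obtain ⟨g, hg, rfl⟩ := hall' P hP
  exact hconj hg hAH

end CfsgLib.Inv.RootLines
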