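import Cfsg.Agent.Inv.RootLine
import Cfsg.Agent.Inv.RootComp

/-!
Two commutator pairs forming a triangle give a rank one pair acting on a line.
-/

set_option autoImplicit false
set_option linter.unusedSectionVars false

namespace CfsgLib.Inv.RootTriangle

open Cfsg CfsgLib.Inv.RankOne CfsgLib.Inv.RootSet
open scoped commutatorElement

variable {G : Type*} [Group G] {S : Set (Subgroup G)}

theorem rcc_meet {A B : Subgroup G} (h : RootCommutatorCase S A B) (hne : ⁅A, B⁆ ≠ ⊥) :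
    A ⊓ ⁅A, B⁆ = ⊥ := by
  rw [Subgroup.eq_bot_iff_forall]
  intro z hz
  obtain ⟨hzA, hzC⟩ := Subgroup.mem_inf.1 hz
  by_contra hz1
  refine hne ?_
  rw [← h.2.2.1 z hzA hz1, Subgroup.closure_eq_bot_iff]
  rintro _ ⟨b, hb, rfl⟩
  show z * b * z⁻¹ * b⁻¹ = 1
  rw [h.2.1 z hzC b (Subgroup.mem_sup_right hb)]; group

theorem rcc_surj (hS : IsRootSubgroupSet S) {A B : Subgroup G} (hB : B ∈ S) (h : RootCommutatorCase S A B) {a : G}
    (ha : a ∈ A) (ha1 : a ≠ 1) : ∀ c ∈ ⁅A, B⁆, ∃ b ∈ B, a * b * a⁻¹ * b⁻¹ = c :=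
  closure_hom_image (f := fun b => a * b * a⁻¹ * b⁻¹)
    (fun b hb => by rw [← commutatorElement_def]; exact Subgroup.commutator_mem_commutator ha hb)
    (fun b hb b' hb' => rcc_hom hS hB h ha hb hb') (h.2.2.1 a ha ha1)

/-- A member translated by one of the commutator case partners. -/
theorem translate_eq {A B : Subgroup G} {a b : G} : b * a * b⁻¹ = (a * b * a⁻¹ * b⁻¹)⁻¹ * a := by group

theorem pair_of_triangle (hS : IsRootSubgroupSet S) {A B D : Subgroup G} (hA : A ∈ S) (hB : B ∈ S)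
    (hC : ⁅A, B⁆ ∈ S) (hD : D ∈ S) (hDC : ⁅D, ⁅A, B⁆⁆ = A) : IsRankOnePair B D := by
  have hR := commutator_case hS hA hB hC
  have hR' := commutator_case hS hD hC (hDC.symm ▸ hA)
  set C := ⁅A, B⁆ with hCdef
  have hCne : C ≠ ⊥ := hS.ne_bot C hC
  have hBC : ∀ b ∈ B, ∀ c ∈ C, c * b = b * c := fun b hb c hc => hR.2.1 c hc b (Subgroup.mem_sup_right hb)
  have hAC : ∀ a ∈ A, ∀ c ∈ C, c * a = a * c := fun a ha c hc => hR.2.1 c hc a (Subgroup.mem_sup_left ha)
  have hAD : ∀ a ∈ A, ∀ d ∈ D, a * d = d * a := fun a ha d hd =>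
    hR'.2.1 a (hDC.symm ▸ ha) d (Subgroup.mem_sup_left hd)
  have hAmeet : A ⊓ C = ⊥ := rcc_meet hR hCne
  have hcjA : ∀ d ∈ D, conjBy A d = A := fun d hd => cj_of_comm fun a ha => (hAD a ha d hd).symm
  rcases hS.pair B hB D hD with h | h | h
  · exfalso
    have hinv : ∀ d ∈ D, conjBy C d = C := fun d hd => by
      show (⁅A, B⁆).map (MulAut.conj d).toMonoidHom = ⁅A, B⁆
      rw [Subgroup.map_commutator]
      exact congrArg₂ (fun X Y : Subgroup G => ⁅X, Y⁆) (hcjA d hd) (cj_of_comm fun b hb => (comm_of_bot h hb hd).symm)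
    have hle : A ≤ C := by
      rw [← hDC, Subgroup.commutator_le]
      intro d hd c hc
      rw [commutatorElement_def]
      exact mul_mem ((hinv d hd).le (cj_mem hc d)) (inv_mem hc)
    refine hS.ne_bot A hA ?_
    rw [← hAmeet, inf_eq_left.2 hle]
  · exact h
  · exfalso
    have hEb : ∀ e ∈ ⁅B, D⁆, ∀ w ∈ B ⊔ D, e * w = w * e := h.2.1
    refine hS.ne_bot A hA ?_
    rw [← hDC, Subgroup.commutator_eq_bot_iff_le_centralizer]
    intro d hd
    rw [Subgroup.mem_centralizer_iff]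
    intro z hz
    by_contra hzd
    -- `z ∈ C` is a commutator `[a, b]`; write `a` as `[d₀, c]`
    have hd1 : d ≠ 1 := fun e => hzd (by rw [e, one_mul, mul_one])
    obtain ⟨a, ha, ha1⟩ := (Subgroup.bot_or_exists_ne_one A).resolve_left (hS.ne_bot A hA)
    obtain ⟨b, hb, hab⟩ := rcc_surj hS hB hR ha ha1 z hz
    obtain ⟨c, hc, hdc⟩ := rcc_surj hS hC hR' hd hd1 a (hDC.symm ▸ ha)
    -- the element `e = [b, d]` maps `C` into itself
    set e := b * d * b⁻¹ * d⁻¹ with he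
    have heE : e ∈ ⁅B, D⁆ := by rw [he, ← commutatorElement_def]; exact Subgroup.commutator_mem_commutator hb hd
    have hece : e * c * e⁻¹ ∈ C := by
      have hfixC : conjBy C e ≤ C := by
        show (⁅A, B⁆).map (MulAut.conj e).toMonoidHom ≤ ⁅A, B⁆
        rw [Subgroup.map_commutator, Subgroup.commutator_le]
        rintro _ ⟨a', ha', rfl⟩ _ ⟨b', hb', rfl⟩
        have hbe : e * b' * e⁻¹ = b' := by rw [hEb e heE b' (Subgroup.mem_sup_left hb'), mul_inv_cancel_right]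
        show ⁅e * a' * e⁻¹, e * b' * e⁻¹⁆ ∈ ⁅A, B⁆
        rw [hbe]
        refine Subgroup.commutator_mem_commutator ?_ hb'
        obtain ⟨d', hd', c', hc', rfl⟩ : ∃ d' ∈ D, ∃ c' ∈ C, d' * c' * d'⁻¹ * c'⁻¹ = a' := by
          obtain ⟨d₁, hd₁, hd₁1⟩ := (Subgroup.bot_or_exists_ne_one D).resolve_left (hS.ne_bot D hD)
          obtain ⟨c', hc', e'⟩ := rcc_surj hS hC hR' hd₁ hd₁1 a' (hDC.symm ▸ ha')
          exact ⟨d₁, hd₁, c', hc', e'⟩
        -- `e` centralises `d'`, so it maps `a'` into `[d', A ⊔ C]`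
        have hde : e * d' * e⁻¹ = d' := by rw [hEb e heE d' (Subgroup.mem_sup_right hd'), mul_inv_cancel_right]
        have hNC : ∀ w ∈ A ⊔ C, d' * w * d'⁻¹ * w⁻¹ ∈ A := by
          intro w hw
          obtain ⟨p, hp, q, hq, rfl⟩ := mem_sup_central (fun p hp q hq => (hAC p hp q hq).symm) hw
          have hm : d' * q * d'⁻¹ * q⁻¹ ∈ A := by
            rw [← hDC, ← commutatorElement_def]; exact Subgroup.commutator_mem_commutator hd' hq
          rw [show d' * (p * q) * d'⁻¹ * (p * q)⁻¹ = (d' * p * d'⁻¹) * (d' * q * d'⁻¹ * q⁻¹) * p⁻¹ by group,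
            show d' * p * d'⁻¹ = p by rw [← hAD p hp d' hd', mul_inv_cancel_right]]
          exact mul_mem (mul_mem hp hm) (inv_mem hp)
        have hN : ∀ w ∈ A ⊔ C, ∀ g ∈ B ⊔ D, g * w * g⁻¹ ∈ A ⊔ C := by
          intro w hw g hg
          have hle : B ⊔ D ≤ Subgroup.normalizer ((A ⊔ C : Subgroup G) : Set G) := by
            refine sup_le (fun b' hb' => ?_) (fun d'' hd'' => ?_)
            · rw [mem_norm]
              refine le_antisymm ?_ ?_ <;>
              · intro y hy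
                have key : ∀ b'' ∈ B, ∀ y ∈ A ⊔ C, b'' * y * b''⁻¹ ∈ A ⊔ C := by
                  intro b'' hb'' y hy
                  obtain ⟨p, hp, q, hq, rfl⟩ := mem_sup_central (fun p hp q hq => (hAC p hp q hq).symm) hy
                  rw [show b'' * (p * q) * b''⁻¹ = (b'' * p * b''⁻¹) * (b'' * q * b''⁻¹) by group,
                    show b'' * q * b''⁻¹ = q by rw [← hBC b'' hb'' q hq, mul_inv_cancel_right], translate_eq (A := A) (B := B)]
                  exact mul_mem (mul_mem (Subgroup.mem_sup_right (inv_mem (by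
                    rw [hCdef, ← commutatorElement_def]; exact Subgroup.commutator_mem_commutator hp hb'')))
                    (Subgroup.mem_sup_left hp)) (Subgroup.mem_sup_right hq)
                first
                | exact (fun hy' => by obtain ⟨w', hw', rfl⟩ := hy'; exact key b' hb' w' hw') hy
                | exact ⟨b'⁻¹ * y * b', by simpa using key b'⁻¹ (inv_mem hb') y hy,
                    by show b' * (b'⁻¹ * y * b') * b'⁻¹ = y; group⟩
            · rw [mem_norm]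
              refine le_antisymm ?_ ?_ <;>
              · intro y hy
                have key : ∀ d'' ∈ D, ∀ y ∈ A ⊔ C, d'' * y * d''⁻¹ ∈ A ⊔ C := by
                  intro d'' hd'' y hy
                  obtain ⟨p, hp, q, hq, rfl⟩ := mem_sup_central (fun p hp q hq => (hAC p hp q hq).symm) hy
                  rw [show d'' * (p * q) * d''⁻¹ = (d'' * p * d''⁻¹) * ((d'' * q * d''⁻¹ * q⁻¹) * q) by group,
                    show d'' * p * d''⁻¹ = p by rw [← hAD p hp d'' hd'', mul_inv_cancel_right]]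
                  exact mul_mem (Subgroup.mem_sup_left hp) (mul_mem (Subgroup.mem_sup_left (by
                    rw [← hDC, ← commutatorElement_def]; exact Subgroup.commutator_mem_commutator hd'' hq))
                    (Subgroup.mem_sup_right hq))
                first
                | exact (fun hy' => by obtain ⟨w', hw', rfl⟩ := hy'; exact key d'' hd'' w' hw') hy
                | exact ⟨d''⁻¹ * y * d'', by simpa using key d''⁻¹ (inv_mem hd'') y hy,
                    by show d'' * (d''⁻¹ * y * d'') * d''⁻¹ = y; group⟩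
          exact (Subgroup.mem_normalizer_iff.1 (hle hg) w).1 hw
        have heX : e ∈ B ⊔ D := by
          rw [he]
          exact mul_mem (mul_mem (mul_mem (Subgroup.mem_sup_left hb) (Subgroup.mem_sup_right hd))
            (inv_mem (Subgroup.mem_sup_left hb))) (inv_mem (Subgroup.mem_sup_right hd))
        rw [show e * (d' * c' * d'⁻¹ * c'⁻¹) * e⁻¹ =
          (e * d' * e⁻¹) * (e * c' * e⁻¹) * (e * d' * e⁻¹)⁻¹ * (e * c' * e⁻¹)⁻¹ by group, hde]
        exact hNC _ (hN c' (Subgroup.mem_sup_right hc') e heX)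
      exact hfixC (cj_mem hc e)
    -- compute `e c e⁻¹`
    have hba : b⁻¹ * a⁻¹ * b = a⁻¹ * (a * b⁻¹ * a⁻¹ * b⁻¹⁻¹) := by group
    have hz' : a * b⁻¹ * a⁻¹ * b⁻¹⁻¹ = z⁻¹ := by
      have h0 := rcc_hom hS hB hR ha hb (inv_mem hb)
      rw [mul_inv_cancel, inv_one, mul_one, mul_one, mul_inv_cancel, hab] at h0
      exact eq_inv_of_mul_eq_one_right h0.symm
    have h1 : d⁻¹ * c * d = a⁻¹ * c := by
      have e1 : d * c * d⁻¹ = a * c := by rw [← hdc]; group
      have e2 : d⁻¹ * a * d = a := by rw [mul_assoc, hAD a ha d hd, inv_mul_cancel_left]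
      calc d⁻¹ * c * d = (d⁻¹ * a * d)⁻¹ * (d⁻¹ * (a * c) * d) := by group
        _ = a⁻¹ * (d⁻¹ * (d * c * d⁻¹) * d) := by rw [e2, e1]
        _ = a⁻¹ * c := by group
    have h2 : e * c * e⁻¹ = b * (d * z⁻¹ * d⁻¹) * b⁻¹ * c := by
      calc e * c * e⁻¹ = b * (d * (b⁻¹ * (d⁻¹ * c * d) * b) * d⁻¹) * b⁻¹ := by rw [he]; group
        _ = b * (d * ((b⁻¹ * a⁻¹ * b) * (b⁻¹ * c * b)) * d⁻¹) * b⁻¹ := by rw [h1]; group
        _ = b * (d * (z⁻¹ * a⁻¹ * c) * d⁻¹) * b⁻¹ := by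
            rw [hba, hz', ← hAC _ (inv_mem ha) _ (inv_mem hz), show b⁻¹ * c * b = c by rw [mul_assoc, hBC b hb c hc, inv_mul_cancel_left]]
        _ = b * (d * z⁻¹ * d⁻¹) * ((d * a⁻¹ * d⁻¹) * (d * c * d⁻¹)) * b⁻¹ := by group
        _ = b * (d * z⁻¹ * d⁻¹) * c * b⁻¹ := by
            rw [show d * a⁻¹ * d⁻¹ = a⁻¹ by rw [← hAD _ (inv_mem ha) d hd, mul_inv_cancel_right],
              show d * c * d⁻¹ = a * c by rw [← hdc]; group, inv_mul_cancel_left]
        _ = _ := by rw [mul_assoc _ c, hBC b⁻¹ (inv_mem hb) c hc, ← mul_assoc]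
    set a₂ := d * z⁻¹ * d⁻¹ * z⁻¹⁻¹ with ha₂
    have ha₂A : a₂ ∈ A := by
      rw [← hDC, ha₂, ← commutatorElement_def]; exact Subgroup.commutator_mem_commutator hd (inv_mem hz)
    have h3 : b * (d * z⁻¹ * d⁻¹) * b⁻¹ = (a₂ * b * a₂⁻¹ * b⁻¹)⁻¹ * a₂ * z⁻¹ := by
      calc b * (d * z⁻¹ * d⁻¹) * b⁻¹ = (b * a₂ * b⁻¹) * (b * z⁻¹ * b⁻¹) := by rw [ha₂]; group
        _ = _ := by
          rw [show b * z⁻¹ * b⁻¹ = z⁻¹ by rw [← hBC b hb _ (inv_mem hz), mul_inv_cancel_right]]; group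
    rw [h2, h3] at hece
    have hcomC : a₂ * b * a₂⁻¹ * b⁻¹ ∈ C := by
      rw [hCdef, ← commutatorElement_def]; exact Subgroup.commutator_mem_commutator ha₂A hb
    have : a₂ ∈ A ⊓ C := by
      refine Subgroup.mem_inf.2 ⟨ha₂A, ?_⟩
      have := mul_mem (mul_mem (mul_mem hcomC hece) (inv_mem hc)) hz
      convert this using 1
      group
    rw [hAmeet, Subgroup.mem_bot] at this
    refine hzd ?_
    have h4 : d * z⁻¹ * d⁻¹ = z⁻¹ := mul_inv_eq_one.1 this
    have h5 : d * z⁻¹ = z⁻¹ * d := mul_inv_eq_iff_eq_mul.1 h4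
    exact ((Commute.inv_left_iff (a := z) (b := d)).1 (show Commute z⁻¹ d from h5.symm)).eq

theorem main (hS : IsRootSubgroupSet S) {A B D : Subgroup G} (hA : A ∈ S) (hB : B ∈ S)
    (hC : ⁅A, B⁆ ∈ S) (hD : D ∈ S) (hDC : ⁅D, ⁅A, B⁆⁆ = A) :
    IsRankOnePair B D ∧
    {E | ∃ x ∈ B ⊔ D, E = conjBy A x} = {E | ∃ x ∈ B ⊔ D, E = conjBy ⁅A, B⁆ x} ∧
    {E | ∃ x ∈ B ⊔ D, E = conjBy A x} = (fun b : G => conjBy A b) '' (B : Set G) ∪ {⁅A, B⁆} ∧
    {E | ∃ x ∈ B ⊔ D, E = conjBy A x} = (fun d : G => conjBy ⁅A, B⁆ d) '' (D : Set G) ∪ {A} ∧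
    IsSubgroupPartition (A ⊔ ⁅A, B⁆) {E | ∃ x ∈ B ⊔ D, E = conjBy A x} ∧
    ∀ x ∈ (B ⊔ D) ⊓ Subgroup.centralizer ((A ⊔ ⁅A, B⁆ : Subgroup G) : Set G), ∀ y ∈ B ⊔ D, x * y = y * x := by
  have hp := pair_of_triangle hS hA hB hC hD hDC
  have hR := commutator_case hS hA hB hC
  have hR' := commutator_case hS hD hC (hDC.symm ▸ hA)
  set C := ⁅A, B⁆ with hCdef
  have hCne : C ≠ ⊥ := hS.ne_bot C hC
  have hBC : ∀ b ∈ B, ∀ c ∈ C, c * b = b * c := fun b hb c hc => hR.2.1 c hc b (Subgroup.mem_sup_right hb)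
  have hAC : ∀ a ∈ A, ∀ c ∈ C, a * c = c * a := fun a ha c hc => (hR.2.1 c hc a (Subgroup.mem_sup_left ha)).symm
  have hAD : ∀ a ∈ A, ∀ d ∈ D, a * d = d * a := fun a ha d hd =>
    hR'.2.1 a (hDC.symm ▸ ha) d (Subgroup.mem_sup_left hd)
  have hmeet : A ⊓ C = ⊥ := rcc_meet hR hCne
  have hpB : ¬ IsIsolatedIn (FAdj S) S B := not_isolated_of_partner hB ⟨hD, hp⟩
  have hpD : ¬ IsIsolatedIn (FAdj S) S D := not_isolated_of_partner hD ⟨hB, RankOnePair_symm hp⟩
  have injB : ∀ a ∈ A, ∀ b ∈ B, b ≠ 1 → a * b = b * a → a = 1 := fun a ha b hb hb1 e =>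
    by_contra fun ha1 => RootSet.commutes_false hS hA hB (Or.inr hpB) hR ha ha1 hb hb1 e
  have injD : ∀ c ∈ C, ∀ d ∈ D, d ≠ 1 → d * c = c * d → c = 1 := fun c hc d hd hd1 e =>
    by_contra fun hc1 => RootSet.commutes_false hS hD hC (Or.inl hpD) hR' hd hd1 hc hc1 e
  -- fixed points
  have fixB : ∀ b ∈ B, b ≠ 1 → ∀ m ∈ A ⊔ C, b * m = m * b → m ∈ C := by
    intro b hb hb1 m hm e
    obtain ⟨a, ha, c, hc, rfl⟩ := mem_sup_central hAC hm
    have hcb : Commute c b := hBC b hb c hc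
    have h1 : Commute b a := by
      have := (show Commute b (a * c) from e).mul_right hcb.symm.inv_right
      rwa [mul_inv_cancel_right] at this
    rw [injB a ha b hb hb1 h1.eq.symm, one_mul]; exact hc
  have fixD : ∀ d ∈ D, d ≠ 1 → ∀ m ∈ A ⊔ C, d * m = m * d → m ∈ A := by
    intro d hd hd1 m hm e
    obtain ⟨a, ha, c, hc, rfl⟩ := mem_sup_central hAC hm
    have had : Commute a d := hAD a ha d hd
    have h1 : Commute d c := by
      have := had.symm.inv_right.mul_right (show Commute d (a * c) from e)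
      rwa [inv_mul_cancel_left] at this
    rw [injD c hc d hd hd1 h1.eq, mul_one]; exact ha
  -- the line is invariant
  have keyB : ∀ b ∈ B, ∀ y ∈ A ⊔ C, b * y * b⁻¹ ∈ A ⊔ C := by
    intro b hb y hy
    obtain ⟨p, hp', q, hq, rfl⟩ := mem_sup_central hAC hy
    rw [show b * (p * q) * b⁻¹ = (b * p * b⁻¹) * (b * q * b⁻¹) by group,
      show b * q * b⁻¹ = q by rw [← hBC b hb q hq, mul_inv_cancel_right], translate_eq (A := A) (B := B)]
    exact mul_mem (mul_mem (Subgroup.mem_sup_right (inv_mem (by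
      rw [hCdef, ← commutatorElement_def]; exact Subgroup.commutator_mem_commutator hp' hb)))
      (Subgroup.mem_sup_left hp')) (Subgroup.mem_sup_right hq)
  have keyD : ∀ d ∈ D, ∀ y ∈ A ⊔ C, d * y * d⁻¹ ∈ A ⊔ C := by
    intro d hd y hy
    obtain ⟨p, hp', q, hq, rfl⟩ := mem_sup_central hAC hy
    rw [show d * (p * q) * d⁻¹ = (d * p * d⁻¹) * ((d * q * d⁻¹ * q⁻¹) * q) by group,
      show d * p * d⁻¹ = p by rw [← hAD p hp' d hd, mul_inv_cancel_right]]
    exact mul_mem (Subgroup.mem_sup_left hp') (mul_mem (Subgroup.mem_sup_left (by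
      rw [← hDC, ← commutatorElement_def]; exact Subgroup.commutator_mem_commutator hd hq))
      (Subgroup.mem_sup_right hq))
  have cjA : ∀ d ∈ D, conjBy A d = A := fun d hd => cj_of_comm fun a ha => (hAD a ha d hd).symm
  have cjC : ∀ b ∈ B, conjBy C b = C := fun b hb => cj_of_comm fun c hc => (hBC b hb c hc).symm
  have cjN : ∀ x ∈ B ⊔ D, conjBy (A ⊔ C) x = A ⊔ C := by
    have hle : B ⊔ D ≤ Subgroup.normalizer ((A ⊔ C : Subgroup G) : Set G) := by
      refine sup_le (fun b hb => ?_) (fun d hd => ?_)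
      · rw [Subgroup.mem_normalizer_iff]
        exact fun y => ⟨keyB b hb y, fun hy => by simpa [mul_assoc] using keyB b⁻¹ (inv_mem hb) _ hy⟩
      · rw [Subgroup.mem_normalizer_iff]
        exact fun y => ⟨keyD d hd y, fun hy => by simpa [mul_assoc] using keyD d⁻¹ (inv_mem hd) _ hy⟩
    exact fun x hx => mem_norm.1 (hle hx)
  -- exchange of the two descriptions
  have exch : ∀ d ∈ D, ∀ b ∈ B, b ≠ 1 → d ≠ 1 → conjBy B d⁻¹ = conjBy D b⁻¹ → conjBy C d⁻¹ = conjBy A b⁻¹ := by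
    intro d hd b hb hb1 hd1 e
    obtain ⟨b₀, hb₀, hb₀1⟩ := (Subgroup.bot_or_exists_ne_one B).resolve_left (hS.ne_bot B hB)
    obtain ⟨d₀, hd₀, hd₀1⟩ := (Subgroup.bot_or_exists_ne_one D).resolve_left (hS.ne_bot D hD)
    refine le_antisymm (fun m hm => ?_) (fun m hm => ?_)
    · have hmN : m ∈ A ⊔ C := (cjN _ (inv_mem (Subgroup.mem_sup_right hd))).le
        (Subgroup.map_mono le_sup_right hm)
      have hcomm : ∀ w ∈ conjBy D b⁻¹, w * m = m * w := by
        rw [← e]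
        rintro _ ⟨b', hb', rfl⟩
        obtain ⟨c', hc', rfl⟩ := hm
        show MulAut.conj d⁻¹ b' * MulAut.conj d⁻¹ c' = MulAut.conj d⁻¹ c' * MulAut.conj d⁻¹ b'
        rw [← map_mul, ← map_mul, hBC b' hb' c' hc']
      have h1 : b * m * b⁻¹ ∈ A := by
        refine fixD d₀ hd₀ hd₀1 _ (keyB b hb m hmN) ?_
        have h2 := hcomm _ (cj_mem hd₀ b⁻¹)
        calc d₀ * (b * m * b⁻¹) = b * ((b⁻¹ * d₀ * b⁻¹⁻¹) * m) * b⁻¹ := by group
          _ = b * (m * (b⁻¹ * d₀ * b⁻¹⁻¹)) * b⁻¹ := by rw [h2]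
          _ = _ := by group
      exact mem_cj.2 (by rwa [inv_inv])
    · have hmN : m ∈ A ⊔ C := (cjN _ (inv_mem (Subgroup.mem_sup_left hb))).le
        (Subgroup.map_mono le_sup_left hm)
      have hcomm : ∀ w ∈ conjBy B d⁻¹, w * m = m * w := by
        rw [e]
        rintro _ ⟨d', hd', rfl⟩
        obtain ⟨a', ha', rfl⟩ := hm
        show MulAut.conj b⁻¹ d' * MulAut.conj b⁻¹ a' = MulAut.conj b⁻¹ a' * MulAut.conj b⁻¹ d'
        rw [← map_mul, ← map_mul, hAD a' ha' d' hd']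
      have h1 : d * m * d⁻¹ ∈ C := by
        refine fixB b₀ hb₀ hb₀1 _ (keyD d hd m hmN) ?_
        have h2 := hcomm _ (cj_mem hb₀ d⁻¹)
        calc b₀ * (d * m * d⁻¹) = d * ((d⁻¹ * b₀ * d⁻¹⁻¹) * m) * d⁻¹ := by group
          _ = d * (m * (d⁻¹ * b₀ * d⁻¹⁻¹)) * d⁻¹ := by rw [h2]
          _ = _ := by group
      exact mem_cj.2 (by rwa [inv_inv])
  set T₁ := (fun b : G => conjBy A b) '' (B : Set G) ∪ {C} with hT1
  set T₂ := (fun d : G => conjBy C d) '' (D : Set G) ∪ {A} with hT2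
  have h12 : T₁ = T₂ := by
    ext E
    constructor
    · rintro (⟨b, hb, rfl⟩ | rfl)
      · by_cases hb1 : b = 1
        · right; show conjBy A b = A; rw [hb1, cj_one]
        · obtain ⟨d, hd, hd1, e⟩ := hp.cond_left b⁻¹ (inv_mem hb) (inv_ne_one.2 hb1)
          left
          refine ⟨d⁻¹, inv_mem hd, ?_⟩
          show conjBy C d⁻¹ = conjBy A b
          have := exch d hd b⁻¹ (inv_mem hb) (inv_ne_one.2 hb1) hd1 (by rw [e])
          rwa [inv_inv] at this
      · exact Or.inl ⟨1, one_mem _, cj_one⟩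
    · rintro (⟨d, hd, rfl⟩ | rfl)
      · by_cases hd1 : d = 1
        · right; show conjBy C d = C; rw [hd1, cj_one]
        · obtain ⟨b, hb, hb1, e⟩ := hp.cond_right d⁻¹ (inv_mem hd) (inv_ne_one.2 hd1)
          left
          refine ⟨b⁻¹, inv_mem hb, ?_⟩
          show conjBy A b⁻¹ = conjBy C d
          have := exch d⁻¹ (inv_mem hd) b hb hb1 (inv_ne_one.2 hd1) (by rw [e])
          rw [inv_inv] at this
          exact this.symm
      · exact Or.inl ⟨1, one_mem _, cj_one⟩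
  have hinv : ∀ x ∈ B ⊔ D, ∀ E, E ∈ T₁ ↔ conjBy E x ∈ T₁ := by
    let K : Subgroup G :=
      { carrier := {x | ∀ E, E ∈ T₁ ↔ conjBy E x ∈ T₁}
        one_mem' := fun E => by rw [cj_one]
        mul_mem' := fun {x y} hx hy E => by rw [← cj_cj]; exact (hy E).trans (hx _)
        inv_mem' := fun {x} hx E => by rw [hx (conjBy E x⁻¹), cj_cj_inv] }
    have hb1 : ∀ b ∈ B, ∀ E ∈ T₁, conjBy E b ∈ T₁ := by
      rintro b hb E (⟨b', hb', rfl⟩ | rfl)
      · exact Or.inl ⟨b * b', mul_mem hb hb', (cj_cj _ _).symm⟩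
      · exact Or.inr (cjC b hb)
    have hd1 : ∀ d ∈ D, ∀ E ∈ T₁, conjBy E d ∈ T₁ := by
      rw [h12]
      rintro d hd E (⟨d', hd', rfl⟩ | rfl)
      · exact Or.inl ⟨d * d', mul_mem hd hd', (cj_cj _ _).symm⟩
      · exact Or.inr (cjA d hd)
    have : B ⊔ D ≤ K := sup_le
      (fun b hb E => ⟨hb1 b hb E, fun hE => by simpa [cj_inv_cj] using hb1 _ (inv_mem hb) _ hE⟩)
      (fun d hd E => ⟨hd1 d hd E, fun hE => by simpa [cj_inv_cj] using hd1 _ (inv_mem hd) _ hE⟩)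
    exact fun x hx => this hx
  obtain ⟨w, hw, hwAC⟩ : ∃ w ∈ B ⊔ D, conjBy A w = C := by
    obtain ⟨d, hd, hd1⟩ := (Subgroup.bot_or_exists_ne_one D).resolve_left (hS.ne_bot D hD)
    obtain ⟨b, hb, hb1, e⟩ := hp.cond_right d hd hd1
    refine ⟨d * b⁻¹, mul_mem (Subgroup.mem_sup_right hd) (inv_mem (Subgroup.mem_sup_left hb)), ?_⟩
    rw [← cj_cj, ← exch d hd b hb hb1 hd1 (by rw [e]), cj_cj_inv]
  have horb : {E | ∃ x ∈ B ⊔ D, E = conjBy A x} = T₁ := by
    ext E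
    constructor
    · rintro ⟨x, hx, rfl⟩
      exact (hinv x hx A).1 (Or.inl ⟨1, one_mem _, cj_one⟩)
    · rintro (⟨b, hb, rfl⟩ | rfl)
      · exact ⟨b, Subgroup.mem_sup_left hb, rfl⟩
      · exact ⟨w, hw, hwAC.symm⟩
  refine ⟨hp, ?_, horb, horb.trans h12, ?_, ?_⟩
  · ext E
    constructor
    · rintro ⟨x, hx, rfl⟩
      exact ⟨x * w⁻¹, mul_mem hx (inv_mem hw), by rw [← hwAC, cj_cj, inv_mul_cancel_right]⟩
    · rintro ⟨x, hx, rfl⟩
      exact ⟨x * w, mul_mem hx hw, by rw [← cj_cj, hwAC]⟩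
  · rw [horb]
    have hle : ∀ b ∈ B, conjBy A b ≤ A ⊔ C := by
      rintro b hb _ ⟨a, ha, rfl⟩; exact keyB b hb a (Subgroup.mem_sup_left ha)
    have hCA : ∀ b ∈ B, conjBy A b ⊓ C = ⊥ := fun b hb => by
      rw [← cjC b hb, ← Subgroup.map_inf _ _ _ (MulAut.conj b).injective, hmeet, Subgroup.map_bot]
    have hAA : ∀ b ∈ B, b ≠ 1 → A ⊓ conjBy A b = ⊥ := by
      intro b hb hb1
      rw [Subgroup.eq_bot_iff_forall]
      intro m hm
      obtain ⟨hmA, a, ha, rfl⟩ := Subgroup.mem_inf.1 hm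
      have hcm : a * b * a⁻¹ * b⁻¹ ∈ A ⊓ C := Subgroup.mem_inf.2 ⟨by
        have : (b * a * b⁻¹)⁻¹ ∈ A := inv_mem hmA
        have h' := mul_mem ha this
        rwa [show a * (b * a * b⁻¹)⁻¹ = a * b * a⁻¹ * b⁻¹ by group] at h', by
        rw [hCdef, ← commutatorElement_def]; exact Subgroup.commutator_mem_commutator ha hb⟩
      rw [hmeet, Subgroup.mem_bot, mul_inv_eq_one, mul_inv_eq_iff_eq_mul] at hcm
      show b * a * b⁻¹ = 1
      rw [injB a ha b hb hb1 hcm]; group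
    refine ⟨?_, ?_, ?_⟩
    · rintro E (⟨b, hb, rfl⟩ | rfl)
      · exact hle b hb
      · exact le_sup_right
    · intro m hm hm1
      obtain ⟨a, ha, c, hc, rfl⟩ := mem_sup_central hAC hm
      by_cases ha1 : a = 1
      · exact ⟨C, Or.inr rfl, by rwa [ha1, one_mul]⟩
      · obtain ⟨b, hb, e⟩ := rcc_surj hS hB hR ha ha1 c⁻¹ (inv_mem hc)
        refine ⟨conjBy A b, Or.inl ⟨b, hb, rfl⟩, a, ha, ?_⟩
        show b * a * b⁻¹ = a * c
        rw [translate_eq (A := A) (B := B), e, inv_inv, hAC a ha c hc]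
    · rintro E (⟨b, hb, rfl⟩ | rfl) E' (⟨b', hb', rfl⟩ | rfl) hne
      · show conjBy A b ⊓ conjBy A b' = ⊥
        rw [show conjBy A b' = conjBy (conjBy A (b⁻¹ * b')) b by rw [cj_cj, mul_inv_cancel_left],
          ← Subgroup.map_inf _ _ _ (MulAut.conj b).injective, hAA _ (mul_mem (inv_mem hb) hb') ?_, Subgroup.map_bot]
        intro e; exact hne (by rw [inv_mul_eq_one.1 e])
      · exact hCA b hb
      · rw [inf_comm]; exact hCA b' hb'
      · exact absurd rfl hne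
  · intro x hx y hy
    obtain ⟨hxX, hxc⟩ := Subgroup.mem_inf.1 hx
    refine kernel_central hp (fun U hU => ?_) y hy
    have hxfix : ∀ E : Subgroup G, E ≤ A ⊔ C → conjBy E x = E := fun E hE =>
      cj_of_comm fun m hm => (Subgroup.mem_centralizer_iff.1 hxc m (hE hm)).symm
    obtain ⟨b₀, hb₀, hb₀1⟩ := (Subgroup.bot_or_exists_ne_one B).resolve_left (hS.ne_bot B hB)
    obtain ⟨d₀, hd₀, hd₀1⟩ := (Subgroup.bot_or_exists_ne_one D).resolve_left (hS.ne_bot D hD)
    -- `x` fixes `B` and the conjugates of `D`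
    have hstab : ∀ g ∈ B ⊔ D, ∀ U' ∈ unipotentSubgroups B D, conjBy U' g = B →
        conjBy U' x = U' := by
      intro g hg U' hU' e
      set y' := g * x * g⁻¹ with hy'
      have hy'c : ∀ m ∈ A ⊔ C, m * y' = y' * m := by
        intro m hm
        have hm' : g⁻¹ * m * g ∈ A ⊔ C := by
          have := (cjN g⁻¹ (inv_mem hg)).le (cj_mem hm g⁻¹)
          rwa [inv_inv] at this
        calc m * y' = g * ((g⁻¹ * m * g) * x) * g⁻¹ := by rw [hy']; group
          _ = g * (x * (g⁻¹ * m * g)) * g⁻¹ := by rw [Subgroup.mem_centralizer_iff.1 hxc _ hm']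
          _ = _ := by rw [hy']; group
      have hy'X : y' ∈ B ⊔ D := mul_mem (mul_mem hg hxX) (inv_mem hg)
      have hBfix : conjBy B y' = B := by
        by_contra hneB
        obtain ⟨b, hb, eB⟩ := ((mem_unip hp).1 (cj_unip (self_mem hp) hy'X)).resolve_left hneB
        -- then `C` would be fixed by a conjugate of `D`
        obtain ⟨a, ha, ha1⟩ := (Subgroup.bot_or_exists_ne_one C).resolve_left hCne
        have h1 : b⁻¹ * a * b = a := by rw [mul_assoc, hBC b hb a ha, inv_mul_cancel_left]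
        have hwm : (b * d₀ * b⁻¹) ∈ conjBy B y' := eB ▸ cj_mem hd₀ b
        obtain ⟨b₁, hb₁, e1⟩ := hwm
        have hc1 : (b * d₀ * b⁻¹) * a = a * (b * d₀ * b⁻¹) := by
          rw [← e1]
          show y' * b₁ * y'⁻¹ * a = a * (y' * b₁ * y'⁻¹)
          have hay : Commute a y' := hy'c a (Subgroup.mem_sup_right ha)
          have hab : Commute a b₁ := hBC b₁ hb₁ a ha
          exact ((hay.mul_right hab).mul_right hay.inv_right).eq.symm
        refine ha1 (injD a ha d₀ hd₀ hd₀1 ?_)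
        calc d₀ * a = b⁻¹ * ((b * d₀ * b⁻¹) * (b * (b⁻¹ * a * b) * b⁻¹)) * b := by rw [h1]; group
          _ = b⁻¹ * ((b * d₀ * b⁻¹) * a) * b := by group
          _ = b⁻¹ * (a * (b * d₀ * b⁻¹)) * b := by rw [hc1]
          _ = (b⁻¹ * a * b) * d₀ := by group
          _ = a * d₀ := by rw [h1]
      have hU'eq : U' = conjBy B g⁻¹ := by rw [← e, cj_inv_cj]
      rw [hU'eq, cj_cj, show x * g⁻¹ = g⁻¹ * y' by rw [hy']; group, ← cj_cj, hBfix]
    obtain ⟨g, hg, rfl⟩ := hU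
    exact hstab g⁻¹ (inv_mem hg) _ ⟨g, hg, rfl⟩ (cj_inv_cj g)

end CfsgLib.Inv.RootTriangle
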