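import Cfsg.Agent.Inv.RootLine
import Cfsg.Agent.Inv.RootComp
import Cfsg.Agent.Inv.RootTriangle

/-!
Two commutator pairs with commuting outer members generate a nilpotent group.
-/

set_option autoImplicit false
set_option linter.unusedSectionVars false

namespace CfsgLib.Inv.RootNilpotent

open Cfsg CfsgLib.Inv.RankOne CfsgLib.Inv.RootSet
open scoped commutatorElement

variable {G : Type*} [Group G] {S : Set (Subgroup G)}

/-- The ambient image of the upper central series of a subgroup. -/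
def zser (R : Subgroup G) (n : ℕ) : Subgroup G := (Subgroup.upperCentralSeries ↥R n).map R.subtype

theorem mem_zser_succ {R : Subgroup G} {n : ℕ} {x : G} (hx : x ∈ R) {s : Set G} (hs : Subgroup.closure s = R)
    (h : ∀ g ∈ s, x * g * x⁻¹ * g⁻¹ ∈ zser R n) : x ∈ zser R (n + 1) := by
  refine Subgroup.mem_map.2 ⟨⟨x, hx⟩, (Subgroup.mem_upperCentralSeries_succ_iff).2 fun y => ?_, rfl⟩
  haveI : (Subgroup.upperCentralSeries ↥R n).Normal := inferInstance
  set Z := Subgroup.upperCentralSeries ↥R n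
  let T : Subgroup ↥R :=
    { carrier := {y | ⁅(⟨x, hx⟩ : ↥R), y⁆ ∈ Z}
      one_mem' := by simp [Set.mem_setOf_eq, commutatorElement_def]
      mul_mem' := fun {a b} ha hb => by
        show ⁅(⟨x, hx⟩ : ↥R), a * b⁆ ∈ Z
        rw [show ⁅(⟨x, hx⟩ : ↥R), a * b⁆ = ⁅(⟨x, hx⟩ : ↥R), a⁆ * (a * ⁅(⟨x, hx⟩ : ↥R), b⁆ * a⁻¹) by
          rw [commutatorElement_def, commutatorElement_def, commutatorElement_def]; group]
        exact mul_mem ha (‹Z.Normal›.conj_mem _ hb a)
      inv_mem' := fun {a} ha => by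
        show ⁅(⟨x, hx⟩ : ↥R), a⁻¹⁆ ∈ Z
        rw [show ⁅(⟨x, hx⟩ : ↥R), a⁻¹⁆ = a⁻¹ * ⁅(⟨x, hx⟩ : ↥R), a⁆⁻¹ * a⁻¹⁻¹ by
          rw [commutatorElement_def, commutatorElement_def]; group]
        exact ‹Z.Normal›.conj_mem _ (inv_mem ha) a⁻¹ }
  have hle : R ≤ T.map R.subtype := by
    conv_lhs => rw [← hs]
    refine (Subgroup.closure_le _).2 fun g hg => ?_
    have hgR : g ∈ R := hs ▸ Subgroup.subset_closure hg
    refine Subgroup.mem_map.2 ⟨⟨g, hgR⟩, ?_, rfl⟩
    obtain ⟨z, hz, hze⟩ := h g hg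
    show ⁅(⟨x, hx⟩ : ↥R), ⟨g, hgR⟩⁆ ∈ Z
    rwa [show ⁅(⟨x, hx⟩ : ↥R), ⟨g, hgR⟩⁆ = z from Subtype.ext hze.symm]
  obtain ⟨y', hy', e⟩ := hle y.2
  rwa [show y' = y from Subtype.ext e] at hy'

theorem one_pair (hS : IsRootSubgroupSet S) {A B C : Subgroup G} (hA : A ∈ S) (hB : B ∈ S) (hC : C ∈ S)
    (hAB : RootCommutatorCase S A B) (hBC : RootCommutatorCase S B C) (hAC : ⁅A, C⁆ = ⊥) {b : G} (hb : b ∈ B)
    (hb1 : b ≠ 1) :
    ⁅A, conjBy C b⁻¹⁆ = ⊥ ∨ RootCommutatorCase S A (conjBy C b⁻¹) := by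
  rcases hS.pair A hA _ (hS.conj_mem C hC b⁻¹) with h | h | h
  · exact Or.inl h
  · exfalso
    obtain ⟨a, ha, hne⟩ : ∃ a ∈ A, b⁻¹ * a * b ≠ a := by
      by_contra hcon
      push Not at hcon
      refine hS.ne_bot _ hAB.1 ?_
      rw [← hAB.2.2.2 b hb hb1, Subgroup.closure_eq_bot_iff]
      rintro _ ⟨a, ha, rfl⟩
      show a * b * a⁻¹ * b⁻¹ = 1
      have e := hcon a ha
      have e' : a * b = b * a := by
        calc a * b = b * (b⁻¹ * a * b) := by group
          _ = b * a := by rw [e]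
      rw [e']; group
    have ha1 : a ≠ 1 := fun e => hne (by rw [e]; group)
    have he : a * b⁻¹ * a⁻¹ * b⁻¹⁻¹ ∈ ⁅A, B⁆ := by
      rw [← commutatorElement_def]; exact Subgroup.commutator_mem_commutator ha (inv_mem hb)
    have hz : b⁻¹ * a * b ∈ Subgroup.centralizer ((A ⊔ conjBy C b⁻¹ : Subgroup G) : Set G) := by
      have hle : A ⊔ conjBy C b⁻¹ ≤ Subgroup.centralizer ({b⁻¹ * a * b} : Set G) := by
        refine sup_le (fun w hw => ?_) ?_
        · rw [Subgroup.mem_centralizer_singleton_iff]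
          have c1 : Commute (a * b⁻¹ * a⁻¹ * b⁻¹⁻¹) w := hAB.2.1 _ he w (Subgroup.mem_sup_left hw)
          have c2 : Commute a w := cj_fix_of_comm hS hA ha w hw
          have e : b⁻¹ * a * b = (a * b⁻¹ * a⁻¹ * b⁻¹⁻¹)⁻¹ * a := by group
          rw [e]
          exact (c1.inv_left.mul_left c2).eq.symm
        · rintro _ ⟨c, hc, rfl⟩
          rw [Subgroup.mem_centralizer_singleton_iff]
          show b⁻¹ * c * b⁻¹⁻¹ * (b⁻¹ * a * b) = b⁻¹ * a * b * (b⁻¹ * c * b⁻¹⁻¹)
          calc b⁻¹ * c * b⁻¹⁻¹ * (b⁻¹ * a * b) = b⁻¹ * (c * a) * b := by group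
            _ = b⁻¹ * (a * c) * b := by rw [comm_of_bot hAC ha hc]
            _ = _ := by group
      exact fun w hw => Subgroup.mem_centralizer_singleton_iff.1 (hle hw)
    refine translate_not_root hS hA ⟨hS.conj_mem C hC b⁻¹, h⟩ hz (fun e => ha1 ?_) (inv_mem ha)
      (inv_ne_one.2 ha1) ?_
    · calc a = b * (b⁻¹ * a * b) * b⁻¹ := by group
        _ = 1 := by rw [e]; group
    refine ⟨fun e => hne (mul_inv_eq_one.1 e), ⁅A, B⁆, hAB.1, ?_⟩
    rw [show b⁻¹ * a * b * a⁻¹ = (a * b⁻¹ * a⁻¹ * b⁻¹⁻¹)⁻¹ * (a * a⁻¹) by group, mul_inv_cancel, mul_one]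
    exact inv_mem he
  · exact Or.inr h

/-- The class of the group generated by a commuting or commutator pair. -/
theorem class_two (hS : IsRootSubgroupSet S) {P Q : Subgroup G} (hP : P ∈ S) (hQ : Q ∈ S)
    (h : ⁅P, Q⁆ = ⊥ ∨ RootCommutatorCase S P Q) :
    (∀ u ∈ P ⊔ Q, ∀ v ∈ P ⊔ Q, ∀ w ∈ P ⊔ Q, ⁅u, v⁆ * w = w * ⁅u, v⁆) ∧
    ⁅⁅P ⊔ Q, P ⊔ Q⁆, P ⊔ Q⁆ = ⊥ ∧ (IsMulCommutative ↥(P ⊔ Q) ↔ ⁅P, Q⁆ = ⊥) := by
  have hcen : ∀ z ∈ ⁅P, Q⁆, ∀ w ∈ P ⊔ Q, z * w = w * z := by
    rcases h with h | h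
    · intro z hz w _; rw [h, Subgroup.mem_bot] at hz; rw [hz, one_mul, mul_one]
    · exact h.2.1
  have hgen : ∀ u ∈ P ⊔ Q, ∀ v ∈ P ⊔ Q, ⁅u, v⁆ ∈ ⁅P, Q⁆ := by
    intro u hu v hv
    let X := P ⊔ Q
    let N : Subgroup ↥X := ⁅P, Q⁆.subgroupOf X
    have hNn : N.Normal := ⟨fun z hz g => by
      rw [Subgroup.mem_subgroupOf] at hz ⊢
      show (g : G) * z * (g : G)⁻¹ ∈ ⁅P, Q⁆
      rwa [← hcen _ hz g g.2, mul_inv_cancel_right]⟩
    let q := QuotientGroup.mk' N
    have hcomm : ∀ a : ↥X, ((a : G) ∈ P ∨ (a : G) ∈ Q) → ∀ c : ↥X, ((c : G) ∈ P ∨ (c : G) ∈ Q) → q a * q c = q c * q a := by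
      intro a ha c hc
      rw [← map_mul, ← map_mul, QuotientGroup.mk'_apply, QuotientGroup.mk'_apply, QuotientGroup.eq,
        Subgroup.mem_subgroupOf]
      show ((a : G) * c)⁻¹ * ((c : G) * a) ∈ ⁅P, Q⁆
      rcases ha with ha | ha <;> rcases hc with hc | hc
      · rw [cj_fix_of_comm hS hP ha c hc, inv_mul_cancel]; exact one_mem _
      · rw [show ((a : G) * c)⁻¹ * ((c : G) * a) = ⁅(c : G)⁻¹, (a : G)⁻¹⁆ by rw [commutatorElement_def]; group,
          Subgroup.commutator_comm]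
        exact Subgroup.commutator_mem_commutator (inv_mem hc) (inv_mem ha)
      · rw [show ((a : G) * c)⁻¹ * ((c : G) * a) = ⁅(c : G)⁻¹, (a : G)⁻¹⁆ by rw [commutatorElement_def]; group]
        exact Subgroup.commutator_mem_commutator (inv_mem hc) (inv_mem ha)
      · rw [cj_fix_of_comm hS hQ ha c hc, inv_mul_cancel]; exact one_mem _
    let s : Set ↥X := {a | (a : G) ∈ P ∨ (a : G) ∈ Q}
    have htop : Subgroup.closure s = ⊤ := by
      rw [eq_top_iff]
      intro a _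
      have hle : X ≤ (Subgroup.closure s).map X.subtype := sup_le
        (fun w hw => ⟨⟨w, Subgroup.mem_sup_left hw⟩, Subgroup.subset_closure (Or.inl hw), rfl⟩)
        (fun w hw => ⟨⟨w, Subgroup.mem_sup_right hw⟩, Subgroup.subset_closure (Or.inr hw), rfl⟩)
      obtain ⟨a', ha', e⟩ := hle a.2
      rwa [show a' = a from Subtype.ext e] at ha'
    have hc := RootSet.commute_of_closure (s := q '' s) (t := q '' s)
      (by rintro _ ⟨a, ha, rfl⟩ _ ⟨c, hc, rfl⟩; exact hcomm a ha c hc)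
      (u := q ⟨u, hu⟩) (v := q ⟨v, hv⟩)
      (by rw [← MonoidHom.map_closure, htop]; exact Subgroup.mem_map_of_mem q (Subgroup.mem_top _))
      (by rw [← MonoidHom.map_closure, htop]; exact Subgroup.mem_map_of_mem q (Subgroup.mem_top _))
    have h2 : q ⁅(⟨u, hu⟩ : ↥X), ⟨v, hv⟩⁆ = 1 := by
      rw [commutatorElement_def, map_mul, map_mul, map_mul, map_inv, map_inv, hc]; group
    exact Subgroup.mem_subgroupOf.1 ((QuotientGroup.eq_one_iff _).1 h2)
  refine ⟨fun u hu v hv w hw => hcen _ (hgen u hu v hv) w hw, ?_, ?_⟩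
  · rw [Subgroup.commutator_eq_bot_iff_le_centralizer, Subgroup.commutator_le]
    intro u hu v hv
    rw [Subgroup.mem_centralizer_iff]
    intro w hw
    exact (hcen _ (hgen u hu v hv) w hw).symm
  · constructor
    · intro hc
      rw [Subgroup.commutator_eq_bot_iff_le_centralizer]
      intro u hu
      rw [Subgroup.mem_centralizer_iff]
      intro v hv
      exact congrArg Subtype.val (hc.is_comm.comm (⟨v, Subgroup.mem_sup_right hv⟩ : ↥(P ⊔ Q)) ⟨u, Subgroup.mem_sup_left hu⟩)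
    · intro h0
      refine ⟨⟨fun u v => Subtype.ext ?_⟩⟩
      have := hgen u u.2 v v.2
      rw [h0, Subgroup.mem_bot, commutatorElement_eq_one_iff_mul_comm] at this
      exact this

/-- A conjugate of `A` by an element of `B` together with `A` spans the line. -/
theorem sup_cj (hS : IsRootSubgroupSet S) {A B : Subgroup G} (hA : A ∈ S) (hAB : RootCommutatorCase S A B) {b : G}
    (hb : b ∈ B) (hb1 : b ≠ 1) : A ⊔ conjBy A b⁻¹ = A ⊔ ⁅A, B⁆ := by
  refine le_antisymm (sup_le le_sup_left ?_) (sup_le le_sup_left ?_)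
  · rintro _ ⟨a, ha, rfl⟩
    show b⁻¹ * a * b⁻¹⁻¹ ∈ A ⊔ ⁅A, B⁆
    rw [RootTriangle.translate_eq (A := A) (B := B)]
    refine mul_mem (Subgroup.mem_sup_right (inv_mem ?_)) (Subgroup.mem_sup_left ha)
    rw [← commutatorElement_def]; exact Subgroup.commutator_mem_commutator ha (inv_mem hb)
  · intro e he
    obtain ⟨a, ha, hae⟩ := RootTriangle.rcc_surj hS hA (rcc_symm hAB) (inv_mem hb) (inv_ne_one.2 hb1) e
      (Subgroup.commutator_comm A B ▸ he)
    rw [← hae]
    exact mul_mem (Subgroup.mem_sup_right (cj_mem ha b⁻¹)) (inv_mem (Subgroup.mem_sup_left ha))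

theorem main (hS : IsRootSubgroupSet S) {A B C : Subgroup G} (hA : A ∈ S) (hB : B ∈ S) (hC : C ∈ S)
    (hAB' : ⁅A, B⁆ ∈ S) (hBC' : ⁅B, C⁆ ∈ S) (hAC' : C ∈ commutingPartners S A) {b : G} (hb : b ∈ B) (hb1 : b ≠ 1) :
    ((IsMulCommutative ↥(A ⊔ conjBy C b⁻¹) ∧ IsMulCommutative ↥(conjBy A b⁻¹ ⊔ C)) ∨
      ((¬ IsMulCommutative ↥(A ⊔ conjBy C b⁻¹) ∧
          ⁅⁅A ⊔ conjBy C b⁻¹, A ⊔ conjBy C b⁻¹⁆, A ⊔ conjBy C b⁻¹⁆ = ⊥) ∧
        (¬ IsMulCommutative ↥(conjBy A b⁻¹ ⊔ C) ∧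
          ⁅⁅conjBy A b⁻¹ ⊔ C, conjBy A b⁻¹ ⊔ C⁆, conjBy A b⁻¹ ⊔ C⁆ = ⊥))) ∧
    ⁅A ⊔ conjBy C b⁻¹, conjBy A b⁻¹ ⊔ C⁆ = ⊥ ∧
    (∀ r ∈ A ⊔ B ⊔ C, conjBy ((A ⊔ conjBy C b⁻¹) ⊔ (conjBy A b⁻¹ ⊔ C)) r =
      (A ⊔ conjBy C b⁻¹) ⊔ (conjBy A b⁻¹ ⊔ C)) ∧
    ((A ⊔ conjBy C b⁻¹) ⊔ (conjBy A b⁻¹ ⊔ C)) ⊔ B = A ⊔ B ⊔ C ∧
    Group.IsNilpotent ↥(A ⊔ B ⊔ C) := by
  have hAB := commutator_case hS hA hB hAB'
  have hBC := commutator_case hS hB hC hBC'
  obtain ⟨-, -, hAC⟩ := hAC'
  have hCA : ⁅C, A⁆ = ⊥ := by rw [Subgroup.commutator_comm, hAC]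
  set E := ⁅A, B⁆ with hEdef
  set F := ⁅B, C⁆ with hFdef
  set A' := conjBy A b⁻¹ with hA'
  set C' := conjBy C b⁻¹ with hC'
  have hAE : A ⊔ A' = A ⊔ E := sup_cj hS hA hAB hb hb1
  have hCF : C ⊔ C' = C ⊔ F := by
    have := sup_cj hS hC (rcc_symm hBC) hb hb1
    rwa [Subgroup.commutator_comm C B] at this
  -- the two factors commute
  have hAA' : ⁅A, A'⁆ = ⊥ := by
    rw [Subgroup.commutator_eq_bot_iff_le_centralizer]
    intro a ha
    rw [Subgroup.mem_centralizer_iff]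
    intro w hw
    have hw' : w ∈ A ⊔ E := hAE ▸ Subgroup.mem_sup_right hw
    have hle : A ⊔ E ≤ Subgroup.centralizer ({a} : Set G) := sup_le
      (fun y hy => Subgroup.mem_centralizer_singleton_iff.2 (cj_fix_of_comm hS hA ha y hy).symm)
      (fun y hy => Subgroup.mem_centralizer_singleton_iff.2 (hAB.2.1 y hy a (Subgroup.mem_sup_left ha)))
    exact Subgroup.mem_centralizer_singleton_iff.1 (hle hw')
  have hCC' : ⁅C', C⁆ = ⊥ := by
    rw [Subgroup.commutator_comm, Subgroup.commutator_eq_bot_iff_le_centralizer]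
    intro c hc
    rw [Subgroup.mem_centralizer_iff]
    intro w hw
    have hw' : w ∈ C ⊔ F := hCF ▸ Subgroup.mem_sup_right hw
    have hle : C ⊔ F ≤ Subgroup.centralizer ({c} : Set G) := sup_le
      (fun y hy => Subgroup.mem_centralizer_singleton_iff.2 (cj_fix_of_comm hS hC hc y hy).symm)
      (fun y hy => Subgroup.mem_centralizer_singleton_iff.2 (hBC.2.1 y hy c (Subgroup.mem_sup_right hc)))
    exact Subgroup.mem_centralizer_singleton_iff.1 (hle hw')
  have hC'A' : ⁅C', A'⁆ = ⊥ := by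
    rw [hC', hA']
    show ⁅C.map (MulAut.conj b⁻¹).toMonoidHom, A.map (MulAut.conj b⁻¹).toMonoidHom⁆ = ⊥
    rw [← Subgroup.map_commutator, hCA, Subgroup.map_bot]
  have hXY : ⁅A ⊔ C', A' ⊔ C⁆ = ⊥ := by
    rw [Subgroup.commutator_eq_bot_iff_le_centralizer]
    refine sup_le ?_ ?_
    · intro a ha
      rw [Subgroup.mem_centralizer_iff]
      intro w hw
      have hle : A' ⊔ C ≤ Subgroup.centralizer ({a} : Set G) := sup_le
        (fun y hy => Subgroup.mem_centralizer_singleton_iff.2 (comm_of_bot hAA' ha hy).symm)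
        (fun y hy => Subgroup.mem_centralizer_singleton_iff.2 (comm_of_bot hAC ha hy).symm)
      exact Subgroup.mem_centralizer_singleton_iff.1 (hle hw)
    · intro c' hc'
      rw [Subgroup.mem_centralizer_iff]
      intro w hw
      have hle : A' ⊔ C ≤ Subgroup.centralizer ({c'} : Set G) := sup_le
        (fun y hy => Subgroup.mem_centralizer_singleton_iff.2 (comm_of_bot hC'A' hc' hy).symm)
        (fun y hy => Subgroup.mem_centralizer_singleton_iff.2 (comm_of_bot hCC' hc' hy).symm)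
      exact Subgroup.mem_centralizer_singleton_iff.1 (hle hw)
  -- the two factors are of class at most two
  have hpX := one_pair hS hA hB hC hAB hBC hAC hb hb1
  have hpY : ⁅C, A'⁆ = ⊥ ∨ RootCommutatorCase S C A' :=
    one_pair hS hC hB hA (rcc_symm hBC) (rcc_symm hAB) hCA hb hb1
  obtain ⟨hXc, hX3, hXiff⟩ := class_two hS hA (hS.conj_mem C hC b⁻¹) hpX
  obtain ⟨hYc, hY3, hYiff⟩ := class_two hS hC (hS.conj_mem A hA b⁻¹) hpY
  rw [sup_comm C A'] at hY3 hYiff hYc
  -- both are abelian together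
  have hiff : ⁅A, C'⁆ = ⊥ ↔ ⁅C, A'⁆ = ⊥ := by
    have e1 : ⁅A, C'⁆ = ⊥ ↔ ⁅F, A⁆ = ⊥ := by
      rw [Subgroup.commutator_comm F A]
      constructor
      · intro h
        have : A ≤ Subgroup.centralizer ((C ⊔ C' : Subgroup G) : Set G) := by
          intro a ha
          rw [Subgroup.mem_centralizer_iff]
          intro w hw
          have hle : C ⊔ C' ≤ Subgroup.centralizer ({a} : Set G) := sup_le
            (fun y hy => Subgroup.mem_centralizer_singleton_iff.2 (comm_of_bot hAC ha hy).symm)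
            (fun y hy => Subgroup.mem_centralizer_singleton_iff.2 (comm_of_bot h ha hy).symm)
          exact Subgroup.mem_centralizer_singleton_iff.1 (hle hw)
        rw [Subgroup.commutator_eq_bot_iff_le_centralizer]
        exact this.trans (Subgroup.centralizer_le (by rw [hCF]; exact fun x hx => Subgroup.mem_sup_right hx))
      · intro h
        rw [Subgroup.commutator_eq_bot_iff_le_centralizer]
        intro a ha
        rw [Subgroup.mem_centralizer_iff]
        intro w hw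
        have hle : C ⊔ F ≤ Subgroup.centralizer ({a} : Set G) := sup_le
          (fun y hy => Subgroup.mem_centralizer_singleton_iff.2 (comm_of_bot hAC ha hy).symm)
          (fun y hy => Subgroup.mem_centralizer_singleton_iff.2 (comm_of_bot h ha hy).symm)
        exact Subgroup.mem_centralizer_singleton_iff.1 (hle (hCF ▸ Subgroup.mem_sup_right hw))
    have e2 : ⁅C, A'⁆ = ⊥ ↔ ⁅E, C⁆ = ⊥ := by
      rw [Subgroup.commutator_comm E C]
      constructor
      · intro h
        rw [Subgroup.commutator_eq_bot_iff_le_centralizer]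
        intro c hc
        rw [Subgroup.mem_centralizer_iff]
        intro w hw
        have hle : A ⊔ A' ≤ Subgroup.centralizer ({c} : Set G) := sup_le
          (fun y hy => Subgroup.mem_centralizer_singleton_iff.2 (comm_of_bot hAC hy hc))
          (fun y hy => Subgroup.mem_centralizer_singleton_iff.2 (comm_of_bot h hc hy).symm)
        exact Subgroup.mem_centralizer_singleton_iff.1 (hle (hAE ▸ Subgroup.mem_sup_right hw))
      · intro h
        rw [Subgroup.commutator_eq_bot_iff_le_centralizer]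
        intro c hc
        rw [Subgroup.mem_centralizer_iff]
        intro w hw
        have hle : A ⊔ E ≤ Subgroup.centralizer ({c} : Set G) := sup_le
          (fun y hy => Subgroup.mem_centralizer_singleton_iff.2 (comm_of_bot hAC hy hc))
          (fun y hy => Subgroup.mem_centralizer_singleton_iff.2 (comm_of_bot h hc hy).symm)
        exact Subgroup.mem_centralizer_singleton_iff.1 (hle (hAE ▸ Subgroup.mem_sup_right hw))
    rw [e1, e2]
    constructor
    · intro h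
      refine Subgroup.commutator_commutator_eq_bot_of_rotate (H₁ := A) (H₂ := B) (H₃ := C) h ?_
      rw [hCA, Subgroup.commutator_bot_left]
    · intro h
      refine Subgroup.commutator_commutator_eq_bot_of_rotate (H₁ := B) (H₂ := C) (H₃ := A) ?_ h
      rw [hCA, Subgroup.commutator_bot_left]
  set N := (A ⊔ C') ⊔ (A' ⊔ C) with hN
  have hAN : A ≤ N := le_sup_left.trans le_sup_left
  have hCN : C ≤ N := le_sup_right.trans le_sup_right
  have hEN : E ≤ N := le_trans (hAE ▸ le_sup_right)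
    (sup_le hAN (le_sup_left.trans le_sup_right))
  have hFN : F ≤ N := le_trans (hCF ▸ le_sup_right)
    (sup_le hCN (le_sup_right.trans le_sup_left))
  have hNle : N ≤ (A ⊔ E) ⊔ (C ⊔ F) := by
    rw [← hAE, ← hCF]
    exact sup_le (sup_le (le_sup_left.trans le_sup_left) (le_sup_right.trans le_sup_right))
      (sup_le (le_sup_right.trans le_sup_left) (le_sup_left.trans le_sup_right))
  have hBn : ∀ b' ∈ B, ∀ y ∈ N, b' * y * b'⁻¹ ∈ N := by
    intro b' hb' y hy
    have : (A ⊔ E) ⊔ (C ⊔ F) ≤ N.comap (MulAut.conj b').toMonoidHom := by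
      refine sup_le (sup_le ?_ ?_) (sup_le ?_ ?_)
      · intro a ha
        show b' * a * b'⁻¹ ∈ N
        rw [RootTriangle.translate_eq (A := A) (B := B)]
        exact mul_mem (inv_mem (hEN (by
          rw [hEdef, ← commutatorElement_def]; exact Subgroup.commutator_mem_commutator ha hb'))) (hAN ha)
      · intro e he
        show b' * e * b'⁻¹ ∈ N
        rw [← hAB.2.1 e he b' (Subgroup.mem_sup_right hb'), mul_inv_cancel_right]; exact hEN he
      · intro c hc
        show b' * c * b'⁻¹ ∈ N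
        rw [show b' * c * b'⁻¹ = (b' * c * b'⁻¹ * c⁻¹) * c by group]
        exact mul_mem (hFN (by
          rw [hFdef, ← commutatorElement_def]; exact Subgroup.commutator_mem_commutator hb' hc)) (hCN hc)
      · intro f hf
        show b' * f * b'⁻¹ ∈ N
        rw [← hBC.2.1 f hf b' (Subgroup.mem_sup_left hb'), mul_inv_cancel_right]; exact hFN hf
    exact this (hNle hy)
  have hnorm : A ⊔ B ⊔ C ≤ Subgroup.normalizer (N : Set G) := by
    refine sup_le (sup_le (hAN.trans Subgroup.le_normalizer) fun b' hb' => ?_) (hCN.trans Subgroup.le_normalizer)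
    rw [Subgroup.mem_normalizer_iff]
    exact fun y => ⟨hBn b' hb' y, fun hy => by simpa [mul_assoc] using hBn b'⁻¹ (inv_mem hb') _ hy⟩
  have hR : N ⊔ B = A ⊔ B ⊔ C := by
    refine le_antisymm (sup_le ?_ (le_sup_right.trans le_sup_left))
      (sup_le (sup_le (hAN.trans le_sup_left) le_sup_right) (hCN.trans le_sup_left))
    have hcl : ∀ P : Subgroup G, P ≤ A ⊔ B ⊔ C → conjBy P b⁻¹ ≤ A ⊔ B ⊔ C := by
      rintro P hP _ ⟨p, hp, rfl⟩
      have hb' : b⁻¹ ∈ A ⊔ B ⊔ C := Subgroup.mem_sup_left (Subgroup.mem_sup_right (inv_mem hb))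
      exact mul_mem (mul_mem hb' (hP hp)) (inv_mem hb')
    exact sup_le (sup_le (le_sup_left.trans le_sup_left) (hcl C le_sup_right))
      (sup_le (hcl A (le_sup_left.trans le_sup_left)) le_sup_right)
  refine ⟨?_, hXY, fun r hr => mem_norm.1 (hnorm hr), hR, ?_⟩
  · by_cases h : ⁅A, C'⁆ = ⊥
    · left
      exact ⟨hXiff.2 h, hYiff.2 (hiff.1 h)⟩
    · right
      exact ⟨⟨fun hc => h (hXiff.1 hc), hX3⟩, ⟨fun hc => h (hiff.2 (hYiff.1 hc)), hY3⟩⟩
  -- nilpotency
  set R := A ⊔ B ⊔ C with hRdef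
  have hAR : A ≤ R := le_sup_left.trans le_sup_left
  have hBR : B ≤ R := le_sup_right.trans le_sup_left
  have hCR : C ≤ R := le_sup_right
  have hNR : N ≤ R := hR ▸ le_sup_left
  let s : Set G := (A : Set G) ∪ B ∪ C
  have hs : Subgroup.closure s = R := by
    rw [Subgroup.closure_union, Subgroup.closure_union, Subgroup.closure_eq, Subgroup.closure_eq, Subgroup.closure_eq]
  have hmono : ∀ n, zser R n ≤ zser R (n + 1) := fun n =>
    Subgroup.map_mono (Subgroup.upperCentralSeries_mono _ (Nat.le_succ n))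
  have hNcen : ∀ u ∈ N, ∀ v ∈ N, ∀ w ∈ N, ⁅u, v⁆ * w = w * ⁅u, v⁆ := by
    intro u hu v hv w hw
    have hcomm : ∀ x ∈ A ⊔ C', ∀ y ∈ A' ⊔ C, x * y = y * x := fun x hx y hy => comm_of_bot hXY hx hy
    obtain ⟨x, hx, y, hy, rfl⟩ := mem_sup_central hcomm hu
    obtain ⟨x', hx', y', hy', rfl⟩ := mem_sup_central hcomm hv
    obtain ⟨x'', hx'', y'', hy'', rfl⟩ := mem_sup_central hcomm hw
    have k1 : ⁅x * y, x' * y'⁆ = ⁅x, x'⁆ * ⁅y, y'⁆ := by
      have c1 : Commute y x' := (hcomm x' hx' y hy).symm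
      have c2 : Commute y' x := (hcomm x hx y' hy').symm
      have c3 : Commute ⁅y, y'⁆ x := ((show Commute y x from (hcomm x hx y hy).symm).mul_left c2).mul_left
        (show Commute y x from (hcomm x hx y hy).symm).inv_left |>.mul_left c2.inv_left
      have c4 : Commute ⁅y, y'⁆ x' := (c1.mul_left (show Commute y' x' from (hcomm x' hx' y' hy').symm)).mul_left
        c1.inv_left |>.mul_left (show Commute y' x' from (hcomm x' hx' y' hy').symm).inv_left
      calc ⁅x * y, x' * y'⁆ = x * (y * x') * y' * y⁻¹ * x⁻¹ * y'⁻¹ * x'⁻¹ := by rw [commutatorElement_def]; group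
        _ = x * (x' * y) * y' * y⁻¹ * (x⁻¹ * y'⁻¹) * x'⁻¹ := by rw [c1.eq]; group
        _ = x * (x' * y) * y' * y⁻¹ * (y'⁻¹ * x⁻¹) * x'⁻¹ := by rw [(c2.inv_left.inv_right).eq]
        _ = x * x' * (⁅y, y'⁆ * (x⁻¹ * x'⁻¹)) := by rw [commutatorElement_def]; group
        _ = x * x' * ((x⁻¹ * x'⁻¹) * ⁅y, y'⁆) := by rw [(c3.inv_right.mul_right c4.inv_right).eq]
        _ = _ := by rw [commutatorElement_def x x']; group
    have hxX : ⁅x, x'⁆ ∈ A ⊔ C' := by
      rw [commutatorElement_def]; exact mul_mem (mul_mem (mul_mem hx hx') (inv_mem hx)) (inv_mem hx')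
    have hyY : ⁅y, y'⁆ ∈ A' ⊔ C := by
      rw [commutatorElement_def]; exact mul_mem (mul_mem (mul_mem hy hy') (inv_mem hy)) (inv_mem hy')
    rw [k1]
    have d1 : Commute ⁅x, x'⁆ (x'' * y'') :=
      (show Commute ⁅x, x'⁆ x'' from hXc x hx x' hx' x'' hx'').mul_right (hcomm _ hxX y'' hy'')
    have d2 : Commute ⁅y, y'⁆ (x'' * y'') :=
      (show Commute ⁅y, y'⁆ x'' from (hcomm x'' hx'' _ hyY).symm).mul_right (hYc y hy y' hy' y'' hy'')
    exact (d1.mul_left d2).eq
  have hEB : ∀ e ∈ E, ∀ b' ∈ B, e * b' = b' * e := fun e he b' hb' => hAB.2.1 e he b' (Subgroup.mem_sup_right hb')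
  have hFB : ∀ f ∈ F, ∀ b' ∈ B, f * b' = b' * f := fun f hf b' hb' => hBC.2.1 f hf b' (Subgroup.mem_sup_left hb')
  -- first layer
  have L1 : ∀ e ∈ E, ∀ f ∈ F, e * f * e⁻¹ * f⁻¹ ∈ zser R 1 := by
    intro e he f hf
    have hk : e * f * e⁻¹ * f⁻¹ ∈ N := mul_mem (mul_mem (mul_mem (hEN he) (hFN hf)) (inv_mem (hEN he))) (inv_mem (hFN hf))
    refine mem_zser_succ (n := 0) (hNR hk) hs fun g hg => ?_
    have key : Commute (e * f * e⁻¹ * f⁻¹) g := by
      rcases hg with (hg | hg) | hg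
      · have := hNcen e (hEN he) f (hFN hf) g (hAN hg)
        rwa [commutatorElement_def] at this
      · exact (((show Commute e g from hEB e he g hg).mul_left (hFB f hf g hg)).mul_left
          (show Commute e g from hEB e he g hg).inv_left).mul_left (show Commute f g from hFB f hf g hg).inv_left
      · have := hNcen e (hEN he) f (hFN hf) g (hCN hg)
        rwa [commutatorElement_def] at this
    rw [key.eq, mul_inv_cancel_right, mul_inv_cancel]
    exact one_mem _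
  have hconj1 : ∀ z ∈ zser R 1, ∀ r ∈ R, r * z * r⁻¹ ∈ zser R 1 := by
    rintro _ ⟨z, hz, rfl⟩ r hr
    exact ⟨⟨r, hr⟩ * z * ⟨r, hr⟩⁻¹, (inferInstance : (Subgroup.upperCentralSeries ↥R 1).Normal).conj_mem z hz _, rfl⟩
  -- second layer
  have L2a : ∀ a ∈ A, ∀ f ∈ F, a * f * a⁻¹ * f⁻¹ ∈ zser R 2 := by
    intro a ha f hf
    have hk : a * f * a⁻¹ * f⁻¹ ∈ N := mul_mem (mul_mem (mul_mem (hAN ha) (hFN hf)) (inv_mem (hAN ha))) (inv_mem (hFN hf))
    refine mem_zser_succ (n := 1) (hNR hk) hs fun g hg => ?_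
    rcases hg with (hg | hg) | hg
    · have := hNcen a (hAN ha) f (hFN hf) g (hAN hg)
      rw [commutatorElement_def] at this
      rw [this, mul_inv_cancel_right, mul_inv_cancel]; exact one_mem _
    · set k := a * f * a⁻¹ * f⁻¹ with hkdef
      set e0 := a⁻¹ * (g * a * g⁻¹) with he0
      have he0E : e0 ∈ E := by
        rw [he0, show a⁻¹ * (g * a * g⁻¹) = a⁻¹ * g * a⁻¹⁻¹ * g⁻¹ by group, hEdef, ← commutatorElement_def]
        exact Subgroup.commutator_mem_commutator (inv_mem ha) hg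
      have hf' : g * f * g⁻¹ = f := by rw [← hFB f hf g hg, mul_inv_cancel_right]
      have e1 : g * k * g⁻¹ = (a * (e0 * f * e0⁻¹ * f⁻¹) * a⁻¹) * k := by
        calc g * k * g⁻¹ = (g * a * g⁻¹) * (g * f * g⁻¹) * (g * a * g⁻¹)⁻¹ * (g * f * g⁻¹)⁻¹ := by rw [hkdef]; group
          _ = (a * e0) * f * (a * e0)⁻¹ * f⁻¹ := by rw [hf', he0]; group
          _ = _ := by rw [hkdef]; group
      have hzz := hconj1 _ (L1 e0 he0E f hf) a (hAR ha)
      have e2 : k * g * k⁻¹ * g⁻¹ = k * (g * k * g⁻¹)⁻¹ := by group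
      rw [e2, e1, _root_.mul_inv_rev, mul_inv_cancel_left]
      exact inv_mem hzz
    · have := hNcen a (hAN ha) f (hFN hf) g (hCN hg)
      rw [commutatorElement_def] at this
      rw [this, mul_inv_cancel_right, mul_inv_cancel]; exact one_mem _
  have L2c : ∀ e ∈ E, ∀ c ∈ C, e * c * e⁻¹ * c⁻¹ ∈ zser R 2 := by
    intro e he c hc
    have hk : e * c * e⁻¹ * c⁻¹ ∈ N := mul_mem (mul_mem (mul_mem (hEN he) (hCN hc)) (inv_mem (hEN he))) (inv_mem (hCN hc))
    refine mem_zser_succ (n := 1) (hNR hk) hs fun g hg => ?_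
    rcases hg with (hg | hg) | hg
    · have := hNcen e (hEN he) c (hCN hc) g (hAN hg)
      rw [commutatorElement_def] at this
      rw [this, mul_inv_cancel_right, mul_inv_cancel]; exact one_mem _
    · set k := e * c * e⁻¹ * c⁻¹ with hkdef
      set f0 := g * c * g⁻¹ * c⁻¹ with hf0
      have hf0F : f0 ∈ F := by
        rw [hf0, hFdef, ← commutatorElement_def]; exact Subgroup.commutator_mem_commutator hg hc
      have he' : g * e * g⁻¹ = e := by rw [← hEB e he g hg, mul_inv_cancel_right]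
      have e1 : g * k * g⁻¹ = (e * f0 * e⁻¹ * f0⁻¹) * (f0 * k * f0⁻¹) := by
        calc g * k * g⁻¹ = (g * e * g⁻¹) * (g * c * g⁻¹) * (g * e * g⁻¹)⁻¹ * (g * c * g⁻¹)⁻¹ := by rw [hkdef]; group
          _ = e * (f0 * c) * e⁻¹ * (f0 * c)⁻¹ := by rw [he', hf0]; group
          _ = _ := by rw [hkdef]; group
      have e3 : f0 * k * f0⁻¹ = k := by
        have := hNcen e (hEN he) c (hCN hc) f0 (hFN hf0F)
        rw [commutatorElement_def] at this
        rw [← this, mul_inv_cancel_right]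
      have e2 : k * g * k⁻¹ * g⁻¹ = k * (g * k * g⁻¹)⁻¹ := by group
      rw [e2, e1, e3, _root_.mul_inv_rev, mul_inv_cancel_left]
      exact inv_mem (L1 e he f0 hf0F)
    · have := hNcen e (hEN he) c (hCN hc) g (hCN hg)
      rw [commutatorElement_def] at this
      rw [this, mul_inv_cancel_right, mul_inv_cancel]; exact one_mem _
  have hinv2 : ∀ x y : G, x * y * x⁻¹ * y⁻¹ ∈ zser R 2 → y * x * y⁻¹ * x⁻¹ ∈ zser R 2 := fun x y h => by
    rw [show y * x * y⁻¹ * x⁻¹ = (x * y * x⁻¹ * y⁻¹)⁻¹ by group]; exact inv_mem h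
  have triv : ∀ {x g : G} (n : ℕ), x * g = g * x → x * g * x⁻¹ * g⁻¹ ∈ zser R n := fun {x g} n h => by
    rw [h, mul_inv_cancel_right, mul_inv_cancel]; exact one_mem _
  -- third layer
  have L3e : ∀ e ∈ E, e ∈ zser R 3 := fun e he => mem_zser_succ (hNR (hEN he)) hs fun g hg => by
    rcases hg with (hg | hg) | hg
    · exact triv 2 (hAB.2.1 e he g (Subgroup.mem_sup_left hg))
    · exact triv 2 (hEB e he g hg)
    · exact L2c e he g hg
  have L3f : ∀ f ∈ F, f ∈ zser R 3 := fun f hf => mem_zser_succ (hNR (hFN hf)) hs fun g hg => by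
    rcases hg with (hg | hg) | hg
    · exact hinv2 _ _ (L2a g hg f hf)
    · exact triv 2 (hFB f hf g hg)
    · exact triv 2 (hBC.2.1 f hf g (Subgroup.mem_sup_right hg))
  have hall : ∀ g ∈ s, g ∈ zser R 4 := by
    intro g hg
    refine mem_zser_succ (hs ▸ Subgroup.subset_closure hg) hs fun h hh => ?_
    rcases hg with (hg | hg) | hg <;> rcases hh with (hh | hh) | hh
    · exact triv 3 (cj_fix_of_comm hS hA hg h hh)
    · exact L3e _ (by rw [hEdef, ← commutatorElement_def]; exact Subgroup.commutator_mem_commutator hg hh)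
    · exact triv 3 (comm_of_bot hAC hg hh)
    · refine L3e _ ?_
      rw [hEdef, Subgroup.commutator_comm, ← commutatorElement_def]; exact Subgroup.commutator_mem_commutator hg hh
    · exact triv 3 (cj_fix_of_comm hS hB hg h hh)
    · exact L3f _ (by rw [hFdef, ← commutatorElement_def]; exact Subgroup.commutator_mem_commutator hg hh)
    · exact triv 3 (comm_of_bot hCA hg hh)
    · refine L3f _ ?_
      rw [hFdef, Subgroup.commutator_comm, ← commutatorElement_def]; exact Subgroup.commutator_mem_commutator hg hh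
    · exact triv 3 (cj_fix_of_comm hS hC hg h hh)
  refine ⟨⟨4, ?_⟩⟩
  refine (Subgroup.eq_top_iff' _).2 fun x => ?_
  have hle : R ≤ zser R 4 := by
    have := (Subgroup.closure_le (K := zser R 4)).2 hall
    rwa [hs] at this
  obtain ⟨x', hx', e⟩ := hle x.2
  rwa [show x' = x from Subtype.ext e] at hx'

end CfsgLib.Inv.RootNilpotent
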