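import Cfsg.Agent.Inv.RootLines
import Cfsg.Agent.Inv.RankOnePerfect
import Cfsg.Agent.Inv.Component

/-!
The quasisimplicity criterion for groups generated by abstract root subgroups.
-/

set_option autoImplicit false
set_option linter.unusedSectionVars false

namespace CfsgLib.Inv.RootQuasi

open Cfsg CfsgLib.Inv.RankOne CfsgLib.Inv.RootSet CfsgLib.Inv.RootSpecial CfsgLib.Inv.RootLines
open scoped commutatorElement

variable {G : Type*} [Group G] {S : Set (Subgroup G)}

theorem perfect_normal (hS : IsRootSubgroupSet S) (h2 : ∃ A ∈ S, ∃ B ∈ S, A ≠ B) (h1 : IsConnectedFamily (FAdj S) S)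
    (h2' : ∀ A ∈ S, ∀ C ∈ S, A ≠ C → centralizingMembers S A ≠ centralizingMembers S C)
    (h3 : IsDegenerateRootSet S → ∀ A ∈ S, 3 < ENat.card ↥A)
    (h4 : ∀ A ∈ S, ∀ B ∈ rankOnePartners S A, IsSpecialRankOnePair A B) :
    commutator G = ⊤ ∧ (∀ N : Subgroup G, N.Normal → N = ⊤ ∨ N ≤ Subgroup.center G) ∧
      Subgroup.center G ≠ ⊤ := by
  obtain ⟨hclass, A0, hA0, hniso0⟩ := (connected_iff hS h2).1 h1
  have hall : ∀ X ∈ S, ¬ IsIsolatedIn (FAdj S) S X := by
    intro X hX
    obtain ⟨g, rfl⟩ := hclass.2 A0 hA0 X hX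
    exact not_isolated_conj hS hA0 hniso0 g
  obtain ⟨B0, hB0⟩ := partner_of_not_isolated hS hniso0 hA0
  have hdich : IsDegenerateRootSet S ∨ IsNondegenerateRootSet S := by
    by_cases hdeg : IsDegenerateRootSet S
    · exact Or.inl hdeg
    right
    unfold IsDegenerateRootSet at hdeg
    push Not at hdeg
    obtain ⟨P, hP, Q, hQ, hR⟩ := hdeg
    have hl := (line_members hS (hall P hP) hP hQ hR.1).2.2.1
    exact ⟨⟨_, hR.1, P, hP, Ne.symm hl.1.2.1, hl.1.2.2⟩, ⟨A0, hA0, B0, hB0.1, hB0.2⟩, ⟨P, hP, Q, hQ, hR⟩⟩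
  have hX : ∀ {A B}, A ∈ S → B ∈ rankOnePartners S A → IsDegenerateRootSet S →
      A ≤ ⁅A ⊔ B, A ⊔ B⁆ ∧ B ≤ ⁅A ⊔ B, A ⊔ B⁆ := fun {A B} hA hB hdeg =>
    RankOnePerfect.le_commutator (h4 A hA B hB) ⟨hS.commutative A hA, hS.commutative B hB.1⟩ (h3 hdeg A hA)
  have hmem : ∀ (N : Subgroup G), N.Normal → ∀ P ∈ S, P ≤ N → N = ⊤ := by
    intro N hN P hP hPN
    rw [eq_top_iff, ← hS.generates]
    refine iSup₂_le fun Q hQ => ?_
    obtain ⟨g, rfl⟩ := hclass.2 P hP Q hQ
    rintro _ ⟨p, hp, rfl⟩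
    exact hN.conj_mem p (hPN hp) g
  have hcen : Subgroup.center G ≠ ⊤ := fun e => by
    refine RootSet.not_comm_points hB0.2 (self_mem hB0.2) (other_mem hB0.2) (unip_ne_bot hB0.2 (other_mem hB0.2))
      (fun c _ d _ => (Subgroup.mem_center_iff.1 (e.ge (Subgroup.mem_top c)) d).symm) |> hB0.2.ne
  have hperf : commutator G = ⊤ := by
    rw [commutator_def]
    have hn : (⁅(⊤ : Subgroup G), ⊤⁆ : Subgroup G).Normal := Subgroup.commutator_normal _ _
    rcases hdich with hdeg | ⟨-, -, P, hP, Q, hQ, hR⟩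
    · exact hmem _ hn A0 hA0 ((hX hA0 hB0 hdeg).1.trans (Subgroup.commutator_mono le_top le_top))
    · exact hmem _ hn _ hR.1 (Subgroup.commutator_mono le_top le_top)
  refine ⟨hperf, fun N hN => ?_, hcen⟩
  by_cases hfix : ∀ n ∈ N, ∀ A ∈ S, conjBy A n = A
  · right
    intro n hn
    have hle : (⨆ A ∈ S, A) ≤ Subgroup.centralizer ({n} : Set G) := iSup₂_le fun A hA a ha => by
      refine Subgroup.mem_centralizer_singleton_iff.2 ?_
      by_contra hne
      obtain ⟨B, hB⟩ := partner_of_not_isolated hS (hall A hA) hA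
      have hk : a * (n * a⁻¹ * n⁻¹) ∈ A := mul_mem ha ((hfix n hn A hA).le (cj_mem (inv_mem ha) n))
      have hkN : a * (n * a⁻¹ * n⁻¹) ∈ N := by
        rw [show a * (n * a⁻¹ * n⁻¹) = (a * n * a⁻¹) * n⁻¹ by group]
        exact mul_mem (hN.conj_mem n hn a) (inv_mem hn)
      have hk1 := inf_norm hB.2 hk (hfix _ hkN B hB.1)
      exact hne (by
        calc a * n = (a * (n * a⁻¹ * n⁻¹)) * (n * a) := by group
          _ = n * a := by rw [hk1, one_mul])
    rw [hS.generates] at hle
    exact Subgroup.mem_center_iff.2 fun g => Subgroup.mem_centralizer_singleton_iff.1 (hle (Subgroup.mem_top g))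
  · left
    haveI := hN
    push Not at hfix
    obtain ⟨n, hn, A, hA, hne⟩ := hfix
    have key : ∀ A ∈ S, ∀ n ∈ N, ∀ Z ∈ S, ⁅Z, A⁆ = ⊥ → ⁅Z, conjBy A n⁆ ≠ ⊥ → N = ⊤ := by
      intro A hA n hn Z hZ hZA hZC
      set C := conjBy A n with hC
      have hCS : C ∈ S := hS.conj_mem A hA n
      have hcom : ⁅Z, C⁆ ≤ N := by
        rw [Subgroup.commutator_le]
        rintro z hz _ ⟨a, ha, rfl⟩
        show ⁅z, n * a * n⁻¹⁆ ∈ N
        have hu : n * (a * n⁻¹ * a⁻¹) ∈ N := mul_mem hn (hN.conj_mem _ (inv_mem hn) a)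
        rw [show ⁅z, n * a * n⁻¹⁆ = (z * (n * (a * n⁻¹ * a⁻¹)) * z⁻¹) * (z * a * z⁻¹ * a⁻¹) *
          (n * (a * n⁻¹ * a⁻¹))⁻¹ by rw [commutatorElement_def]; group]
        refine mul_mem (mul_mem (hN.conj_mem _ hu z) ?_) (inv_mem hu)
        rw [comm_of_bot hZA hz ha]
        simp
      rcases hS.pair Z hZ C hCS with h | h | h
      · exact absurd h hZC
      · let π := QuotientGroup.mk' N
        have hπ : ∀ z ∈ Z, ∀ c ∈ C, π z * π c = π c * π z := fun z hz c hc => by
          have h1 : π ⁅z, c⁆ = 1 := (QuotientGroup.eq_one_iff _).2 (hcom (Subgroup.commutator_mem_commutator hz hc))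
          rw [map_commutatorElement] at h1
          exact commutatorElement_eq_one_iff_mul_comm.1 h1
        rcases hdich with hdeg | hnd
        · have hXN : ⁅Z ⊔ C, Z ⊔ C⁆ ≤ N := by
            rw [Subgroup.commutator_le]
            intro x hx y hy
            rw [← QuotientGroup.eq_one_iff]
            show π ⁅x, y⁆ = 1
            rw [map_commutatorElement, commutatorElement_eq_one_iff_mul_comm]
            have hs : ∀ p ∈ (π '' ((Z : Set G) ∪ C)), ∀ q ∈ (π '' ((Z : Set G) ∪ C)), p * q = q * p := by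
              rintro _ ⟨p, hp, rfl⟩ _ ⟨q, hq, rfl⟩
              rcases hp with hp | hp <;> rcases hq with hq | hq
              · rw [← map_mul, ← map_mul, cj_fix_of_comm hS hZ hp q hq]
              · exact hπ p hp q hq
              · exact (hπ q hq p hp).symm
              · rw [← map_mul, ← map_mul, cj_fix_of_comm hS hCS hp q hq]
            have hm : ∀ x ∈ Z ⊔ C, π x ∈ Subgroup.closure (π '' ((Z : Set G) ∪ C)) := by
              intro x hx
              rw [← MonoidHom.map_closure, Subgroup.closure_union, Subgroup.closure_eq, Subgroup.closure_eq]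
              exact Subgroup.mem_map_of_mem π hx
            exact commute_of_closure hs (hm x hx) (hm y hy)
          exact hmem N hN Z hZ ((hX hZ ⟨hCS, h⟩ hdeg).1.trans hXN)
        · have hcls : IsRootSubgroupClass S := ⟨hS, hclass⟩
          set M := Z.map π with hM
          have hCM : C.map π = M := by
            obtain ⟨x, hx, e⟩ := other_mem h
            have hfix : Z ⊔ C ≤ (Subgroup.normalizer (M : Set (G ⧸ N))).comap π := by
              refine sup_le (fun z hz => Subgroup.le_normalizer (Subgroup.mem_map_of_mem π hz)) fun c hc => ?_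
              refine Subgroup.centralizer_le_normalizer _ ?_
              rintro _ ⟨z, hz, rfl⟩
              exact hπ z hz c hc
            rw [e, hM, Subgroup.map_map]
            have h1 : conjBy M (π x) = M := mem_norm.1 (hfix hx)
            conv_rhs => rw [← hM, ← h1, hM, conjBy, Subgroup.map_map]
            congr 1
          have hcentral : ⊤ ≤ (Subgroup.centralizer (M : Set (G ⧸ N))).comap π := by
            rw [← generated hcls hnd hZ ⟨hCS, h⟩]
            refine sup_le (iSup₂_le fun Y hY y hy => ?_) fun c hc => ?_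
            · rintro _ ⟨z, hz, rfl⟩
              rw [← map_mul, ← map_mul, comm_of_bot hY.1.2.2 hz hy]
            · rintro _ ⟨z, hz, rfl⟩
              exact hπ z hz c hc
          have hall' : ∀ g : G, π g ∈ M := by
            intro g
            have hle : (⨆ Q ∈ S, Q) ≤ M.comap π := iSup₂_le fun Q hQ => by
              obtain ⟨g, rfl⟩ := hclass.2 Z hZ Q hQ
              rintro _ ⟨z, hz, rfl⟩
              show π (g * z * g⁻¹) ∈ M
              have h5 := hcentral (Subgroup.mem_top g) (π z) (Subgroup.mem_map_of_mem π hz)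
              rw [map_mul, map_mul, map_inv, ← h5, mul_inv_cancel_right]
              exact Subgroup.mem_map_of_mem π hz
            rw [hS.generates] at hle
            exact hle (Subgroup.mem_top g)
          rw [eq_top_iff, ← hperf, commutator_def, Subgroup.commutator_le]
          intro x _ y _
          rw [← QuotientGroup.eq_one_iff]
          show π ⁅x, y⁆ = 1
          rw [map_commutatorElement, commutatorElement_eq_one_iff_mul_comm]
          exact (hcentral (Subgroup.mem_top x) (π y) (hall' y)).symm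
      · exact hmem N hN _ h.1 hcom
    have hC : conjBy A n ∈ S := hS.conj_mem A hA n
    obtain ⟨Z, hZ⟩ : ∃ Z, ¬ (Z ∈ centralizingMembers S A ↔ Z ∈ centralizingMembers S (conjBy A n)) := by
      by_contra hno
      push Not at hno
      exact h2' A hA _ hC (Ne.symm hne) (Set.ext hno)
    rcases Classical.em (Z ∈ centralizingMembers S A) with hZA | hZA
    · refine key A hA n hn Z hZA.1 (Subgroup.commutator_eq_bot_iff_le_centralizer.2 hZA.2) fun e => hZ ?_
      exact ⟨fun _ => ⟨hZA.1, Subgroup.commutator_eq_bot_iff_le_centralizer.1 e⟩, fun _ => hZA⟩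
    · have hZC : Z ∈ centralizingMembers S (conjBy A n) := by
        by_contra hZC
        exact hZ ⟨fun h => absurd h hZA, fun h => absurd h hZC⟩
      refine key _ hC n⁻¹ (inv_mem hn) Z hZC.1 (Subgroup.commutator_eq_bot_iff_le_centralizer.2 hZC.2) fun e => hZA ?_
      rw [cj_inv_cj] at e
      exact ⟨hZC.1, Subgroup.commutator_eq_bot_iff_le_centralizer.1 e⟩

theorem main (hS : IsRootSubgroupSet S) (h2 : ∃ A ∈ S, ∃ B ∈ S, A ≠ B) (h1 : IsConnectedFamily (FAdj S) S)
    (h2' : ∀ A ∈ S, ∀ C ∈ S, A ≠ C → centralizingMembers S A ≠ centralizingMembers S C)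
    (h3 : IsDegenerateRootSet S → ∀ A ∈ S, 3 < ENat.card ↥A)
    (h4 : ∀ A ∈ S, ∀ B ∈ rankOnePartners S A, IsSpecialRankOnePair A B) :
    (∀ A ∈ S, commutator G ⊔ A = ⊤ ∧ A ⊓ commutator G ≠ ⊥) ∧ IsQuasisimple ↥(commutator G) ∧
    (IsNondegenerateRootSet S → commutator G = ⊤) ∧
    ((∃ A ∈ S, ∃ B ∈ rankOnePartners S A, Group.IsPerfect ↥(A ⊔ B)) → commutator G = ⊤) := by
  obtain ⟨hperf, hbig, hcen⟩ := perfect_normal hS h2 h1 h2' h3 h4
  refine ⟨fun A hA => ⟨by rw [hperf, top_sup_eq], by rw [hperf, inf_top_eq]; exact hS.ne_bot A hA⟩, ?_,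
    fun _ => hperf, fun _ => hperf⟩
  haveI : Nontrivial (G ⧸ Subgroup.center G) := QuotientGroup.nontrivial_iff.2 hcen
  have hQ : IsQuasisimple G := by
    refine ⟨Group.isPerfect_def.2 hperf, ⟨fun H hH => ?_⟩⟩
    rcases hbig (H.comap (QuotientGroup.mk' (Subgroup.center G))) (hH.comap _) with e | e
    · exact Or.inr (Subgroup.comap_injective (QuotientGroup.mk'_surjective _) (e.trans (Subgroup.comap_top _).symm))
    · refine Or.inl ((Subgroup.eq_bot_iff_forall _).2 fun q hq => ?_)
      obtain ⟨x, rfl⟩ := QuotientGroup.mk'_surjective _ q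
      exact (QuotientGroup.eq_one_iff x).2 (e hq)
  exact CfsgLib.Inv.quasisimple_congr ((Subgroup.topEquiv).symm.trans (MulEquiv.subgroupCongr hperf.symm)) hQ

end CfsgLib.Inv.RootQuasi
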