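import Cfsg.Agent.Inv.RootLine
import Cfsg.Agent.Inv.RootComp
import Cfsg.Agent.Inv.RootTriangle
import Cfsg.Agent.Inv.RankOneQuadSpecial
import Cfsg.Agent.Inv.RootNilpotent

/-!
In a non-degenerate class of abstract root subgroups every rank one pair is special.
-/

set_option autoImplicit false
set_option linter.unusedSectionVars false

namespace CfsgLib.Inv.RootSpecial

open Cfsg CfsgLib.Inv.RankOne CfsgLib.Inv.RootSet
open scoped commutatorElement

variable {G : Type*} [Group G] {S : Set (Subgroup G)}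

theorem line_symm {A C : Subgroup G} (hA : A ∈ S) (h : A ∈ linePartners S C) : C ∈ S → C ∈ linePartners S A := by
  intro hC
  obtain ⟨⟨-, hne, hcomm⟩, hpart⟩ := h
  refine ⟨⟨hC, hne.symm, by rw [Subgroup.commutator_comm]; exact hcomm⟩, ?_⟩
  rwa [sup_comm A C]

/-- Every member of a non-degenerate class has a line partner. -/
theorem exists_line_partner (hS : IsRootSubgroupClass S) (hnd : IsNondegenerateRootSet S) {A B : Subgroup G}
    (hA : A ∈ S) (hB : B ∈ rankOnePartners S A) :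
    ∃ E ∈ S, ⁅A, E⁆ ∈ S ∧ ⁅A, E⁆ ∈ linePartners S A := by
  obtain ⟨-, -, A₀, hA₀, E, hE, hR⟩ := hnd
  obtain ⟨g, hg⟩ := hS.2.2 A₀ hA₀ A hA
  have hEg := hS.1.conj_mem E hE g
  have hC : ⁅A, conjBy E g⁆ ∈ S := by
    rw [hg, show ⁅conjBy A₀ g, conjBy E g⁆ = conjBy ⁅A₀, E⁆ g from (Subgroup.map_commutator _ _ _).symm]
    exact hS.1.conj_mem _ hR.1 g
  have h := (line_members hS.1 (not_isolated_of_partner hA hB) hA hEg hC).2.2.1
  exact ⟨_, hEg, hC, line_symm hA h hC⟩

/-- On a line through `A` some member is in the commutator case with a rank one partner of `A`. -/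
theorem exists_commutator_partner (hS : IsRootSubgroupSet S) {A B C : Subgroup G} (hA : A ∈ S)
    (hB : B ∈ rankOnePartners S A) (hC : C ∈ linePartners S A) :
    ∃ M ∈ membersIn S (A ⊔ C), M ≠ A ∧ RootCommutatorCase S B M := by
  obtain ⟨hBS, h⟩ := hB
  obtain ⟨⟨hCS, hne, hcomm⟩, hsub, hcov, hdisj⟩ := hC
  have hAmem : A ∈ membersIn S (A ⊔ C) := ⟨hA, le_sup_left⟩
  have hCmem : C ∈ membersIn S (A ⊔ C) := ⟨hCS, le_sup_right⟩
  have hAC : A ⊓ C = ⊥ := hdisj A hAmem C hCmem hne.symm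
  have hline : ∀ x ∈ A ⊔ C, ∀ a ∈ A, x * a = a * x := by
    intro x hx a ha
    have hle : A ⊔ C ≤ Subgroup.centralizer ({a} : Set G) := sup_le
      (fun y hy => Subgroup.mem_centralizer_singleton_iff.2 (cj_fix_of_comm hS hA hy a ha))
      (fun y hy => Subgroup.mem_centralizer_singleton_iff.2 (comm_of_bot hcomm ha hy).symm)
    exact Subgroup.mem_centralizer_singleton_iff.1 (hle hx)
  by_contra hcon
  push Not at hcon
  have hrank : ∀ M ∈ membersIn S (A ⊔ C), M ≠ A → IsRankOnePair B M := by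
    intro M hM hMA
    rcases hS.pair B hBS M hM.1 with hh | hh | hh
    · exfalso
      obtain ⟨a, ha, ha1⟩ := (Subgroup.bot_or_exists_ne_one A).resolve_left (hS.ne_bot A hA)
      obtain ⟨m, hm, hm1⟩ := (Subgroup.bot_or_exists_ne_one M).resolve_left (hS.ne_bot M hM.1)
      have hz : m ∈ Subgroup.centralizer ((A ⊔ B : Subgroup G) : Set G) := by
        have hle : A ⊔ B ≤ Subgroup.centralizer ({m} : Set G) := sup_le
          (fun w hw => Subgroup.mem_centralizer_singleton_iff.2 (hline m (hM.2 hm) w hw).symm)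
          (fun w hw => Subgroup.mem_centralizer_singleton_iff.2 (comm_of_bot hh hw hm))
        exact fun w hw => Subgroup.mem_centralizer_singleton_iff.1 (hle hw)
      have hma : m * a ≠ 1 := fun e => by
        have hmA : m ∈ M ⊓ A := Subgroup.mem_inf.2 ⟨hm, by rw [mul_eq_one_iff_eq_inv.1 e]; exact inv_mem ha⟩
        rw [hdisj M hM A hAmem hMA, Subgroup.mem_bot] at hmA
        exact hm1 hmA
      obtain ⟨M', hM', hmM'⟩ := hcov (m * a) (mul_mem (hM.2 hm) (Subgroup.mem_sup_left ha)) hma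
      exact translate_not_root hS hA ⟨hBS, h⟩ hz hm1 ha ha1 ⟨hma, M', hM'.1, hmM'⟩
    · exact hh
    · exact absurd hh (hcon M hM hMA)
  obtain ⟨b, hb, hb1⟩ := (Subgroup.bot_or_exists_ne_one B).resolve_left (hS.ne_bot B hBS)
  obtain ⟨a, ha, ha1, ea⟩ := exists_a h hb hb1
  obtain ⟨c, hc, hc1, ec⟩ := exists_b (hrank C hCmem hne) hb hb1
  have hm : a⁻¹ * c ∈ A ⊔ C := mul_mem (Subgroup.mem_sup_left (inv_mem ha)) (Subgroup.mem_sup_right hc)
  have hm1 : a⁻¹ * c ≠ 1 := fun e => by
    have hA' : a ∈ A ⊓ C := Subgroup.mem_inf.2 ⟨ha, by rwa [inv_mul_eq_one.1 e]⟩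
    rw [hAC, Subgroup.mem_bot] at hA'
    exact ha1 hA'
  obtain ⟨M, hM, hmM⟩ := hcov _ hm hm1
  have hMA : M ≠ A := fun e => by
    rw [e] at hmM
    have hc' : c ∈ A ⊓ C := Subgroup.mem_inf.2 ⟨by simpa using mul_mem ha hmM, hc⟩
    rw [hAC, Subgroup.mem_bot] at hc'
    exact hc1 hc'
  have hBM := RankOnePair_symm (hrank M hM hMA)
  -- the two points commute
  have hcomm' : ∀ x ∈ conjBy B (a⁻¹ * c), ∀ y ∈ B, x * y = y * x := by
    rintro _ ⟨y', hy', rfl⟩ y hy
    have h1 : c * y' * c⁻¹ ∈ conjBy C b := ec ▸ cj_mem hy' c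
    have h2 : a * y * a⁻¹ ∈ conjBy A b := ea ▸ cj_mem hy a
    obtain ⟨p, hp, e1⟩ := h1
    obtain ⟨q, hq, e2⟩ := h2
    have e1' : b * p * b⁻¹ = c * y' * c⁻¹ := e1
    have e2' : b * q * b⁻¹ = a * y * a⁻¹ := e2
    show a⁻¹ * c * y' * (a⁻¹ * c)⁻¹ * y = y * (a⁻¹ * c * y' * (a⁻¹ * c)⁻¹)
    calc a⁻¹ * c * y' * (a⁻¹ * c)⁻¹ * y = a⁻¹ * ((c * y' * c⁻¹) * (a * y * a⁻¹)) * a := by group
      _ = a⁻¹ * (b * (p * q) * b⁻¹) * a := by rw [← e1', ← e2']; group
      _ = a⁻¹ * (b * (q * p) * b⁻¹) * a := by rw [comm_of_bot hcomm hq hp]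
      _ = a⁻¹ * ((b * q * b⁻¹) * (b * p * b⁻¹)) * a := by group
      _ = a⁻¹ * ((a * y * a⁻¹) * (c * y' * c⁻¹)) * a := by rw [e1', e2']
      _ = _ := by group
  exact hm1 (inf_norm hBM hmM (not_comm_points hBM (cj_unip (other_mem hBM) (Subgroup.mem_sup_left hmM))
    (other_mem hBM) (hS.ne_bot B hBS) hcomm'))

/-- The commutator of `A` with the new member is the other member, when all elements of their span are root elements. -/
theorem triangle_eq' (hS : IsRootSubgroupSet S) {A B C : Subgroup G} (hA : A ∈ S) (hB : B ∈ rankOnePartners S A)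
    (hCS : C ∈ S) (hAC : ⁅A, C⁆ = ⊥) (hmeet : A ⊓ C = ⊥)
    (hcov : ∀ x ∈ A ⊔ C, x ≠ 1 → ∃ M, M ∈ S ∧ x ∈ M) (hCB : ⁅C, B⁆ ∈ S) :
    ⁅A, ⁅C, B⁆⁆ = C := by
  obtain ⟨hBS, h⟩ := hB
  have hR := commutator_case hS hCS hBS hCB
  set F := ⁅C, B⁆ with hFdef
  have hBF : ∀ y ∈ B, ∀ f ∈ F, f * y = y * f := fun y hy f hf => hR.2.1 f hf y (Subgroup.mem_sup_right hy)
  have hCF : ∀ c ∈ C, ∀ f ∈ F, f * c = c * f := fun c hc f hf => hR.2.1 f hf c (Subgroup.mem_sup_left hc)
  have hACc : ∀ a ∈ A, ∀ c ∈ C, a * c = c * a := fun a ha c hc => comm_of_bot hAC ha hc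
  have hAF : RootCommutatorCase S A F := by
    rcases hS.pair A hA F hCB with hh | hh | hh
    · exfalso
      -- `A`, hence `B`, would centralise `C`
      obtain ⟨g, hg, eB⟩ := other_mem h
      have hN : ∀ x ∈ A ⊔ B, ∀ m ∈ C ⊔ F, x * m * x⁻¹ ∈ C ⊔ F := by
        intro x hx
        have hkey : ∀ y ∈ B, ∀ m ∈ C ⊔ F, y * m * y⁻¹ ∈ C ⊔ F := by
          intro y hy m hm
          obtain ⟨p, hp, q, hq, rfl⟩ := mem_sup_central (fun p hp q hq => (hCF p hp q hq).symm) hm
          rw [show y * (p * q) * y⁻¹ = (y * p * y⁻¹) * (y * q * y⁻¹) by group,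
            show y * q * y⁻¹ = q by rw [← hBF y hy q hq, mul_inv_cancel_right],
            RootTriangle.translate_eq (A := C) (B := B)]
          exact mul_mem (mul_mem (Subgroup.mem_sup_right (inv_mem (by
            rw [hFdef, ← commutatorElement_def]; exact Subgroup.commutator_mem_commutator hp hy)))
            (Subgroup.mem_sup_left hp)) (Subgroup.mem_sup_right hq)
        have hle : A ⊔ B ≤ Subgroup.normalizer ((C ⊔ F : Subgroup G) : Set G) := by
          refine sup_le (fun a ha => ?_) (fun y hy => ?_)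
          · refine Subgroup.centralizer_le_normalizer _ ?_
            rw [Subgroup.mem_centralizer_iff]
            intro m hm
            obtain ⟨p, hp, q, hq, rfl⟩ := mem_sup_central (fun p hp q hq => (hCF p hp q hq).symm) hm
            exact ((show Commute a p from hACc a ha p hp).mul_right (comm_of_bot hh ha hq)).eq.symm
          · rw [Subgroup.mem_normalizer_iff]
            exact fun m => ⟨hkey y hy m, fun hm => by simpa [mul_assoc] using hkey y⁻¹ (inv_mem hy) _ hm⟩
        exact fun m hm => (Subgroup.mem_normalizer_iff.1 (hle hx) m).1 hm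
      refine hS.ne_bot F hCB ?_
      rw [hFdef, Subgroup.commutator_eq_bot_iff_le_centralizer]
      intro c hc
      rw [Subgroup.mem_centralizer_iff]
      intro y hy
      rw [eB] at hy
      obtain ⟨a, ha, rfl⟩ := hy
      show g * a * g⁻¹ * c = c * (g * a * g⁻¹)
      obtain ⟨p, hp, q, hq, e⟩ := mem_sup_central (fun p hp q hq => (hCF p hp q hq).symm)
        (hN g⁻¹ (inv_mem hg) c (Subgroup.mem_sup_left hc))
      have hfix : a * (g⁻¹ * c * g) = (g⁻¹ * c * g) * a := by
        rw [inv_inv] at e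
        rw [← e]
        exact ((show Commute a p from hACc a ha p hp).mul_right (comm_of_bot hh ha hq)).eq
      calc g * a * g⁻¹ * c = g * (a * (g⁻¹ * c * g)) * g⁻¹ := by group
        _ = g * ((g⁻¹ * c * g) * a) * g⁻¹ := by rw [hfix]
        _ = _ := by group
    · exfalso
      obtain ⟨a, ha, ha1⟩ := (Subgroup.bot_or_exists_ne_one A).resolve_left (hS.ne_bot A hA)
      obtain ⟨c, hc, hc1⟩ := (Subgroup.bot_or_exists_ne_one C).resolve_left (hS.ne_bot C hCS)
      have hz : c ∈ Subgroup.centralizer ((A ⊔ F : Subgroup G) : Set G) := by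
        have hle : A ⊔ F ≤ Subgroup.centralizer ({c} : Set G) := sup_le
          (fun w hw => Subgroup.mem_centralizer_singleton_iff.2 (hACc w hw c hc))
          (fun w hw => Subgroup.mem_centralizer_singleton_iff.2 (hCF c hc w hw))
        exact fun w hw => Subgroup.mem_centralizer_singleton_iff.1 (hle hw)
      have hca : c * a ≠ 1 := fun e => by
        have hcA : c ∈ A ⊓ C := Subgroup.mem_inf.2 ⟨by rw [mul_eq_one_iff_eq_inv.1 e]; exact inv_mem ha, hc⟩
        rw [hmeet, Subgroup.mem_bot] at hcA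
        exact hc1 hcA
      obtain ⟨M', hM', hmM'⟩ := hcov (c * a) (mul_mem (Subgroup.mem_sup_right hc) (Subgroup.mem_sup_left ha)) hca
      exact translate_not_root hS hA ⟨hCB, hh⟩ hz hc1 ha ha1 ⟨hca, M', hM', hmM'⟩
    · exact hh
  set H := ⁅A, F⁆ with hHdef
  have hHA : ∀ x ∈ H, ∀ a ∈ A, x * a = a * x := fun x hx a ha => hAF.2.1 x hx a (Subgroup.mem_sup_left ha)
  have hHF : ∀ x ∈ H, ∀ f ∈ F, x * f = f * x := fun x hx f hf => hAF.2.1 x hx f (Subgroup.mem_sup_right hf)
  obtain ⟨b, hb, hb1⟩ := (Subgroup.bot_or_exists_ne_one B).resolve_left (hS.ne_bot B hBS)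
  obtain ⟨a, ha, ha1, ea⟩ := exists_a h hb hb1
  -- the key element centralises `A` and `B`
  have key : ∀ c ∈ C, c * (a⁻¹ * (b * c * b⁻¹ * c⁻¹) * a⁻¹⁻¹ * (b * c * b⁻¹ * c⁻¹)⁻¹) = 1 := by
    intro c hc
    set f := b * c * b⁻¹ * c⁻¹ with hf'
    have hf : f ∈ F := by
      rw [hf', hFdef, Subgroup.commutator_comm, ← commutatorElement_def]
      exact Subgroup.commutator_mem_commutator hb hc
    set x := a⁻¹ * f * a⁻¹⁻¹ * f⁻¹ with hx'
    have hx : x ∈ H := by
      rw [hx', hHdef, ← commutatorElement_def]; exact Subgroup.commutator_mem_commutator (inv_mem ha) hf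
    set z := c * x with hz'
    by_contra hz1
    have hzA : ∀ w ∈ A, Commute z w := fun w hw =>
      ((show Commute w c from hACc w hw c hc).symm).mul_left (hHA x hx w hw)
    have hzF : ∀ w ∈ F, Commute z w := fun w hw =>
      ((show Commute w c from hCF c hc w hw).symm).mul_left (hHF x hx w hw)
    have hzB : ∀ y ∈ B, Commute z y := by
      intro y hy
      have hp : a * y * a⁻¹ ∈ conjBy A b := ea ▸ cj_mem hy a
      obtain ⟨q, hq, eq'⟩ := hp
      have eq'' : b * q * b⁻¹ = a * y * a⁻¹ := eq'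
      have h1 : (a * y * a⁻¹) * (f * c) = (f * c) * (a * y * a⁻¹) := by
        rw [show f * c = b * c * b⁻¹ by rw [hf']; group, ← eq'']
        calc b * q * b⁻¹ * (b * c * b⁻¹) = b * (q * c) * b⁻¹ := by group
          _ = b * (c * q) * b⁻¹ := by rw [hACc q hq c hc]
          _ = _ := by group
      have e2 : a⁻¹ * (f * c) * a = z * f := by
        have c1 : Commute f c := hCF c hc f hf
        have c2 : Commute a⁻¹ c := hACc _ (inv_mem ha) c hc
        calc a⁻¹ * (f * c) * a = a⁻¹ * (c * f) * a := by rw [c1.eq]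
          _ = (c * a⁻¹) * f * a := by rw [← mul_assoc, c2.eq]
          _ = c * x * f := by rw [hx']; group
      have h2 : Commute y (z * f) := by
        show y * (z * f) = (z * f) * y
        rw [← e2]
        calc y * (a⁻¹ * (f * c) * a) = a⁻¹ * ((a * y * a⁻¹) * (f * c)) * a := by group
          _ = a⁻¹ * ((f * c) * (a * y * a⁻¹)) * a := by rw [h1]
          _ = _ := by group
      have h3 := h2.mul_right ((show Commute f y from hBF y hy f hf).symm.inv_right)
      rw [mul_inv_cancel_right] at h3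
      exact h3.symm
    -- translate a point of the line of `A` and `H`
    have hm : f * a * f⁻¹ = a * x := by rw [hx']; group
    have hBf : B ∈ rankOnePartners S (conjBy A f) := ⟨hBS, by
      have := pair_conj h f
      rwa [show conjBy B f = B from cj_of_comm fun y hy => hBF y hy f hf] at this⟩
    have hzc : z⁻¹ ∈ Subgroup.centralizer ((conjBy A f ⊔ B : Subgroup G) : Set G) := by
      refine inv_mem ?_
      have hle : conjBy A f ⊔ B ≤ Subgroup.centralizer ({z} : Set G) := sup_le (by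
          rintro _ ⟨w, hw, rfl⟩
          exact Subgroup.mem_centralizer_singleton_iff.2
            (((hzF f hf).mul_right (hzA w hw)).mul_right (hzF f hf).inv_right).eq.symm)
        (fun y hy => Subgroup.mem_centralizer_singleton_iff.2 (hzB y hy).eq.symm)
      exact fun w hw => Subgroup.mem_centralizer_singleton_iff.1 (hle hw)
    have hfa1 : f * a * f⁻¹ ≠ 1 := fun e => ha1 (conj_eq_one_iff.1 e)
    have e3 : z⁻¹ * (f * a * f⁻¹) = c⁻¹ * a := by
      calc z⁻¹ * (f * a * f⁻¹) = x⁻¹ * (c⁻¹ * a) * x := by rw [hm, hz']; group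
        _ = x⁻¹ * ((c⁻¹ * a) * x) := by rw [mul_assoc]
        _ = x⁻¹ * (x * (c⁻¹ * a)) := by
          have hxc : Commute x c := by
            have hf0 : ∀ w ∈ F, Commute c w := fun w hw => (hCF c hc w hw).symm
            have h4 : Commute a⁻¹ c := hACc _ (inv_mem ha) c hc
            exact (((h4.mul_left (hf0 f hf).symm).mul_left h4.inv_left).mul_left (hf0 f hf).symm.inv_left)
          rw [(hxc.inv_right.mul_right (hHA x hx a ha)).eq]
        _ = c⁻¹ * a := by group
    refine translate_not_root hS (hS.conj_mem A hA f) hBf hzc (inv_ne_one.2 hz1) (cj_mem ha f) hfa1 ?_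
    rw [e3]
    have hca : c⁻¹ * a ≠ 1 := fun e => by
      have hcA : a ∈ A ⊓ C := Subgroup.mem_inf.2 ⟨ha, by rw [← inv_mul_eq_one.1 e]; exact hc⟩
      rw [hmeet, Subgroup.mem_bot] at hcA
      exact ha1 hcA
    obtain ⟨M', hM', hmM'⟩ := hcov (c⁻¹ * a) (mul_mem (Subgroup.mem_sup_right (inv_mem hc)) (Subgroup.mem_sup_left ha)) hca
    exact ⟨hca, M', hM', hmM'⟩
  refine le_antisymm (fun x hx => ?_) (fun c hc => ?_)
  · obtain ⟨f, hf, hfx⟩ := RootTriangle.rcc_surj hS hCB hAF (inv_mem ha) (inv_ne_one.2 ha1) x hx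
    obtain ⟨c, hc, hcf⟩ := RootTriangle.rcc_surj hS hCS (rcc_symm hR) hb hb1 f
      (Subgroup.commutator_comm C B ▸ hf)
    have := key c hc
    rw [hcf, hfx] at this
    rw [eq_inv_of_mul_eq_one_right this]
    exact inv_mem hc
  · rw [eq_inv_of_mul_eq_one_left (key c hc)]
    refine inv_mem ?_
    rw [hHdef, ← commutatorElement_def]
    refine Subgroup.commutator_mem_commutator (inv_mem ha) ?_
    rw [hFdef, Subgroup.commutator_comm, ← commutatorElement_def]
    exact Subgroup.commutator_mem_commutator hb hc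

/-- The commutator of `A` with the new member is the line partner. -/
theorem triangle_eq (hS : IsRootSubgroupSet S) {A B C : Subgroup G} (hA : A ∈ S) (hB : B ∈ rankOnePartners S A)
    (hC : C ∈ linePartners S A) (hCB : ⁅C, B⁆ ∈ S) : ⁅A, ⁅C, B⁆⁆ = C := by
  obtain ⟨⟨hCS, hne, hAC⟩, hsub, hcov, hdisj⟩ := hC
  exact triangle_eq' hS hA hB hCS hAC (hdisj A ⟨hA, le_sup_left⟩ C ⟨hCS, le_sup_right⟩ hne.symm)
    (fun x hx hx1 => ⟨_, (hcov x hx hx1).choose_spec.1.1, (hcov x hx hx1).choose_spec.2⟩) hCB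
/-- Any other member of the line of a commutator pair spans it together with `A`. -/
theorem spread (hS : IsRootSubgroupSet S) {A E B C : Subgroup G} (hA : A ∈ S) (hB : B ∈ rankOnePartners S A)
    (hE : E ∈ S) (hAE : ⁅A, E⁆ ∈ S) (hC : C ∈ membersIn S (A ⊔ ⁅A, E⁆)) (hCA : C ≠ A) :
    ⁅A, E⁆ ≤ A ⊔ C := by
  rw [(line_members hS (not_isolated_of_partner hA hB) hA hE hAE).1] at hC
  rcases hC with ⟨e, he, rfl⟩ | rfl
  · have he1 : e⁻¹ ≠ 1 := fun e0 => hCA (by rw [inv_eq_one.1 e0]; exact cj_one)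
    have := RootNilpotent.sup_cj hS hA (commutator_case hS hA hE hAE) (inv_mem he) he1
    rw [inv_inv] at this
    exact this ▸ le_sup_right
  · exact le_sup_right

/-- Restriction of a rank one pair to the group it generates. -/
theorem pair_restrict {A B X : Subgroup G} (hAX : A ≤ X) (hBX : B ≤ X) (h : IsRankOnePair A B) :
    IsRankOnePair (A.subgroupOf X) (B.subgroupOf X) := by
  have hc : ∀ {P Q : Subgroup G}, P ≤ X → Q ≤ X → RankOneCondition P Q →
      RankOneCondition (P.subgroupOf X) (Q.subgroupOf X) := by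
    intro P Q hP hQ hPQ x hx hx1
    obtain ⟨y, hy, hy1, e⟩ := hPQ x hx (fun e => hx1 (Subtype.ext e))
    refine ⟨⟨y, hQ hy⟩, hy, fun e' => hy1 (congrArg Subtype.val e'), ?_⟩
    apply Subgroup.map_injective (Subgroup.subtype_injective X)
    have key : ∀ (R : Subgroup G), R ≤ X → ∀ g : ↥X,
        (conjBy (R.subgroupOf X) g).map X.subtype = conjBy R (g : G) := by
      intro R hR g
      rw [Subgroup.map_map]
      conv_rhs => rw [conjBy, ← Subgroup.map_subgroupOf_eq_of_le hR, Subgroup.map_map]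
      rfl
    rw [key P hP, key Q hQ]
    exact e
  refine ⟨fun e => h.ne ?_, ?_, ?_, hc hAX hBX h.cond_left, hc hBX hAX h.cond_right⟩
  · rw [← Subgroup.map_subgroupOf_eq_of_le hAX, e, Subgroup.map_subgroupOf_eq_of_le hBX]
  · haveI := h.nilpotent_left
    exact Group.nilpotent_of_mulEquiv (Subgroup.subgroupOfEquivOfLe hAX).symm
  · haveI := h.nilpotent_right
    exact Group.nilpotent_of_mulEquiv (Subgroup.subgroupOfEquivOfLe hBX).symm

theorem main (hS : IsRootSubgroupClass S) (hnd : IsNondegenerateRootSet S) {A B : Subgroup G} (hA : A ∈ S)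
    (hB : B ∈ rankOnePartners S A) :
    (∃ C ∈ linePartners S A, C ∈ commutatorPartners S B) ∧ IsSpecialRankOnePair A B := by
  obtain ⟨E, hE, hC0S, hC₀⟩ := exists_line_partner hS hnd hA hB
  obtain ⟨C, hC, hCA, hBC⟩ := exists_commutator_partner hS.1 hA hB hC₀
  set C₀ := ⁅A, E⁆ with hC₀def
  have hsupeq : A ⊔ C = A ⊔ C₀ := by
    refine le_antisymm (sup_le le_sup_left hC.2) (sup_le le_sup_left ?_)
    exact spread hS.1 hA hB hE hC0S hC hCA
  have hline : C ∈ linePartners S A := by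
    obtain ⟨⟨-, -, hcomm0⟩, hpart⟩ := hC₀
    refine ⟨⟨hC.1, hCA, ?_⟩, by rw [hsupeq]; exact hpart⟩
    rw [eq_bot_iff]
    have hle : ⁅A, C⁆ ≤ ⁅A, A ⊔ C₀⁆ := Subgroup.commutator_mono le_rfl hC.2
    refine hle.trans ?_
    rw [le_bot_iff, Subgroup.commutator_eq_bot_iff_le_centralizer]
    intro a ha
    rw [Subgroup.mem_centralizer_iff]
    intro w hw
    have hle2 : A ⊔ C₀ ≤ Subgroup.centralizer ({a} : Set G) := sup_le
      (fun y hy => Subgroup.mem_centralizer_singleton_iff.2 (cj_fix_of_comm hS.1 hA hy a ha))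
      (fun y hy => Subgroup.mem_centralizer_singleton_iff.2 (comm_of_bot hcomm0 ha hy).symm)
    exact Subgroup.mem_centralizer_singleton_iff.1 (hle2 hw)
  refine ⟨⟨C, hline, hC.1, hBC.1⟩, ?_⟩
  have hCB : ⁅C, B⁆ ∈ S := Subgroup.commutator_comm B C ▸ hBC.1
  have htri := triangle_eq hS.1 hA hB hline hCB
  obtain ⟨hBS, h⟩ := hB
  have hR := commutator_case hS.1 hC.1 hBS hCB
  have hR' := commutator_case hS.1 hA hCB (htri.symm ▸ hC.1)
  set F := ⁅C, B⁆ with hFdef
  have hCF : ∀ p ∈ C, ∀ q ∈ F, p * q = q * p := fun p hp q hq => (hR.2.1 q hq p (Subgroup.mem_sup_left hp)).symm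
  have hAC : ∀ w ∈ A, ∀ p ∈ C, w * p = p * w := fun w hw p hp =>
    (hR'.2.1 p (htri.symm ▸ hp) w (Subgroup.mem_sup_left hw)).symm
  set N := C ⊔ F with hN
  have hBF : ∀ y ∈ B, ∀ q ∈ F, q * y = y * q := fun y hy q hq => hR.2.1 q hq y (Subgroup.mem_sup_right hy)
  have hAn : ∀ w ∈ A, ∀ m ∈ N, w * m * w⁻¹ * m⁻¹ ∈ C := by
    intro w hw m hm
    obtain ⟨p, hp, q, hq, rfl⟩ := mem_sup_central hCF hm
    have hq' : w * q * w⁻¹ * q⁻¹ ∈ C := by
      rw [← htri, ← commutatorElement_def]; exact Subgroup.commutator_mem_commutator hw hq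
    rw [show w * (p * q) * w⁻¹ * (p * q)⁻¹ = (w * p * w⁻¹) * (w * q * w⁻¹ * q⁻¹) * p⁻¹ by group,
      show w * p * w⁻¹ = p by rw [hAC w hw p hp, mul_inv_cancel_right]]
    exact mul_mem (mul_mem hp hq') (inv_mem hp)
  have hBn : ∀ y ∈ B, ∀ m ∈ N, y * m * y⁻¹ * m⁻¹ ∈ F := by
    intro y hy m hm
    obtain ⟨p, hp, q, hq, rfl⟩ := mem_sup_central hCF hm
    have hp' : y * p * y⁻¹ * p⁻¹ ∈ F := by
      rw [hFdef, Subgroup.commutator_comm, ← commutatorElement_def]; exact Subgroup.commutator_mem_commutator hy hp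
    rw [show y * (p * q) * y⁻¹ * (p * q)⁻¹ = (y * p * y⁻¹) * (y * q * y⁻¹ * q⁻¹) * p⁻¹ by group,
      show y * q * y⁻¹ * q⁻¹ = 1 by rw [← hBF y hy q hq, mul_inv_cancel_right, mul_inv_cancel], mul_one]
    exact hp'
  set X := A ⊔ B with hX
  have hnorm : X ≤ Subgroup.normalizer (N : Set G) := by
    refine sup_le (fun w hw => ?_) (fun y hy => ?_)
    · rw [Subgroup.mem_normalizer_iff]
      have key : ∀ w ∈ A, ∀ m ∈ N, w * m * w⁻¹ ∈ N := fun w hw m hm => by
        rw [show w * m * w⁻¹ = (w * m * w⁻¹ * m⁻¹) * m by group]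
        exact mul_mem (Subgroup.mem_sup_left (hAn w hw m hm)) hm
      exact fun m => ⟨key w hw m, fun hm => by simpa [mul_assoc] using key w⁻¹ (inv_mem hw) _ hm⟩
    · rw [Subgroup.mem_normalizer_iff]
      have key : ∀ y ∈ B, ∀ m ∈ N, y * m * y⁻¹ ∈ N := fun y hy m hm => by
        rw [show y * m * y⁻¹ = (y * m * y⁻¹ * m⁻¹) * m by group]
        exact mul_mem (Subgroup.mem_sup_right (hBn y hy m hm)) hm
      exact fun m => ⟨key y hy m, fun hm => by simpa [mul_assoc] using key y⁻¹ (inv_mem hy) _ hm⟩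
  haveI hNc : IsMulCommutative ↥N := ⟨⟨fun u v => Subtype.ext (by
    obtain ⟨p, hp, q, hq, e⟩ := mem_sup_central hCF u.2
    obtain ⟨p', hp', q', hq', e'⟩ := mem_sup_central hCF v.2
    show (u : G) * v = v * u
    rw [← e, ← e']
    have c1 : Commute (p * q) p' :=
      (show Commute p p' from cj_fix_of_comm hS.1 hC.1 hp p' hp').mul_left (hCF p' hp' q hq).symm
    have c2 : Commute (p * q) q' :=
      (show Commute p q' from hCF p hp q' hq').mul_left (cj_fix_of_comm hS.1 hCB hq q' hq')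
    exact (c1.mul_right c2).eq)⟩⟩
  letI : CommGroup ↥N := { (inferInstance : Group ↥N) with mul_comm := fun u v => hNc.is_comm.comm u v }
  letI : DistribMulAction ↥X (Additive ↥N) :=
    { smul := fun x m => Additive.ofMul ⟨(x : G) * ((Additive.toMul m : ↥N) : G) * (x : G)⁻¹,
        (Subgroup.mem_normalizer_iff.1 (hnorm x.2) _).1 (Additive.toMul m : ↥N).2⟩
      one_smul := fun m => Additive.toMul.injective (Subtype.ext (by
        show (1 : G) * ((Additive.toMul m : ↥N) : G) * (1 : G)⁻¹ = _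
        simp))
      mul_smul := fun x y m => Additive.toMul.injective (Subtype.ext (by
        show (x : G) * y * ((Additive.toMul m : ↥N) : G) * ((x : G) * y)⁻¹ =
          (x : G) * ((y : G) * ((Additive.toMul m : ↥N) : G) * (y : G)⁻¹) * (x : G)⁻¹
        group))
      smul_zero := fun x => Additive.toMul.injective (Subtype.ext (by
        show (x : G) * (1 : G) * (x : G)⁻¹ = 1
        group))
      smul_add := fun x m m' => Additive.toMul.injective (Subtype.ext (by
        show (x : G) * (((Additive.toMul m : ↥N) : G) * ((Additive.toMul m' : ↥N) : G)) * (x : G)⁻¹ =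
          (x : G) * ((Additive.toMul m : ↥N) : G) * (x : G)⁻¹ *
            ((x : G) * ((Additive.toMul m' : ↥N) : G) * (x : G)⁻¹)
        group)) }
  have hsub : ∀ (x : ↥X) (m : Additive ↥N), ((Additive.toMul (x • m - m) : ↥N) : G) =
      (x : G) * ((Additive.toMul m : ↥N) : G) * (x : G)⁻¹ * ((Additive.toMul m : ↥N) : G)⁻¹ := by
    intro x m
    rw [toMul_sub, div_eq_mul_inv]
    rfl
  have hp' := pair_restrict (X := X) le_sup_left le_sup_right h
  have htop : A.subgroupOf X ⊔ B.subgroupOf X = ⊤ := by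
    rw [← Subgroup.subgroupOf_sup le_sup_left le_sup_right, Subgroup.subgroupOf_self]
  have hab : HasAbelianUnipotents (A.subgroupOf X) (B.subgroupOf X) := by
    haveI := hS.1.commutative A hA
    haveI := hS.1.commutative B hBS
    exact ⟨inferInstance, inferInstance⟩
  have hspec := CfsgLib.Inv.RankOne.quad_special (N := Additive ↥N) ⟨htop, hp'⟩ hab ?_ ?_
  · refine ⟨h, fun a ha ha1 b hb hb1 e => ?_⟩
    have := hspec.2 ⟨a, Subgroup.mem_sup_left ha⟩ ha (fun e' => ha1 (congrArg Subtype.val e'))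
      ⟨b, Subgroup.mem_sup_right hb⟩ hb (fun e' => hb1 (congrArg Subtype.val e')) (by
        apply Subgroup.map_injective (Subgroup.subtype_injective X)
        rw [Subgroup.map_map, Subgroup.map_map]
        calc _ = conjBy A b⁻¹ := by
              conv_rhs => rw [conjBy, ← Subgroup.map_subgroupOf_eq_of_le (H := A) (K := X) le_sup_left, Subgroup.map_map]
              rfl
          _ = conjBy B a⁻¹ := e
          _ = _ := by
              conv_lhs => rw [conjBy, ← Subgroup.map_subgroupOf_eq_of_le (H := B) (K := X) le_sup_right, Subgroup.map_map]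
              rfl)
    exact congrArg Subtype.val this
  · intro x hx y hy m
    apply Additive.toMul.injective
    apply Subtype.ext
    show (y : G) * ((Additive.toMul (x • m - m) : ↥N) : G) * (y : G)⁻¹ = ((Additive.toMul (x • m - m) : ↥N) : G)
    rw [hsub]
    exact mul_inv_eq_iff_eq_mul.2 (hAC _ hy _ (hAn _ hx _ (Additive.toMul m : ↥N).2))
  · obtain ⟨w, hw, hw1⟩ := (Subgroup.bot_or_exists_ne_one A).resolve_left (hS.1.ne_bot A hA)
    obtain ⟨p, hp, hp1⟩ := (Subgroup.bot_or_exists_ne_one C).resolve_left (hS.1.ne_bot C hC.1)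
    obtain ⟨q, hq, hwq⟩ := RootTriangle.rcc_surj hS.1 hCB hR' hw hw1 p (htri.symm ▸ hp)
    obtain ⟨y, hy, hy'⟩ : ∃ y ∈ B, y * p * y⁻¹ ≠ p := by
      by_contra hcon
      push Not at hcon
      refine hS.1.ne_bot F hCB ?_
      rw [hFdef, ← hR.2.2.1 p hp hp1, Subgroup.closure_eq_bot_iff]
      rintro _ ⟨y, hy, rfl⟩
      show p * y * p⁻¹ * y⁻¹ = 1
      rw [← mul_inv_eq_iff_eq_mul.1 (hcon y hy)]; group
    refine ⟨⟨w, Subgroup.mem_sup_left hw⟩, ⟨y, Subgroup.mem_sup_right hy⟩,
      Additive.ofMul ⟨q, Subgroup.mem_sup_right hq⟩, fun e => hy' ?_⟩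
    set d := (⟨w, Subgroup.mem_sup_left hw⟩ : ↥X) • Additive.ofMul (⟨q, Subgroup.mem_sup_right hq⟩ : ↥N) -
      Additive.ofMul (⟨q, Subgroup.mem_sup_right hq⟩ : ↥N) with hd
    have e' : y * ((Additive.toMul d : ↥N) : G) * y⁻¹ = ((Additive.toMul d : ↥N) : G) :=
      congrArg (fun z : Additive ↥N => ((Additive.toMul z : ↥N) : G)) e
    rw [hd, hsub] at e'
    rw [← hwq]
    exact e'

end CfsgLib.Inv.RootSpecial
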