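import Cfsg.Agent.Inv.RootLines

/-!
Weak TI-subsets of a non-degenerate class of abstract root subgroups.
-/

set_option autoImplicit false
set_option linter.unusedSectionVars false

namespace CfsgLib.Inv.RootTI

open Cfsg CfsgLib.Inv.RankOne CfsgLib.Inv.RootSet CfsgLib.Inv.RootSpecial CfsgLib.Inv.RootLines
open scoped commutatorElement

variable {G : Type*} [Group G] {S : Set (Subgroup G)}

theorem main (hS : IsRootSubgroupClass S) (hnd : IsNondegenerateRootSet S) {Δ : Set (Subgroup G)}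
    (hΔ : IsWeakTISubset S Δ) : IsAbelianFamily Δ := by
  have hall := all_not_isolated hS hnd
  obtain ⟨hsub, -, hne, hTI⟩ := hΔ
  let K : Subgroup G :=
    { carrier := {g | ∀ P, P ∈ Δ ↔ conjBy P g ∈ Δ}
      one_mem' := fun P => by rw [cj_one]
      mul_mem' := fun {g h} hg hh P => by rw [← cj_cj]; exact (hh P).trans (hg _)
      inv_mem' := fun {g} hg P => by
        have h1 := hg (conjBy P g⁻¹)
        rw [cj_cj_inv] at h1
        exact h1.symm }
  have hstab : ∀ X ∈ Δ, ∀ Y ∈ S, ⁅X, Y⁆ = ⊥ → Y ≤ K := by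
    intro X hX Y hY hXY y hy
    by_cases hy1 : y = 1
    · rw [hy1]; exact one_mem _
    have hfix : conjBy X y = X := cj_of_comm fun x hx => (comm_of_bot hXY hx hy).symm
    rcases hTI y ⟨hy1, Y, hY, hy⟩ with e | e
    · exact fun P => ⟨fun hP => e ▸ ⟨P, hP, rfl⟩, fun hP => by
        rw [← e] at hP
        obtain ⟨Q, hQ, eq⟩ := hP
        rwa [← cj_inj eq]⟩
    · exact absurd (Set.disjoint_left.1 e ⟨X, hX, hfix⟩) (not_not.2 hX)
  have hno : ∀ P ∈ Δ, ∀ Y ∈ rankOnePartners S P, Y ≤ K → False := by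
    intro P hP Y hY hYK
    have hK : ((⨆ C ∈ linePartners S P, C) ⊔ Y : Subgroup G) ≤ K :=
      sup_le (iSup₂_le fun C hC => hstab P hP C hC.1.1 hC.1.2.2) hYK
    rw [generated hS hnd (hsub hP) hY] at hK
    refine hne (Set.Subset.antisymm hsub fun Q hQ => ?_)
    obtain ⟨g, rfl⟩ := hS.2.2 P (hsub hP) Q hQ
    exact ((hK (Subgroup.mem_top g)) P).1 hP
  have hself : ∀ B ∈ Δ, B ≤ K := fun B hB => hstab B hB B (hsub hB) (by
    rw [Subgroup.commutator_eq_bot_iff_le_centralizer]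
    exact fun x hx y hy => cj_fix_of_comm hS.1 (hsub hB) hy x hx)
  intro A hA B hB a ha b hb
  rcases hS.1.pair A (hsub hA) B (hsub hB) with h | h | h
  · exact comm_of_bot h ha hb
  · exact (hno A hA B ⟨hsub hB, h⟩ (hself B hB)).elim
  · exfalso
    have hc := Subgroup.commutator_comm B A
    have hBA : ⁅B, A⁆ ∈ S := hc.symm ▸ h.1
    have hl := (line_members hS.1 (hall B (hsub hB)) (hsub hB) (hsub hA) hBA).2.2.1
    obtain ⟨D, hD, eD, -⟩ := swap hS.1 hall hBA hl ⟨hBA, le_sup_left⟩ ⟨hsub hB, le_sup_right⟩ (Ne.symm hl.1.2.1)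
    have eD' : ⁅D, ⁅B, A⁆⁆ = B := (Subgroup.commutator_comm _ _).trans eD
    have hpair := RootTriangle.pair_of_triangle hS.1 (hsub hB) (hsub hA) hBA hD eD'
    have hDl := (line_members hS.1 (hall D hD) hD hBA (eD'.symm ▸ hsub hB)).2.2.1
    rw [eD'] at hDl
    exact hno A hA D ⟨hD, hpair⟩ (hstab B hB D hD hDl.1.2.2)

end CfsgLib.Inv.RootTI
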