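import Cfsg.Agent.Inv.RootLines

/-!
Members with comparable sets of commuting members, or of rank one partners, in a class of abstract root
subgroups.
-/

set_option autoImplicit false
set_option linter.unusedSectionVars false

namespace CfsgLib.Inv.RootTwin

open Cfsg CfsgLib.Inv.RankOne CfsgLib.Inv.RootSet CfsgLib.Inv.RootSpecial CfsgLib.Inv.RootLines
open scoped commutatorElement

variable {G : Type*} [Group G] {S : Set (Subgroup G)}

theorem pair_comm_false {A B : Subgroup G} (h : IsRankOnePair A B) (hc : ⁅A, B⁆ = ⊥) : False :=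
  h.ne (not_comm_points h (self_mem h) (other_mem h) (unip_ne_bot h (other_mem h))
    fun _ hy _ hb => comm_of_bot hc hy hb)

theorem pair_rcc_false (hS : IsRootSubgroupSet S) {A B : Subgroup G} (hA : A ∈ S) (hB : B ∈ S) (h : IsRankOnePair A B)
    (hR : RootCommutatorCase S A B) : False := by
  obtain ⟨a, ha, ha1⟩ := (Subgroup.bot_or_exists_ne_one A).resolve_left (hS.ne_bot A hA)
  exact ha1 (inf_norm h ha (not_comm_points h (cj_unip (other_mem h) (Subgroup.mem_sup_left ha)) (other_mem h)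
    (unip_ne_bot h (other_mem h)) fun _ hy _ hb => conj_commutes hS hB hR ha hy hb))

/-- The group generated by a rank one pair is not nilpotent. -/
theorem pair_nilpotent_false {A B : Subgroup G} (h : IsRankOnePair A B) (hA : A ≠ ⊥)
    (hn : Group.IsNilpotent ↥(A ⊔ B)) : False := by
  set X := A ⊔ B with hX
  have hNtop : (Subgroup.normalizer (A : Set G)).subgroupOf X = ⊤ := by
    by_contra hne
    obtain ⟨g, hg, hgN⟩ := SetLike.exists_of_lt
      (Group.normalizerCondition_of_isNilpotent _ (lt_top_iff_ne_top.2 hne))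
    obtain ⟨a, ha, ha1⟩ := (Subgroup.bot_or_exists_ne_one A).resolve_left hA
    have h1 := (Subgroup.mem_normalizer_iff.1 hg ⟨a, Subgroup.mem_sup_left ha⟩).1
      (Subgroup.mem_subgroupOf.2 (Subgroup.le_normalizer ha))
    have h2 : (g : G) * a * (g : G)⁻¹ ∈ Subgroup.normalizer (A : Set G) := h1
    have h3 := fix_point h (cj_unip (self_mem h) g.2) (cj_mem ha (g : G)) (fun e => ha1 (conj_eq_one_iff.1 e))
      (self_mem h) (mem_norm.1 h2)
    exact hgN (Subgroup.mem_subgroupOf.2 (mem_norm.2 h3.symm))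
  obtain ⟨x, hx, e⟩ := other_mem h
  have h4 : (⟨x, hx⟩ : ↥X) ∈ (Subgroup.normalizer (A : Set G)).subgroupOf X := hNtop ▸ Subgroup.mem_top _
  exact h.ne (e.trans (mem_norm.1 h4)).symm

/-- Every member commuting with `A` commutes with `C`. -/
def Sub (S : Set (Subgroup G)) (A C : Subgroup G) : Prop := ∀ Z ∈ S, ⁅Z, A⁆ = ⊥ → ⁅Z, C⁆ = ⊥

theorem sub_iff {A C : Subgroup G} : centralizingMembers S A ⊆ centralizingMembers S C ↔ Sub S A C := by
  constructor
  · intro h Z hZ hc
    exact Subgroup.commutator_eq_bot_iff_le_centralizer.2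
      (h ⟨hZ, Subgroup.commutator_eq_bot_iff_le_centralizer.1 hc⟩).2
  · exact fun h Z hZ => ⟨hZ.1, Subgroup.commutator_eq_bot_iff_le_centralizer.1
      (h Z hZ.1 (Subgroup.commutator_eq_bot_iff_le_centralizer.2 hZ.2))⟩

theorem self_comm (hS : IsRootSubgroupSet S) {A : Subgroup G} (hA : A ∈ S) : ⁅A, A⁆ = ⊥ := by
  rw [Subgroup.commutator_eq_bot_iff_le_centralizer]
  exact fun x hx y hy => cj_fix_of_comm hS hA hy x hx

theorem sub_conj (hS : IsRootSubgroupSet S) {A C : Subgroup G} (h : Sub S A C) (g : G) :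
    Sub S (conjBy A g) (conjBy C g) := by
  intro Z hZ hc
  have h1 := h (conjBy Z g⁻¹) (hS.conj_mem Z hZ _) (by
    rw [← cj_inv_cj (A := A) g, cj_commutator, hc]; exact Subgroup.map_bot _)
  rw [← cj_cj_inv (A := Z) g, cj_commutator, h1]
  exact Subgroup.map_bot _

/-- If every partner of `A` is a partner of `C`, then every member commuting with `C` commutes with `A`. -/
theorem sub_of_partners (hS : IsRootSubgroupSet S) (hall : ∀ X ∈ S, ¬ IsIsolatedIn (FAdj S) S X) {A C : Subgroup G}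
    (hA : A ∈ S) (hC : C ∈ S) (h : rankOnePartners S A ⊆ rankOnePartners S C) : Sub S C A := by
  intro Z hZ hZC
  rcases hS.pair Z hZ A hA with hh | hh | hh
  · exact hh
  · exact (pair_comm_false (RankOnePair_symm (h ⟨hZ, RankOnePair_symm hh⟩).2) hZC).elim
  · exfalso
    have hl := (line_members hS (hall Z hZ) hZ hA hh.1).2.2.1
    obtain ⟨D, hD, eD, -⟩ := swap hS hall hh.1 hl ⟨hh.1, le_sup_left⟩ ⟨hZ, le_sup_right⟩ (Ne.symm hl.1.2.1)
    have eD' : ⁅D, ⁅Z, A⁆⁆ = Z := (Subgroup.commutator_comm _ _).trans eD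
    have hAD := RootTriangle.pair_of_triangle hS hZ hA hh.1 hD eD'
    have hCD := (h ⟨hD, hAD⟩).2
    have hlm := line_members hS (hall D hD) hD hh.1 (eD'.symm ▸ hZ)
    rw [eD'] at hlm
    obtain ⟨M, hM, hMD, hR⟩ := exists_commutator_partner hS hD ⟨hC, RankOnePair_symm hCD⟩
      (line_symm hD hlm.2.2.1 hZ)
    rw [hlm.1] at hM
    rcases hM with ⟨e, he, rfl⟩ | rfl
    · have hAe : conjBy A e = A :=
        cj_of_comm fun x hx => hh.2.1 e he x (Subgroup.mem_sup_right hx)
      have hAM := pair_conj hAD e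
      rw [hAe] at hAM
      exact pair_rcc_false hS hC (hS.conj_mem D hD e) (h ⟨hS.conj_mem D hD e, hAM⟩).2 hR
    · exact hS.ne_bot _ hR.1 ((Subgroup.commutator_comm C M).trans hZC)

/-- In a non-degenerate class, if everything commuting with `A` commutes with `C` then every partner of `A` is one of `C`. -/
theorem partners_of_sub (hS : IsRootSubgroupClass S) (hnd : IsNondegenerateRootSet S) {A C : Subgroup G}
    (hA : A ∈ S) (hC : C ∈ S) (hsub : Sub S A C) : rankOnePartners S A ⊆ rankOnePartners S C := by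
  have hall := all_not_isolated hS hnd
  rintro D ⟨hD, hAD⟩
  refine ⟨hD, ?_⟩
  rcases hS.1.pair C hC D hD with hh | hh | hh
  · exfalso
    have hle : ((⨆ Y ∈ linePartners S A, Y) ⊔ D : Subgroup G) ≤ Subgroup.centralizer (C : Set G) :=
      sup_le (iSup₂_le fun Y hY => Subgroup.commutator_eq_bot_iff_le_centralizer.1
          (hsub Y hY.1.1 ((Subgroup.commutator_comm Y A).trans hY.1.2.2)))
        (Subgroup.commutator_eq_bot_iff_le_centralizer.1 ((Subgroup.commutator_comm D C).trans hh))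
    rw [generated hS hnd hA ⟨hD, hAD⟩] at hle
    obtain ⟨P, hP⟩ := partner_of_not_isolated hS.1 (hall C hC) hC
    exact pair_comm_false (RankOnePair_symm hP.2)
      (Subgroup.commutator_eq_bot_iff_le_centralizer.2 (le_top.trans hle))
  · exact hh
  · exfalso
    have hc := Subgroup.commutator_comm D C
    have hDC : ⁅D, C⁆ ∈ S := hc.symm ▸ hh.1
    have hlF := line_symm hD (line_members hS.1 (hall D hD) hD hC hDC).2.2.1 hDC
    obtain ⟨D4, hD4, e4, -⟩ := swap hS.1 hall hD hlF ⟨hDC, le_sup_right⟩ ⟨hD, le_sup_left⟩ hlF.1.2.1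
    have e4' : ⁅D4, ⁅D, C⁆⁆ = D := (Subgroup.commutator_comm _ _).trans e4
    have hCD4 := RootTriangle.pair_of_triangle hS.1 hD hC hDC hD4 e4'
    have hlm := line_members hS.1 (hall D4 hD4) hD4 hDC (e4'.symm ▸ hD)
    rw [e4', sup_comm D4 D] at hlm
    have hl4 : D4 ∈ linePartners S D := hlm.2.2.1
    obtain ⟨M, hM, hMD, hR⟩ := exists_commutator_partner hS.1 hD ⟨hA, RankOnePair_symm hAD⟩ hl4
    have hMl := line_partner_of_mem hS.1 hall hD hl4 hM hMD
    have hCM : IsRankOnePair C M := by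
      rw [hlm.1] at hM
      rcases hM with ⟨f, hf, rfl⟩ | hM
      · have h1 := pair_conj hCD4 f
        rwa [show conjBy C f = C from cj_of_comm fun x hx => hh.2.1 f (hc ▸ hf) x (Subgroup.mem_sup_left hx)] at h1
      · exact absurd hM hMD
    have hMA : ⁅M, A⁆ ∈ S := Subgroup.commutator_comm A M ▸ hR.1
    have htri := triangle_eq hS.1 hD ⟨hA, RankOnePair_symm hAD⟩ hMl hMA
    have hY : ⁅⁅M, A⁆, C⁆ = ⊥ := hsub _ hMA (by
      rw [Subgroup.commutator_comm M A, Subgroup.commutator_eq_bot_iff_le_centralizer]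
      exact fun y hy a ha => (hR.2.1 y hy a (Subgroup.mem_sup_left ha)).symm)
    have hYC : ⁅M, A⁆ ≠ C := fun e => by
      rw [e, hc] at htri
      refine pair_comm_false hCM ?_
      rw [← htri, Subgroup.commutator_eq_bot_iff_le_centralizer]
      exact fun c hc' f hf => hh.2.1 f hf c (Subgroup.mem_sup_left hc')
    obtain ⟨d, hd, hd1⟩ := (Subgroup.bot_or_exists_ne_one D).resolve_left (hS.1.ne_bot D hD)
    have hnil := (RootNilpotent.main hS.1 hC hD hMA hh.1 (htri.symm ▸ hMl.1.1)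
      ⟨hMA, hYC, (Subgroup.commutator_comm _ _).trans hY⟩ hd hd1).2.2.2.2
    have hMle : M ≤ C ⊔ D ⊔ ⁅M, A⁆ := by
      conv_lhs => rw [← htri]
      rw [Subgroup.commutator_le]
      intro p hp q hq
      have hp' : p ∈ C ⊔ D ⊔ ⁅M, A⁆ := Subgroup.mem_sup_left (Subgroup.mem_sup_right hp)
      have hq' : q ∈ C ⊔ D ⊔ ⁅M, A⁆ := Subgroup.mem_sup_right hq
      rw [commutatorElement_def]
      exact mul_mem (mul_mem (mul_mem hp' hq') (inv_mem hp')) (inv_mem hq')
    haveI := hnil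
    exact pair_nilpotent_false hCM (hS.1.ne_bot C hC)
      (Group.nilpotent_of_mulEquiv (Subgroup.subgroupOfEquivOfLe
        (sup_le (le_sup_left.trans le_sup_left) hMle : C ⊔ M ≤ C ⊔ D ⊔ ⁅M, A⁆)))

/-- In a degenerate class inclusion of the sets of commuting members is symmetric. -/
theorem sub_symm (hS : IsRootSubgroupSet S) (hdeg : IsDegenerateRootSet S) {A C : Subgroup G} (hA : A ∈ S)
    (hC : C ∈ S) (hC' : ∃ Y, Y ∈ rankOnePartners S C) (hsub : Sub S A C) : Sub S C A := by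
  obtain ⟨Y, hY, hCY⟩ := hC'
  have hcomm : ∀ p ∈ A, ∀ q ∈ C, p * q = q * p := fun p hp q hq => comm_of_bot (hsub A hA (self_comm hS hA)) hp hq
  have hAY : IsRankOnePair A Y := by
    rcases hS.pair Y hY A hA with hh | hh | hh
    · exact (pair_comm_false (RankOnePair_symm hCY) (hsub Y hY hh)).elim
    · exact RankOnePair_symm hh
    · exact absurd hh (hdeg Y hY A hA)
  have huniq : ∀ w ∈ Y, ⁅conjBy A w, C⁆ = ⊥ → w = 1 := by
    intro w hw h
    have h1 : ⁅conjBy C w⁻¹, A⁆ = ⊥ := by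
      rw [← cj_inv_cj (A := A) w, cj_commutator, Subgroup.commutator_comm, h]; exact Subgroup.map_bot _
    have h2 := hsub _ (hS.conj_mem C hC _) h1
    have h3 := not_comm_points hCY (cj_unip (self_mem hCY) (Subgroup.mem_sup_right (inv_mem hw))) (self_mem hCY)
      (unip_ne_bot hCY (self_mem hCY)) fun _ hy _ hb => comm_of_bot h2 hy hb
    exact inv_eq_one.1 (inf_norm (RankOnePair_symm hCY) (inv_mem hw) h3)
  obtain ⟨a, ha, ha1⟩ := (Subgroup.bot_or_exists_ne_one A).resolve_left (hS.ne_bot A hA)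
  obtain ⟨y, hy, hy1, ey⟩ := exists_b hAY ha ha1
  obtain ⟨c, hc, hc1, ec⟩ := exists_a hCY hy hy1
  obtain ⟨y', hy', -, ey'⟩ := exists_b hAY (inv_mem ha) (inv_ne_one.2 ha1)
  obtain ⟨y₂, hy₂, -, ec'⟩ := exists_b hCY (inv_mem hc) (inv_ne_one.2 hc1)
  have hac : Commute a c := hcomm a ha c hc
  have hAC : ⁅A, C⁆ = ⊥ := hsub A hA (self_comm hS hA)
  have h1 : ⁅conjBy Y a, conjBy Y c⁆ = ⊥ := by
    rw [ey, ← ec, cj_commutator, hAC]; exact Subgroup.map_bot _
  have h2 : ⁅conjBy Y c⁻¹, conjBy Y a⁻¹⁆ = ⊥ := by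
    have e1 : conjBy Y c⁻¹ = conjBy (conjBy Y a) (a⁻¹ * c⁻¹) := by
      rw [cj_cj, show a⁻¹ * c⁻¹ * a = c⁻¹ by rw [hac.inv_inv.eq, inv_mul_cancel_right]]
    have e2 : conjBy Y a⁻¹ = conjBy (conjBy Y c) (a⁻¹ * c⁻¹) := by rw [cj_cj, inv_mul_cancel_right]
    rw [e1, e2, cj_commutator, h1]; exact Subgroup.map_bot _
  have hyy : y₂ = y' := by
    rw [ey', ec'] at h2
    have h3 : ⁅C, conjBy A (y₂⁻¹ * y')⁆ = ⊥ := by
      rw [← cj_inv_cj (A := C) y₂, ← cj_cj, cj_commutator, h2]; exact Subgroup.map_bot _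
    exact inv_mul_eq_one.1 (huniq _ (mul_mem (inv_mem hy₂) hy') ((Subgroup.commutator_comm _ _).trans h3))
  have hS2 : Sub S (conjBy Y a⁻¹) (conjBy Y c⁻¹) := by
    rw [ey', ec', hyy]
    exact sub_conj hS hsub y'
  have hS3 := sub_conj hS (sub_conj hS hS2 (a * c)) y⁻¹
  rw [cj_cj, cj_cj] at hS3
  rw [cj_cj, cj_cj, show y⁻¹ * (a * c) * a⁻¹ = y⁻¹ * c by rw [hac.eq]; group,
    show y⁻¹ * (a * c) * c⁻¹ = y⁻¹ * a by group, ← cj_cj, ← cj_cj, ey, ← ec, cj_inv_cj, cj_inv_cj] at hS3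
  exact hS3

theorem main (hS : IsRootSubgroupClass S) (hdn : IsDegenerateRootSet S ∨ IsNondegenerateRootSet S)
    {A C : Subgroup G} (hA : A ∈ S) (hC : C ∈ S) (hAC : A ≠ C) :
    (centralizingMembers S A ⊆ centralizingMembers S C → centralizingMembers S A = centralizingMembers S C) ∧
    (rankOnePartners S A ⊆ rankOnePartners S C →
      ⁅A, C⁆ = ⊥ ∧ rankOnePartners S A = rankOnePartners S C) := by
  have hall : ∀ X ∈ S, ¬ IsIsolatedIn (FAdj S) S X := by
    rcases hdn with hdeg | hnd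
    · obtain ⟨P, hP, Q, hQ, hPQ⟩ : ∃ P ∈ S, ∃ Q ∈ S, IsRankOnePair P Q := by
        by_contra hno
        push Not at hno
        refine hAC ?_
        obtain ⟨g, rfl⟩ := hS.2.2 A hA C hC
        have hle : (⨆ Y ∈ S, Y) ≤ Subgroup.centralizer (A : Set G) := iSup₂_le fun Y hY =>
          Subgroup.commutator_eq_bot_iff_le_centralizer.1
            ((hS.1.pair Y hY A hA).elim id fun h => h.elim (fun h => absurd h (hno Y hY A hA))
              fun h => absurd h (hdeg Y hY A hA))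
        rw [hS.1.generates] at hle
        exact (cj_of_comm fun x hx => ((hle (Subgroup.mem_top g)) x hx).symm).symm
      intro X hX
      obtain ⟨g, rfl⟩ := hS.2.2 P hP X hX
      exact not_isolated_conj hS.1 hP (not_isolated_of_partner hP ⟨hQ, hPQ⟩) g
    · exact all_not_isolated hS hnd
  have hsymm : ∀ {P Q}, P ∈ S → Q ∈ S → Sub S P Q → Sub S Q P := fun {P Q} hP hQ h => by
    rcases hdn with hdeg | hnd
    · exact sub_symm hS.1 hdeg hP hQ (partner_of_not_isolated hS.1 (hall Q hQ) hQ) h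
    · exact sub_of_partners hS.1 hall hP hQ (partners_of_sub hS hnd hP hQ h)
  have hpart : ∀ {P Q}, P ∈ S → Q ∈ S → Sub S P Q → Sub S Q P → rankOnePartners S P ⊆ rankOnePartners S Q := by
    intro P Q hP hQ h h' D hD
    rcases hdn with hdeg | hnd
    · rcases hS.1.pair D hD.1 Q hQ with hh | hh | hh
      · exact (pair_comm_false (RankOnePair_symm hD.2) (h' D hD.1 hh)).elim
      · exact ⟨hD.1, RankOnePair_symm hh⟩
      · exact absurd hh (hdeg D hD.1 Q hQ)
    · exact partners_of_sub hS hnd hP hQ h hD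
  refine ⟨fun h => Set.Subset.antisymm h (sub_iff.2 (hsymm hA hC (sub_iff.1 h))), fun h => ?_⟩
  have h1 := sub_of_partners hS.1 hall hA hC h
  have h2 := hsymm hC hA h1
  exact ⟨h2 A hA (self_comm hS.1 hA), Set.Subset.antisymm h (hpart hC hA h1 h2)⟩

end CfsgLib.Inv.RootTwin
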