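import Cfsg.Agent.Inv.StronglyEmbedded
import Mathlib.GroupTheory.Perm.Cycle.Type
import Mathlib.Tactic

/-! Involutions interchanging two points of a strongly embedded coset space. -/

set_option autoImplicit false
set_option linter.style.haveILetI false

namespace CfsgLib.Inv

variable {G : Type*} [Group G] [Finite G] {H : Subgroup G}

theorem se_fixed_unique (hH : Cfsg.IsStronglyEmbedded H) {t : G} (ht : orderOf t = 2)
    {x y : G ⧸ H} (hx : t • x = x) (hy : t • y = y) : x = y := by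
  obtain ⟨g, rfl⟩ := QuotientGroup.mk_surjective x
  obtain ⟨k, rfl⟩ := QuotientGroup.mk_surjective y
  rw [fixed_coset_iff] at hx hy
  rw [QuotientGroup.eq]
  have h1 : orderOf (g⁻¹ * t * g) = 2 := by simpa using invol_conj ht g⁻¹
  have := se_mem_of_conj hH (g := k⁻¹ * g) hx h1 (by simpa [mul_assoc] using hy)
  simpa using inv_mem this

theorem se_perm_sq {t : G} (ht : orderOf t = 2) :
    (MulAction.toPerm t : Equiv.Perm (G ⧸ H)) ^ 2 ^ 1 = 1 := by
  rw [pow_one, pow_two]
  refine Equiv.ext fun z => ?_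
  show t • t • z = z
  rw [smul_smul, invol_mul_self ht, one_smul]

theorem se_odd_index (hH : Cfsg.IsStronglyEmbedded H) : ¬ 2 ∣ Nat.card (G ⧸ H) := by
  classical
  haveI : Fact (Nat.Prime 2) := ⟨Nat.prime_two⟩
  haveI := Fintype.ofFinite (G ⧸ H)
  obtain ⟨t, htH, ht⟩ := exists_invol_of_even ((se_iff_invol H).1 hH).2.1
  intro h2
  rw [Nat.card_eq_fintype_card] at h2
  have hfix : (MulAction.toPerm t : Equiv.Perm (G ⧸ H)) ((1 : G) : G ⧸ H) = ((1 : G) : G ⧸ H) :=
    fixed_coset_iff.2 (by simpa using htH)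
  obtain ⟨b, hb, hne⟩ := Equiv.Perm.exists_fixed_point_of_prime' (n := 1) h2 (se_perm_sq ht) hfix
  exact hne (se_fixed_unique hH ht hb hfix)

theorem se_exists_fixed (hH : Cfsg.IsStronglyEmbedded H) {t : G} (ht : orderOf t = 2) :
    ∃ x : G ⧸ H, t • x = x := by
  classical
  haveI : Fact (Nat.Prime 2) := ⟨Nat.prime_two⟩
  haveI := Fintype.ofFinite (G ⧸ H)
  exact Equiv.Perm.exists_fixed_point_of_prime (n := 1)
    (by rw [← Nat.card_eq_fintype_card]; exact se_odd_index hH) (σ := MulAction.toPerm t) (se_perm_sq ht)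

theorem se_fix_of_commute (hH : Cfsg.IsStronglyEmbedded H) {w v : G} (hw : orderOf w = 2)
    (hc : Commute w v) {x : G ⧸ H} (hx : w • x = x) : v • x = x := by
  refine se_fixed_unique hH hw ?_ hx
  rw [smul_smul, hc.eq, ← smul_smul, hx]

/-- Involutions with different fixed points are conjugate by an element of the dihedral group they generate. -/
theorem se_conj_of_fix_ne (hH : Cfsg.IsStronglyEmbedded H) {t v : G} (ht : orderOf t = 2)
    (hv : orderOf v = 2) {x : G ⧸ H} (htx : t • x = x) (hvx : v • x ≠ x) :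
    ∃ k ∈ Subgroup.closure ({t, v} : Set G), k * t * k⁻¹ = v := by
  rcases Nat.even_or_odd (orderOf (t * v)) with he | ho
  swap
  · exact conj_of_odd ht hv ho
  · exfalso
    obtain ⟨hw, hwt, hwv⟩ := even_center ht hv he
    set w := (t * v) ^ (orderOf (t * v) / 2)
    obtain ⟨z, hz⟩ := se_exists_fixed hH hw
    have h1 : t • z = z := se_fix_of_commute hH hw hwt hz
    rw [se_fixed_unique hH ht h1 htx] at hz
    exact hvx (se_fix_of_commute hH hw hwv hz)

/-- `v` interchanging `x`, `y`: the product of two such fixes both points. -/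
theorem se_swap_prod {x y : G ⧸ H} {v : G} (hv : orderOf v = 2) (h : v • x = y) : v • y = x := by
  rw [← h, smul_smul, invol_mul_self hv, one_smul]

theorem se_swap_le (hH : Cfsg.IsStronglyEmbedded H) {x y : G ⧸ H} (hxy : x ≠ y) {u s : G}
    (hu : orderOf u = 2) (hux : u • x = y) (hs : orderOf s = 2) (hsx : s • x = x) :
    ∀ v v' : G, orderOf v = 2 → v • x = y → orderOf v' = 2 → v' • x = y →
      (u * v) * s * (u * v)⁻¹ = (u * v') * s * (u * v')⁻¹ → v = v' := by
  intro v v' hv hvx hv' hv'x he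
  have hd : (v * v') * s = s * (v * v') := by
    have h2 : (v * v') = (u * v)⁻¹ * (u * v') := by
      rw [mul_inv_rev, invol_inv hu, invol_inv hv, mul_assoc, ← mul_assoc u u v', invol_mul_self hu, one_mul]
    rw [h2]
    calc (u * v)⁻¹ * (u * v') * s
        = (u * v)⁻¹ * ((u * v') * s * (u * v')⁻¹) * (u * v') := by group
      _ = (u * v)⁻¹ * ((u * v) * s * (u * v)⁻¹) * (u * v') := by rw [he]
      _ = _ := by group
  set d := v * v' with hdd
  by_contra hne
  obtain ⟨k, hk, hks⟩ := se_conj_of_fix_ne hH hs hv hsx (by rw [hvx]; exact fun h => hxy h.symm)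
  -- every element of the dihedral group acts on `d` as a power of the inversion
  have hvd : v * d * v⁻¹ = d⁻¹ := by
    rw [hdd, mul_inv_rev, invol_inv hv', invol_inv hv, ← mul_assoc, invol_mul_self hv, one_mul]
  have hdfix : ∀ g ∈ Subgroup.closure ({s, v} : Set G), g * d * g⁻¹ = d ∨ g * d * g⁻¹ = d⁻¹ := by
    intro g hg
    induction hg using Subgroup.closure_induction with
    | mem g hg =>
      rcases hg with rfl | rfl
      · exact Or.inl (by rw [← hd, mul_inv_cancel_right])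
      · exact Or.inr hvd
    | one => simp
    | mul a b _ _ ha hb =>
      rw [show a * b * d * (a * b)⁻¹ = a * (b * d * b⁻¹) * a⁻¹ by group]
      rcases hb with hb | hb <;> rw [hb]
      · exact ha
      · rw [show a * d⁻¹ * a⁻¹ = (a * d * a⁻¹)⁻¹ by group]
        rcases ha with ha | ha <;> rw [ha] <;> simp
    | inv a _ ha =>
      rcases ha with ha | ha
      · exact Or.inl (by
          calc a⁻¹ * d * a⁻¹⁻¹ = a⁻¹ * (a * d * a⁻¹) * a := by rw [ha]; group
            _ = d := by group)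
      · exact Or.inr (by
          calc a⁻¹ * d * a⁻¹⁻¹ = (a⁻¹ * (a * d * a⁻¹) * a)⁻¹ := by rw [ha]; group
            _ = d⁻¹ := by group)
  have hkd : v * d * v⁻¹ = d := by
    rcases hdfix k⁻¹ (inv_mem hk) with h | h
    · calc v * d * v⁻¹ = k * (s * (k⁻¹ * d * k⁻¹⁻¹) * s⁻¹) * k⁻¹ := by rw [← hks]; group
        _ = k * d * k⁻¹ := by rw [h, ← hd, mul_inv_cancel_right]
        _ = k * (k⁻¹ * d * k⁻¹⁻¹) * k⁻¹ := by rw [h]
        _ = d := by group
    · have hd' : s * d⁻¹ = d⁻¹ * s := by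
        calc s * d⁻¹ = d⁻¹ * (d * s) * d⁻¹ := by group
          _ = d⁻¹ * (s * d) * d⁻¹ := by rw [hd]
          _ = d⁻¹ * s := by group
      calc v * d * v⁻¹ = k * (s * (k⁻¹ * d * k⁻¹⁻¹) * s⁻¹) * k⁻¹ := by rw [← hks]; group
        _ = k * d⁻¹ * k⁻¹ := by rw [h, hd', mul_inv_cancel_right]
        _ = k * (k⁻¹ * d * k⁻¹⁻¹) * k⁻¹ := by rw [h]
        _ = d := by group
  have hd2 : d * d = 1 := by rw [hvd] at hkd; nth_rw 1 [← hkd]; group
  have hd1 : d ≠ 1 := fun h => hne (by rw [← invol_inv hv]; exact inv_eq_of_mul_eq_one_right h)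
  have hdo : orderOf d = 2 := orderOf_eq_prime (by rw [pow_two, hd2]) hd1
  have hdx : d • x = x := by rw [hdd, ← smul_smul, hv'x, se_swap_prod hv hvx]
  have hdy : d • y = y := by rw [hdd, ← smul_smul, se_swap_prod hv' hv'x, hvx]
  exact hxy (se_fixed_unique hH hdo hdx hdy)

theorem se_card_fix (hH : Cfsg.IsStronglyEmbedded H) (x : G ⧸ H) :
    Nat.card {t : G // orderOf t = 2 ∧ t • x = x} = Nat.card {t : G // orderOf t = 2 ∧ t ∈ H} := by
  obtain ⟨g, rfl⟩ := QuotientGroup.mk_surjective x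
  refine Nat.card_congr ((MulAut.conj g⁻¹).toEquiv.subtypeEquiv fun t => ?_)
  show orderOf t = 2 ∧ t • (g : G ⧸ H) = g ↔
    orderOf (g⁻¹ * t * g⁻¹⁻¹) = 2 ∧ g⁻¹ * t * g⁻¹⁻¹ ∈ H
  rw [inv_inv, fixed_coset_iff]
  refine and_congr_left fun _ => ⟨fun h => by simpa using invol_conj h g⁻¹, fun h => ?_⟩
  simpa [mul_assoc] using invol_conj h g

theorem se_card_swap_le (hH : Cfsg.IsStronglyEmbedded H) {x y : G ⧸ H} (hxy : x ≠ y) :
    Nat.card {i : G // orderOf i = 2 ∧ i • x = y} ≤ Nat.card {t : G // orderOf t = 2 ∧ t ∈ H} := by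
  rcases isEmpty_or_nonempty {i : G // orderOf i = 2 ∧ i • x = y} with h | h
  · rw [Nat.card_of_isEmpty]; exact Nat.zero_le _
  obtain ⟨u, hu, hux⟩ := h
  obtain ⟨s, hs, hsx⟩ : ∃ s : G, orderOf s = 2 ∧ s • x = x := by
    obtain ⟨t, htH, ht⟩ := exists_invol_of_even ((se_iff_invol H).1 hH).2.1
    obtain ⟨g, rfl⟩ := QuotientGroup.mk_surjective x
    exact ⟨g * t * g⁻¹, invol_conj ht g, fixed_coset_iff.2 (by simpa [mul_assoc] using htH)⟩
  rw [← se_card_fix hH x]
  refine Nat.card_le_card_of_injective (fun i => ⟨(u * i.1) * s * (u * i.1)⁻¹, invol_conj hs _, ?_⟩)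
    fun i j hij => Subtype.ext (se_swap_le hH hxy hu hux hs hsx i j i.2.1 i.2.2 j.2.1 j.2.2 (Subtype.mk.inj hij))
  have h1 : (u * i.1) • x = x := by rw [← smul_smul, i.2.2, se_swap_prod hu hux]
  rw [← smul_smul, ← smul_smul, show (u * i.1)⁻¹ • x = x from inv_smul_eq_iff.2 h1.symm, hsx, h1]

theorem se_card_swap (hH : Cfsg.IsStronglyEmbedded H) {x y : G ⧸ H} (hxy : x ≠ y) :
    Nat.card {i : G // orderOf i = 2 ∧ i • x = y} = Nat.card {t : G // orderOf t = 2 ∧ t ∈ H} := by
  classical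
  haveI := Fintype.ofFinite G
  haveI := Fintype.ofFinite (G ⧸ H)
  set c := Nat.card {t : G // orderOf t = 2 ∧ t ∈ H}
  set T := {t : G // orderOf t = 2}
  have hz : ∀ z : G ⧸ H, Nat.card {i : G // orderOf i = 2 ∧ i • x = z} ≤ c := fun z => by
    by_cases h : z = x
    · subst h; exact (se_card_fix hH _).le
    · exact se_card_swap_le hH (fun e => h e.symm)
  have e1 : Nat.card T = ∑ z : G ⧸ H, Nat.card {i : G // orderOf i = 2 ∧ i • x = z} := by
    rw [← Nat.card_congr (Equiv.sigmaFiberEquiv fun t : T => (t : G) • x), Nat.card_sigma]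
    refine Finset.sum_congr rfl fun z _ => Nat.card_congr ?_
    exact Equiv.subtypeSubtypeEquivSubtypeInter (fun t : G => orderOf t = 2) (fun t : G => t • x = z)
  have e2 : Nat.card T = ∑ _z : G ⧸ H, c := by
    let f : T → G ⧸ H := fun t => Classical.choose (se_exists_fixed hH t.2)
    rw [← Nat.card_congr (Equiv.sigmaFiberEquiv f), Nat.card_sigma]
    refine Finset.sum_congr rfl fun z _ => (Nat.card_congr ?_).trans (se_card_fix hH z)
    refine (Equiv.subtypeEquivRight fun t => ⟨fun h => ?_, fun h => ?_⟩).trans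
      (Equiv.subtypeSubtypeEquivSubtypeInter (fun t : G => orderOf t = 2) (fun t : G => t • z = z))
    · exact h ▸ Classical.choose_spec (se_exists_fixed hH t.2)
    · exact se_fixed_unique hH t.2 (Classical.choose_spec (se_exists_fixed hH t.2)) h
  refine le_antisymm (hz y) (le_of_not_gt fun hlt => ?_)
  exact absurd (e1.symm.trans e2) (Finset.sum_lt_sum (fun z _ => hz z) ⟨y, Finset.mem_univ _, hlt⟩).ne

theorem se_transitive (hH : Cfsg.IsStronglyEmbedded H) {x y : G ⧸ H} (hxy : x ≠ y) {u : G}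
    (hu : orderOf u = 2) (hux : u • x = y) {s t : G} (hs : orderOf s = 2) (hsx : s • x = x)
    (ht : orderOf t = 2) (htx : t • x = x) :
    ∃ d : G, d • x = x ∧ d • y = y ∧ d * s * d⁻¹ = t := by
  let f : {i : G // orderOf i = 2 ∧ i • x = y} → {t : G // orderOf t = 2 ∧ t • x = x} :=
    fun i => ⟨(u * i.1) * s * (u * i.1)⁻¹, invol_conj hs _, by
      have h1 : (u * i.1) • x = x := by rw [← smul_smul, i.2.2, se_swap_prod hu hux]
      rw [← smul_smul, ← smul_smul, show (u * i.1)⁻¹ • x = x from inv_smul_eq_iff.2 h1.symm, hsx, h1]⟩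
  have hinj : Function.Injective f := fun i j hij => Subtype.ext
    (se_swap_le hH hxy hu hux hs hsx i j i.2.1 i.2.2 j.2.1 j.2.2 (Subtype.mk.inj hij))
  have hbij : Function.Bijective f := (Nat.bijective_iff_injective_and_card f).2
    ⟨hinj, (se_card_swap hH hxy).trans (se_card_fix hH x).symm⟩
  obtain ⟨i, hi⟩ := hbij.2 ⟨t, ht, htx⟩
  refine ⟨u * i.1, ?_, ?_, congrArg Subtype.val hi⟩
  · rw [← smul_smul, i.2.2, se_swap_prod hu hux]
  · rw [← smul_smul, se_swap_prod i.2.1 i.2.2, hux]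

end CfsgLib.Inv
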