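import Cfsg.Agent.Lie.DicksonCor
import Cfsg.Agent.Lie.DicksonPGL
import Cfsg.Agent.Lie.SLn
import Cfsg.Agent.Fus.DicksonBasic
import Mathlib

/-!
`SL₂(k(α))` is generated by the upper unitriangular `k`-group and the lower unitriangular `kα`-group.
-/

set_option autoImplicit false
set_option linter.style.haveILetI false
set_option linter.unusedSimpArgs false
set_option linter.unusedSectionVars false
set_option maxHeartbeats 800000

namespace CfsgLib.Inv.SL2Adjoin

open Matrix Polynomial
open scoped MatrixGroups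

/-- Pairs of polynomials with a continued fraction all of whose partial quotients are linear. -/
def Good {R : Type*} [CommRing R] : ℕ → R[X] → R[X] → Prop
  | 0, P, _ => P.coeff 0 ≠ 0
  | i + 1, P, Q =>
    let P' := C (Q.coeff i) * P - C (P.coeff (i + 1)) * (X * Q)
    Q.coeff i ≠ 0 ∧ P'.coeff i ≠ 0 ∧ Good i P' (C (P'.coeff i) * Q - C (Q.coeff i) * P')

theorem good_of_map {R S : Type*} [CommRing R] [CommRing S] (φ : R →+* S) :
    ∀ (i : ℕ) (P Q : R[X]), Good i (P.map φ) (Q.map φ) → Good i P Q := by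
  intro i
  induction i with
  | zero =>
    intro P Q h e
    simp only [Good, coeff_map] at h
    exact h (by rw [e, map_zero])
  | succ i ih =>
    intro P Q h
    obtain ⟨h1, h2, h3⟩ := h
    have e : C ((Q.map φ).coeff i) * P.map φ - C ((P.map φ).coeff (i + 1)) * (X * Q.map φ) =
        (C (Q.coeff i) * P - C (P.coeff (i + 1)) * (X * Q)).map φ := by
      simp [coeff_map]
    rw [e] at h2 h3
    rw [coeff_map] at h2 h3
    refine ⟨fun e' => h1 (by rw [coeff_map, e', map_zero]), fun e' => h2 (by rw [e', map_zero]), ih _ _ ?_⟩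
    simpa [coeff_map] using h3

theorem good_eval {k : Type*} [Field k] :
    ∀ (i : ℕ) (P Q : k[X][X]), Good i P Q →
      ∃ f : k[X], f ≠ 0 ∧ ∀ t : k, f.eval t ≠ 0 → Good i (P.map (evalRingHom t)) (Q.map (evalRingHom t)) := by
  intro i
  induction i with
  | zero =>
    intro P Q h
    exact ⟨P.coeff 0, h, fun t ht => by simpa [Good, coeff_map] using ht⟩
  | succ i ih =>
    intro P Q h
    obtain ⟨h1, h2, h3⟩ := h
    obtain ⟨f, hf, hgood⟩ := ih _ _ h3
    refine ⟨Q.coeff i * (C (Q.coeff i) * P - C (P.coeff (i + 1)) * (X * Q)).coeff i * f,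
      mul_ne_zero (mul_ne_zero h1 h2) hf, fun t ht => ?_⟩
    rw [eval_mul, eval_mul] at ht
    obtain ⟨⟨t1, t2⟩, t3⟩ : (_ ∧ _) ∧ _ := ⟨mul_ne_zero_iff.1 (mul_ne_zero_iff.1 ht).1, (mul_ne_zero_iff.1 ht).2⟩
    have e : C ((Q.map (evalRingHom t)).coeff i) * P.map (evalRingHom t) -
        C ((P.map (evalRingHom t)).coeff (i + 1)) * (X * Q.map (evalRingHom t)) =
        (C (Q.coeff i) * P - C (P.coeff (i + 1)) * (X * Q)).map (evalRingHom t) := by
      simp [coeff_map]
    refine ⟨by simpa [coeff_map] using t1, ?_, ?_⟩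
    · rw [e, coeff_map]; simpa using t2
    · rw [e]
      generalize C (Q.coeff i) * P - C (P.coeff (i + 1)) * (X * Q) = P1 at hgood ⊢
      have h4 := hgood t t3
      rw [Polynomial.map_sub, Polynomial.map_mul, Polynomial.map_mul, map_C, map_C] at h4
      rw [coeff_map, coeff_map]
      exact h4

theorem exists_good {k : Type*} [Field k] :
    ∀ i : ℕ, ∃ P Q : k[X], Good i P Q ∧ P.coeff i = 1 ∧ (∀ j, i < j → P.coeff j = 0) ∧ (∀ j, i ≤ j → Q.coeff j = 0) := by
  intro i
  induction i with
  | zero =>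
    exact ⟨1, 0, by simp [Good], by simp, fun j hj => by simp [coeff_one, hj.ne'], fun j _ => by simp⟩
  | succ i ih =>
    obtain ⟨P', Q', hg, hP1, hP, hQ⟩ := ih
    have eQ : (Q' + P').coeff i = 1 := by rw [coeff_add, hQ i le_rfl, hP1, zero_add]
    have eP : (P' + X * (Q' + P')).coeff (i + 1) = 1 := by rw [coeff_add, coeff_X_mul, eQ, hP (i + 1) (by omega), zero_add]
    refine ⟨P' + X * (Q' + P'), Q' + P', ?_, eP, fun j hj => ?_, fun j hj => ?_⟩
    · have e : C ((Q' + P').coeff i) * (P' + X * (Q' + P')) -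
          C ((P' + X * (Q' + P')).coeff (i + 1)) * (X * (Q' + P')) = P' := by
        rw [eQ, eP, map_one]; ring
      refine ⟨by rw [eQ]; exact one_ne_zero, by rw [e, hP1]; exact one_ne_zero, ?_⟩
      rw [e, hP1, eQ, map_one, one_mul, one_mul, add_sub_cancel_right]
      exact hg
    · obtain ⟨j, rfl⟩ := Nat.exists_eq_succ_of_ne_zero (show j ≠ 0 by omega)
      rw [coeff_add, coeff_X_mul, coeff_add, hP (j + 1) (by omega), hQ j (by omega), hP j (by omega)]
      simp
    · rw [coeff_add, hQ j (by omega), hP j (by omega), add_zero]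

variable {F : Type*} [Field F]

open CfsgLib.Dickson (mk ext4)

def U (x : F) : SpecialLinearGroup (Fin 2) F := mk 1 x 0 1 (by ring)

def L (x : F) : SpecialLinearGroup (Fin 2) F := mk 1 0 x 1 (by ring)

def T (p q x : F) : SpecialLinearGroup (Fin 2) F :=
  mk (1 - x * p * q) (x * p * p) (-(x * q * q)) (1 + x * p * q) (by ring)

theorem T_mul (p q x y : F) : T p q x * T p q y = T p q (x + y) := by
  apply ext4 <;> simp [T, CfsgLib.Dickson.mul00, CfsgLib.Dickson.mul01, CfsgLib.Dickson.mul10, CfsgLib.Dickson.mul11] <;> ring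

theorem conj_U (h : SpecialLinearGroup (Fin 2) F) (y : F) : h * U y * h⁻¹ = T (h.1 0 0) (h.1 1 0) y := by
  have hd := CfsgLib.Dickson.det_eq h
  apply ext4 <;> simp [T, U, CfsgLib.Dickson.mul00, CfsgLib.Dickson.mul01, CfsgLib.Dickson.mul10,
    CfsgLib.Dickson.mul11, CfsgLib.Dickson.inv00, CfsgLib.Dickson.inv01, CfsgLib.Dickson.inv10,
    CfsgLib.Dickson.inv11] <;> (try ring) <;> linear_combination hd

/-- Full upper group and one lower element give everything. -/
theorem eq_top_of_U {H : Subgroup (SpecialLinearGroup (Fin 2) F)} {α : F} (hα : α ≠ 0) (hL : L α ∈ H)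
    (hU : ∀ x, U x ∈ H) : H = ⊤ := by
  have hw : ∀ y : F, L y ∈ H := by
    intro y
    have e : (U (-α⁻¹) * L α * U (-α⁻¹)) * U (-y / (α * α)) * (U (-α⁻¹) * L α * U (-α⁻¹))⁻¹ = L y := by
      apply ext4 <;> simp [L, U, CfsgLib.Dickson.mul00, CfsgLib.Dickson.mul01, CfsgLib.Dickson.mul10,
        CfsgLib.Dickson.mul11, CfsgLib.Dickson.inv00, CfsgLib.Dickson.inv01, CfsgLib.Dickson.inv10,
        CfsgLib.Dickson.inv11] <;> field_simp <;> ring
    rw [← e]
    exact H.mul_mem (H.mul_mem (H.mul_mem (H.mul_mem (hU _) hL) (hU _)) (hU _))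
      (H.inv_mem (H.mul_mem (H.mul_mem (hU _) hL) (hU _)))
  refine CfsgLib.Lie.SLn.eq_top_of_transvection_mem H fun i j hij c => ?_
  fin_cases i <;> fin_cases j
  · exact absurd rfl hij
  · convert hU c using 1
    apply ext4 <;> simp [U, SpecialLinearGroup.transvection, Matrix.transvection]
  · convert hw c using 1
    apply ext4 <;> simp [L, SpecialLinearGroup.transvection, Matrix.transvection]
  · exact absurd rfl hij

variable {k : Type*} [Field k] [Algebra k F]

/-- The generated subgroup. -/
def gp (k : Type*) [Field k] [Algebra k F] (α : F) : Subgroup (SpecialLinearGroup (Fin 2) F) :=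
  Subgroup.closure (Set.range (fun c : k => U (algebraMap k F c)) ∪ Set.range fun c : k => L (algebraMap k F c * α))

theorem U_mem (α : F) (c : k) : U (algebraMap k F c) ∈ gp k α := Subgroup.subset_closure (Or.inl ⟨c, rfl⟩)

theorem L_mem (α : F) (c : k) : L (algebraMap k F c * α) ∈ gp k α := Subgroup.subset_closure (Or.inr ⟨c, rfl⟩)

/-- Conjugation by a diagonal matrix. -/
def twist (s : F) (hs : s ≠ 0) : SpecialLinearGroup (Fin 2) F →* SpecialLinearGroup (Fin 2) F where
  toFun M := mk (M.1 0 0) (s⁻¹ * M.1 0 1) (s * M.1 1 0) (M.1 1 1) (by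
    have hd := CfsgLib.Dickson.det_eq M
    field_simp
    linear_combination hd)
  map_one' := by apply ext4 <;> simp
  map_mul' M N := by
    apply ext4 <;> simp [CfsgLib.Dickson.mul00, CfsgLib.Dickson.mul01, CfsgLib.Dickson.mul10,
      CfsgLib.Dickson.mul11] <;> field_simp

theorem twist_mem {α : F} {s : k} (hs : s ≠ 0) {h : SpecialLinearGroup (Fin 2) F} (hh : h ∈ gp k α) :
    twist (algebraMap k F s) (by simpa using hs) h ∈ gp k α := by
  have : gp k α ≤ (gp k α).comap (twist (algebraMap k F s) (by simpa using hs)) := by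
    refine (Subgroup.closure_le _).2 ?_
    rintro _ (⟨c, rfl⟩ | ⟨c, rfl⟩)
    · have e : twist (algebraMap k F s) (by simpa using hs) (U (algebraMap k F c)) = U (algebraMap k F (s⁻¹ * c)) := by
        apply ext4 <;> simp [twist, U]
      show twist _ _ _ ∈ gp k α
      rw [e]; exact U_mem α _
    · have e : twist (algebraMap k F s) (by simpa using hs) (L (algebraMap k F c * α)) =
          L (algebraMap k F (s * c) * α) := by
        apply ext4 <;> simp [twist, L, mul_assoc]
      show twist _ _ _ ∈ gp k α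
      rw [e]; exact L_mem α _
  exact this hh

/-- Reachable vectors, up to scalars from `k`. -/
def Orb (k : Type*) [Field k] [Algebra k F] (α p q : F) : Prop :=
  ∃ l : k, l ≠ 0 ∧ ∃ h ∈ gp k α, p = algebraMap k F l * h.1 0 0 ∧ q = algebraMap k F l * h.1 1 0

variable {α p q : F}

theorem Orb.up (h : Orb k α p q) (c : k) : Orb k α (p + algebraMap k F c * q) q := by
  obtain ⟨l, hl, g, hg, hp, hq⟩ := h
  refine ⟨l, hl, U (algebraMap k F c) * g, mul_mem (U_mem α c) hg, ?_, ?_⟩
  · simp [U, CfsgLib.Dickson.mul00, hp, hq]; ring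
  · simp [U, CfsgLib.Dickson.mul10, hq]

theorem Orb.lo (h : Orb k α p q) (c : k) : Orb k α p (q + algebraMap k F c * (α * p)) := by
  obtain ⟨l, hl, g, hg, hp, hq⟩ := h
  refine ⟨l, hl, L (algebraMap k F c * α) * g, mul_mem (L_mem α c) hg, ?_, ?_⟩
  · simp [L, CfsgLib.Dickson.mul00, hp]
  · simp [L, CfsgLib.Dickson.mul10, hp, hq]; ring

theorem Orb.scale (h : Orb k α p q) {r : k} (hr : r ≠ 0) : Orb k α (algebraMap k F r * p) (algebraMap k F r * q) := by
  obtain ⟨l, hl, g, hg, hp, hq⟩ := h
  exact ⟨r * l, mul_ne_zero hr hl, g, hg, by rw [hp, map_mul, mul_assoc], by rw [hq, map_mul, mul_assoc]⟩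

theorem Orb.twist (h : Orb k α p q) {s : k} (hs : s ≠ 0) : Orb k α p (algebraMap k F s * q) := by
  obtain ⟨l, hl, g, hg, hp, hq⟩ := h
  refine ⟨l, hl, _, twist_mem hs hg, ?_, ?_⟩
  · simp [SL2Adjoin.twist, hp]
  · simp [SL2Adjoin.twist, hq]; ring

theorem orb_of_good (α : F) :
    ∀ (i : ℕ) (P Q : k[X]), Good i P Q → (∀ j, i < j → P.coeff j = 0) → (∀ j, i ≤ j → Q.coeff j = 0) →
      Orb k α (aeval α P) (α * aeval α Q) := by
  intro i
  induction i with
  | zero =>
    intro P Q hg hP hQ
    have eP : P = C (P.coeff 0) := by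
      ext (_ | j)
      · simp
      · rw [hP _ (by omega), coeff_C, if_neg (by omega)]
    have eQ : Q = 0 := by ext j; simpa using hQ j (by omega)
    refine ⟨P.coeff 0, hg, 1, one_mem _, ?_, ?_⟩
    · conv_lhs => rw [eP]
      simp
    · simp [eQ]
  | succ i ih =>
    intro P Q hg hP hQ
    obtain ⟨ha, hb, hgood⟩ := hg
    set a := Q.coeff i with hadef
    set e := P.coeff (i + 1) with hedef
    set P' := C a * P - C e * (X * Q) with hP'
    set b := P'.coeff i with hbdef
    set Q' := C b * Q - C a * P' with hQ'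
    have hP'0 : ∀ j, i < j → P'.coeff j = 0 := by
      intro j hj
      obtain ⟨j, rfl⟩ := Nat.exists_eq_succ_of_ne_zero (show j ≠ 0 by omega)
      rw [hP', coeff_sub, coeff_C_mul, coeff_C_mul, coeff_X_mul]
      rcases (Nat.lt_succ_iff.1 hj).eq_or_lt with rfl | h
      · rw [← hadef, ← hedef]; ring
      · rw [hP _ (by omega), hQ j (by omega)]; ring
    have hQ'0 : ∀ j, i ≤ j → Q'.coeff j = 0 := by
      intro j hj
      rw [hQ', coeff_sub, coeff_C_mul, coeff_C_mul]
      rcases hj.eq_or_lt with rfl | h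
      · rw [← hadef, ← hbdef]; ring
      · rw [hP'0 _ h, hQ j (by omega)]; ring
    have h0 := ih P' Q' hgood hP'0 hQ'0
    have h1 : Orb k α (aeval α P') (algebraMap k F b * (α * aeval α Q)) := by
      convert h0.lo a using 1
      rw [hQ']
      simp only [map_sub, map_mul, aeval_C]
      ring
    have h2 : Orb k α (aeval α P') (α * aeval α Q) := by
      have := h1.twist (inv_ne_zero hb)
      rwa [← mul_assoc, ← map_mul, inv_mul_cancel₀ hb, map_one, one_mul] at this
    have h3 : Orb k α (algebraMap k F a * aeval α P) (α * aeval α Q) := by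
      convert h2.up e using 1
      rw [hP']
      simp only [map_sub, map_mul, aeval_C, aeval_X]
      ring
    have h4 := (h3.twist ha).scale (inv_ne_zero ha)
    rwa [← mul_assoc, ← mul_assoc (algebraMap k F a⁻¹) (algebraMap k F a), ← map_mul, inv_mul_cancel₀ ha,
      map_one, one_mul, one_mul] at h4

/-- Every transvection along a reachable line. -/
theorem T_mem_of_orb {lam : F} (h : Orb k α (lam * p) (lam * q)) (c : k) :
    T p q (algebraMap k F c * (lam * lam)) ∈ gp k α := by
  obtain ⟨l, hl, g, hg, hp, hq⟩ := h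
  have e : T p q (algebraMap k F c * (lam * lam)) = g * U (algebraMap k F (c * l * l)) * g⁻¹ := by
    rw [conj_U]
    simp only [map_mul]
    apply ext4 <;> simp only [T, CfsgLib.Dickson.mk00, CfsgLib.Dickson.mk01, CfsgLib.Dickson.mk10, CfsgLib.Dickson.mk11]
    · linear_combination (-(algebraMap k F c) * lam * q) * hp - algebraMap k F c * algebraMap k F l * g.1 0 0 * hq
    · linear_combination (algebraMap k F c) * (lam * p + algebraMap k F l * g.1 0 0) * hp
    · linear_combination (-(algebraMap k F c)) * (lam * q + algebraMap k F l * g.1 1 0) * hq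
    · linear_combination (algebraMap k F c * lam * q) * hp + algebraMap k F c * algebraMap k F l * g.1 0 0 * hq
  rw [e]
  exact mul_mem (mul_mem hg (U_mem α _)) (inv_mem hg)

/-- The infinite case. -/
theorem U_mem_of_infinite [Infinite k] (h2 : (2 : k) ≠ 0) (hα : α ≠ 0) (d : ℕ)
    (hgen : ∀ x : F, ∃ A : k[X], (∀ j, d ≤ j → A.coeff j = 0) ∧ aeval α A = x) (y : F) :
    U y ∈ gp k α := by
  obtain ⟨P, Q, hg, -, hP, hQ⟩ := exists_good (k := k) d
  set p := aeval α P with hp
  set q := α * aeval α Q with hq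
  have h0 : Orb k α p q := orb_of_good α d P Q hg hP hQ
  have hall : ∀ μ : F, T p q μ ∈ gp k α := by
    intro μ
    obtain ⟨A, hA, hAe⟩ := hgen (μ * p)
    obtain ⟨B, hB, hBe⟩ := hgen (μ * q / α)
    let Pt : k[X][X] := P.map C + C X * A.map C
    let Qt : k[X][X] := Q.map C + C X * B.map C
    have hev : ∀ (t : k) (R S : k[X]), ((R.map C + C X * S.map C : k[X][X])).map (evalRingHom t) = R + C t * S := by
      intro t R S
      ext n
      simp [coeff_map, coeff_C_mul]
    have hgood : Good d Pt Qt := good_of_map (evalRingHom 0) d Pt Qt (by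
      rw [hev, hev]; simpa using hg)
    obtain ⟨f, hf, hfg⟩ := good_eval d Pt Qt hgood
    obtain ⟨t, ht⟩ := (X * f * f.comp (-X)).exists_eval_ne_zero_of_natDegree_lt_card
      (mul_ne_zero (mul_ne_zero X_ne_zero hf) (by
        intro e
        have := congrArg (fun r => r.comp (-X)) e
        simp [comp_assoc] at this
        exact hf this)) ((Cardinal.natCast_lt_aleph0).trans_le (Cardinal.aleph0_le_mk k))
    simp only [eval_mul, eval_X, eval_comp, eval_neg, mul_ne_zero_iff] at ht
    obtain ⟨⟨ht0, ht1⟩, ht2⟩ := ht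
    have horb : ∀ s : k, f.eval s ≠ 0 →
        Orb k α ((1 + algebraMap k F s * μ) * p) ((1 + algebraMap k F s * μ) * q) := by
      intro s hs
      have h1 := hfg s hs
      rw [hev, hev] at h1
      have h2 := orb_of_good α d _ _ h1 (fun j hj => by rw [coeff_add, coeff_C_mul, hP j hj, hA j hj.le]; ring)
        (fun j hj => by rw [coeff_add, coeff_C_mul, hQ j hj, hB j hj]; ring)
      convert h2 using 1
      · simp only [map_add, map_mul, aeval_C, hAe]; ring
      · simp only [map_add, map_mul, aeval_C, hBe]; field_simp; ring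
    have h4 : (4 * t : k) ≠ 0 := mul_ne_zero (by
      rw [show (4 : k) = 2 * 2 by norm_num]; exact mul_ne_zero h2 h2) ht0
    have hm := mul_mem (T_mem_of_orb (horb t ht1) (4 * t)⁻¹) (T_mem_of_orb (horb (-t) ht2) (-(4 * t)⁻¹))
    rw [T_mul] at hm
    convert hm using 2
    have h4' : algebraMap k F (4 * t) ≠ 0 := by simpa using h4
    simp only [map_neg, map_inv₀]
    field_simp
    simp only [map_mul, map_ofNat]
    ring
  obtain ⟨l, hl, h, hh, hlp, hlq⟩ := h0
  have e : U y = h⁻¹ * T p q (y / (algebraMap k F l * algebraMap k F l)) * h := by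
    have hl' : algebraMap k F l ≠ 0 := by simpa using hl
    rw [show T p q (y / (algebraMap k F l * algebraMap k F l)) = h * U y * h⁻¹ by
      rw [conj_U]
      apply ext4 <;> simp only [T, CfsgLib.Dickson.mk00, CfsgLib.Dickson.mk01, CfsgLib.Dickson.mk10,
        CfsgLib.Dickson.mk11, hlp, hlq] <;> field_simp]
    group
  rw [e]
  exact mul_mem (mul_mem (inv_mem hh) (hall _)) hh

section Finite

open CfsgLib.Lie

variable [Fintype F] [Fintype k]

/-- The projection to the projective group. -/
noncomputable def proj : SpecialLinearGroup (Fin 2) F →* Matrix.ProjGenLinGroup (Fin 2) F :=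
  ProjGenLinGroup.mk.comp SpecialLinearGroup.toGL

theorem proj_eq {M N : SpecialLinearGroup (Fin 2) F} (h : proj M = proj N) :
    ∃ u : F, ∀ i j, N.1 i j = u * M.1 i j := by
  have h1 : ProjGenLinGroup.mk (SpecialLinearGroup.toGL M) = ProjGenLinGroup.mk (SpecialLinearGroup.toGL N) := h
  obtain ⟨u, hu⟩ := ProjGenLinGroup.mk_eq_mk_iff.1 h1
  refine ⟨u, fun i j => ?_⟩
  have := congrArg (fun A : GL (Fin 2) F => (A : Matrix (Fin 2) (Fin 2) F) i j) hu
  fin_cases i <;> fin_cases j <;>
    simpa [Matrix.mul_apply, Fin.sum_univ_two, GeneralLinearGroup.coe_scalar, Matrix.scalar_apply, mul_comm] using this.symm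

theorem U_pow (x : F) : ∀ n : ℕ, (U x) ^ n = U ((n : F) * x)
  | 0 => by apply ext4 <;> simp [U]
  | n + 1 => by
    rw [pow_succ, U_pow x n]
    apply ext4 <;> simp [U, CfsgLib.Dickson.mul00, CfsgLib.Dickson.mul01, CfsgLib.Dickson.mul10,
      CfsgLib.Dickson.mul11] <;> ring

theorem L_pow (x : F) : ∀ n : ℕ, (L x) ^ n = L ((n : F) * x)
  | 0 => by apply ext4 <;> simp [L]
  | n + 1 => by
    rw [pow_succ, L_pow x n]
    apply ext4 <;> simp [L, CfsgLib.Dickson.mul00, CfsgLib.Dickson.mul01, CfsgLib.Dickson.mul10,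
      CfsgLib.Dickson.mul11] <;> ring

theorem U_mul (x y : F) : U x * U y = U (x + y) := by
  apply ext4 <;> simp [U, CfsgLib.Dickson.mul00, CfsgLib.Dickson.mul01, CfsgLib.Dickson.mul10,
    CfsgLib.Dickson.mul11, add_comm]

theorem alt_five_orders : ∀ g : alternatingGroup (Fin 5), g ^ 2 = 1 ∨ g ^ 3 = 1 ∨ g ^ 5 = 1 := by decide +kernel

/-- The finite case. -/
theorem eq_top_of_finite (h2 : (2 : k) ≠ 0) (h3 : Fintype.card k ≠ 3) (hα : α ≠ 0)
    (hgen : ∀ x : F, ∃ A : k[X], aeval α A = x) : gp k α = ⊤ := by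
  classical
  obtain ⟨p, hchar⟩ := CharP.exists k
  haveI := hchar
  haveI : Fact p.Prime := ⟨CharP.char_is_prime k p⟩
  haveI : CharP F p := charP_of_injective_ringHom (algebraMap k F).injective p
  have hF2 : (2 : F) ≠ 0 := by
    rw [show (2 : F) = algebraMap k F 2 by rw [map_ofNat]]; exact (_root_.map_ne_zero _).2 h2
  have hp2 : p ≠ 2 := fun h => h2 (by have := CharP.cast_eq_zero k p; rw [h] at this; exact_mod_cast this)
  have hfull : ∀ κ : Subfield F, (∀ c : k, algebraMap k F c ∈ κ) → α ∈ κ → ∀ x : F, x ∈ κ := by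
    intro κ hc ha x
    obtain ⟨A, rfl⟩ := hgen x
    rw [aeval_eq_sum_range]
    exact sum_mem fun i _ => by rw [Algebra.smul_def]; exact mul_mem (hc _) (pow_mem ha i)
  set G := (gp k α).map proj with hG
  haveI : Finite (Matrix.ProjGenLinGroup (Fin 2) F) := Finite.of_surjective _ ProjGenLinGroup.mk_surjective
  haveI : Finite G := inferInstance
  set a : k → G := fun c => ⟨proj (U (algebraMap k F c)), Subgroup.mem_map_of_mem _ (U_mem α c)⟩ with ha
  set b : G := ⟨proj (L (algebraMap k F 1 * α)), Subgroup.mem_map_of_mem _ (L_mem α 1)⟩ with hb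
  have hpU : ∀ c, a c ^ p = 1 := fun c => Subtype.ext (by
    show proj (U (algebraMap k F c)) ^ p = 1
    rw [← map_pow, U_pow, CharP.cast_eq_zero, zero_mul, show U (0 : F) = 1 by apply ext4 <;> simp [U], map_one])
  have hpL : b ^ p = 1 := Subtype.ext (by
    show proj (L (algebraMap k F 1 * α)) ^ p = 1
    rw [← map_pow, L_pow, CharP.cast_eq_zero, zero_mul, show L (0 : F) = 1 by apply ext4 <;> simp [L], map_one])
  have hnc : a 1 * b ≠ b * a 1 := by
    intro e
    have e' : proj (U (algebraMap k F 1) * L (algebraMap k F 1 * α)) =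
        proj (L (algebraMap k F 1 * α) * U (algebraMap k F 1)) := by
      rw [map_mul, map_mul]; exact congrArg Subtype.val e
    obtain ⟨u, hu⟩ := proj_eq e'
    have h01 := hu 0 1
    have h00 := hu 0 0
    simp [U, L, CfsgLib.Dickson.mul00, CfsgLib.Dickson.mul01] at h01 h00
    rw [← h01, one_mul] at h00
    exact hα (by linear_combination -h00)
  let aHom : Multiplicative k →* G := MonoidHom.mk' (fun c => a c.toAdd) fun c d => Subtype.ext (by
    show proj (U (algebraMap k F (c.toAdd + d.toAdd))) = proj (U (algebraMap k F c.toAdd)) * proj (U (algebraMap k F d.toAdd))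
    rw [← map_mul, U_mul, map_add])
  have haInj : Function.Injective aHom := by
    intro c d e
    obtain ⟨u, hu⟩ := proj_eq (congrArg Subtype.val e)
    have h00 := hu 0 0
    have h01 := hu 0 1
    simp [U] at h00 h01
    rw [← h00, one_mul] at h01
    exact ((algebraMap k F).injective h01).symm
  have hdvd : Fintype.card k ∣ Nat.card G := by
    have := Subgroup.card_dvd_of_injective aHom haInj
    rwa [Nat.card_congr Multiplicative.toAdd, Nat.card_eq_fintype_card] at this
  obtain ⟨n, -, hn⟩ := FiniteField.card k p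
  have hq5 : 5 ≤ Fintype.card k ∧ ¬ 2 ∣ Fintype.card k := by
    have hodd : ¬ 2 ∣ Fintype.card k := fun h => hp2 ((Nat.prime_dvd_prime_iff_eq Nat.prime_two Fact.out).1
      (Nat.prime_two.dvd_of_dvd_pow (hn ▸ h))).symm
    have := Fintype.one_lt_card (α := k)
    exact ⟨by omega, hodd⟩
  have htop : (∀ x : F, x ∈ Set.range (algebraMap k F)) → gp k α = ⊤ := fun h => by
    refine eq_top_of_U hα ?_ fun x => ?_
    · have := L_mem (k := k) α 1
      rwa [map_one, one_mul] at this
    · obtain ⟨c, rfl⟩ := h x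
      exact U_mem α c
  have hinj : Function.Injective G.subtype := G.subtype_injective
  rcases DicksonPGL.dickson p G.subtype hinj with
    ⟨y, hy, -, -, -⟩ | ⟨hc, -⟩ | ⟨m, -, -, ⟨t⟩⟩ | ⟨-, ⟨t⟩⟩ | ⟨-, ⟨t⟩⟩ | ⟨-, ⟨t⟩⟩ |
    ⟨K₀, i, iF, m, hm, -, κ, g0, hrange, he⟩
  · exfalso
    have hfix : ∀ M : SpecialLinearGroup (Fin 2) F, proj M • y = y →
        ∃ s : F, s • y.rep = (M : Matrix (Fin 2) (Fin 2) F) *ᵥ y.rep := by
      intro M hM
      have hne : ((SpecialLinearGroup.toGL M : GL (Fin 2) F) : Matrix (Fin 2) (Fin 2) F) *ᵥ y.rep ≠ 0 := by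
        intro e
        have e2 := congrArg (fun v => ((SpecialLinearGroup.toGL M)⁻¹ : GL (Fin 2) F).1 *ᵥ v) e
        simp only [Matrix.mulVec_mulVec, ← Units.val_mul, inv_mul_cancel, Units.val_one, Matrix.one_mulVec, Matrix.mulVec_zero] at e2
        exact y.rep_nonzero e2
      rw [proj, MonoidHom.comp_apply, ProjGenLinGroup.mk_smul, ← y.mk_rep, Projectivization.smul_mk,
        Projectivization.mk_eq_mk_iff'] at hM
      obtain ⟨s, hs⟩ := hM
      exact ⟨s, hs⟩
    obtain ⟨s, hs⟩ := hfix _ (hy (a 1))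
    obtain ⟨r, hr⟩ := hfix _ (hy b)
    have s0 := congrFun hs 0
    have s1 := congrFun hs 1
    have r0 := congrFun hr 0
    have r1 := congrFun hr 1
    simp [U, L, CfsgLib.Dickson.mk, Matrix.mulVec, dotProduct, Fin.sum_univ_two] at s0 s1 r0 r1
    have hy1 : y.rep 1 = 0 := by
      have h : (s - 1) * y.rep 1 = 0 := by
        first | linear_combination s1 | linear_combination -s1
      rcases mul_eq_zero.1 h with h | h
      · rw [sub_eq_zero.1 h] at s0
        first | linear_combination -s0 | linear_combination s0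
      · exact h
    rw [hy1, mul_zero, add_zero] at r1
    have hy0 : y.rep 0 = 0 := (mul_eq_zero.1 r1.symm).resolve_left hα
    exact y.rep_nonzero (funext fun i => by fin_cases i <;> simp [hy0, hy1])
  · exact absurd (IsCyclic.commGroup.mul_comm (a 1) b) hnc
  · exfalso
    have hrot : ∀ x : G, x ^ p = 1 → ∃ i, t x = DihedralGroup.r i := by
      intro x hx
      cases hxt : t x with
      | r i => exact ⟨i, rfl⟩
      | sr i =>
        exfalso
        have h1 : (DihedralGroup.sr i : DihedralGroup m) ^ p = 1 := by rw [← hxt, ← map_pow, hx, map_one]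
        have h2' := orderOf_dvd_of_pow_eq_one h1
        rw [DihedralGroup.orderOf_sr] at h2'
        exact hp2 ((Nat.prime_dvd_prime_iff_eq Nat.prime_two Fact.out).1 h2').symm
    obtain ⟨i, hi⟩ := hrot _ (hpU 1)
    obtain ⟨j, hj⟩ := hrot _ hpL
    refine hnc (t.injective ?_)
    rw [map_mul, map_mul, hi, hj, DihedralGroup.r_mul_r, DihedralGroup.r_mul_r, add_comm]
  · exfalso
    rw [Nat.card_congr t.toEquiv, Nat.card_eq_fintype_card, show Fintype.card (alternatingGroup (Fin 4)) = 12 by decide] at hdvd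
    have := Nat.le_of_dvd (by norm_num) hdvd
    interval_cases hk : Fintype.card k <;> omega
  · exfalso
    rw [Nat.card_congr t.toEquiv, Nat.card_eq_fintype_card, Fintype.card_perm, Fintype.card_fin,
      show Nat.factorial 4 = 24 by decide] at hdvd
    have := Nat.le_of_dvd (by norm_num) hdvd
    interval_cases hk : Fintype.card k <;> omega
  · rw [Nat.card_congr t.toEquiv, Nat.card_eq_fintype_card, show Fintype.card (alternatingGroup (Fin 5)) = 60 by decide] at hdvd
    have hk5 : p = 5 := by
      have hle := Nat.le_of_dvd (by norm_num) hdvd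
      have hpdvd : p ∣ 60 := (hn ▸ dvd_pow_self p n.ne_zero).trans hdvd
      have hple := Nat.le_of_dvd (by norm_num) hpdvd
      have hpp : p.Prime := Fact.out
      by_contra hp5
      have hp3 : p = 3 := by
        interval_cases p <;> first | omega | norm_num at hpp
      subst hp3
      have hn2 : 2 ≤ (n : ℕ) := by
        by_contra hlt
        have : (n : ℕ) = 1 := by have := n.pos; omega
        rw [this, pow_one] at hn
        exact h3 hn
      exact absurd ((pow_dvd_pow 3 hn2).trans (hn ▸ hdvd)) (by norm_num)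
    subst hk5
    haveI : ExpChar F 5 := ExpChar.prime (by norm_num)
    set M := U (algebraMap k F 1) * L (algebraMap k F 1 * α) with hM
    have hMe : M.1 0 0 = 1 + α ∧ M.1 0 1 = 1 ∧ M.1 1 0 = α ∧ M.1 1 1 = 1 := by
      simp [hM, U, L, CfsgLib.Dickson.mul00, CfsgLib.Dickson.mul01, CfsgLib.Dickson.mul10, CfsgLib.Dickson.mul11]
    obtain ⟨e00, e01, e10, e11⟩ := hMe
    have hpow : ∀ j : ℕ, (a 1 * b) ^ j = 1 → ∃ u : F, ∀ i l, (M ^ j).1 i l = u * (1 : SpecialLinearGroup (Fin 2) F).1 i l := by
      intro j hj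
      refine proj_eq ?_
      rw [map_one, map_pow, hM, map_mul]
      exact (congrArg Subtype.val hj).symm
    have hτ : ∃ z : k, 2 + α = algebraMap k F z := by
      have h5 := alt_five_orders (t (a 1 * b))
      rcases h5 with h | h | h <;> rw [← map_pow, EmbeddingLike.map_eq_one_iff] at h <;> obtain ⟨u, hu⟩ := hpow _ h
      · have := hu 0 1
        simp [pow_two, CfsgLib.Dickson.mul01, e00, e01, e11] at this
        exact ⟨0, by rw [map_zero]; linear_combination this⟩
      · have := hu 0 1
        simp [pow_succ, CfsgLib.Dickson.mul00, CfsgLib.Dickson.mul01, e00, e01, e10, e11] at this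
        have h' : (2 + α - 1) * (2 + α + 1) = 0 := by linear_combination this
        rcases mul_eq_zero.1 h' with h' | h'
        · exact ⟨1, by rw [map_one]; linear_combination h'⟩
        · exact ⟨-1, by rw [map_neg, map_one]; linear_combination h'⟩
      · have h00 := hu 0 0
        have h11 := hu 1 1
        simp at h00 h11
        have hdet := CfsgLib.Dickson.det_eq (M ^ 5)
        have h01 := hu 0 1
        have h10 := hu 1 0
        simp at h01 h10
        rw [show ((M ^ 5 : SpecialLinearGroup (Fin 2) F).1) = M.1 ^ 5 by simp] at hdet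
        rw [h00, h11, h01, h10] at hdet
        have htr : (M ^ 5).1.trace = (2 + α) ^ 5 := by
          rw [show ((M ^ 5 : SpecialLinearGroup (Fin 2) F).1) = M.1 ^ 5 by simp]
          have h5 : (5 : F) = 0 := by exact_mod_cast CharP.cast_eq_zero F 5
          simp [pow_succ, Matrix.mul_apply, Fin.sum_univ_two, Matrix.trace_fin_two, e00, e01, e10, e11]
          linear_combination ((2 + α) - (2 + α) ^ 3) * h5
        rw [show ((M ^ 5 : SpecialLinearGroup (Fin 2) F).1) = M.1 ^ 5 by simp] at htr
        rw [Matrix.trace_fin_two, h00, h11] at htr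
        have hu' : u = 1 ∨ u = -1 := by
          apply mul_self_eq_one_iff.1
          linear_combination hdet
        have h32 : (32 : F) = 2 := by
          have := CharP.cast_eq_zero F 5
          push_cast at this
          linear_combination 6 * this
        rcases hu' with rfl | rfl
        · refine ⟨2, ?_⟩
          rw [map_ofNat]
          apply frobenius_inj F 5
          simp only [frobenius_def]
          linear_combination -htr - h32
        · refine ⟨-2, ?_⟩
          rw [map_neg, map_ofNat]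
          apply frobenius_inj F 5
          simp only [frobenius_def]
          linear_combination -htr + h32
    obtain ⟨z, hz⟩ := hτ
    refine htop fun x => hfull (algebraMap k F).fieldRange (fun c => ⟨c, rfl⟩) ⟨z - 2, ?_⟩ x
    rw [map_sub, map_ofNat, ← hz]; ring
  · have hR : ∀ c : k, ∃ r, κ r = (2 + algebraMap k F c * α) ^ 2 := by
      intro c
      obtain ⟨B, hB⟩ := hrange (a c * b)
      set M := U (algebraMap k F c) * L (algebraMap k F 1 * α) with hM
      have hA : ProjGenLinGroup.mk (SpecialLinearGroup.toGL M) = g0⁻¹⁻¹ * DicksonLine.mapPGL κ B * g0⁻¹ := by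
        show proj M = _
        rw [hB, hM, map_mul, inv_inv]
        show proj _ * proj _ = g0 * (g0⁻¹ * (proj _ * proj _) * g0) * g0⁻¹
        group
      obtain ⟨r, hr⟩ := DicksonPGL.rat_of_mem F κ B g0⁻¹ _ hA
      refine ⟨r, ?_⟩
      rw [show ((SpecialLinearGroup.toGL M : GL (Fin 2) F) : Matrix (Fin 2) (Fin 2) F).det = 1 from M.2, mul_one] at hr
      rw [← hr]
      simp [hM, U, L, CfsgLib.Dickson.mul00, CfsgLib.Dickson.mul11, Matrix.mul_apply, Fin.sum_univ_two]
      ring
    have hdiff : ∀ c : k, algebraMap k F c * α ∈ κ.fieldRange := by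
      intro c
      obtain ⟨r, hr⟩ := hR c
      obtain ⟨s, hs⟩ := hR (-c)
      have h8 : (8 : F) ≠ 0 := by rw [show (8 : F) = 2 * 2 * 2 by norm_num]; exact mul_ne_zero (mul_ne_zero hF2 hF2) hF2
      refine ⟨(r - s) / 8, ?_⟩
      rw [map_div₀, map_sub, map_ofNat, hr, hs, map_neg, div_eq_iff h8]
      ring
    have hαR : α ∈ κ.fieldRange := by simpa using hdiff 1
    have hcR : ∀ c : k, algebraMap k F c ∈ κ.fieldRange := fun c => by
      have := mul_mem (hdiff c) (inv_mem hαR)
      rwa [mul_inv_cancel_right₀ hα] at this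
    have hsurj : Function.Surjective κ := fun x => hfull _ hcR hαR x
    have hcard : Fintype.card K₀ = Fintype.card F :=
      Fintype.card_of_bijective ⟨κ.injective, hsurj⟩
    have hodd : ¬ 2 ∣ Fintype.card F := fun h => by
      obtain ⟨n', -, hn'⟩ := FiniteField.card F p
      exact hp2 ((Nat.prime_dvd_prime_iff_eq Nat.prime_two Fact.out).1 (Nat.prime_two.dvd_of_dvd_pow (hn' ▸ h))).symm
    have hgcd : Nat.gcd 2 (Fintype.card F - 1) = 2 := Nat.gcd_eq_left (by
      have := Fintype.card_pos (α := F); omega)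
    have hSL : Nat.card (SpecialLinearGroup (Fin 2) F) = Fintype.card F * (Fintype.card F ^ 2 - 1) := Orders.card_SL_two rfl
    have hGge : Nat.card (SpecialLinearGroup (Fin 2) F) ≤ 2 * Nat.card G := by
      rcases he with ⟨⟨t⟩⟩ | ⟨⟨t⟩⟩
      · have h := ProjLine.card_PSL_two (F := K₀) hcard
        rw [hgcd] at h
        rw [Nat.card_congr t.toEquiv, hSL, h]
      · rw [Nat.card_congr t.toEquiv, Orders.card_PGL, Orders.card_SL_two hcard, hSL]
        omega
    by_contra hne
    have hGle : Nat.card G ≤ Nat.card (gp k α) := Nat.card_le_card_of_surjective _ (proj.subgroupMap_surjective (gp k α))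
    have hidx := Subgroup.card_mul_index (gp k α)
    have hpos : 0 < Nat.card (gp k α) := Nat.card_pos
    have h1 : (gp k α).index ≠ 1 := fun e => hne (Subgroup.index_eq_one.1 e)
    have h2i : (gp k α).index = 2 := by
      have h0 : (gp k α).index ≠ 0 := Subgroup.index_ne_zero_of_finite
      by_contra h
      have : 3 ≤ (gp k α).index := by omega
      have := Nat.mul_le_mul_left (Nat.card (gp k α)) this
      omega
    refine hne (eq_top_of_U hα ?_ fun x => ?_)
    · have := L_mem (k := k) α 1
      rwa [map_one, one_mul] at this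
    · haveI : NeZero (2 : F) := ⟨hF2⟩
      have e : U x = U (x / 2) * U (x / 2) := by rw [U_mul, add_halves]
      rw [e]
      exact Subgroup.mul_self_mem_of_index_two h2i _

end Finite

end CfsgLib.Inv.SL2Adjoin
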