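import Mathlib

/-!
Representations of `SL₂` over a field of characteristic two in which an element of order three
acts without fixed points (Higman).
-/

set_option autoImplicit false
set_option linter.unusedSectionVars false

namespace CfsgLib.Inv.SL2Fpf

open Matrix

variable {K : Type*} [Field K]

local notation "SL" => Matrix.SpecialLinearGroup (Fin 2) K

/-- Upper unitriangular element. -/
def u (a : K) : SL := ⟨!![1, a; 0, 1], by simp [det_fin_two_of]⟩

/-- Lower unitriangular element. -/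
def v (a : K) : SL := ⟨!![1, 0; a, 1], by simp [det_fin_two_of]⟩

theorem ext2 {g h : SL} (h00 : g 0 0 = h 0 0) (h01 : g 0 1 = h 0 1) (h10 : g 1 0 = h 1 0)
    (h11 : g 1 1 = h 1 1) : g = h := by
  ext i j; fin_cases i <;> fin_cases j <;> assumption

theorem val_u (a : K) : ((u a : SL) : Matrix (Fin 2) (Fin 2) K) = !![1, a; 0, 1] := rfl

theorem val_v (a : K) : ((v a : SL) : Matrix (Fin 2) (Fin 2) K) = !![1, 0; a, 1] := rfl

theorem u_zero : (u 0 : SL) = 1 := by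
  apply ext2 <;> simp [val_u]

theorem u_add (a b : K) : (u (a + b) : SL) = u a * u b := by
  apply ext2 <;> simp [val_u, add_comm]

theorem two [CharP K 2] : (2 : K) = 0 := CharP.cast_eq_zero K 2

theorem neg_eq [CharP K 2] (x : K) : -x = x := CharTwo.neg_eq x

theorem u_sq [CharP K 2] (a : K) : (u a : SL) * u a = 1 := by
  rw [← u_add, CharTwo.add_self_eq_zero, u_zero]

theorem v_sq [CharP K 2] (a : K) : (v a : SL) * v a = 1 := by
  apply ext2 <;> simp [val_v, CharTwo.add_self_eq_zero]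

theorem uv_cube [CharP K 2] {a : K} (ha : a ≠ 0) :
    ((u a : SL) * v a⁻¹) ^ 3 = 1 ∧ (u a : SL) * v a⁻¹ ≠ 1 := by
  constructor
  · rw [pow_succ, pow_two]
    apply ext2 <;> simp [val_u, val_v, ha, CharTwo.add_self_eq_zero]
  · intro h
    have := congrArg (fun g : SL => g 0 1) h
    simp [val_u, val_v] at this
    exact ha this

/-- Conjugating a lower element into an upper one. -/
theorem w_conj [CharP K 2] {a : K} (ha : a ≠ 0) (c : K) :
    (u a * v a⁻¹ * u a : SL) * v c * (u a * v a⁻¹ * u a) = u (c * (a * a)) := by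
  have := two (K := K)
  apply ext2 <;> simp [val_u, val_v, ha, CharTwo.add_self_eq_zero] <;> field_simp <;> ring_nf <;>
    simp [this]

theorem generation {P : SL → Prop} (h1 : P 1) (hu : ∀ a g, P g → P (u a * g))
    (hv : ∀ a g, P g → P (v a * g)) (g : SL) : P g := by
  have key : ∀ g : SL, g 1 0 ≠ 0 → P g := by
    intro g hc
    have hdet : g 0 0 * g 1 1 - g 0 1 * g 1 0 = 1 := by rw [← det_fin_two]; exact g.2
    have hg : g = u ((g 0 0 - 1) / g 1 0) * (v (g 1 0) * (u ((g 1 1 - 1) / g 1 0) * 1)) := by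
      apply ext2 <;> simp [val_u, val_v, Matrix.mul_apply, Fin.sum_univ_two] <;> field_simp <;>
        first | linear_combination hdet | linear_combination -hdet | ring
    rw [hg]
    exact hu _ _ (hv _ _ (hu _ _ h1))
  by_cases hc : g 1 0 = 0
  · have hdet : g 0 0 * g 1 1 - g 0 1 * g 1 0 = 1 := by rw [← det_fin_two]; exact g.2
    have ha : g 0 0 ≠ 0 := by intro h; rw [h, hc] at hdet; simp at hdet
    have h : P (v 1 * g) := key _ (by simp [val_v, hc, ha, Matrix.mul_apply, Fin.sum_univ_two])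
    have hinv : (v (-1) : SL) * v 1 = 1 := by apply ext2 <;> simp [val_v]
    have := hv (-1) _ h
    rwa [← mul_assoc, hinv, one_mul] at this
  · exact key g hc

/-- All elements of order three of `SL₂` in characteristic two are conjugate. -/
theorem conj_of_cube [CharP K 2] [Finite K] {g : SL} (hg : g ^ 3 = 1) (hg1 : g ≠ 1) :
    ∃ h : SL, g = h * (u 1 * v 1) * h⁻¹ := by
  have hsq : ∀ k : K, ∃ m : K, m * m = k := fun k => by
    obtain ⟨m, hm⟩ := ((Finite.injective_iff_surjective).1 (frobenius_inj K 2)) k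
    exact ⟨m, by rw [← hm, frobenius_def, pow_two]⟩
  set a := g 0 0 with ha
  set b := g 0 1 with hb
  set c := g 1 0 with hc
  set d := g 1 1 with hd
  have hdet : a * d - b * c = 1 := by rw [ha, hb, hc, hd, ← det_fin_two]; exact g.2
  have h2 := two (K := K)
  -- the trace is one
  have hg2 : (g : SL) * g = g⁻¹ := by
    rw [eq_inv_iff_mul_eq_one, ← pow_two, ← pow_succ, hg]
  have e00 := congrArg (fun z : SL => z 0 0) hg2
  have e01 := congrArg (fun z : SL => z 0 1) hg2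
  have e10 := congrArg (fun z : SL => z 1 0) hg2
  have e11 := congrArg (fun z : SL => z 1 1) hg2
  simp [Matrix.adjugate_fin_two, Matrix.mul_apply, Fin.sum_univ_two, ← ha, ← hb, ← hc, ← hd,
    neg_eq] at e00 e01 e10 e11
  have htr : a + d = 1 := by
    by_contra hne
    have hb0 : b = 0 := by
      have : b * (a + d - 1) = 0 := by linear_combination e01
      rcases mul_eq_zero.1 this with h | h
      · exact h
      · exact absurd (sub_eq_zero.1 h) hne
    have hc0 : c = 0 := by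
      have : c * (a + d - 1) = 0 := by linear_combination e10
      rcases mul_eq_zero.1 this with h | h
      · exact h
      · exact absurd (sub_eq_zero.1 h) hne
    rw [hb0, hc0] at e00 e11
    have hadsum : (a + d) * (a + d) = a + d := by linear_combination e00 + e11 + (a * d) * h2
    rcases eq_or_ne (a + d) 0 with h0 | h0
    · have had : a = d := by linear_combination h0 - d * h2
      rw [hb0, had] at hdet
      have hd1 : (d - 1) * (d - 1) = 0 := by linear_combination hdet + (1 - d) * h2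
      have hd1' : d = 1 := sub_eq_zero.1 (mul_self_eq_zero.1 hd1)
      refine hg1 (ext2 ?_ ?_ ?_ ?_) <;> simp [← ha, ← hb, ← hc, ← hd, hb0, hc0, had, hd1']
    · exact hne (mul_left_cancel₀ h0 (by rw [mul_one]; exact hadsum))
  -- a vector which is not an eigenvector
  obtain ⟨e0, e1, hD⟩ : ∃ e0 e1 : K, e0 * (c * e0 + d * e1) - e1 * (a * e0 + b * e1) ≠ 0 := by
    by_cases hc0 : c = 0
    · by_cases hb0 : b = 0
      · refine ⟨1, 1, fun h => ?_⟩
        rw [hc0, hb0] at h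
        have : (0 : K) = 1 := by linear_combination htr - h - a * h2
        exact zero_ne_one this
      · exact ⟨0, 1, by simpa using hb0⟩
    · exact ⟨1, 0, by simpa using hc0⟩
  set D := e0 * (c * e0 + d * e1) - e1 * (a * e0 + b * e1) with hDdef
  obtain ⟨m, hm⟩ := hsq D⁻¹
  let P : SL := ⟨!![m * e0, m * (a * e0 + b * e1); m * e1, m * (c * e0 + d * e1)], by
    rw [det_fin_two_of]
    have : m * m * D = 1 := by rw [hm, inv_mul_cancel₀ hD]
    linear_combination this⟩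
  refine ⟨P, ?_⟩
  rw [eq_mul_inv_iff_mul_eq]
  apply ext2 <;> simp only [Matrix.SpecialLinearGroup.coe_mul] <;> simp [P, val_u, val_v, CharTwo.add_self_eq_zero, Matrix.mul_apply, Fin.sum_univ_two, ← ha, ← hb, ← hc, ← hd]
  · ring
  · linear_combination (m * (a * e0 + b * e1)) * htr - (m * e0) * hdet + (m * e0) * (-1 : K) * 0 +
      (-(m * e0)) * h2
  · ring
  · linear_combination (m * (c * e0 + d * e1)) * htr - (m * e1) * hdet + (-(m * e1)) * h2

/-! ### The ring theoretic core -/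

section Core

variable [CharP K 2] {R : Type*} [Ring R]

/-- Fixed-point-freeness of the elements of order three. -/
def H3 (ρ : SL →* R) : Prop := ∀ g : SL, g ^ 3 = 1 → g ≠ 1 → ρ g * ρ g + ρ g + 1 = 0

/-- The nilpotent part of an upper element. -/
def T (ρ : SL →* R) (a : K) : R := ρ (u a) + 1

/-- The nilpotent part of a lower element. -/
def S (ρ : SL →* R) (a : K) : R := ρ (v a) + 1

/-- The scalar operators. -/
def β (ρ : SL →* R) (a : K) : R := T ρ a * S ρ 1 + S ρ 1 * T ρ a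

variable {ρ : Matrix.SpecialLinearGroup (Fin 2) K →* R}

theorem xx (h2 : (1 : R) + 1 = 0) (x : R) : x + x = 0 := by
  calc x + x = x * (1 + 1) := by noncomm_ring
    _ = 0 := by rw [h2, mul_zero]

theorem eq_of_add (h2 : (1 : R) + 1 = 0) {x y : R} (h : x + y = 0) : x = y := by
  calc x = x + (y + y) := by rw [xx h2, add_zero]
    _ = (x + y) + y := by abel
    _ = y := by rw [h, zero_add]

theorem rho_u (h2 : (1 : R) + 1 = 0) (a : K) : ρ (u a) = 1 + T ρ a := by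
  rw [T, ← add_assoc, add_comm (1 : R), add_assoc, h2, add_zero]

theorem rho_v (h2 : (1 : R) + 1 = 0) (a : K) : ρ (v a) = 1 + S ρ a := by
  rw [S, ← add_assoc, add_comm (1 : R), add_assoc, h2, add_zero]

theorem T_sq (h2 : (1 : R) + 1 = 0) (a : K) : T ρ a * T ρ a = 0 := by
  have h : ρ (u a) * ρ (u a) = 1 := by rw [← map_mul, u_sq, map_one]
  calc T ρ a * T ρ a = ρ (u a) * ρ (u a) + (ρ (u a) + ρ (u a)) + 1 := by rw [T]; noncomm_ring
    _ = 0 := by rw [h, xx h2, add_zero, h2]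

theorem S_sq (h2 : (1 : R) + 1 = 0) (a : K) : S ρ a * S ρ a = 0 := by
  have h : ρ (v a) * ρ (v a) = 1 := by rw [← map_mul, v_sq, map_one]
  calc S ρ a * S ρ a = ρ (v a) * ρ (v a) + (ρ (v a) + ρ (v a)) + 1 := by rw [S]; noncomm_ring
    _ = 0 := by rw [h, xx h2, add_zero, h2]

theorem T_comm (a b : K) : T ρ a * T ρ b = T ρ b * T ρ a := by
  have h : ρ (u a) * ρ (u b) = ρ (u b) * ρ (u a) := by
    rw [← map_mul, ← map_mul, ← u_add, ← u_add, add_comm]
  calc T ρ a * T ρ b = ρ (u a) * ρ (u b) + ρ (u a) + ρ (u b) + 1 := by rw [T, T]; noncomm_ring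
    _ = ρ (u b) * ρ (u a) + ρ (u b) + ρ (u a) + 1 := by rw [h]; abel
    _ = _ := by rw [T, T]; noncomm_ring

theorem T_add (h2 : (1 : R) + 1 = 0) (a b : K) :
    T ρ (a + b) = T ρ a + T ρ b + T ρ a * T ρ b := by
  have h : ρ (u (a + b)) = (1 + T ρ a) * (1 + T ρ b) := by
    rw [← rho_u h2, ← rho_u h2, ← map_mul, ← u_add]
  rw [T, h]
  calc (1 + T ρ a) * (1 + T ρ b) + 1 = T ρ a + T ρ b + T ρ a * T ρ b + (1 + 1) := by noncomm_ring
    _ = _ := by rw [h2, add_zero]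

theorem TS_add_ST (h2 : (1 : R) + 1 = 0) (h3 : H3 ρ) {a : K} (ha : a ≠ 0) :
    T ρ a * S ρ a⁻¹ + S ρ a⁻¹ * T ρ a = 1 := by
  obtain ⟨hc, hne⟩ := uv_cube ha
  have h := h3 _ hc hne
  have hinv : (u a * v a⁻¹ : SL) * (u a * v a⁻¹) = v a⁻¹ * u a := by
    have h1 : (u a * v a⁻¹ : SL) * (u a * v a⁻¹) * (u a * v a⁻¹) = 1 := by
      rw [← hc, pow_succ, pow_two]
    rw [mul_eq_one_iff_eq_inv, _root_.mul_inv_rev] at h1
    rw [h1]
    congr 1
    · exact inv_eq_of_mul_eq_one_right (v_sq _)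
    · exact inv_eq_of_mul_eq_one_right (u_sq _)
  rw [← map_mul, hinv, map_mul, map_mul, rho_u h2, rho_v h2] at h
  refine eq_of_add h2 ?_
  calc T ρ a * S ρ a⁻¹ + S ρ a⁻¹ * T ρ a + 1
      = ((1 + S ρ a⁻¹) * (1 + T ρ a) + (1 + T ρ a) * (1 + S ρ a⁻¹) + 1) +
          ((1 + 1) * (T ρ a + S ρ a⁻¹ + 1) + 0) + (1 + 1) * 0 := by
        rw [show ((1 : R) + 1) * (T ρ a + S ρ a⁻¹ + 1) = 0 by rw [h2, zero_mul]]
        have e1 : (1 + S ρ a⁻¹) * (1 + T ρ a) + (1 + T ρ a) * (1 + S ρ a⁻¹) + 1 =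
            T ρ a * S ρ a⁻¹ + S ρ a⁻¹ * T ρ a + 1 +
              ((T ρ a + T ρ a) + (S ρ a⁻¹ + S ρ a⁻¹) + (1 + 1)) := by noncomm_ring
        rw [e1, xx h2, xx h2, h2]
        simp
    _ = 0 := by rw [h, h2, zero_mul, zero_mul]; simp

variable (h2 : (1 : R) + 1 = 0) (h3 : H3 ρ)
include h2 h3

theorem TST {a : K} (ha : a ≠ 0) : T ρ a * S ρ a⁻¹ * T ρ a = T ρ a := by
  calc T ρ a * S ρ a⁻¹ * T ρ a = (T ρ a * S ρ a⁻¹ + S ρ a⁻¹ * T ρ a) * T ρ a
        - S ρ a⁻¹ * (T ρ a * T ρ a) := by noncomm_ring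
    _ = T ρ a := by rw [TS_add_ST h2 h3 ha, one_mul, T_sq h2]; simp

theorem one_rel : T ρ 1 * S ρ 1 + S ρ 1 * T ρ 1 = 1 := by
  have := TS_add_ST h2 h3 (one_ne_zero (α := K))
  rwa [inv_one] at this

theorem tst : T ρ 1 * (S ρ 1 * T ρ 1) = T ρ 1 := by
  have := TST h2 h3 (one_ne_zero (α := K))
  rw [inv_one, mul_assoc] at this
  exact this

theorem sts : S ρ 1 * (T ρ 1 * S ρ 1) = S ρ 1 := by
  calc S ρ 1 * (T ρ 1 * S ρ 1) = S ρ 1 * (T ρ 1 * S ρ 1 + S ρ 1 * T ρ 1) -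
        (S ρ 1 * S ρ 1) * T ρ 1 := by noncomm_ring
    _ = S ρ 1 := by rw [one_rel h2 h3, mul_one, S_sq h2, zero_mul, sub_zero]

theorem w_eq {a : K} (ha : a ≠ 0) : ρ (u a * v a⁻¹ * u a) = T ρ a + S ρ a⁻¹ := by
  rw [map_mul, map_mul, rho_u h2, rho_v h2]
  calc (1 + T ρ a) * (1 + S ρ a⁻¹) * (1 + T ρ a)
      = 1 + S ρ a⁻¹ + (T ρ a + T ρ a) + (T ρ a * S ρ a⁻¹ + S ρ a⁻¹ * T ρ a) + T ρ a * T ρ a +
          T ρ a * S ρ a⁻¹ * T ρ a := by noncomm_ring
    _ = T ρ a + S ρ a⁻¹ + (1 + 1) := by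
        rw [xx h2, TS_add_ST h2 h3 ha, T_sq h2, TST h2 h3 ha]; abel
    _ = _ := by rw [h2, add_zero]

theorem T_twist {a : K} (ha : a ≠ 0) (c : K) :
    T ρ (c * (a * a)) = (T ρ a + S ρ a⁻¹) * S ρ c * (T ρ a + S ρ a⁻¹) := by
  have hw := w_eq h2 h3 ha
  have hsq : (T ρ a + S ρ a⁻¹) * (T ρ a + S ρ a⁻¹) = 1 := by
    calc (T ρ a + S ρ a⁻¹) * (T ρ a + S ρ a⁻¹) = T ρ a * T ρ a + S ρ a⁻¹ * S ρ a⁻¹ +
          (T ρ a * S ρ a⁻¹ + S ρ a⁻¹ * T ρ a) := by noncomm_ring
      _ = 1 := by rw [T_sq h2, S_sq h2, TS_add_ST h2 h3 ha]; simp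
  rw [T, ← w_conj ha c, map_mul, map_mul, hw, rho_v h2]
  calc (T ρ a + S ρ a⁻¹) * (1 + S ρ c) * (T ρ a + S ρ a⁻¹) + 1
      = (T ρ a + S ρ a⁻¹) * (T ρ a + S ρ a⁻¹) + 1 +
          (T ρ a + S ρ a⁻¹) * S ρ c * (T ρ a + S ρ a⁻¹) := by noncomm_ring
    _ = _ := by rw [hsq, h2, zero_add]

theorem T_sq_key (a : K) : S ρ 1 * T ρ (a * a) * S ρ 1 = S ρ 1 * T ρ a * S ρ 1 * T ρ a * S ρ 1 := by
  by_cases ha : a = 0
  · subst ha
    rw [mul_zero, show T ρ (0 : K) = 0 by rw [T, u_zero, map_one, h2]]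
    simp
  have hS : S ρ a⁻¹ * S ρ 1 = S ρ 1 * S ρ a⁻¹ := by
    have h : (v a⁻¹ : SL) * v 1 = v 1 * v a⁻¹ := by apply ext2 <;> simp [val_v, add_comm]
    have h' := congrArg ρ h
    rw [map_mul, map_mul, rho_v h2, rho_v h2] at h'
    calc S ρ a⁻¹ * S ρ 1 = (1 + S ρ a⁻¹) * (1 + S ρ 1) - 1 - S ρ a⁻¹ - S ρ 1 := by noncomm_ring
      _ = (1 + S ρ 1) * (1 + S ρ a⁻¹) - 1 - S ρ a⁻¹ - S ρ 1 := by rw [h']
      _ = _ := by noncomm_ring
  have h0 : S ρ 1 * S ρ a⁻¹ * S ρ 1 = 0 := by rw [mul_assoc, hS, ← mul_assoc, S_sq h2, zero_mul]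
  have := T_twist h2 h3 ha 1
  rw [one_mul] at this
  rw [this]
  calc S ρ 1 * ((T ρ a + S ρ a⁻¹) * S ρ 1 * (T ρ a + S ρ a⁻¹)) * S ρ 1
      = S ρ 1 * T ρ a * S ρ 1 * T ρ a * S ρ 1 + S ρ 1 * T ρ a * (S ρ 1 * S ρ a⁻¹ * S ρ 1) +
          (S ρ 1 * S ρ a⁻¹ * S ρ 1) * (T ρ a + S ρ a⁻¹) * S ρ 1 := by noncomm_ring
    _ = _ := by rw [h0]; simp

theorem T1_mul_T_sq (a : K) : T ρ 1 * T ρ (a * a) = 0 := by
  set X := T ρ a with hX
  set t := T ρ 1 with ht
  set s := S ρ 1 with hs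
  have hXX : X * X = 0 := T_sq h2 a
  have hXt : X * t = t * X := T_comm a 1
  have hts : t * s = 1 + s * t := by
    calc t * s = t * s + s * t + s * t := by rw [add_assoc, xx h2, add_zero]
      _ = _ := by rw [one_rel h2 h3]
  have hst : ∀ z : R, s * (t * (s * z)) = s * z := fun z => by
    rw [← mul_assoc t, ← mul_assoc, sts h2 h3]
  have hkey := T_sq_key h2 h3 (a + 1)
  have he : (a + 1) * (a + 1) = a * a + 1 := by
    linear_combination a * two (K := K)
  rw [he, T_add h2, T_add h2 a 1, ← hX, ← ht, ← hs] at hkey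
  have hsts : s * t * s = s := by rw [mul_assoc]; exact sts h2 h3
  have hQQ : s * (X * t) * s * (X * t) * s = 0 := by
    calc s * (X * t) * s * (X * t) * s = s * X * (t * (s * t)) * X * s := by
          rw [show X * t = t * X from hXt]
          simp only [mul_assoc]
          rw [← mul_assoc X t, hXt, mul_assoc]
      _ = s * (X * X) * t * s := by
          rw [tst h2 h3]; simp only [mul_assoc]; rw [← mul_assoc t X, ← hXt, mul_assoc]
      _ = 0 := by rw [hXX]; simp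
  have hPQ : s * X * s * (X * t) * s = s * (X * t) * s * X * s := by
    calc s * X * s * (X * t) * s = s * X * (s * t) * X * s := by
          rw [hXt]; simp only [mul_assoc]
      _ = s * X * (1 + s * t) * X * s - s * (X * X) * s := by noncomm_ring
      _ = s * X * (t * s) * X * s := by rw [← hts, hXX]; simp
      _ = _ := by simp only [mul_assoc]
  have hexp : s * (X + t + X * t) * s * (X + t + X * t) * s =
      s * X * s * X * s + s + 0 := by
    calc s * (X + t + X * t) * s * (X + t + X * t) * s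
        = s * X * s * X * s + (s * X * (s * t * s) + (s * t * s) * X * s) +
            (s * X * s * (X * t) * s + s * (X * t) * s * X * s) + (s * t * s) * t * s +
            ((s * t * s) * (X * t) * s + s * (X * t) * (s * t * s)) +
            s * (X * t) * s * (X * t) * s := by noncomm_ring
      _ = _ := by
        rw [hsts, xx h2, hPQ, xx h2, hsts, xx h2, hQQ]
        simp
  rw [hexp, add_zero] at hkey
  have h1 : s * (T ρ (a * a) + t + T ρ (a * a) * t) * s =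
      s * T ρ (a * a) * s + s * t * s + s * (T ρ (a * a) * t) * s := by noncomm_ring
  rw [h1, T_sq_key h2 h3 a, ← hX, ← hs, hsts] at hkey
  have h0 : s * (T ρ (a * a) * t) * s = 0 := add_eq_left.1 hkey
  have hY : T ρ (a * a) * t = t * T ρ (a * a) := T_comm _ _
  calc t * T ρ (a * a) = (t * (s * t)) * T ρ (a * a) := by rw [tst h2 h3]
    _ = t * (s * (T ρ (a * a) * t)) := by rw [hY]; simp only [mul_assoc]
    _ = t * (s * (T ρ (a * a) * (t * (s * t)))) := by rw [tst h2 h3]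
    _ = t * (s * (T ρ (a * a) * t) * s) * t := by simp only [mul_assoc]
    _ = 0 := by rw [h0]; simp

variable [Finite K]

theorem T1_mul_T (c : K) : T ρ 1 * T ρ c = 0 := by
  obtain ⟨a, rfl⟩ := ((Finite.injective_iff_surjective).1 (frobenius_inj K 2)) c
  rw [frobenius_def, pow_two]
  exact T1_mul_T_sq h2 h3 a

theorem T_fac (a : K) : T ρ 1 * (S ρ 1 * T ρ a) = T ρ a ∧ T ρ a * (S ρ 1 * T ρ 1) = T ρ a := by
  constructor
  · calc T ρ 1 * (S ρ 1 * T ρ a) = (T ρ 1 * S ρ 1 + S ρ 1 * T ρ 1) * T ρ a -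
          S ρ 1 * (T ρ 1 * T ρ a) := by noncomm_ring
      _ = T ρ a := by rw [one_rel h2 h3, one_mul, T1_mul_T h2 h3]; simp
  · calc T ρ a * (S ρ 1 * T ρ 1) = T ρ a * (T ρ 1 * S ρ 1 + S ρ 1 * T ρ 1) -
          (T ρ a * T ρ 1) * S ρ 1 := by noncomm_ring
      _ = T ρ a := by rw [one_rel h2 h3, mul_one, T_comm, T1_mul_T h2 h3]; simp

theorem T_mul_T (a b : K) : T ρ a * T ρ b = 0 := by
  rw [← (T_fac h2 h3 a).2, mul_assoc, mul_assoc, T1_mul_T h2 h3, mul_zero, mul_zero]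

theorem T_eq (a : K) : T ρ a = β ρ a * T ρ 1 ∧ T ρ a = T ρ 1 * β ρ a := by
  constructor
  · rw [β, add_mul, mul_assoc, mul_assoc, T_mul_T h2 h3, mul_zero, add_zero, (T_fac h2 h3 a).2]
  · rw [β, mul_add, ← mul_assoc, T1_mul_T h2 h3, zero_mul, zero_add, (T_fac h2 h3 a).1]

theorem beta_S (a : K) : β ρ a * S ρ 1 = S ρ 1 * β ρ a := by
  rw [β, add_mul, mul_add, mul_assoc, S_sq h2, mul_zero, zero_add, ← mul_assoc (S ρ 1) (S ρ 1),
    S_sq h2, zero_mul, add_zero, mul_assoc]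

theorem cancel {z : R} (hz : z * S ρ 1 = S ρ 1 * z) (h : z * T ρ 1 = 0) : z = 0 := by
  calc z = z * (T ρ 1 * S ρ 1 + S ρ 1 * T ρ 1) := by rw [one_rel h2 h3, mul_one]
    _ = z * T ρ 1 * S ρ 1 + z * S ρ 1 * T ρ 1 := by noncomm_ring
    _ = 0 := by rw [hz, mul_assoc (S ρ 1), h]; simp

theorem S_eq (c : K) : S ρ c = β ρ c * S ρ 1 := by
  have h := T_twist h2 h3 (one_ne_zero (α := K)) c
  rw [inv_one, mul_one, mul_one] at h
  have hsq : (T ρ 1 + S ρ 1) * (T ρ 1 + S ρ 1) = 1 := by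
    calc (T ρ 1 + S ρ 1) * (T ρ 1 + S ρ 1) = T ρ 1 * T ρ 1 + S ρ 1 * S ρ 1 +
          (T ρ 1 * S ρ 1 + S ρ 1 * T ρ 1) := by noncomm_ring
      _ = 1 := by rw [T_sq h2, S_sq h2, one_rel h2 h3]; simp
  have h' : S ρ c = (T ρ 1 + S ρ 1) * T ρ c * (T ρ 1 + S ρ 1) := by
    rw [h]
    calc S ρ c = 1 * S ρ c * 1 := by simp
      _ = _ := by rw [← hsq]; simp only [mul_assoc]
  rw [h']
  calc (T ρ 1 + S ρ 1) * T ρ c * (T ρ 1 + S ρ 1)
      = T ρ 1 * T ρ c * (T ρ 1 + S ρ 1) + S ρ 1 * (T ρ c * T ρ 1) + S ρ 1 * T ρ c * S ρ 1 := by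
        noncomm_ring
    _ = S ρ 1 * T ρ c * S ρ 1 := by rw [T_mul_T h2 h3, T_mul_T h2 h3]; simp
    _ = _ := by
      rw [β, add_mul, mul_assoc (T ρ c) (S ρ 1), S_sq h2, mul_zero, zero_add]

theorem beta_add (a b : K) : β ρ (a + b) = β ρ a + β ρ b := by
  rw [β, T_add h2, T_mul_T h2 h3, add_zero, β, β]; noncomm_ring

theorem beta_one : β ρ 1 = 1 := one_rel h2 h3

theorem beta_zero : β ρ 0 = 0 := by
  rw [β, show T ρ (0 : K) = 0 by rw [T, u_zero, map_one, h2]]; simp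

theorem beta_twist (a c : K) : β ρ (c * (a * a)) = β ρ a * β ρ c * β ρ a := by
  by_cases ha : a = 0
  · subst ha; simp [beta_zero h2 h3]
  have hbS : ∀ (z : K) (r : R), β ρ z * (S ρ 1 * r) = S ρ 1 * (β ρ z * r) := fun z r => by
    rw [← mul_assoc, beta_S h2 h3, mul_assoc]
  refine sub_eq_zero.1 (cancel h2 h3 ?_ ?_)
  · rw [sub_mul, mul_sub, beta_S h2 h3]
    congr 1
    rw [mul_assoc, beta_S h2 h3, mul_assoc, hbS, hbS]
    simp only [mul_assoc]
  rw [sub_mul, ← (T_eq h2 h3 _).1, T_twist h2 h3 ha c]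
  have h0 : S ρ a⁻¹ * S ρ c = 0 := by
    rw [S_eq h2 h3 a⁻¹, S_eq h2 h3 c, beta_S h2 h3 c, ← mul_assoc, mul_assoc (β ρ a⁻¹), S_sq h2]
    simp
  have h0' : S ρ c * S ρ a⁻¹ = 0 := by
    rw [S_eq h2 h3 a⁻¹, S_eq h2 h3 c, beta_S h2 h3 a⁻¹, ← mul_assoc, mul_assoc (β ρ c), S_sq h2]
    simp
  have h1 : (T ρ a + S ρ a⁻¹) * S ρ c * (T ρ a + S ρ a⁻¹) = T ρ a * S ρ c * T ρ a := by
    rw [add_mul (T ρ a), h0, add_zero, mul_add, mul_assoc, mul_assoc (T ρ a) (S ρ c) (S ρ a⁻¹), h0',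
      mul_zero, add_zero]
  rw [h1, sub_eq_zero, (T_eq h2 h3 a).1]
  have hbT : ∀ (z : K) (r : R), T ρ 1 * (β ρ z * r) = β ρ z * (T ρ 1 * r) := fun z r => by
    rw [← mul_assoc, ← (T_eq h2 h3 z).2, (T_eq h2 h3 z).1, mul_assoc]
  rw [S_eq h2 h3 c]
  simp only [mul_assoc]
  rw [hbT, ← hbS, hbT, tst h2 h3]

theorem beta_sq (a : K) : β ρ (a * a) = β ρ a * β ρ a := by
  have := beta_twist h2 h3 a 1
  rwa [one_mul, beta_one h2 h3, mul_one] at this

theorem beta_pow (g : K) : ∀ k : ℕ, β ρ (g ^ k) = β ρ g ^ k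
  | 0 => by rw [pow_zero, pow_zero, beta_one h2 h3]
  | 1 => by rw [pow_one, pow_one]
  | k + 2 => by
    rw [show g ^ (k + 2) = g ^ k * (g * g) by ring, beta_twist h2 h3, beta_pow g k]
    rw [← pow_succ', ← pow_succ]

theorem beta_mul (a b : K) : β ρ (a * b) = β ρ a * β ρ b := by
  by_cases ha : a = 0
  · subst ha; simp [beta_zero h2 h3]
  by_cases hb : b = 0
  · subst hb; simp [beta_zero h2 h3]
  obtain ⟨g, hg⟩ := IsCyclic.exists_monoid_generator (α := Kˣ)
  obtain ⟨i, hi⟩ := hg (Units.mk0 a ha)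
  obtain ⟨j, hj⟩ := hg (Units.mk0 b hb)
  simp only at hi hj
  have hi' : a = (g : K) ^ i := by rw [← Units.val_pow_eq_pow_val, hi]; rfl
  have hj' : b = (g : K) ^ j := by rw [← Units.val_pow_eq_pow_val, hj]; rfl
  rw [hi', hj', ← pow_add, beta_pow h2 h3, beta_pow h2 h3, beta_pow h2 h3, pow_add]

/-- The scalars. -/
def betaHom : K →+* R where
  toFun := β ρ
  map_one' := beta_one h2 h3
  map_mul' := beta_mul h2 h3
  map_zero' := beta_zero h2 h3
  map_add' := beta_add h2 h3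

/-- The representation is the natural one tensored with the multiplicity space. -/
theorem rho_eq (g : SL) : ρ g = β ρ (g 0 0) * (T ρ 1 * S ρ 1) + β ρ (g 0 1) * T ρ 1 +
    β ρ (g 1 0) * S ρ 1 + β ρ (g 1 1) * (S ρ 1 * T ρ 1) := by
  set t := T ρ 1
  set s := S ρ 1
  have hbt : ∀ (z : K) (r : R), t * (β ρ z * r) = β ρ z * (t * r) := fun z r => by
    rw [← mul_assoc, ← (T_eq h2 h3 z).2, (T_eq h2 h3 z).1, mul_assoc]
  have hbs : ∀ (z : K) (r : R), s * (β ρ z * r) = β ρ z * (s * r) := fun z r => by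
    rw [← mul_assoc, ← beta_S h2 h3, mul_assoc]
  have htt : ∀ r : R, t * (t * r) = 0 := fun r => by rw [← mul_assoc, T_sq h2, zero_mul]
  have hss : ∀ r : R, s * (s * r) = 0 := fun r => by rw [← mul_assoc, S_sq h2, zero_mul]
  refine generation (P := fun g => ρ g = β ρ (g 0 0) * (t * s) + β ρ (g 0 1) * t +
    β ρ (g 1 0) * s + β ρ (g 1 1) * (s * t)) ?_ ?_ ?_ g
  · simp [map_one, beta_one h2 h3, beta_zero h2 h3]
    exact (one_rel h2 h3).symm
  · intro a g hg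
    simp only [map_mul, rho_u h2, (T_eq h2 h3 a).1, hg]
    simp [val_u, Matrix.mul_apply, Fin.sum_univ_two, beta_add h2 h3, beta_mul h2 h3, beta_one h2 h3, beta_zero h2 h3, mul_add, add_mul,
      mul_assoc, hbt, htt, T_sq h2, tst h2 h3, t, s]
    abel
  · intro a g hg
    simp only [map_mul, rho_v h2, S_eq h2 h3 a, hg]
    simp [val_v, Matrix.mul_apply, Fin.sum_univ_two, beta_add h2 h3, beta_mul h2 h3, beta_one h2 h3, beta_zero h2 h3, mul_add, add_mul,
      mul_assoc, hbs, hss, S_sq h2, sts h2 h3, t, s]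
    abel

end Core

end CfsgLib.Inv.SL2Fpf
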