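import Cfsg.Agent.Inv.SL2Fpf

/-!
Natural decomposition of a fixed-point-free `SL₂(2ⁿ)`-module, equivariant forms and squarings.
-/

set_option autoImplicit false
set_option linter.unusedSectionVars false

namespace CfsgLib.Inv.SL2Fpf

open Matrix

variable {K : Type*} [Field K] [CharP K 2] [Finite K]

local notation "SL" => Matrix.SpecialLinearGroup (Fin 2) K

variable {M : Type*} [AddCommGroup M] {ρ : Matrix.SpecialLinearGroup (Fin 2) K →* AddMonoid.End M}

/-- The module is of exponent two and elements of order three act without fixed points. -/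
structure Good (ρ : Matrix.SpecialLinearGroup (Fin 2) K →* AddMonoid.End M) : Prop where
  two : ∀ m : M, m + m = 0
  three : ∀ g : SL, g ^ 3 = 1 → g ≠ 1 → ∀ m : M, ρ g (ρ g m) + ρ g m + m = 0

theorem Good.h2 (h : Good ρ) : (1 : AddMonoid.End M) + 1 = 0 := AddMonoidHom.ext h.two

theorem Good.h3 (h : Good ρ) : H3 ρ := fun g h1 h2 => AddMonoidHom.ext (h.three g h1 h2)

theorem Good.app_u (h : Good ρ) (a : K) (m : M) : ρ (u a) m = m + T ρ a m := by
  rw [rho_u h.h2]; rfl

theorem Good.app_v (h : Good ρ) (a : K) (m : M) : ρ (v a) m = m + S ρ a m := by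
  rw [rho_v h.h2]; rfl

theorem Good.rel (h : Good ρ) (m : M) : T ρ 1 (S ρ 1 m) + S ρ 1 (T ρ 1 m) = m :=
  DFunLike.congr_fun (one_rel h.h2 h.h3) m

theorem Good.T_top (h : Good ρ) (a : K) (m : M) : T ρ 1 m = 0 → T ρ a m = 0 := by
  intro hm
  rw [show T ρ a m = β ρ a (T ρ 1 m) from DFunLike.congr_fun (T_eq h.h2 h.h3 a).1 m, hm, map_zero]

theorem Good.T_S (h : Good ρ) {w : M} (hw : T ρ 1 w = 0) : T ρ 1 (S ρ 1 w) = w := by
  have := h.rel w
  rwa [hw, map_zero, add_zero] at this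

theorem Good.S_S (h : Good ρ) (m : M) : S ρ 1 (S ρ 1 m) = 0 :=
  DFunLike.congr_fun (S_sq h.h2 (1 : K)) m

theorem Good.T_T (h : Good ρ) (a b : K) (m : M) : T ρ a (T ρ b m) = 0 :=
  DFunLike.congr_fun (T_mul_T h.h2 h.h3 a b) m

theorem Good.T_eq_beta (h : Good ρ) (a : K) (m : M) :
    T ρ a m = β ρ a (T ρ 1 m) ∧ T ρ a m = T ρ 1 (β ρ a m) :=
  ⟨DFunLike.congr_fun (T_eq h.h2 h.h3 a).1 m, DFunLike.congr_fun (T_eq h.h2 h.h3 a).2 m⟩

theorem Good.beta_top (h : Good ρ) (a : K) {w : M} (hw : T ρ 1 w = 0) : T ρ 1 (β ρ a w) = 0 := by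
  rw [← (h.T_eq_beta a w).2, h.T_top a w hw]

theorem Good.beta_S' (h : Good ρ) (a : K) (m : M) : β ρ a (S ρ 1 m) = S ρ 1 (β ρ a m) :=
  DFunLike.congr_fun (beta_S h.h2 h.h3 a) m

theorem Good.beta_inj (h : Good ρ) {a : K} (ha : a ≠ 0) {m : M} (hm : β ρ a m = 0) : m = 0 := by
  have h1 : β ρ a⁻¹ * β ρ a = 1 := by
    rw [← beta_mul h.h2 h.h3, inv_mul_cancel₀ ha, beta_one h.h2 h.h3]
  have := DFunLike.congr_fun h1 m
  simp only [AddMonoid.End.coe_mul, Function.comp_apply, hm, map_zero] at this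
  exact this.symm

/-- The module is a sum of natural modules. -/
theorem decomp [Finite M] (h : Good ρ) :
    ∃ (k : ℕ) (Θ : (Fin k → Fin 2 → K) ≃+ M), ∀ (g : SL) (f : Fin k → Fin 2 → K),
      ρ g (Θ f) = Θ (fun i => (g : Matrix (Fin 2) (Fin 2) K) *ᵥ f i) := by
  letI : Module K M := Module.compHom M (betaHom h.h2 h.h3)
  have hsmul : ∀ (a : K) (m : M), a • m = β ρ a m := fun _ _ => rfl
  let W : Submodule K M :=
    { carrier := {m | T ρ 1 m = 0}
      add_mem' := fun {x y} hx hy => by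
        show T ρ 1 (x + y) = 0
        rw [map_add, hx, hy, add_zero]
      zero_mem' := map_zero _
      smul_mem' := fun a m hm => h.beta_top a hm }
  haveI : Module.Finite K W := Module.Finite.of_finite
  let b := Module.finBasis K W
  set k := Module.finrank K W
  let θ : (Fin k → Fin 2 → K) →+ M :=
    { toFun := fun f => ∑ i, f i 0 • ((b i : W) : M) + S ρ 1 (∑ i, f i 1 • ((b i : W) : M))
      map_zero' := by simp
      map_add' := fun f g => by
        simp only [Pi.add_apply, add_smul, Finset.sum_add_distrib, map_add]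
        abel }
  have hsum : ∀ c : Fin k → K, ∑ i, c i • ((b i : W) : M) = ((∑ i, c i • b i : W) : M) := fun c => by
    simp
  have hW : ∀ c : Fin k → K, T ρ 1 (∑ i, c i • ((b i : W) : M)) = 0 := fun c => by
    rw [hsum]; exact (∑ i, c i • b i : W).2
  have hinj : Function.Injective θ := by
    rw [injective_iff_map_eq_zero]
    intro f hf
    have hb : ∀ c : Fin k → K, ∑ i, c i • ((b i : W) : M) = 0 → ∀ i, c i = 0 := fun c hc => by
      rw [hsum] at hc
      exact Fintype.linearIndependent_iff.1 b.linearIndependent c (Subtype.ext hc)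
    have h1 := congrArg (fun z : M => T ρ (1 : K) z) hf
    simp only [θ, AddMonoidHom.coe_mk, ZeroHom.coe_mk, map_add, hW, zero_add, map_zero,
      h.T_S (hW fun i => f i 1)] at h1
    have h0 : ∑ i, f i 0 • ((b i : W) : M) = 0 := by
      have hf' : ∑ i, f i 0 • ((b i : W) : M) + S ρ 1 (∑ i, f i 1 • ((b i : W) : M)) = 0 := hf
      rwa [h1, map_zero, add_zero] at hf'
    funext i j
    fin_cases j
    · exact hb _ h0 i
    · exact hb _ h1 i
  have hsurj : Function.Surjective θ := by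
    intro m
    have hy : T ρ 1 (T ρ 1 m) = 0 := h.T_T 1 1 m
    have hx : T ρ 1 (T ρ 1 (S ρ 1 m)) = 0 := h.T_T 1 1 _
    refine ⟨fun i => ![b.repr ⟨_, hx⟩ i, b.repr ⟨_, hy⟩ i], ?_⟩
    simp only [θ, AddMonoidHom.coe_mk, ZeroHom.coe_mk, Matrix.cons_val_zero, Matrix.cons_val_one,
      hsum, b.sum_repr]
    exact h.rel m
  refine ⟨k, AddEquiv.ofBijective θ ⟨hinj, hsurj⟩, fun g f => ?_⟩
  show ρ g (θ f) = θ (fun i => (g : Matrix (Fin 2) (Fin 2) K) *ᵥ f i)
  have key : ∀ (x : M), T ρ 1 x = 0 → ∀ (y : M), T ρ 1 y = 0 → ρ g (x + S ρ 1 y) =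
      β ρ (g 0 0) x + β ρ (g 0 1) y + S ρ 1 (β ρ (g 1 0) x + β ρ (g 1 1) y) := by
    intro x hx y hy
    rw [rho_eq h.h2 h.h3 g]
    show β ρ (g 0 0) (T ρ 1 (S ρ 1 (x + S ρ 1 y))) + β ρ (g 0 1) (T ρ 1 (x + S ρ 1 y)) +
      β ρ (g 1 0) (S ρ 1 (x + S ρ 1 y)) + β ρ (g 1 1) (S ρ 1 (T ρ 1 (x + S ρ 1 y))) = _
    simp only [map_add, hx,
      h.T_S hx, h.T_S hy, h.S_S, map_zero, add_zero, h.beta_S']
    abel
  show ρ g (∑ i, f i 0 • ((b i : W) : M) + S ρ 1 (∑ i, f i 1 • ((b i : W) : M))) = _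
  rw [key _ (hW _) _ (hW _)]
  have hbadd : ∀ (p q : K) (m : M), β ρ (p + q) m = β ρ p m + β ρ q m := fun p q m =>
    DFunLike.congr_fun (beta_add h.h2 h.h3 p q) m
  have hbmul : ∀ (p q : K) (m : M), β ρ (p * q) m = β ρ p (β ρ q m) := fun p q m =>
    DFunLike.congr_fun (beta_mul h.h2 h.h3 p q) m
  simp only [θ, AddMonoidHom.coe_mk, ZeroHom.coe_mk, Matrix.mulVec, dotProduct, Fin.sum_univ_two,
    hsmul, hbadd, hbmul, Finset.sum_add_distrib, map_add, map_sum]

section Forms

variable {N : Type*} [AddCommGroup N] {σ : Matrix.SpecialLinearGroup (Fin 2) K →* AddMonoid.End N}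

/-- An equivariant map commutes with the scalars. -/
theorem map_beta (φ : M →+ N) (hφ : ∀ g m, φ (ρ g m) = σ g (φ m)) (a : K) (m : M) :
    φ (β ρ a m) = β σ a (φ m) ∧ φ (T ρ a m) = T σ a (φ m) ∧ φ (S ρ a m) = S σ a (φ m) := by
  have hT : ∀ z m, φ (T ρ z m) = T σ z (φ m) := fun z m => by
    show φ (ρ (u z) m + m) = σ (u z) (φ m) + φ m
    rw [map_add, hφ]
  have hS : ∀ z m, φ (S ρ z m) = S σ z (φ m) := fun z m => by
    show φ (ρ (v z) m + m) = σ (v z) (φ m) + φ m
    rw [map_add, hφ]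
  refine ⟨?_, hT a m, hS a m⟩
  show φ (T ρ a (S ρ 1 m) + S ρ 1 (T ρ a m)) = T σ a (S σ 1 (φ m)) + S σ 1 (T σ a (φ m))
  rw [map_add, hT, hS, hS, hT]

/-- The components of a symmetric equivariant form on a pair of top vectors. -/
theorem form_comp (hM : Good ρ) (hN : Good σ) (c : M →+ M →+ N) (hsym : ∀ x y, c x y = c y x)
    (heq : ∀ g x y, c (ρ g x) (ρ g y) = σ g (c x y)) {x y : M} (hx : T ρ 1 x = 0) (hy : T ρ 1 y = 0) :
    T σ 1 (c x y) = 0 ∧ c (S ρ 1 x) (S ρ 1 y) = S σ 1 (c x y) ∧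
      c x (S ρ 1 y) = c x y + S σ 1 (c x y) ∧ c (S ρ 1 x) y = c x y + S σ 1 (c x y) := by
  have huu : ∀ (z : K) (x y : M), c (x + T ρ z x) (y + T ρ z y) = c x y + T σ z (c x y) :=
    fun z x y => by rw [← hM.app_u, ← hM.app_u, heq, hN.app_u]
  have hvv : ∀ (x y : M), c (x + S ρ 1 x) (y + S ρ 1 y) = c x y + S σ 1 (c x y) :=
    fun x y => by rw [← hM.app_v, ← hM.app_v, heq, hN.app_v]
  have h1 : T σ 1 (c x y) = 0 := by
    have hg := huu 1 x y
    simp only [hx, hy, add_zero] at hg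
    simpa using hg.symm
  have hf : T σ 1 (c x (S ρ 1 y)) = c x y := by
    have hf := huu 1 x (S ρ 1 y)
    simp only [hx, hM.T_S hy, add_zero, map_add, add_right_inj] at hf
    exact hf.symm
  have hf' : S σ 1 (c x (S ρ 1 y)) = c (S ρ 1 x) (S ρ 1 y) := by
    have h := hvv x (S ρ 1 y)
    simp only [hM.S_S, add_zero, map_add, AddMonoidHom.add_apply, add_right_inj] at h
    exact h.symm
  have hk : T σ 1 (c (S ρ 1 x) (S ρ 1 y)) = c x (S ρ 1 y) + c (S ρ 1 x) y + c x y := by
    have h := huu 1 (S ρ 1 x) (S ρ 1 y)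
    simp only [hM.T_S hx, hM.T_S hy, map_add, AddMonoidHom.add_apply] at h
    apply add_left_cancel (a := c (S ρ 1 x) (S ρ 1 y))
    rw [← h]; abel
  have hg' : S σ 1 (c x y) = c x (S ρ 1 y) + c (S ρ 1 x) y + c (S ρ 1 x) (S ρ 1 y) := by
    have h := hvv x y
    simp only [map_add, AddMonoidHom.add_apply] at h
    apply add_left_cancel (a := c x y)
    rw [← h]; abel
  set g := c x y
  set f := c x (S ρ 1 y)
  set f' := c (S ρ 1 x) y
  set k := c (S ρ 1 x) (S ρ 1 y)
  have hmix : f = g + k := by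
    have hsum := hN.rel f
    rw [hf, hf', hk, hg'] at hsum
    calc f = f + f' + g + (f + f' + k) := hsum.symm
      _ = g + k + ((f + f) + (f' + f')) := by abel
      _ = g + k := by rw [hN.two, hN.two]; simp
  have hTk : T σ 1 k = g := by
    have h := congrArg (fun z : N => T σ (1 : K) z) hmix
    simp only [map_add, h1, zero_add, hf] at h
    exact h.symm
  have hff : f' = f := by
    rw [hTk] at hk
    have h0 : f + f' = 0 := by
      calc f + f' = f + f' + g + g := by rw [add_assoc _ g g, hN.two, add_zero]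
        _ = 0 := by rw [← hk, hN.two]
    calc f' = f + f + f' := by rw [hN.two, zero_add]
      _ = f := by rw [add_assoc, h0, add_zero]
  have hSg : k = S σ 1 g := by
    rw [hg', hff, hN.two, zero_add]
  exact ⟨h1, hSg, hSg ▸ hmix, by rw [hff]; exact hSg ▸ hmix⟩

/-- A symmetric equivariant biadditive map between fixed-point-free modules is trivial. -/
theorem form_zero (hM : Good ρ) (hN : Good σ) {a : K} (ha : a ≠ 0) (ha1 : a ≠ 1) (c : M →+ M →+ N)
    (hsym : ∀ x y, c x y = c y x) (heq : ∀ g x y, c (ρ g x) (ρ g y) = σ g (c x y)) : c = 0 := by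
  have huu : ∀ (z : K) (x y : M), c (x + T ρ z x) (y + T ρ z y) = c x y + T σ z (c x y) :=
    fun z x y => by rw [← hM.app_u, ← hM.app_u, heq, hN.app_u]
  have haT : ∀ m, T ρ 1 m = 0 → T ρ a (S ρ 1 m) = β ρ a m := fun m hm => by
    rw [(hM.T_eq_beta a _).1, hM.T_S hm]
  have hST : ∀ z, T σ 1 z = 0 → T σ a (z + S σ 1 z) = β σ a z ∧ T σ a (S σ 1 z) = β σ a z := fun z hz => by
    have : T σ a (S σ 1 z) = β σ a z := by rw [(hN.T_eq_beta a _).1, hN.T_S hz]
    exact ⟨by rw [map_add, hN.T_top a z hz, zero_add, this], this⟩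
  have hright : ∀ x y, T ρ 1 x = 0 → T ρ 1 y = 0 → c x (β ρ a y) = β σ a (c x y) := by
    intro x y hx hy
    obtain ⟨h1, -, h3, -⟩ := form_comp hM hN c hsym heq hx hy
    have h6 := huu a x (S ρ 1 y)
    rw [hM.T_top a x hx, haT y hy] at h6
    simp only [add_zero, map_add, add_right_inj] at h6
    rw [h6, h3, (hST _ h1).1]
  have main : ∀ x y : M, T ρ 1 x = 0 → T ρ 1 y = 0 →
      c x y = 0 ∧ c x (S ρ 1 y) = 0 ∧ c (S ρ 1 x) (S ρ 1 y) = 0 := by
    intro x y hx hy
    obtain ⟨h1, h2, h3, -⟩ := form_comp hM hN c hsym heq hx hy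
    have hBx : T ρ 1 (β ρ a x) = 0 := hM.beta_top a hx
    have hBy : T ρ 1 (β ρ a y) = 0 := hM.beta_top a hy
    have hleft : c (β ρ a x) y = β σ a (c x y) := by rw [hsym, hright y x hy hx, hsym y x]
    have hk := huu a (S ρ 1 x) (S ρ 1 y)
    rw [haT x hx, haT y hy, h2, (hST _ h1).2] at hk
    simp only [map_add, AddMonoidHom.add_apply] at hk
    rw [h2, (form_comp hM hN c hsym heq hx hBy).2.2.2, (form_comp hM hN c hsym heq hBx hy).2.2.1,
      hright _ _ hBx hy, hleft, hright _ _ hx hy] at hk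
    have hfinal : β σ a (c x y) + β σ a (β σ a (c x y)) = 0 := by
      have h0 : β σ a (β σ a (c x y)) = β σ a (c x y) := by
        apply add_left_cancel (a := S σ 1 (c x y))
        rw [← hk]
        calc _ = S σ 1 (c x y) + β σ a (β σ a (c x y)) +
            ((β σ a (c x y) + β σ a (c x y)) + (S σ 1 (β σ a (c x y)) + S σ 1 (β σ a (c x y)))) := by
              rw [hN.two, hN.two]; simp
          _ = _ := by abel
      rw [h0, hN.two]
    have hz : c x y = 0 := by
      refine hN.beta_inj (a := a * (1 + a)) (mul_ne_zero ha ?_) ?_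
      · intro h0
        exact ha1 (by linear_combination h0 - two (K := K))
      · rw [beta_mul hN.h2 hN.h3, beta_add hN.h2 hN.h3, beta_one hN.h2 hN.h3]
        show β σ a (c x y + β σ a (c x y)) = 0
        rw [map_add]
        exact hfinal
    rw [h2, h3, hz]
    simp
  ext x y
  have hx1 : T ρ 1 (T ρ 1 (S ρ 1 x)) = 0 := hM.T_T _ _ _
  have hx2 : T ρ 1 (T ρ 1 x) = 0 := hM.T_T _ _ _
  have hy1 : T ρ 1 (T ρ 1 (S ρ 1 y)) = 0 := hM.T_T _ _ _
  have hy2 : T ρ 1 (T ρ 1 y) = 0 := hM.T_T _ _ _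
  rw [← hM.rel x, ← hM.rel y]
  simp only [map_add, AddMonoidHom.add_apply, AddMonoidHom.zero_apply]
  rw [(main _ _ hx1 hy1).1, (main _ _ hx1 hy2).2.1, hsym (S ρ 1 (T ρ 1 x)),
    (main _ _ hy1 hx2).2.1, (main _ _ hx2 hy2).2.2]

end Forms

/-- The kernel of an equivariant map is invariant. -/
def kerRep {V : Type*} [AddCommGroup V] (π : M →+ V)
    (σ : Matrix.SpecialLinearGroup (Fin 2) K →* AddMonoid.End V) (hπ : ∀ g m, π (ρ g m) = σ g (π m)) :
    Matrix.SpecialLinearGroup (Fin 2) K →* AddMonoid.End π.ker where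
  toFun g :=
    { toFun := fun z => ⟨ρ g z, by rw [AddMonoidHom.mem_ker, hπ, AddMonoidHom.mem_ker.1 z.2, map_zero]⟩
      map_zero' := Subtype.ext (map_zero _)
      map_add' := fun x y => Subtype.ext (map_add _ _ _) }
  map_one' := AddMonoidHom.ext fun z => Subtype.ext (by
    show ρ 1 (z : M) = z
    rw [map_one]; rfl)
  map_mul' g h := AddMonoidHom.ext fun z => Subtype.ext (by
    show ρ (g * h) (z : M) = ρ g (ρ h z)
    rw [map_mul]; rfl)

/-- A fixed-point-free module has no proper extension by squaring. -/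
theorem square_zero {V : Type*} [AddCommGroup V]
    {σ : Matrix.SpecialLinearGroup (Fin 2) K →* AddMonoid.End V} (hV : Good σ) {a : K} (ha : a ≠ 0)
    (ha1 : a ≠ 1) (hq : ∃ j : ℕ, a ^ (2 * j) = a)
    (π : M →+ V) (hπs : Function.Surjective π) (hπ : ∀ g m, π (ρ g m) = σ g (π m))
    (φ : V →+ M) (hφi : Function.Injective φ) (hφ : ∀ g w, φ (σ g w) = ρ g (φ w))
    (hsq : ∀ m, φ (π m) = m + m) (hexp : ∀ w, φ w + φ w = 0)
    (hker : ∀ z, π z = 0 → ∀ g : SL, g ^ 3 = 1 → g ≠ 1 → ρ g (ρ g z) + ρ g z + z = 0)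
    (w : V) : w = 0 := by
  set τ := kerRep π σ hπ with hτdef
  have hN : Good τ := by
    refine ⟨fun z => Subtype.ext ?_, fun g h1 h2 z => Subtype.ext (hker z z.2 g h1 h2)⟩
    show (z : M) + z = 0
    rw [← hsq, AddMonoidHom.mem_ker.1 z.2, map_zero]
  have hπφ : ∀ w, π (φ w) = 0 := fun w => hφi (by rw [hsq, hexp, map_zero])
  let φ' : V →+ π.ker := φ.codRestrict π.ker hπφ
  have hφ' : ∀ g w, φ' (σ g w) = τ g (φ' w) := fun g w => Subtype.ext (hφ g w)
  set t : M → M := fun m => ρ (u 1) m with ht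
  set t' : M → M := fun m => ρ (u a) m with ht'
  have htadd : ∀ x y, t (x + y) = t x + t y := fun x y => map_add (ρ (u 1)) x y
  have ht'add : ∀ x y, t' (x + y) = t' x + t' y := fun x y => map_add (ρ (u a)) x y
  have ht'sub : ∀ x y, t' (x - y) = t' x - t' y := fun x y => map_sub (ρ (u a)) x y
  have htsub : ∀ x y, t (x - y) = t x - t y := fun x y => map_sub (ρ (u 1)) x y
  have hinv : ∀ (z : K) (m : M), ρ (u z) (ρ (u z) m) = m := fun z m => by
    have h := DFunLike.congr_fun (congrArg ρ (u_sq z)) m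
    rw [map_mul, map_one] at h
    exact h
  have hcomm : ∀ m, t (t' m) = t' (t m) := fun m => by
    have h := DFunLike.congr_fun (congrArg ρ (show (u 1 * u a : SL) = u a * u 1 by
      rw [← u_add, ← u_add, add_comm])) m
    rw [map_mul, map_mul] at h
    exact h
  have hπT : ∀ (z : K) m, π (m + ρ (u z) m) = T σ z (π m) := fun z m => by
    rw [map_add, hπ, hV.app_u, ← add_assoc, hV.two, zero_add]
  have hsub : ∀ {x y : V}, x - y = x + y := fun {x y} => by
    rw [sub_eq_iff_eq_add, add_assoc, hV.two, add_zero]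
  have hmem : ∀ m, t' (m + t m) - (m + t m) ∈ π.ker := fun m => by
    rw [AddMonoidHom.mem_ker, map_sub, hsub, add_comm, ← map_add, ht', ht, hπT, hπT]
    exact hV.T_T _ _ _
  set Γ : M → π.ker := fun m => ⟨t' (m + t m) - (m + t m), hmem m⟩ with hΓ
  -- the function on the kernel
  have hΓker : ∀ z : π.ker, Γ (z : M) = 0 := by
    intro z
    have h : Γ (z : M) = T τ a (T τ 1 z) := by
      apply Subtype.ext
      have h1 : ∀ (b : K) (y : π.ker), ((T τ b y : π.ker) : M) = ρ (u b) y + y := fun b y => rfl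
      rw [h1, h1]
      show t' ((z : M) + t z) - ((z : M) + t z) = ρ (u a) (ρ (u 1) z + z) + (ρ (u 1) z + z)
      have h2 : ((z : M) + t z) + ((z : M) + t z) = 0 := by
        have := congrArg Subtype.val (hN.two (z + τ (u 1) z))
        exact this
      rw [sub_eq_add_neg, neg_eq_of_add_eq_zero_right h2, ht', ht]
      simp only [add_comm (z : M)]
    rw [h, hN.T_T]
  have hΓadd : ∀ m m', Γ (m + m') = Γ m + Γ m' := fun m m' => Subtype.ext (by
    show t' (m + m' + t (m + m')) - (m + m' + t (m + m')) =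
      t' (m + t m) - (m + t m) + (t' (m' + t m') - (m' + t m'))
    rw [htadd, show m + m' + (t m + t m') = (m + t m) + (m' + t m') by abel, ht'add]
    abel)
  have hΓeq : ∀ m m', π m = π m' → Γ m = Γ m' := by
    intro m m' h
    have h' : m - m' ∈ π.ker := by rw [AddMonoidHom.mem_ker, map_sub, h, sub_self]
    calc Γ m = Γ (m' + ((⟨_, h'⟩ : π.ker) : M)) := by simp
      _ = Γ m' := by rw [hΓadd, hΓker, add_zero]
  set s := Function.surjInv hπs
  have hs : ∀ w, π (s w) = w := Function.surjInv_eq hπs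
  set γ : V → π.ker := fun w => Γ (s (S σ 1 w)) with hγ
  have step : ∀ w, T σ 1 w = 0 → γ (β σ a w) =
      φ' (β σ a w) + φ' (β σ a (β σ a w)) + β τ a (γ w) := by
    intro w hw
    set m := s (S σ 1 w) with hm
    set mB := s (S σ 1 (β σ a w)) with hmB
    set kB := mB + t mB with hkB
    set r := t' m - m with hr
    have hπk : π kB = β σ a w := by
      rw [hkB, ht, hπT, hs, hV.T_S (hV.beta_top a hw)]
    have hπr : π r = β σ a w := by
      rw [hr, map_sub, hsub, add_comm, ← map_add, ht', hπT, hs, (hV.T_eq_beta a _).1, hV.T_S hw]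
    let n : π.ker := ⟨r - kB, by rw [AddMonoidHom.mem_ker, map_sub, hπk, hπr, sub_self]⟩
    have htk : t kB = kB := by
      rw [hkB, htadd]
      show t mB + ρ (u 1) (ρ (u 1) mB) = mB + t mB
      rw [hinv, add_comm]
    have hΓm : γ w = φ' (β σ a w) + T τ 1 n := by
      apply Subtype.ext
      show t' (m + t m) - (m + t m) = φ (β σ a w) + (ρ (u 1) (r - kB) + (r - kB))
      rw [← hπk, hsq, ht'add, ← hcomm]
      show _ = kB + kB + (t (r - kB) + (r - kB))
      rw [htsub, htk, hr, htsub]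
      abel
    have hΓB : γ (β σ a w) = φ' (β σ a w) + T τ a n := by
      apply Subtype.ext
      show t' kB - kB = φ (β σ a w) + (ρ (u a) (r - kB) + (r - kB))
      have hr' : t' r = -r := by
        rw [hr, ht'sub]
        show ρ (u a) (ρ (u a) m) - t' m = -(t' m - m)
        rw [hinv]; abel
      have h2k : kB + kB = -(kB + kB) := by
        rw [← hsq, hπk]; exact eq_neg_of_add_eq_zero_left (hexp _)
      show _ = φ (β σ a w) + (t' (r - kB) + (r - kB))
      rw [← hπk, hsq, ht'sub, hr']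
      calc t' kB - kB = t' kB + kB + -(kB + kB) := by abel
        _ = t' kB + kB + (kB + kB) := by rw [← h2k]
        _ = kB + kB + (-r - -t' kB + (r - -kB)) := by abel
        _ = kB + kB + (-r - t' kB + (r - kB)) + ((t' kB + kB) + (t' kB + kB)) := by abel
        _ = _ := by
          have hz : π (t' kB + kB) = 0 := by
            rw [add_comm, ht', hπT, hπk, hV.T_top a _ (hV.beta_top a hw)]
          rw [show (t' kB + kB) + (t' kB + kB) = φ (π (t' kB + kB)) from (hsq _).symm, hz, map_zero,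
            add_zero]
    have hb : β τ a (γ w) = φ' (β σ a (β σ a w)) + T τ a n := by
      rw [hΓm, map_add, ← (map_beta φ' hφ' a _).1, ← (hN.T_eq_beta a n).1]
    rw [hΓB, hb]
    calc φ' (β σ a w) + T τ a n = φ' (β σ a w) + T τ a n +
        (φ' (β σ a (β σ a w)) + φ' (β σ a (β σ a w))) := by rw [hN.two, add_zero]
      _ = _ := by abel
  have step2 : ∀ w, T σ 1 w = 0 → γ (β σ a (β σ a w)) = β τ a (β τ a (γ w)) := by
    intro w hw
    rw [step _ (hV.beta_top a hw), step w hw, map_add, map_add, ← (map_beta φ' hφ' a _).1,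
      ← (map_beta φ' hφ' a _).1]
    calc _ = β τ a (β τ a (γ w)) + ((φ' (β σ a (β σ a w)) + φ' (β σ a (β σ a w))) +
        (φ' (β σ a (β σ a (β σ a w))) + φ' (β σ a (β σ a (β σ a w))))) := by abel
      _ = _ := by rw [hN.two, hN.two]; simp
  have iter : ∀ j : ℕ, ∀ w, T σ 1 w = 0 → γ (β σ (a ^ (2 * j)) w) = β τ (a ^ (2 * j)) (γ w) := by
    intro j
    induction j with
    | zero => intro w hw; simp [beta_one hV.h2 hV.h3, beta_one hN.h2 hN.h3]
    | succ j ih =>
      intro w hw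
      rw [show 2 * (j + 1) = 2 * j + 1 + 1 by ring, pow_succ', pow_succ', beta_mul hV.h2 hV.h3,
        beta_mul hV.h2 hV.h3, beta_mul hN.h2 hN.h3, beta_mul hN.h2 hN.h3]
      show γ (β σ a (β σ a (β σ (a ^ (2 * j)) w))) = β τ a (β τ a (β τ (a ^ (2 * j)) (γ w)))
      rw [step2 _ (hV.beta_top _ hw), ih w hw]
  have top : ∀ w, T σ 1 w = 0 → w = 0 := by
    intro w hw
    obtain ⟨j, hj⟩ := hq
    have h := iter j w hw
    rw [hj, step w hw, add_eq_right, ← map_add] at h
    have h' : φ (β σ a w + β σ a (β σ a w)) = 0 := congrArg Subtype.val h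
    rw [map_eq_zero_iff φ hφi] at h'
    refine hV.beta_inj (a := a * (1 + a)) (mul_ne_zero ha ?_) ?_
    · intro h0
      exact ha1 (by linear_combination h0 - two (K := K))
    · rw [beta_mul hV.h2 hV.h3, beta_add hV.h2 hV.h3, beta_one hV.h2 hV.h3]
      show β σ a (w + β σ a w) = 0
      rwa [map_add]
  rw [← hV.rel w, top _ (hV.T_T _ _ _), top (T σ 1 w) (hV.T_T _ _ _)]
  simp

end CfsgLib.Inv.SL2Fpf
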