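import Cfsg.Prelude.Def_BaumannBlocks
import Cfsg.Agent.Inv.SL2FpfModule

/-!
Higman's theorem: a normal 2-subgroup with `SL₂(2ⁿ)` on top and a fixed-point-free element of order three.
-/

set_option autoImplicit false
set_option linter.unusedSectionVars false

namespace CfsgLib.Inv.SL2Fpf

open Matrix
open scoped IsMulCommutative

variable {K : Type*} [Field K] [Fintype K] [CharP K 2]

local notation "SL" => Matrix.SpecialLinearGroup (Fin 2) K

variable {G : Type*} [Group G] [Finite G]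

/-- Conjugation on a normal abelian subgroup. -/
def conjEnd (A : Subgroup G) [A.Normal] [IsMulCommutative A] : G →* AddMonoid.End (Additive A) where
  toFun g := MonoidHom.toAdditive (MulAut.conjNormal (H := A) g).toMonoidHom
  map_one' := AddMonoidHom.ext fun m => Subtype.ext (by
    show (1 : G) * (Additive.toMul m : A) * 1⁻¹ = (Additive.toMul m : A)
    simp)
  map_mul' g h := AddMonoidHom.ext fun m => Subtype.ext (by
    show g * h * (Additive.toMul m : A) * (g * h)⁻¹ = g * (h * (Additive.toMul m : A) * h⁻¹) * g⁻¹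
    group)

theorem conjEnd_coe (A : Subgroup G) [A.Normal] [IsMulCommutative A] (g : G) (m : Additive A) :
    ((Additive.toMul (conjEnd A g m) : A) : G) = g * (Additive.toMul m : A) * g⁻¹ := rfl

variable {Q : Subgroup G} [Q.Normal] (e : G ⧸ Q ≃* Matrix.SpecialLinearGroup (Fin 2) K)

/-- The representation of the quotient on a normal abelian subgroup centralised by `Q`. -/
noncomputable def rep (A : Subgroup G) [A.Normal] [IsMulCommutative A]
    (hQA : ∀ q ∈ Q, ∀ a ∈ A, q * a = a * q) :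
    Matrix.SpecialLinearGroup (Fin 2) K →* AddMonoid.End (Additive A) :=
  (QuotientGroup.lift Q (conjEnd A) fun q hq => AddMonoidHom.ext fun m => Subtype.ext (by
    show q * (Additive.toMul m : A) * q⁻¹ = (Additive.toMul m : A)
    rw [hQA q hq _ (Additive.toMul m : A).2]; group)).comp e.symm.toMonoidHom

theorem rep_coe (A : Subgroup G) [A.Normal] [IsMulCommutative A] (hQA : ∀ q ∈ Q, ∀ a ∈ A, q * a = a * q)
    (g : G) (m : Additive A) :
    ((Additive.toMul (rep e A hQA (e (QuotientGroup.mk g)) m) : A) : G) = g * (Additive.toMul m : A) * g⁻¹ := by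
  simp only [rep, MonoidHom.comp_apply, MulEquiv.coe_toMonoidHom, MulEquiv.symm_apply_apply]
  rfl

variable {x : G} (hx : orderOf x = 3) (hfpf : ∀ q ∈ Q, x * q * x⁻¹ = q → q = 1)
include hx hfpf

theorem x_notMem (hQ : IsPGroup 2 Q) : x ∉ Q := by
  intro h
  obtain ⟨k, hk⟩ := hQ ⟨x, h⟩
  have h3 : (3 : ℕ) ∣ 2 ^ k := by
    rw [← hx]
    exact orderOf_dvd_of_pow_eq_one (congrArg Subtype.val hk)
  exact absurd (Nat.prime_three.dvd_of_dvd_pow h3) (by norm_num)

/-- Elements of order three have trivial norm on a section inside `Q`. -/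
theorem rep_three (hQ : IsPGroup 2 Q) (A : Subgroup G) [A.Normal] [IsMulCommutative A]
    (hQA : ∀ q ∈ Q, ∀ a ∈ A, q * a = a * q) (hAQ : A ≤ Q) (g : SL) (hg : g ^ 3 = 1) (hg1 : g ≠ 1)
    (m : Additive A) : rep e A hQA g (rep e A hQA g m) + rep e A hQA g m + m = 0 := by
  have hxbar : (e (QuotientGroup.mk x)) ^ 3 = 1 ∧ e (QuotientGroup.mk x) ≠ 1 := by
    constructor
    · rw [← map_pow, ← QuotientGroup.mk_pow, ← hx, pow_orderOf_eq_one]; simp
    · intro h
      rw [MulEquiv.map_eq_one_iff, QuotientGroup.eq_one_iff] at h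
      exact x_notMem hx hfpf hQ h
  obtain ⟨h₁, hh₁⟩ := conj_of_cube hg hg1
  obtain ⟨h₂, hh₂⟩ := conj_of_cube hxbar.1 hxbar.2
  obtain ⟨y, hy⟩ := QuotientGroup.mk_surjective (e.symm (h₁ * h₂⁻¹))
  have hgy : g = e (QuotientGroup.mk (y * x * y⁻¹)) := by
    rw [QuotientGroup.mk_mul, QuotientGroup.mk_mul, QuotientGroup.mk_inv, map_mul, map_mul, map_inv,
      hy, MulEquiv.apply_symm_apply, hh₂, hh₁]
    group
  set a : G := ((Additive.toMul m : A) : G) with ha
  set b := y⁻¹ * a * y with hb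
  have hbA : b ∈ A := by simpa using ‹A.Normal›.conj_mem a (Additive.toMul m : A).2 y⁻¹
  have hcom : ∀ u ∈ A, ∀ v ∈ A, u * v = v * u := fun u hu v hv =>
    congrArg Subtype.val (mul_comm' (⟨u, hu⟩ : A) ⟨v, hv⟩)
  have hc1 : x * b * x⁻¹ ∈ A := ‹A.Normal›.conj_mem b hbA x
  have hc2 : x * (x * b * x⁻¹) * x⁻¹ ∈ A := ‹A.Normal›.conj_mem _ hc1 x
  have h3 : x * x * x = 1 := by
    have := pow_orderOf_eq_one x
    rwa [hx, pow_succ, pow_two] at this
  set P := x * (x * b * x⁻¹) * x⁻¹ * (x * b * x⁻¹) * b with hP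
  have hPA : P ∈ A := mul_mem (mul_mem hc2 hc1) hbA
  have hfix : x * P * x⁻¹ = P := by
    calc x * P * x⁻¹ = (x * x * x) * b * (x * x * x)⁻¹ *
          ((x * (x * b * x⁻¹) * x⁻¹) * (x * b * x⁻¹)) := by rw [hP]; group
      _ = b * ((x * (x * b * x⁻¹) * x⁻¹) * (x * b * x⁻¹)) := by rw [h3]; group
      _ = P := hcom _ hbA _ (mul_mem hc2 hc1)
  have hP1 := hfpf P (hAQ hPA) hfix
  apply Additive.toMul.injective
  apply Subtype.ext
  rw [hgy]
  simp only [toMul_add, Subgroup.coe_mul, rep_coe, toMul_zero, Subgroup.coe_one]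
  calc _ = y * P * y⁻¹ := by rw [hP, hb, ← ha]; group
    _ = 1 := by rw [hP1]; group

omit hx hfpf in
/-- The squaring of an elementary abelian group vanishes additively. -/
theorem two_of_exp {H : Type*} [Group H] (A : Subgroup H) [IsMulCommutative A]
    (hA : ∀ a ∈ A, a ^ 2 = 1) (m : Additive A) : m + m = 0 := by
  apply Additive.toMul.injective
  apply Subtype.ext
  show ((Additive.toMul m : A) : H) * (Additive.toMul m : A) = 1
  rw [← pow_two]; exact hA _ (Additive.toMul m : A).2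

theorem good_rep (hQ : IsPGroup 2 Q) (A : Subgroup G) [A.Normal] [IsMulCommutative A]
    (hQA : ∀ q ∈ Q, ∀ a ∈ A, q * a = a * q) (hAQ : A ≤ Q) (hexp : ∀ a ∈ A, a ^ 2 = 1) :
    Good (rep e A hQA) :=
  ⟨two_of_exp A hexp, rep_three e hx hfpf hQ A hQA hAQ⟩

omit hx hfpf in
theorem exists_elem (hcard : 4 ≤ Fintype.card K) : ∃ a : K, a ≠ 0 ∧ a ≠ 1 ∧ ∃ j : ℕ, a ^ (2 * j) = a := by
  classical
  obtain ⟨a, -, ha⟩ := Finset.exists_mem_notMem_of_card_lt_card (s := ({0, 1} : Finset K))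
    (t := Finset.univ) (lt_of_le_of_lt (Finset.card_insert_le _ _) (by simp; omega))
  simp only [Finset.mem_insert, Finset.mem_singleton, not_or] at ha
  obtain ⟨n, hp, hn⟩ := FiniteField.card K 2
  exact ⟨a, ha.1, ha.2, 2 ^ ((n : ℕ) - 1), by
    rw [← pow_succ', Nat.sub_add_cancel n.pos, ← hn, FiniteField.pow_card]⟩

omit hx hfpf in
theorem quotient_fix {Z : Subgroup G} [Z.Normal] (hfix : ∀ z ∈ Z, x * z * x⁻¹ = z → z = 1)
    (hcent : ∀ q ∈ Q, ∀ z ∈ Z, q * z = z * q) (hZQ : Z ≤ Q) {q : G} (hq : q ∈ Q)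
    (h : x * q * x⁻¹ * q⁻¹ ∈ Z) : ∃ z ∈ Z, x * (q * z) * x⁻¹ = q * z := by
  let f : Z → Z := fun z => ⟨x * z * x⁻¹ * (z : G)⁻¹, mul_mem (‹Z.Normal›.conj_mem _ z.2 x) (inv_mem z.2)⟩
  have hinj : Function.Injective f := by
    intro a b hab
    have h' : x * a * x⁻¹ * (a : G)⁻¹ = x * b * x⁻¹ * (b : G)⁻¹ := congrArg Subtype.val hab
    have hab' : (a : G) * (b : G)⁻¹ = 1 := by
      refine hfix _ (mul_mem a.2 (inv_mem b.2)) ?_
      have hc : ∀ u : G, u ∈ Z → ∀ v : G, v ∈ Z → u * v = v * u := fun u hu v hv => hcent u (hZQ hu) v hv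
      calc x * ((a : G) * (b : G)⁻¹) * x⁻¹
          = (x * a * x⁻¹ * (a : G)⁻¹) * ((a : G) * ((x * b * x⁻¹)⁻¹)) := by group
        _ = (x * b * x⁻¹ * (b : G)⁻¹) * ((a : G) * ((x * b * x⁻¹)⁻¹)) := by rw [h']
        _ = (a : G) * ((x * b * x⁻¹)⁻¹) * (x * b * x⁻¹ * (b : G)⁻¹) :=
            hc _ (mul_mem (‹Z.Normal›.conj_mem _ b.2 x) (inv_mem b.2)) _
              (mul_mem a.2 (inv_mem (‹Z.Normal›.conj_mem _ b.2 x)))
        _ = _ := by group
    exact Subtype.ext (eq_of_mul_inv_eq_one hab')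
  obtain ⟨z, hz⟩ := (Finite.injective_iff_surjective.1 hinj) ⟨(x * q * x⁻¹ * q⁻¹)⁻¹, inv_mem h⟩
  have hz' : x * z * x⁻¹ * (z : G)⁻¹ = (x * q * x⁻¹ * q⁻¹)⁻¹ := congrArg Subtype.val hz
  refine ⟨z, z.2, ?_⟩
  have hqz := hcent q hq z z.2
  calc x * (q * z) * x⁻¹ = (x * q * x⁻¹ * q⁻¹) * q * ((x * z * x⁻¹ * (z : G)⁻¹) * z) := by group
    _ = (x * q * x⁻¹ * q⁻¹) * q * ((x * q * x⁻¹ * q⁻¹)⁻¹ * z) := by rw [hz']
    _ = (x * q * x⁻¹ * q⁻¹) * (x * q * x⁻¹ * q⁻¹)⁻¹ * (q * z) := by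
        rw [← mul_assoc _ _ (z : G), mul_assoc _ q, hcent q hq _ (inv_mem h)]; group
    _ = q * z := by group

end CfsgLib.Inv.SL2Fpf

namespace CfsgLib.Inv.SL2Fpf

open Matrix
open scoped IsMulCommutative

universe v

variable {K : Type*} [Field K] [Fintype K] [CharP K 2]

theorem elementary_aux (hcard : 4 ≤ Fintype.card K) : ∀ (N : ℕ) {G : Type v} [Group G] [Finite G]
    (Q : Subgroup G) [Q.Normal], Nat.card Q ≤ N → IsPGroup 2 Q →
    (G ⧸ Q ≃* Matrix.SpecialLinearGroup (Fin 2) K) → ∀ x : G, orderOf x = 3 →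
    (∀ q ∈ Q, x * q * x⁻¹ = q → q = 1) → IsMulCommutative Q ∧ ∀ q ∈ Q, q ^ 2 = 1 := by
  intro N
  induction N with
  | zero =>
    intro G _ _ Q _ hN
    have h1 : 0 < Nat.card Q := Nat.card_pos
    omega
  | succ N ih =>
    intro G _ _ Q _ hN hQ e x hx hfpf
    by_cases hbot : Q = ⊥
    · subst hbot
      refine ⟨⟨⟨fun a b => ?_⟩⟩, fun q hq => by rw [Subgroup.mem_bot.1 hq, one_pow]⟩
      rw [Subgroup.mem_bot.1 a.2 |> fun h => Subtype.ext (a2 := (1 : (⊥ : Subgroup G))) h]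
      simp
    -- the central involutions of `Q`
    let Z : Subgroup G :=
      { carrier := {z | z ∈ Q ∧ (∀ q ∈ Q, q * z = z * q) ∧ z ^ 2 = 1}
        one_mem' := ⟨one_mem _, fun q _ => by simp, one_pow _⟩
        mul_mem' := fun {a b} ha hb => ⟨mul_mem ha.1 hb.1, fun q hq => by
            rw [← mul_assoc, ha.2.1 q hq, mul_assoc, hb.2.1 q hq, mul_assoc], by
            rw [Commute.mul_pow (show Commute a b from hb.2.1 a ha.1), ha.2.2, hb.2.2, one_mul]⟩
        inv_mem' := fun {a} ha => ⟨inv_mem ha.1, fun q hq => by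
            rw [(show Commute q a from ha.2.1 q hq).inv_right.eq], by rw [inv_pow, ha.2.2, inv_one]⟩ }
    have hZQ : Z ≤ Q := fun z hz => hz.1
    haveI hZn : Z.Normal := ⟨fun z hz g => ⟨‹Q.Normal›.conj_mem z hz.1 g, fun q hq => by
      have h := hz.2.1 (g⁻¹ * q * g) (by simpa using ‹Q.Normal›.conj_mem q hq g⁻¹)
      calc q * (g * z * g⁻¹) = g * ((g⁻¹ * q * g) * z) * g⁻¹ := by group
        _ = g * (z * (g⁻¹ * q * g)) * g⁻¹ := by rw [h]
        _ = _ := by group, by rw [conj_pow, hz.2.2]; group⟩⟩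
    have hcent : ∀ q ∈ Q, ∀ z ∈ Z, q * z = z * q := fun q hq z hz => hz.2.1 q hq
    haveI hZc : IsMulCommutative Z := ⟨⟨fun a b => Subtype.ext (hcent a (hZQ a.2) b b.2)⟩⟩
    have hZexp : ∀ z ∈ Z, z ^ 2 = 1 := fun z hz => hz.2.2
    have hZ1 : Z ≠ ⊥ := by
      intro hZb
      haveI : Nontrivial Q := (Subgroup.nontrivial_iff_ne_bot Q).2 hbot
      haveI := hQ.center_nontrivial
      obtain ⟨c, hc⟩ := exists_prime_orderOf_dvd_card' (G := Subgroup.center Q) 2 (by
        obtain ⟨n, hn, hn'⟩ := (IsPGroup.nontrivial_iff_card (hQ.to_subgroup (Subgroup.center Q))).1 inferInstance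
        rw [hn']; exact dvd_pow_self 2 hn.ne')
      have hcZ : ((c : Q) : G) ∈ Z := ⟨(c : Q).2, fun q hq =>
        congrArg Subtype.val (Subgroup.mem_center_iff.1 c.2 ⟨q, hq⟩), by
          rw [← hc, ← Subgroup.orderOf_coe, ← Subgroup.orderOf_coe, pow_orderOf_eq_one]⟩
      rw [hZb, Subgroup.mem_bot] at hcZ
      rw [← Subgroup.orderOf_coe, ← Subgroup.orderOf_coe, hcZ, orderOf_one] at hc
      omega
    -- the quotient
    set π := QuotientGroup.mk' Z with hπ
    set Q' := Q.map π with hQ'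
    haveI : Q'.Normal := ‹Q.Normal›.map π (QuotientGroup.mk'_surjective Z)
    let e' : (G ⧸ Z) ⧸ Q' ≃* Matrix.SpecialLinearGroup (Fin 2) K :=
      (QuotientGroup.quotientQuotientEquivQuotient Z Q hZQ).trans e
    have hmemQ' : ∀ q, π q ∈ Q' → q ∈ Q := by
      intro q hq
      obtain ⟨r, hr, hrq⟩ := hq
      rw [hπ, QuotientGroup.mk'_apply, QuotientGroup.mk'_apply, QuotientGroup.eq] at hrq
      simpa using mul_mem hr (hZQ hrq)
    have hfix : ∀ q ∈ Q', π x * q * (π x)⁻¹ = q → q = 1 := by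
      rintro _ ⟨q, hq, rfl⟩ h
      rw [← map_inv, ← map_mul, ← map_mul, ← mul_inv_eq_one, ← map_inv, ← map_mul, hπ,
        QuotientGroup.mk'_apply, QuotientGroup.eq_one_iff] at h
      obtain ⟨z, hz, hqz⟩ := quotient_fix (Q := Q) (fun z hz => hfpf z (hZQ hz)) hcent hZQ hq h
      have := hfpf _ (mul_mem hq (hZQ hz)) hqz
      rw [eq_inv_of_mul_eq_one_left this, hπ, QuotientGroup.mk'_apply, QuotientGroup.eq_one_iff]
      exact inv_mem hz
    have hlt : Nat.card Q' ≤ N := by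
      have hmul : Nat.card Q' * Nat.card Z = Nat.card Q := by
        have h := (Z.subgroupOf Q).card_mul_index
        rw [Nat.card_congr (Subgroup.subgroupOfEquivOfLe hZQ).toEquiv] at h
        rw [← h, mul_comm]
        congr 1
        have h1 : (π.comp Q.subtype).ker = Z.subgroupOf Q := by
          ext y; simp [hπ, Subgroup.mem_subgroupOf, MonoidHom.mem_ker]
        have h2 : (π.comp Q.subtype).range = Q' := by rw [MonoidHom.range_comp, Subgroup.range_subtype]
        rw [← h1, Subgroup.index_ker, h2]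
      have h2 : 1 < Nat.card Z := Finite.one_lt_card_iff_nontrivial.2 ((Subgroup.nontrivial_iff_ne_bot Z).2 hZ1)
      have h3 : 0 < Nat.card Q' := Nat.card_pos
      nlinarith
    have hx' : orderOf (π x) = 3 := by
      refine orderOf_eq_prime (by rw [← map_pow, ← hx, pow_orderOf_eq_one, map_one]) fun h => ?_
      rw [hπ, QuotientGroup.mk'_apply, QuotientGroup.eq_one_iff] at h
      exact x_notMem hx hfpf hQ (hZQ h)
    obtain ⟨hab', hexp'⟩ := ih Q' hlt (hQ.map π) e' (π x) hx' hfix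
    haveI := hab'
    have hQA' : ∀ q ∈ Q', ∀ a ∈ Q', q * a = a * q := fun q hq a ha =>
      congrArg Subtype.val (mul_comm' (⟨q, hq⟩ : Q') ⟨a, ha⟩)
    have hgoodV := good_rep e' hx' hfix (hQ.map π) Q' hQA' le_rfl hexp'
    have hgoodZ := good_rep e hx hfpf hQ Z hcent hZQ hZexp
    set σ := rep e' Q' hQA' with hσ
    -- compatibility of the projections
    have hproj : ∀ g : G, e' (QuotientGroup.mk (π g)) = e (QuotientGroup.mk g) := fun g => rfl
    have hσc : ∀ (g : G) (v : Additive Q'), ((Additive.toMul (σ (e (QuotientGroup.mk g)) v) : Q') : G ⧸ Z) =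
        π g * (Additive.toMul v : Q') * (π g)⁻¹ := fun g v => by
      rw [← hproj g]; exact rep_coe e' Q' hQA' (π g) v
    -- lifts
    have hlift : ∀ v : Additive Q', ∃ q ∈ Q, π q = ((Additive.toMul v : Q') : G ⧸ Z) :=
      fun v => (Additive.toMul v : Q').2
    choose s hsQ hsπ using hlift
    have hcommZ : ∀ a ∈ Q, ∀ b ∈ Q, a * b * a⁻¹ * b⁻¹ ∈ Z := by
      intro a ha b hb
      rw [← QuotientGroup.eq_one_iff, ← QuotientGroup.mk'_apply, map_mul, map_mul, map_mul, map_inv, map_inv,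
        ← hπ, hQA' _ ⟨a, ha, rfl⟩ _ ⟨b, hb, rfl⟩]
      group
    have hsh : ∀ a ∈ Q, ∀ b ∈ Q, ∀ a' ∈ Q, ∀ b' ∈ Q, π a = π a' → π b = π b' →
        a * b * a⁻¹ * b⁻¹ = a' * b' * a'⁻¹ * b'⁻¹ := by
      intro a ha b hb a' ha' b' hb' hA hB
      rw [hπ, QuotientGroup.mk'_apply, QuotientGroup.mk'_apply, QuotientGroup.eq] at hA hB
      obtain ⟨z, hz, rfl⟩ : ∃ z ∈ Z, a' = a * z := ⟨_, hA, by group⟩
      obtain ⟨w, hw, rfl⟩ : ∃ w ∈ Z, b' = b * w := ⟨_, hB, by group⟩
      symm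
      calc a * z * (b * w) * (a * z)⁻¹ * (b * w)⁻¹ = a * (z * (b * w)) * z⁻¹ * a⁻¹ * (b * w)⁻¹ := by group
        _ = a * ((b * w) * z) * z⁻¹ * a⁻¹ * (b * w)⁻¹ := by rw [hcent _ (mul_mem hb (hZQ hw)) z hz]
        _ = a * b * (w * a⁻¹) * w⁻¹ * b⁻¹ := by group
        _ = a * b * (a⁻¹ * w) * w⁻¹ * b⁻¹ := by rw [hcent _ (inv_mem ha) w hw]
        _ = _ := by group
    have hZcom : ∀ a ∈ Q, ∀ z ∈ Z, a * z * a⁻¹ = z := fun a ha z hz => by rw [hcent a ha z hz]; group
    let c : Additive Q' →+ Additive Q' →+ Additive Z :=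
      AddMonoidHom.mk' (fun v => AddMonoidHom.mk'
        (fun w => Additive.ofMul (⟨s v * s w * (s v)⁻¹ * (s w)⁻¹, hcommZ _ (hsQ v) _ (hsQ w)⟩ : Z))
        (fun w w' => by
          apply Additive.toMul.injective
          apply Subtype.ext
          show s v * s (w + w') * (s v)⁻¹ * (s (w + w'))⁻¹ =
            s v * s w * (s v)⁻¹ * (s w)⁻¹ * (s v * s w' * (s v)⁻¹ * (s w')⁻¹)
          rw [hsh _ (hsQ v) _ (hsQ _) (s v) (hsQ v) (s w * s w') (mul_mem (hsQ w) (hsQ w')) rfl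
            (by rw [map_mul, hsπ, hsπ, hsπ]; rfl)]
          calc s v * (s w * s w') * (s v)⁻¹ * (s w * s w')⁻¹
              = (s v * s w * (s v)⁻¹ * (s w)⁻¹) *
                  (s w * (s v * s w' * (s v)⁻¹ * (s w')⁻¹) * (s w)⁻¹) := by group
            _ = _ := by rw [hZcom _ (hsQ w) _ (hcommZ _ (hsQ v) _ (hsQ w'))]))
        (fun v v' => by
          refine AddMonoidHom.ext fun w => ?_
          apply Additive.toMul.injective
          apply Subtype.ext
          show s (v + v') * s w * (s (v + v'))⁻¹ * (s w)⁻¹ =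
            s v * s w * (s v)⁻¹ * (s w)⁻¹ * (s v' * s w * (s v')⁻¹ * (s w)⁻¹)
          rw [hsh _ (hsQ _) _ (hsQ w) (s v * s v') (mul_mem (hsQ v) (hsQ v')) (s w) (hsQ w)
            (by rw [map_mul, hsπ, hsπ, hsπ]; rfl) rfl]
          calc s v * s v' * s w * (s v * s v')⁻¹ * (s w)⁻¹
              = (s v * (s v' * s w * (s v')⁻¹ * (s w)⁻¹) * (s v)⁻¹) *
                  (s v * s w * (s v)⁻¹ * (s w)⁻¹) := by group
            _ = _ := by
              rw [hZcom _ (hsQ v) _ (hcommZ _ (hsQ v') _ (hsQ w))]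
              exact (hcent _ (hZQ (hcommZ _ (hsQ v') _ (hsQ w))) _ (hcommZ _ (hsQ v) _ (hsQ w))))
    have hc_coe : ∀ v w, ((Additive.toMul (c v w) : Z) : G) = s v * s w * (s v)⁻¹ * (s w)⁻¹ :=
      fun v w => rfl
    obtain ⟨a, ha, ha1, hq⟩ := exists_elem (K := K) hcard
    have hc0 : c = 0 := by
      refine form_zero hgoodV hgoodZ ha ha1 c ?_ ?_
      · intro v w
        apply Additive.toMul.injective
        apply Subtype.ext
        rw [hc_coe, hc_coe]
        have h2 := hZexp _ (hcommZ _ (hsQ w) _ (hsQ v))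
        calc s v * s w * (s v)⁻¹ * (s w)⁻¹ = (s w * s v * (s w)⁻¹ * (s v)⁻¹)⁻¹ := by group
          _ = _ := inv_eq_of_mul_eq_one_left (by rw [← pow_two, h2])
      · intro g v w
        obtain ⟨g', hg'⟩ := QuotientGroup.mk_surjective (e.symm g)
        obtain rfl : e (QuotientGroup.mk g') = g := by rw [hg', MulEquiv.apply_symm_apply]
        apply Additive.toMul.injective
        apply Subtype.ext
        rw [rep_coe, hc_coe, hc_coe, hsh _ (hsQ _) _ (hsQ _) (g' * s v * g'⁻¹) (‹Q.Normal›.conj_mem _ (hsQ v) g')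
          (g' * s w * g'⁻¹) (‹Q.Normal›.conj_mem _ (hsQ w) g')
          (by rw [hsπ, hσc, map_mul, map_mul, map_inv, hsπ]) (by rw [hsπ, hσc, map_mul, map_mul, map_inv, hsπ])]
        group
    have hQab : ∀ p ∈ Q, ∀ q ∈ Q, p * q = q * p := by
      intro p hp q hq
      have h := DFunLike.congr_fun (DFunLike.congr_fun hc0 (Additive.ofMul ⟨π p, ⟨p, hp, rfl⟩⟩))
        (Additive.ofMul ⟨π q, ⟨q, hq, rfl⟩⟩)
      have h' := congrArg (fun z : Additive Z => ((Additive.toMul z : Z) : G)) h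
      simp only [hc_coe, AddMonoidHom.zero_apply, toMul_zero, Subgroup.coe_one] at h'
      rw [hsh _ (hsQ _) _ (hsQ _) p hp q hq (by rw [hsπ]; rfl) (by rw [hsπ]; rfl)] at h'
      calc p * q = (p * q * p⁻¹ * q⁻¹) * (q * p) := by group
        _ = _ := by rw [h', one_mul]
    haveI hQc : IsMulCommutative Q := ⟨⟨fun p q => Subtype.ext (hQab p p.2 q q.2)⟩⟩
    refine ⟨hQc, ?_⟩
    -- the squaring map
    set ρ := rep e Q hQab with hρ
    let pr : Additive Q →+ Additive Q' := MonoidHom.toAdditive (π.subgroupMap Q)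
    have hpr : ∀ m, ((Additive.toMul (pr m) : Q') : G ⧸ Z) = π (Additive.toMul m : Q) := fun m => rfl
    have hprs : Function.Surjective pr := π.subgroupMap_surjective Q
    have hsq2 : ∀ v, s v * s v ∈ Z := by
      intro v
      rw [← QuotientGroup.eq_one_iff, ← QuotientGroup.mk'_apply, ← hπ, map_mul, hsπ, ← pow_two]
      exact hexp' _ (Additive.toMul v : Q').2
    have hwell : ∀ p ∈ Q, ∀ q ∈ Q, π p = π q → p * p = q * q := by
      intro p hp q hq h
      rw [hπ, QuotientGroup.mk'_apply, QuotientGroup.mk'_apply, QuotientGroup.eq] at h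
      obtain ⟨z, hz, rfl⟩ : ∃ z ∈ Z, q = p * z := ⟨_, h, by group⟩
      have h2 := hZexp z hz
      rw [pow_two] at h2
      calc p * p = p * p * (z * z) := by rw [h2, mul_one]
        _ = p * (p * z) * z := by group
        _ = p * (z * p) * z := by rw [hcent p hp z hz]
        _ = _ := by group
    let φ : Additive Q' →+ Additive Q := AddMonoidHom.mk'
      (fun v => Additive.ofMul (⟨s v * s v, mul_mem (hsQ v) (hsQ v)⟩ : Q))
      (fun v w => by
        apply Additive.toMul.injective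
        apply Subtype.ext
        show s (v + w) * s (v + w) = s v * s v * (s w * s w)
        rw [hwell _ (hsQ _) (s v * s w) (mul_mem (hsQ v) (hsQ w)) (by rw [map_mul, hsπ, hsπ, hsπ]; rfl)]
        calc s v * s w * (s v * s w) = s v * (s w * s v) * s w := by group
          _ = s v * (s v * s w) * s w := by rw [hQab _ (hsQ w) _ (hsQ v)]
          _ = _ := by group)
    have hφc : ∀ v, ((Additive.toMul (φ v) : Q) : G) = s v * s v := fun v => rfl
    have key := square_zero (ρ := ρ) hgoodV ha ha1 hq pr hprs ?_ φ ?_ ?_ ?_ ?_ ?_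
    · intro q hq
      have h := key (pr (Additive.ofMul ⟨q, hq⟩))
      have h' := congrArg (fun v : Additive Q' => ((Additive.toMul v : Q') : G ⧸ Z)) h
      simp only [hpr, toMul_ofMul, toMul_zero, Subgroup.coe_one] at h'
      rw [hπ, QuotientGroup.mk'_apply, QuotientGroup.eq_one_iff] at h'
      exact hZexp q h'
    · intro g m
      obtain ⟨g', hg'⟩ := QuotientGroup.mk_surjective (e.symm g)
      obtain rfl : e (QuotientGroup.mk g') = g := by rw [hg', MulEquiv.apply_symm_apply]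
      apply Additive.toMul.injective
      apply Subtype.ext
      rw [hpr, hσc, hpr, hρ, rep_coe, map_mul, map_mul, map_inv]
    · rw [injective_iff_map_eq_zero]
      intro v hv
      have h := congrArg (fun m : Additive Q => ((Additive.toMul m : Q) : G)) hv
      simp only [hφc, toMul_zero, Subgroup.coe_one] at h
      have hz : s v ∈ Z := ⟨hsQ v, fun q hq => hQab q hq _ (hsQ v), by rw [pow_two]; exact h⟩
      apply Additive.toMul.injective
      apply Subtype.ext
      rw [← hsπ, hπ, QuotientGroup.mk'_apply]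
      simpa [QuotientGroup.eq_one_iff] using hz
    · intro g v
      obtain ⟨g', hg'⟩ := QuotientGroup.mk_surjective (e.symm g)
      obtain rfl : e (QuotientGroup.mk g') = g := by rw [hg', MulEquiv.apply_symm_apply]
      apply Additive.toMul.injective
      apply Subtype.ext
      rw [hρ, rep_coe, hφc, hφc, hwell _ (hsQ _) (g' * s v * g'⁻¹) (‹Q.Normal›.conj_mem _ (hsQ v) g')
        (by rw [hsπ, hσc, map_mul, map_mul, map_inv, hsπ])]
      group
    · intro m
      apply Additive.toMul.injective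
      apply Subtype.ext
      rw [hφc]
      exact hwell _ (hsQ _) _ (Additive.toMul m : Q).2 (by rw [hsπ, hpr])
    · intro v
      apply Additive.toMul.injective
      apply Subtype.ext
      show s v * s v * (s v * s v) = 1
      rw [← pow_two (s v * s v)]
      exact hZexp _ (hsq2 v)
    · intro z _ g hg hg1
      exact rep_three e hx hfpf hQ Q hQab le_rfl g hg hg1 z

/-- Higman's theorem. -/
theorem higman {G : Type*} [Group G] [Finite G] (hcard : 4 ≤ Fintype.card K) (Q : Subgroup G) [Q.Normal]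
    (hQ : IsPGroup 2 Q) (e : G ⧸ Q ≃* Matrix.SpecialLinearGroup (Fin 2) K) (x : G) (hx : orderOf x = 3)
    (hfpf : ∀ q ∈ Q, x * q * x⁻¹ = q → q = 1) :
    (IsMulCommutative Q ∧ ∀ q ∈ Q, q ^ 2 = 1) ∧
      ∃ (k : ℕ) (V : Fin k → Subgroup G), (∀ i, V i ≤ Q ∧ (V i).Normal ∧
        Cfsg.ActsAsSL2OnSection K ⊤ ⊤ (V i) ⊥) ∧ iSupIndep V ∧ ⨆ i, V i = Q := by
  classical
  obtain ⟨hab, hexp⟩ := elementary_aux hcard (Nat.card Q) Q le_rfl hQ e x hx hfpf
  refine ⟨⟨hab, hexp⟩, ?_⟩
  haveI := hab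
  have hQab : ∀ p ∈ Q, ∀ q ∈ Q, p * q = q * p := fun p hp q hq =>
    congrArg Subtype.val (mul_comm' (⟨p, hp⟩ : Q) ⟨q, hq⟩)
  obtain ⟨k, Θ, hΘ⟩ := decomp (good_rep e hx hfpf hQ Q hQab le_rfl hexp)
  let emb : Fin k → (Fin 2 → K) → Additive Q := fun i w => Θ (Pi.single i w)
  let P : Fin k → Multiplicative (Fin 2 → K) →* G := fun i =>
    MonoidHom.mk' (fun w => ((Additive.toMul (emb i (Multiplicative.toAdd w)) : Q) : G)) fun v w => by
      show ((Additive.toMul (Θ (Pi.single i (Multiplicative.toAdd v + Multiplicative.toAdd w))) : Q) : G) = _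
      rw [Pi.single_add, map_add, toMul_add, Subgroup.coe_mul]
  let V : Fin k → Subgroup G := fun i => (P i).range
  have hPconj : ∀ (g : G) i (w : Fin 2 → K), g * P i (Multiplicative.ofAdd w) * g⁻¹ =
      P i (Multiplicative.ofAdd ((e (QuotientGroup.mk g) : Matrix (Fin 2) (Fin 2) K) *ᵥ w)) := by
    intro g i w
    have h := hΘ (e (QuotientGroup.mk g)) (Pi.single i w)
    have h' := congrArg (fun m : Additive Q => ((Additive.toMul m : Q) : G)) h
    simp only [rep_coe] at h'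
    show g * ((Additive.toMul (Θ (Pi.single i w)) : Q) : G) * g⁻¹ =
      ((Additive.toMul (Θ (Pi.single i ((e (QuotientGroup.mk g) : Matrix (Fin 2) (Fin 2) K) *ᵥ w))) : Q) : G)
    rw [h']
    congr 4
    funext j
    by_cases hj : j = i
    · subst hj; simp
    · simp [Pi.single_eq_of_ne hj]
  have hVQ : ∀ i, V i ≤ Q := by
    rintro i _ ⟨w, rfl⟩
    exact (Additive.toMul (emb i (Multiplicative.toAdd w)) : Q).2
  have hPinj : ∀ i, Function.Injective (P i) := by
    intro i a b h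
    have h' : Θ (Pi.single i (Multiplicative.toAdd a)) = Θ (Pi.single i (Multiplicative.toAdd b)) :=
      Additive.toMul.injective (Subtype.ext h)
    exact Multiplicative.toAdd.injective (Pi.single_injective i (Θ.injective h'))
  have hVn : ∀ i, (V i).Normal := fun i => ⟨by
    rintro _ ⟨w, rfl⟩ g
    exact ⟨_, (hPconj g i (Multiplicative.toAdd w)).symm⟩⟩
  refine ⟨k, V, fun i => ⟨hVQ i, hVn i, ?_⟩, ?_, ?_⟩
  · refine ⟨fun g _ => by rw [Subgroup.normalizer_eq_top]; exact Subgroup.mem_top g, bot_le, ?_⟩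
    let ρ' : (⊤ : Subgroup G) →* Matrix.SpecialLinearGroup (Fin 2) K :=
      e.toMonoidHom.comp ((QuotientGroup.mk' Q).comp (⊤ : Subgroup G).subtype)
    let E := MonoidHom.ofInjective (hPinj i)
    refine ⟨ρ', E.symm.toMonoidHom, ?_, E.symm.surjective, ?_, ?_⟩
    · rw [MonoidHom.range_eq_top]
      intro t
      obtain ⟨g, hg⟩ := QuotientGroup.mk_surjective (e.symm t)
      exact ⟨⟨g, Subgroup.mem_top g⟩, by show e (QuotientGroup.mk g) = t; rw [hg, MulEquiv.apply_symm_apply]⟩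
    · intro v
      rw [MulEquiv.toMonoidHom_eq_coe, MonoidHom.coe_coe, MulEquiv.map_eq_one_iff, Subgroup.mem_bot]
      exact ⟨fun h => congrArg Subtype.val h, fun h => Subtype.ext h⟩
    · intro g v
      obtain ⟨w, rfl⟩ := E.surjective v
      refine ⟨E (Multiplicative.ofAdd
        ((e (QuotientGroup.mk (g : G)) : Matrix (Fin 2) (Fin 2) K) *ᵥ Multiplicative.toAdd w)), ?_, ?_⟩
      · exact (hPconj (g : G) i (Multiplicative.toAdd w)).symm
      · simp [ρ']
  · intro i
    rw [disjoint_iff_inf_le]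
    rintro y ⟨⟨w, rfl⟩, hy⟩
    let U : Subgroup G :=
      { carrier := {q | ∃ h : q ∈ Q, Θ.symm (Additive.ofMul ⟨q, h⟩) i = 0}
        one_mem' := ⟨one_mem _, by
          rw [show Additive.ofMul (⟨1, one_mem _⟩ : Q) = 0 from rfl, map_zero]; rfl⟩
        mul_mem' := fun {a b} ⟨ha, ha'⟩ ⟨hb, hb'⟩ => ⟨mul_mem ha hb, by
          rw [show Additive.ofMul (⟨a * b, mul_mem ha hb⟩ : Q) = Additive.ofMul ⟨a, ha⟩ + Additive.ofMul ⟨b, hb⟩ from rfl,
            map_add, Pi.add_apply, ha', hb', add_zero]⟩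
        inv_mem' := fun {a} ⟨ha, ha'⟩ => ⟨inv_mem ha, by
          rw [show Additive.ofMul (⟨a⁻¹, inv_mem ha⟩ : Q) = -Additive.ofMul ⟨a, ha⟩ from rfl,
            map_neg, Pi.neg_apply, ha', neg_zero]⟩ }
    have hU : (⨆ (j) (_ : j ≠ i), V j) ≤ U := by
      refine iSup₂_le fun j hj => ?_
      rintro _ ⟨w', rfl⟩
      refine ⟨hVQ j ⟨w', rfl⟩, ?_⟩
      show Θ.symm (Θ (Pi.single j (Multiplicative.toAdd w'))) i = 0
      rw [AddEquiv.symm_apply_apply, Pi.single_eq_of_ne hj.symm]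
    obtain ⟨h, h'⟩ := hU hy
    have h0 : Θ.symm (Θ (Pi.single i (Multiplicative.toAdd w))) i = 0 := h'
    rw [AddEquiv.symm_apply_apply, Pi.single_eq_same] at h0
    rw [Subgroup.mem_bot, show w = 1 from Multiplicative.toAdd.injective h0, map_one]
  · refine le_antisymm (iSup_le hVQ) fun q hq => ?_
    have h : ∑ i, Θ (Pi.single i (Θ.symm (Additive.ofMul ⟨q, hq⟩) i)) = Additive.ofMul (⟨q, hq⟩ : Q) := by
      rw [← map_sum, Finset.univ_sum_single, AddEquiv.apply_symm_apply]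
    have hmem : ∀ s : Finset (Fin k), ((Additive.toMul
        (∑ i ∈ s, Θ (Pi.single i (Θ.symm (Additive.ofMul ⟨q, hq⟩) i))) : Q) : G) ∈ ⨆ i, V i := by
      intro s
      induction s using Finset.induction_on with
      | empty => simp
      | insert i s hi ih =>
        rw [Finset.sum_insert hi, toMul_add, Subgroup.coe_mul]
        exact mul_mem (Subgroup.mem_iSup_of_mem i
          ⟨Multiplicative.ofAdd (Θ.symm (Additive.ofMul ⟨q, hq⟩) i), rfl⟩) ih
    have := hmem Finset.univ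
    rw [h] at this
    exact this

end CfsgLib.Inv.SL2Fpf
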