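import Cfsg.Agent.Inv.SL2Fpf

/-!
Irreducible modules for `SL₂` over a finite field of characteristic `p` in which the unipotent group acts
quadratically or has a large fixed space: they are natural.
-/

set_option autoImplicit false
set_option linter.unusedSectionVars false

namespace CfsgLib.Inv.SL2Quad

open Matrix
open CfsgLib.Inv.SL2Fpf (u v val_u val_v u_zero u_add ext2 generation)

variable {K : Type*} [Field K] {M : Type*} [AddCommGroup M]

local notation "SL" => Matrix.SpecialLinearGroup (Fin 2) K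

theorem v_add (a b : K) : (v (a + b) : SL) = v a * v b := by
  apply ext2 <;> simp [val_v, Matrix.mul_apply, Fin.sum_univ_two]

theorem v_zero : (v 0 : SL) = 1 := by
  apply ext2 <;> simp [val_v]

/-- The reflection element. -/
def w (a : K) : SL := u a * v (-a⁻¹) * u a

theorem w_u {a : K} (ha : a ≠ 0) (c : K) : (w a : SL) * u c = v (-(c / (a * a))) * w a := by
  apply ext2 <;> simp [w, val_u, val_v, Matrix.mul_apply, Fin.sum_univ_two, ha] <;> field_simp <;> ring

theorem w_v {a : K} (ha : a ≠ 0) (c : K) : (w a : SL) * v c = u (-(c * (a * a))) * w a := by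
  apply ext2 <;> simp [w, val_u, val_v, Matrix.mul_apply, Fin.sum_univ_two, ha] <;> field_simp <;> ring

variable (ρ : Matrix.SpecialLinearGroup (Fin 2) K →* AddMonoid.End M)

/-- Fixed points of the upper unipotent group. -/
def top : AddSubgroup M where
  carrier := {m | ∀ a, ρ (u a) m = m}
  add_mem' := fun {x y} hx hy a => by rw [map_add, hx a, hy a]
  zero_mem' := fun a => map_zero _
  neg_mem' := fun {x} hx a => by rw [map_neg, hx a]

/-- Fixed points of the lower unipotent group. -/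
def bot : AddSubgroup M where
  carrier := {m | ∀ a, ρ (v a) m = m}
  add_mem' := fun {x y} hx hy a => by rw [map_add, hx a, hy a]
  zero_mem' := fun a => map_zero _
  neg_mem' := fun {x} hx a => by rw [map_neg, hx a]

variable {ρ}

theorem app_mul (g h : SL) (m : M) : ρ (g * h) m = ρ g (ρ h m) :=
  DFunLike.congr_fun (map_mul ρ g h) m

theorem app_one (m : M) : ρ 1 m = m := DFunLike.congr_fun (map_one ρ) m

theorem app_inv (g : SL) (m : M) : ρ g⁻¹ (ρ g m) = m := by rw [← app_mul, inv_mul_cancel, app_one]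

theorem app_inv' (g : SL) (m : M) : ρ g (ρ g⁻¹ m) = m := by rw [← app_mul, mul_inv_cancel, app_one]

theorem w_top {a : K} (ha : a ≠ 0) {x : M} (hx : x ∈ top ρ) : ρ (w a) x ∈ bot ρ := by
  intro c
  have h := w_u ha (-(c * (a * a)))
  rw [show -(-(c * (a * a)) / (a * a)) = c by field_simp] at h
  rw [← app_mul, ← h, app_mul, hx]

theorem w_bot {a : K} (ha : a ≠ 0) {y : M} (hy : y ∈ bot ρ) : ρ (w a) y ∈ top ρ := by
  intro c
  have h := w_v ha (-(c / (a * a)))
  rw [show -(-(c / (a * a)) * (a * a)) = c by field_simp] at h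
  rw [← app_mul, ← h, app_mul, hy]

/-- A splitting into fixed spaces on which the unipotent groups act quadratically. -/
structure Quad (ρ : Matrix.SpecialLinearGroup (Fin 2) K →* AddMonoid.End M) : Prop where
  split : ∀ m : M, ∃ x ∈ top ρ, ∃ y ∈ bot ρ, m = x + y
  disj : ∀ m : M, m ∈ top ρ → m ∈ bot ρ → m = 0
  quadU : ∀ a : K, ∀ y ∈ bot ρ, ρ (u a) y - y ∈ top ρ
  quadV : ∀ a : K, ∀ x ∈ top ρ, ρ (v a) x - x ∈ bot ρ

/-- The scalar operators on the top space. -/
def β (ρ : Matrix.SpecialLinearGroup (Fin 2) K →* AddMonoid.End M) (a : K) (x : M) : M :=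
  ρ (u a) (ρ (v 1) x - x) - (ρ (v 1) x - x)

section Basic

variable (h : Quad ρ)
include h

theorem uniq {x x' y y' : M} (hx : x ∈ top ρ) (hx' : x' ∈ top ρ) (hy : y ∈ bot ρ) (hy' : y' ∈ bot ρ)
    (e : x + y = x' + y') : x = x' ∧ y = y' := by
  have h1 : x - x' = y' - y := by rw [sub_eq_sub_iff_add_eq_add, e]; abel
  have h0 := h.disj (x - x') (sub_mem hx hx') (h1 ▸ sub_mem hy' hy)
  refine ⟨sub_eq_zero.1 h0, ?_⟩
  rw [sub_eq_zero.1 h0] at e
  exact add_left_cancel e

theorem beta_mem (a : K) {x : M} (hx : x ∈ top ρ) : β ρ a x ∈ top ρ := h.quadU a _ (h.quadV 1 x hx)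

theorem v_split (c : K) {x : M} (hx : x ∈ top ρ) :
    ∃ y ∈ bot ρ, ρ (v c) x = x + y := ⟨_, h.quadV c x hx, by abel⟩

theorem u_split (c : K) {y : M} (hy : y ∈ bot ρ) :
    ∃ x ∈ top ρ, ρ (u c) y = x + y := ⟨_, h.quadU c y hy, by abel⟩

theorem w_on_top {a : K} (ha : a ≠ 0) {x : M} (hx : x ∈ top ρ) :
    ρ (w a) x = ρ (v (-a⁻¹)) x - x ∧ ρ (u a) (ρ (v (-a⁻¹)) x - x) - (ρ (v (-a⁻¹)) x - x) = -x := by
  obtain ⟨y, hy, he⟩ := v_split h (-a⁻¹) hx
  obtain ⟨z, hz, hz'⟩ := u_split h a hy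
  have hw : ρ (w a) x = (x + z) + y := by
    rw [w, app_mul, app_mul, hx a, he, map_add, hx a, hz', add_assoc]
  have := uniq h (zero_mem _) (add_mem hx hz) (w_top ha hx) hy (by rw [zero_add, hw])
  refine ⟨by rw [he, this.2]; abel, ?_⟩
  rw [show ρ (v (-a⁻¹)) x - x = y by rw [he]; abel, hz', add_sub_cancel_right]
  exact eq_neg_of_add_eq_zero_right this.1.symm

theorem w_on_bot {a : K} (ha : a ≠ 0) {y : M} (hy : y ∈ bot ρ) : ρ (w a) y = ρ (u a) y - y := by
  obtain ⟨z, hz, hz'⟩ := u_split h a hy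
  obtain ⟨y', hy', he⟩ := v_split h (-a⁻¹) hz
  obtain ⟨z', hz'', he'⟩ := u_split h a (add_mem hy' hy)
  have hw : ρ (w a) y = (z + z') + (y' + y) := by
    rw [w, app_mul, app_mul, hz', map_add, hy (-a⁻¹), he, add_assoc z y' y, map_add, hz a, he', add_assoc]
  have := uniq h (w_bot ha hy) (add_mem hz hz'') (zero_mem _) (add_mem hy' hy)
    (by rw [add_zero, hw])
  rw [← this.2, map_zero] at he'
  rw [add_zero] at he'
  rw [this.1, ← he', add_zero, hz', add_sub_cancel_right]

theorem v_neg (c : K) {x : M} (hx : x ∈ top ρ) : ρ (v (-c)) x - x = -(ρ (v c) x - x) := by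
  obtain ⟨y, hy, he⟩ := v_split h c hx
  have h1 : ρ (v (-c)) (ρ (v c) x) = x := by rw [← app_mul, ← v_add, neg_add_cancel, v_zero, app_one]
  rw [he, map_add, hy (-c)] at h1
  rw [he]
  calc ρ (v (-c)) x - x = (ρ (v (-c)) x + y) - y - x := by abel
    _ = -(x + y - x) := by rw [h1]; abel

/-- `S_c = S_1 β_c` on the top space. -/
theorem v_eq (c : K) {x : M} (hx : x ∈ top ρ) :
    ρ (v c) x - x = ρ (v 1) (β ρ c x) - β ρ c x := by
  set y := ρ (v 1) x - x with hy'
  have hy : y ∈ bot ρ := h.quadV 1 x hx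
  have hwy : ρ (w (1 : K)) y = x := by
    rw [w_on_bot h one_ne_zero hy]
    have := (w_on_top h one_ne_zero hx).2
    rw [inv_one, v_neg h 1 hx, map_neg, ← hy'] at this
    rw [← neg_inj, ← this]; abel
  have e := congrArg (fun g : SL => ρ g y) (w_u (one_ne_zero (α := K)) c)
  simp only [app_mul, hwy, mul_one, div_one] at e
  have e1 : ρ (u c) y = β ρ c x + y := by rw [β, ← hy']; abel
  rw [e1, map_add, hwy, (w_on_top h one_ne_zero (beta_mem h c hx)).1, inv_one,
    v_neg h 1 (beta_mem h c hx)] at e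
  have e2 := v_neg h c hx
  rw [show ρ (v (-c)) x = -(ρ (v 1) (β ρ c x) - β ρ c x) + x from e.symm, add_sub_cancel_right] at e2
  exact (neg_inj.1 e2).symm

theorem beta_one {x : M} (hx : x ∈ top ρ) : β ρ 1 x = x := by
  have := (w_on_top h (one_ne_zero (α := K)) hx).2
  rw [inv_one, v_neg h 1 hx, map_neg] at this
  rw [β, ← neg_inj, ← this]; abel

theorem beta_add (a b : K) {x : M} (hx : x ∈ top ρ) : β ρ (a + b) x = β ρ a x + β ρ b x := by
  set y := ρ (v 1) x - x with hy'
  have hy : y ∈ bot ρ := h.quadV 1 x hx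
  obtain ⟨z, hz, hz'⟩ := u_split h b hy
  rw [β, β, β, ← hy', u_add, app_mul, hz', map_add, hz a]
  abel

theorem beta_zero (x : M) : β ρ 0 x = 0 := by rw [β, u_zero, app_one, sub_self]

theorem S_inj {x x' : M} (hx : x ∈ top ρ) (hx' : x' ∈ top ρ)
    (e : ρ (v 1) x - x = ρ (v 1) x' - x') : x = x' := by
  rw [← beta_one h hx, ← beta_one h hx', β, β, e]

theorem beta_rel {a : K} (ha : a ≠ 0) {x : M} (hx : x ∈ top ρ) : β ρ a (β ρ a⁻¹ x) = x := by
  have := (w_on_top h ha hx).2
  rw [v_neg h a⁻¹ hx, v_eq h a⁻¹ hx, map_neg] at this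
  conv_lhs => rw [β]
  rw [← neg_inj, ← this]; abel

theorem beta_twist {a : K} (ha : a ≠ 0) (c : K) {x : M} (hx : x ∈ top ρ) :
    β ρ a⁻¹ (β ρ c x) = β ρ (c / (a * a)) (β ρ a x) := by
  set y := ρ (v 1) x - x with hy'
  have hy : y ∈ bot ρ := h.quadV 1 x hx
  have e := congrArg (fun g : SL => ρ g y) (w_u ha c)
  have e1 : ρ (u c) y = β ρ c x + y := by rw [β, ← hy']; abel
  have hwy : ρ (w a) y = β ρ a x := by rw [w_on_bot h ha hy, β, ← hy']
  simp only [app_mul, hwy, e1, map_add] at e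
  have hb := beta_mem h a hx
  rw [(w_on_top h ha (beta_mem h c hx)).1, v_neg h _ (beta_mem h c hx), v_eq h _ (beta_mem h c hx)] at e
  have e2 := v_neg h (c / (a * a)) hb
  rw [← e, v_eq h _ hb, add_sub_cancel_right, neg_inj] at e2
  exact S_inj h (beta_mem h _ (beta_mem h c hx)) (beta_mem h _ hb) e2

theorem beta_sq {a : K} (c : K) {x : M} (hx : x ∈ top ρ) :
    β ρ (c * (a * a)) x = β ρ a (β ρ c (β ρ a x)) := by
  by_cases ha : a = 0
  · subst ha; simp [beta_zero h]
  have h1 := beta_twist h ha (c * (a * a)) hx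
  rw [show c * (a * a) / (a * a) = c by field_simp] at h1
  rw [← h1, beta_rel h ha (beta_mem h _ hx)]

theorem beta_pow (g : K) : ∀ k : ℕ, ∀ x ∈ top ρ, β ρ (g ^ k) x = (β ρ g)^[k] x
  | 0, x, hx => by rw [pow_zero, beta_one h hx]; rfl
  | 1, x, hx => by rw [pow_one]; rfl
  | k + 2, x, hx => by
    rw [show g ^ (k + 2) = g ^ k * (g * g) by ring, beta_sq h _ hx, beta_pow g k _ (beta_mem h g hx)]
    rw [← Function.iterate_succ_apply, ← Function.iterate_succ_apply' (β ρ g)]

theorem beta_mul [Finite K] (a b : K) {x : M} (hx : x ∈ top ρ) : β ρ (a * b) x = β ρ a (β ρ b x) := by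
  by_cases ha : a = 0
  · subst ha; simp [beta_zero h]
  by_cases hb : b = 0
  · subst hb
    rw [mul_zero, beta_zero h, β, map_zero, sub_self, map_zero, sub_self]
  obtain ⟨g, hg⟩ := IsCyclic.exists_monoid_generator (α := Kˣ)
  obtain ⟨i, hi⟩ := hg (Units.mk0 a ha)
  obtain ⟨j, hj⟩ := hg (Units.mk0 b hb)
  simp only at hi hj
  have hi' : a = (g : K) ^ i := by rw [← Units.val_pow_eq_pow_val, hi]; rfl
  have hj' : b = (g : K) ^ j := by rw [← Units.val_pow_eq_pow_val, hj]; rfl
  rw [hi', hj', ← pow_add, beta_pow h _ _ _ hx, beta_pow h _ _ _ (beta_mem h _ hx), beta_pow h _ _ _ hx,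
    Function.iterate_add_apply]

theorem beta_vec (a : K) {x x' : M} : β ρ a (x + x') = β ρ a x + β ρ a x' := by
  simp only [β, map_add, map_sub]; abel

/-- The natural coordinates of a vector of the top space. -/
def coord (ρ : Matrix.SpecialLinearGroup (Fin 2) K →* AddMonoid.End M) (x : M) (f : Fin 2 → K) : M :=
  β ρ (f 0) x + (ρ (v 1) (β ρ (f 1) x) - β ρ (f 1) x)

theorem coord_act [Finite K] (g : SL) {x : M} (hx : x ∈ top ρ) (f : Fin 2 → K) :
    ρ g (coord ρ x f) = coord ρ x ((g : Matrix (Fin 2) (Fin 2) K) *ᵥ f) := by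
  revert f
  refine generation (P := fun g => ∀ f, ρ g (coord ρ x f) = coord ρ x ((g : Matrix (Fin 2) (Fin 2) K) *ᵥ f))
    ?_ ?_ ?_ g
  · intro f; simp [app_one]
  · intro a g hg f
    rw [app_mul, hg f, Matrix.SpecialLinearGroup.coe_mul, ← Matrix.mulVec_mulVec]
    set f' := (g : Matrix (Fin 2) (Fin 2) K) *ᵥ f
    set y := ρ (v 1) (β ρ (f' 1) x) - β ρ (f' 1) x with hy
    have e : ρ (u a) y = β ρ a (β ρ (f' 1) x) + y := by rw [β.eq_def ρ a, ← hy]; abel
    have e0 : ((u a : SL) : Matrix (Fin 2) (Fin 2) K) *ᵥ f' = ![f' 0 + a * f' 1, f' 1] := by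
      funext i; fin_cases i <;> simp [val_u, Matrix.mulVec, dotProduct, Fin.sum_univ_two]
    rw [coord, ← hy, map_add, beta_mem h _ hx a, e, e0, coord, Matrix.cons_val_zero, Matrix.cons_val_one,
      Matrix.cons_val_fin_one, ← hy, beta_add h _ _ hx, beta_mul h _ _ hx, add_assoc]
  · intro a g hg f
    rw [app_mul, hg f, Matrix.SpecialLinearGroup.coe_mul, ← Matrix.mulVec_mulVec]
    set f' := (g : Matrix (Fin 2) (Fin 2) K) *ᵥ f
    have e0 : ((v a : SL) : Matrix (Fin 2) (Fin 2) K) *ᵥ f' = ![f' 0, a * f' 0 + f' 1] := by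
      funext i; fin_cases i <;> simp [val_v, Matrix.mulVec, dotProduct, Fin.sum_univ_two]
    rw [coord, map_add, h.quadV 1 _ (beta_mem h _ hx) a, e0, coord, Matrix.cons_val_zero,
      Matrix.cons_val_one, Matrix.cons_val_fin_one, beta_add h _ _ hx, beta_mul h _ _ hx, map_add]
    have e := v_eq h a (beta_mem h (f' 0) hx)
    calc ρ (v a) (β ρ (f' 0) x) + (ρ (v 1) (β ρ (f' 1) x) - β ρ (f' 1) x)
        = β ρ (f' 0) x + ((ρ (v a) (β ρ (f' 0) x) - β ρ (f' 0) x) +
            (ρ (v 1) (β ρ (f' 1) x) - β ρ (f' 1) x)) := by abel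
      _ = _ := by rw [e]; abel

/-- Irreducible quadratic modules are natural. -/
theorem natural [Finite K] [Nontrivial M]
    (hirr : ∀ N : AddSubgroup M, (∀ g, ∀ m ∈ N, ρ g m ∈ N) → N = ⊥ ∨ N = ⊤) :
    ∃ Θ : (Fin 2 → K) ≃+ M, ∀ (g : SL) f, ρ g (Θ f) = Θ ((g : Matrix (Fin 2) (Fin 2) K) *ᵥ f) := by
  obtain ⟨x, hx, hx0⟩ : ∃ x ∈ top ρ, x ≠ 0 := by
    by_contra hcon
    push Not at hcon
    obtain ⟨m, hm⟩ := exists_ne (0 : M)
    obtain ⟨x, hx, y, hy, rfl⟩ := h.split m
    have hy0 : ρ (w (1 : K)) y = 0 := hcon _ (w_bot one_ne_zero hy)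
    have : y = 0 := by rw [← app_inv (ρ := ρ) (w (1 : K)) y, hy0, map_zero]
    exact hm (by rw [hcon x hx, this, add_zero])
  let θ : (Fin 2 → K) →+ M := AddMonoidHom.mk' (coord ρ x) fun f f' => by
    simp only [coord, Pi.add_apply, beta_add h _ _ hx, map_add]; abel
  have hinv : ∀ a : K, a ≠ 0 → ∀ z ∈ top ρ, β ρ a z = 0 → z = 0 := by
    intro a ha z hz h0
    rw [← beta_one h hz, ← inv_mul_cancel₀ ha, beta_mul h _ _ hz, h0, β, map_zero, sub_self, map_zero, sub_self]
  have hinj : Function.Injective θ := by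
    rw [injective_iff_map_eq_zero]
    intro f hf
    have hb := beta_mem h (f 1) hx
    obtain ⟨h0, h1⟩ := uniq h (beta_mem h (f 0) hx) (zero_mem _) (h.quadV 1 _ hb) (zero_mem _)
      (by rw [add_zero]; exact hf)
    have h1' : β ρ (f 1) x = 0 := S_inj h hb (zero_mem _) (by rw [h1, map_zero, sub_self])
    funext i
    fin_cases i
    · by_contra hne; exact hx0 (hinv _ hne x hx h0)
    · by_contra hne; exact hx0 (hinv _ hne x hx h1')
  have hsurj : Function.Surjective θ := by
    rcases hirr θ.range (fun g m hm => by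
      obtain ⟨f, rfl⟩ := hm
      exact ⟨_, (coord_act h g hx f).symm⟩) with h0 | h0
    · exfalso
      have hx' : x ∈ θ.range := ⟨![1, 0], by
        show coord ρ x ![1, 0] = x
        rw [coord, Matrix.cons_val_zero, Matrix.cons_val_one, Matrix.cons_val_fin_one, beta_one h hx, beta_zero h, map_zero, sub_self,
          add_zero]⟩
      rw [h0] at hx'
      exact hx0 hx'
    · exact AddMonoidHom.range_eq_top.1 h0
  exact ⟨AddEquiv.ofBijective θ ⟨hinj, hsurj⟩, fun g f => coord_act h g hx f⟩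

end Basic

section Criteria

variable [Finite K] (hirr : ∀ N : AddSubgroup M, (∀ g, ∀ m ∈ N, ρ g m ∈ N) → N = ⊥ ∨ N = ⊤)
  (hnt : ∃ g m, ρ g m ≠ m)
include hirr hnt

theorem disjoint_fixed (m : M) (h1 : m ∈ top ρ) (h2 : m ∈ bot ρ) : m = 0 := by
  rcases hirr (top ρ ⊓ bot ρ) (fun g m hm => by
    have : ρ g m = m := generation (P := fun g => ρ g m = m) (app_one m)
      (fun a g hg => by rw [app_mul, hg, hm.1 a]) (fun a g hg => by rw [app_mul, hg, hm.2 a]) g
    rwa [this]) with h | h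
  · have : m ∈ top ρ ⊓ bot ρ := ⟨h1, h2⟩
    rwa [h] at this
  · exfalso
    obtain ⟨g, m', hm'⟩ := hnt
    have hm : m' ∈ top ρ ⊓ bot ρ := h ▸ AddSubgroup.mem_top m'
    exact hm' (generation (P := fun g => ρ g m' = m') (app_one m')
      (fun a g hg => by rw [app_mul, hg, hm.1 a]) (fun a g hg => by rw [app_mul, hg, hm.2 a]) g)

/-- Quadratic action of the upper group. -/
theorem quad_of_quadratic (hq : ∀ a b m, ρ (u a) (ρ (u b) m - m) = ρ (u b) m - m) : Quad ρ := by
  have hqv : ∀ a b m, ρ (v a) (ρ (v b) m - m) = ρ (v b) m - m := by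
    intro a b m
    have key : ∀ c m, ρ (v c) (ρ (w (1 : K)) m) = ρ (w (1 : K)) (ρ (u (-c)) m) := fun c m => by
      rw [← app_mul, ← app_mul, w_u one_ne_zero]
      simp
    have h := congrArg (ρ (w (1 : K))) (hq (-a) (-b) (ρ (w (1 : K))⁻¹ m))
    rw [← key, map_sub, ← key, app_inv'] at h
    exact h
  refine ⟨?_, disjoint_fixed hirr hnt, fun a y _ b => hq b a y, fun a x _ b => hqv b a x⟩
  intro m
  rcases hirr (top ρ ⊔ bot ρ) (fun g m hm => by
    refine generation (P := fun g => ρ g m ∈ top ρ ⊔ bot ρ) (by rwa [app_one]) ?_ ?_ g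
    · intro a g hg
      rw [app_mul, show ρ (u a) (ρ g m) = (ρ (u a) (ρ g m) - ρ g m) + ρ g m by abel]
      exact add_mem (AddSubgroup.mem_sup_left fun b => hq b a _) hg
    · intro a g hg
      rw [app_mul, show ρ (v a) (ρ g m) = (ρ (v a) (ρ g m) - ρ g m) + ρ g m by abel]
      exact add_mem (AddSubgroup.mem_sup_right fun b => hqv b a _) hg) with h | h
  · exfalso
    obtain ⟨g, m', hm'⟩ := hnt
    rw [eq_bot_iff] at h
    refine hm' (generation (P := fun g => ρ g m' = m') (app_one m') ?_ ?_ g)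
    · intro a g hg
      rw [app_mul, hg, ← sub_eq_zero]
      exact h (AddSubgroup.mem_sup_left fun b => hq b a _)
    · intro a g hg
      rw [app_mul, hg, ← sub_eq_zero]
      exact h (AddSubgroup.mem_sup_right fun b => hqv b a _)
  · obtain ⟨x, hx, y, hy, e⟩ := AddSubgroup.mem_sup.1 (h ▸ AddSubgroup.mem_top m)
    exact ⟨x, hx, y, hy, e.symm⟩

/-- Large fixed space of the upper group. -/
theorem quad_of_card [Finite M] {p : ℕ} [Fact p.Prime] [CharP K p] (hp : ∀ m : M, p • m = 0)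
    (hcard : Nat.card M ≤ Nat.card (top ρ) ^ 2) : Quad ρ := by
  classical
  have hdisj := disjoint_fixed hirr hnt
  have hbc : Nat.card (bot ρ) = Nat.card (top ρ) := by
    refine le_antisymm ?_ ?_
    · exact Nat.card_le_card_of_injective (fun y : bot ρ => (⟨_, w_bot (one_ne_zero (α := K)) y.2⟩ : top ρ))
        fun a b h => Subtype.ext (by
          have h' := congrArg (ρ (w (1 : K))⁻¹) (congrArg Subtype.val h)
          simpa [app_inv] using h')
    · exact Nat.card_le_card_of_injective (fun x : top ρ => (⟨_, w_top (one_ne_zero (α := K)) x.2⟩ : bot ρ))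
        fun a b h => Subtype.ext (by
          have h' := congrArg (ρ (w (1 : K))⁻¹) (congrArg Subtype.val h)
          simpa [app_inv] using h')
  let f : top ρ × bot ρ → M := fun z => (z.1 : M) + z.2
  have hf : Function.Injective f := by
    intro a b h
    have h1 : (a.1 : M) - b.1 = b.2 - a.2 := by rw [sub_eq_sub_iff_add_eq_add]; rw [show (a.1:M) + a.2 = b.1 + b.2 from h]; abel
    have h0 := hdisj ((a.1 : M) - b.1) (sub_mem a.1.2 b.1.2) (h1 ▸ sub_mem b.2.2 a.2.2)
    rw [h0] at h1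
    exact Prod.ext (Subtype.ext (sub_eq_zero.1 h0)) (Subtype.ext (sub_eq_zero.1 h1.symm).symm)
  have hc : Nat.card (top ρ × bot ρ) = Nat.card M := by
    refine le_antisymm (Nat.card_le_card_of_injective f hf) ?_
    rw [Nat.card_prod, hbc, ← pow_two]; exact hcard
  have hsplit : ∀ m : M, ∃ x ∈ top ρ, ∃ y ∈ bot ρ, m = x + y := fun m => by
    haveI := Fintype.ofFinite M
    obtain ⟨z, hz⟩ := ((Nat.bijective_iff_injective_and_card f).2 ⟨hf, hc⟩).2 m
    exact ⟨_, z.1.2, _, z.2.2, hz.symm⟩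
  -- the nilpotent parts
  let T : K → M → M := fun a m => ρ (u a) m - m
  have hTp : ∀ a m, (T a)^[p] m = 0 := by
    intro a m
    rcases subsingleton_or_nontrivial M with hS | hN
    · exact Subsingleton.elim _ _
    haveI : CharP (AddMonoid.End M) p := by
      obtain ⟨m0, hm0⟩ := exists_ne (0 : M)
      haveI : Nontrivial (AddMonoid.End M) := ⟨1, 0, fun h => hm0 (DFunLike.congr_fun h m0)⟩
      refine (CharP.charP_iff_prime_eq_zero Fact.out).2 ?_
      refine AddMonoidHom.ext fun m => ?_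
      rw [show ((p : ℕ) : AddMonoid.End M) = p • (1 : AddMonoid.End M) by simp]
      exact hp m
    have hu : (ρ (u a)) ^ p = 1 := by
      have : ∀ n : ℕ, (u a : SL) ^ n = u (n • a) := by
        intro n
        induction n with
        | zero => simp [u_zero]
        | succ n ih => rw [pow_succ, ih, ← u_add, succ_nsmul]
      rw [← map_pow, this, nsmul_eq_mul, CharP.cast_eq_zero, zero_mul, u_zero, map_one]
    have h0 : (ρ (u a) - 1) ^ p = 0 := by
      rw [sub_pow_char_of_commute (p := p) (Commute.one_right _), one_pow, hu, sub_self]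
    have : ∀ n : ℕ, (T a)^[n] m = ((ρ (u a) - 1) ^ n : AddMonoid.End M) m := by
      intro n
      induction n with
      | zero => rfl
      | succ n ih => rw [Function.iterate_succ_apply', ih, pow_succ']; rfl
    rw [this, h0]; rfl
  have hTc : ∀ a b m, T a (T b m) = T b (T a m) := by
    intro a b m
    have : ρ (u a) (ρ (u b) m) = ρ (u b) (ρ (u a) m) := by
      rw [← app_mul, ← app_mul, ← u_add, ← u_add, add_comm]
    simp only [T, map_sub, this]; abel
  have hTW : ∀ a m, m ∈ top ρ → T a m ∈ top ρ := fun a m hm => by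
    show ρ (u a) m - m ∈ top ρ
    rw [hm a, sub_self]; exact zero_mem _
  -- vectors of the second layer
  have hne : ∃ m, m ∉ top ρ := by
    by_contra hcon
    push Not at hcon
    obtain ⟨g, m', hm'⟩ := hnt
    have hall : ∀ m, m ∈ bot ρ := fun m c => by
      have h := hcon (ρ (w (1 : K))⁻¹ m) (-c)
      have key : ρ (v c) (ρ (w (1 : K)) (ρ (w (1 : K))⁻¹ m)) =
          ρ (w (1 : K)) (ρ (u (-c)) (ρ (w (1 : K))⁻¹ m)) := by
        rw [← app_mul (v c) (w 1), ← app_mul (w 1) (u (-c)), w_u one_ne_zero]; simp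
      rwa [h, app_inv'] at key
    have h0 : m' = 0 := hdisj m' (hcon m') (hall m')
    exact hm' (by rw [h0, map_zero])
  have hsec : ∀ s : Finset K, ∃ m, m ∉ top ρ ∧ ∀ a ∈ s, T a m ∈ top ρ := by
    intro s
    induction s using Finset.induction_on with
    | empty =>
      obtain ⟨m, hm⟩ := hne
      exact ⟨m, hm, by simp⟩
    | insert a s ha ih =>
      obtain ⟨m, hm, hms⟩ := ih
      have hex : ∃ k, (T a)^[k] m ∈ top ρ := ⟨p, by rw [hTp]; exact zero_mem _⟩
      obtain ⟨k, hk⟩ := Nat.exists_eq_succ_of_ne_zero (n := Nat.find hex) (by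
        intro h0
        have := Nat.find_spec hex
        rw [h0] at this
        exact hm this)
      refine ⟨(T a)^[k] m, Nat.find_min hex (by omega), fun b hb => ?_⟩
      rcases Finset.mem_insert.1 hb with rfl | hb
      · have := Nat.find_spec hex
        rwa [hk, Function.iterate_succ_apply'] at this
      · have : ∀ j, T b ((T a)^[j] m) = (T a)^[j] (T b m) := by
          intro j
          induction j with
          | zero => rfl
          | succ j ihj => rw [Function.iterate_succ_apply', hTc, ihj, Function.iterate_succ_apply']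
        rw [this]
        have hj : ∀ j, (T a)^[j] (T b m) ∈ top ρ := by
          intro j
          induction j with
          | zero => exact hms b hb
          | succ j ihj => rw [Function.iterate_succ_apply']; exact hTW a _ ihj
        exact hj k
  haveI := Fintype.ofFinite K
  obtain ⟨m, hm, hmT⟩ := hsec Finset.univ
  obtain ⟨x, hx, z, hz, rfl⟩ := hsplit m
  -- quadratic vectors of the bottom space and their images
  let X : AddSubgroup M :=
    { carrier := {y | y ∈ bot ρ ∧ ∀ a, T a y ∈ top ρ}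
      add_mem' := fun {p q} hp hq => ⟨add_mem hp.1 hq.1, fun a => by
        rw [show T a (p + q) = T a p + T a q by simp [T]; abel]
        exact add_mem (hp.2 a) (hq.2 a)⟩
      zero_mem' := ⟨zero_mem _, fun a => by simp [T]⟩
      neg_mem' := fun {p} hp => ⟨neg_mem hp.1, fun a => by
        rw [show T a (-p) = -T a p by simp [T]; abel]
        exact neg_mem (hp.2 a)⟩ }
  let X' : AddSubgroup M :=
    { carrier := {y | y ∈ top ρ ∧ ∀ c, ρ (v c) y - y ∈ bot ρ}
      add_mem' := fun {p q} hp hq => ⟨add_mem hp.1 hq.1, fun a => by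
        rw [show ρ (v a) (p + q) - (p + q) = (ρ (v a) p - p) + (ρ (v a) q - q) by rw [map_add]; abel]
        exact add_mem (hp.2 a) (hq.2 a)⟩
      zero_mem' := ⟨zero_mem _, fun a => by simp⟩
      neg_mem' := fun {p} hp => ⟨neg_mem hp.1, fun a => by
        rw [show ρ (v a) (-p) - -p = -(ρ (v a) p - p) by rw [map_neg]; abel]
        exact neg_mem (hp.2 a)⟩ }
  have hwX : ∀ a : K, a ≠ 0 → ∀ y ∈ X, ρ (w a) y ∈ X' := by
    intro a ha y hy
    refine ⟨w_bot ha hy.1, fun c => ?_⟩
    have h := w_u ha (-(c * (a * a)))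
    rw [show -(-(c * (a * a)) / (a * a)) = c by field_simp] at h
    rw [← app_mul, ← h, app_mul, ← map_sub]
    exact w_top ha (hy.2 _)
  have hwX' : ∀ a : K, a ≠ 0 → ∀ y ∈ X', ρ (w a) y ∈ X := by
    intro a ha y hy
    refine ⟨w_top ha hy.1, fun c => ?_⟩
    have h := w_v ha (-(c / (a * a)))
    rw [show -(-(c / (a * a)) * (a * a)) = c by field_simp] at h
    show ρ (u c) (ρ (w a) y) - ρ (w a) y ∈ top ρ
    rw [← app_mul, ← h, app_mul, ← map_sub]
    exact w_bot ha (hy.2 _)
  have huX : ∀ a, ∀ y ∈ X, T a y ∈ X' := by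
    intro a y hy
    by_cases ha : a = 0
    · subst ha
      rw [show T 0 y = 0 by simp [T, u_zero, app_one]]
      exact zero_mem _
    have h1 : ρ (w a) y = ρ (u a) (ρ (v (-a⁻¹)) (y + T a y)) := by
      rw [w, app_mul, app_mul]; simp [T]
    have h2 : ρ (v a⁻¹) (ρ (w a) y) = y + T a y := by
      have h3 : ρ (u (-a)) (ρ (w a) y) = ρ (v (-a⁻¹)) (y + T a y) := by
        rw [h1, ← app_mul, ← u_add, neg_add_cancel, u_zero, app_one]
      rw [(w_bot ha hy.1) (-a)] at h3
      rw [h3, ← app_mul, ← v_add, add_neg_cancel, v_zero, app_one]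
    have h4 := (hwX a ha y hy).2 a⁻¹
    rw [h2] at h4
    have h5 : T a y - ρ (w a) y = 0 := by
      refine hdisj _ (sub_mem (hy.2 a) (w_bot ha hy.1)) ?_
      rw [show T a y - ρ (w a) y = (y + T a y - ρ (w a) y) - y by abel]
      exact sub_mem h4 hy.1
    rw [sub_eq_zero.1 h5]
    exact hwX a ha y hy
  have hvX : ∀ c, ∀ y ∈ X', ρ (v c) y - y ∈ X := by
    intro c y hy
    have hy1 : ρ (w (1 : K))⁻¹ y ∈ X := by
      obtain ⟨h1, h2⟩ := hwX' (-1) (neg_ne_zero.2 one_ne_zero) y hy
      have he : (w (1 : K))⁻¹ = (w (-1) : SL) := by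
        refine inv_eq_of_mul_eq_one_right ?_
        apply ext2 <;> simp [w, val_u, val_v, Matrix.mul_apply, Fin.sum_univ_two]
      rw [he]; exact ⟨h1, h2⟩
    have key : ρ (v c) (ρ (w (1 : K)) (ρ (w (1 : K))⁻¹ y)) =
        ρ (w (1 : K)) (ρ (u (-c)) (ρ (w (1 : K))⁻¹ y)) := by
      rw [← app_mul (v c) (w 1), ← app_mul (w 1) (u (-c)), w_u one_ne_zero]; simp
    have h7 := hwX' 1 one_ne_zero _ (huX (-c) _ hy1)
    simp only [T, map_sub] at h7
    rwa [← key, app_inv'] at h7
  have hXX : X ≤ bot ρ := fun y hy => hy.1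
  have hYtop : X ⊔ X' = ⊤ := by
    rcases hirr (X ⊔ X') (fun g m hm => by
      refine generation (P := fun g => ρ g m ∈ X ⊔ X') (by rwa [app_one]) ?_ ?_ g
      · intro a g hg
        obtain ⟨p, hp, q, hq, e⟩ := AddSubgroup.mem_sup.1 hg
        rw [app_mul, ← e, map_add, hq.1 a, show ρ (u a) p = p + T a p by simp [T]]
        exact add_mem (add_mem (AddSubgroup.mem_sup_left hp) (AddSubgroup.mem_sup_right (huX a p hp)))
          (AddSubgroup.mem_sup_right hq)
      · intro a g hg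
        obtain ⟨p, hp, q, hq, e⟩ := AddSubgroup.mem_sup.1 hg
        rw [app_mul, ← e, map_add, hp.1 a, show ρ (v a) q = (ρ (v a) q - q) + q by abel]
        exact add_mem (AddSubgroup.mem_sup_left hp)
          (add_mem (AddSubgroup.mem_sup_left (hvX a q hq)) (AddSubgroup.mem_sup_right hq))) with h | h
    · exfalso
      have hzX : z ∈ X := ⟨hz, fun a => by
        have h1 := hmT a (Finset.mem_univ a)
        rw [show T a (x + z) = (ρ (u a) x - x) + T a z by simp [T]; abel, hx a, sub_self, zero_add] at h1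
        exact h1⟩
      have : z ∈ X ⊔ X' := AddSubgroup.mem_sup_left hzX
      rw [h, AddSubgroup.mem_bot] at this
      exact hm (by rw [this, add_zero]; exact hx)
    · exact h
  have hsub : ∀ m : M, ∃ q ∈ X', ∃ p ∈ X, m = q + p := fun m => by
    obtain ⟨p, hp, q, hq, e⟩ := AddSubgroup.mem_sup.1 (hYtop ▸ AddSubgroup.mem_top m)
    exact ⟨q, hq, p, hp, by rw [← e, add_comm]⟩
  refine ⟨hsplit, hdisj, fun a y hy => ?_, fun a y hy => ?_⟩
  · obtain ⟨q, hq, p, hp, e⟩ := hsub y
    have : q = 0 := hdisj q hq.1 (by rw [show q = y - p by rw [e]; abel]; exact sub_mem hy hp.1)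
    rw [this, zero_add] at e
    exact e ▸ hp.2 a
  · obtain ⟨q, hq, p, hp, e⟩ := hsub y
    have : p = 0 := hdisj p (by rw [show p = y - q by rw [e]; abel]; exact sub_mem hy hq.1) hp.1
    rw [this, add_zero] at e
    exact e ▸ hq.2 a

end Criteria

end CfsgLib.Inv.SL2Quad
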