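import Cfsg.Prelude.Def_BaumannBlocks
import Cfsg.Agent.Inv.SL2Quadratic
import Cfsg.Agent.Solv.Basic

/-!
Group form of the characterisation of natural `SL₂`-modules.
-/

set_option autoImplicit false
set_option linter.unusedSectionVars false

namespace CfsgLib.Inv.SL2Quad

open Matrix
open scoped IsMulCommutative
open CfsgLib.Inv.SL2Fpf (u v u_zero u_add)

theorem natural_of_group {X : Type*} [Group X] [Finite X] {p : ℕ} [Fact p.Prime] (G V : Subgroup X)
    (hV : Cfsg.IsElementaryAbelian p V) (hGV : G ≤ Subgroup.normalizer (V : Set X)) (F : Type) [Field F]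
    [Fintype F] (n : ℕ) (hF : Fintype.card F = p ^ n) (e : ↥G ≃* Matrix.SpecialLinearGroup (Fin 2) F)
    (hirr : ∀ U : Subgroup X, U ≤ V → G ≤ Subgroup.normalizer (U : Set X) → U = ⊥ ∨ U = V)
    (hnt : ⁅V, G⁆ ≠ ⊥) (S : Sylow p ↥G)
    (hyp : ⁅⁅V, (S : Subgroup ↥G).map G.subtype⁆, (S : Subgroup ↥G).map G.subtype⁆ = ⊥ ∨
      Nat.card ↥V ≤ Nat.card ↥(V ⊓ Subgroup.centralizer (((S : Subgroup ↥G).map G.subtype : Subgroup X) : Set X)) ^ 2) :
    Cfsg.ActsAsSL2OnSection F ⊤ G V ⊥ := by
  haveI : CharP F p := charP_of_card_eq_prime_pow (f := n) (by rw [← hF])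
  haveI := hV.1
  -- choose the isomorphism so that `S` contains the upper unipotent group
  let uHom : Multiplicative F →* Matrix.SpecialLinearGroup (Fin 2) F :=
    MonoidHom.mk' (fun a => u (Multiplicative.toAdd a)) fun a b => u_add _ _
  have hUp : IsPGroup p uHom.range := by
    rintro ⟨_, a, rfl⟩
    refine ⟨1, Subtype.ext ?_⟩
    rw [Subgroup.coe_pow, pow_one, ← map_pow, Subgroup.coe_one]
    have : a ^ p = 1 := by
      apply Multiplicative.toAdd.injective
      rw [toAdd_pow, nsmul_eq_mul, CharP.cast_eq_zero, zero_mul, toAdd_one]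
    rw [this, map_one]
  obtain ⟨P₁, hP₁⟩ := hUp.exists_le_sylow
  obtain ⟨h, hh⟩ := MulAction.exists_smul_eq (Matrix.SpecialLinearGroup (Fin 2) F) P₁
    (S.mapSurjective (f := e.toMonoidHom) e.surjective)
  let E : Matrix.SpecialLinearGroup (Fin 2) F ≃* ↥G := (MulAut.conj h).trans e.symm
  have hES : ∀ a, ((E (u a) : ↥G) : X) ∈ (S : Subgroup ↥G).map G.subtype := by
    intro a
    refine Subgroup.mem_map.2 ⟨_, ?_, rfl⟩
    have h1 : h * u a * h⁻¹ ∈ (S : Subgroup ↥G).map e.toMonoidHom := by
      rw [← Sylow.coe_mapSurjective (hf := e.surjective), ← hh, Sylow.coe_subgroup_smul,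
        CfsgLib.Solv.mem_conj_smul_iff]
      simp only [mul_assoc, inv_mul_cancel_left, inv_mul_cancel, mul_one]
      exact hP₁ ⟨Multiplicative.ofAdd a, rfl⟩
    obtain ⟨g, hg, hge⟩ := h1
    have : E (u a) = g := by
      show e.symm (h * u a * h⁻¹) = g
      rw [← hge]; exact e.symm_apply_apply g
    rwa [this]
  -- the representation
  have hmem : ∀ (g : ↥G) (x : ↥V), (g : X) * x * (g : X)⁻¹ ∈ V := fun g x =>
    (Subgroup.mem_normalizer_iff.1 (hGV g.2) x).1 x.2
  let act : Matrix.SpecialLinearGroup (Fin 2) F → Additive V → Additive V :=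
    fun g m => Additive.ofMul ⟨(E g : X) * (Additive.toMul m : V) * (E g : X)⁻¹, hmem (E g) _⟩
  let endAct : Matrix.SpecialLinearGroup (Fin 2) F → AddMonoid.End (Additive V) := fun g =>
    AddMonoidHom.mk' (act g) fun m m' => by
      apply Additive.toMul.injective
      apply Subtype.ext
      simp only [act, toMul_ofMul, toMul_add, Subgroup.coe_mul]
      group
  let ρ : Matrix.SpecialLinearGroup (Fin 2) F →* AddMonoid.End (Additive V) :=
    { toFun := endAct
      map_one' := by
        refine AddMonoidHom.ext fun m => ?_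
        apply Additive.toMul.injective
        apply Subtype.ext
        show ((E 1 : ↥G) : X) * (Additive.toMul m : V) * ((E 1 : ↥G) : X)⁻¹ = (Additive.toMul m : V)
        rw [map_one]; simp
      map_mul' := fun g g' => by
        refine AddMonoidHom.ext fun m => ?_
        apply Additive.toMul.injective
        apply Subtype.ext
        show ((E (g * g') : ↥G) : X) * (Additive.toMul m : V) * ((E (g * g') : ↥G) : X)⁻¹ =
          (E g : X) * ((E g' : X) * (Additive.toMul m : V) * (E g' : X)⁻¹) * (E g : X)⁻¹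
        rw [map_mul, Subgroup.coe_mul]; group }
  have hρ : ∀ g m, ((Additive.toMul (ρ g m) : V) : X) = (E g : X) * (Additive.toMul m : V) * (E g : X)⁻¹ :=
    fun g m => rfl
  have hirr' : ∀ N : AddSubgroup (Additive V), (∀ g, ∀ m ∈ N, ρ g m ∈ N) → N = ⊥ ∨ N = ⊤ := by
    intro N hN
    set U : Subgroup X := (AddSubgroup.toSubgroup' N).map V.subtype with hU
    have hmemU : ∀ m : Additive V, ((Additive.toMul m : V) : X) ∈ U ↔ m ∈ N := fun m => by
      constructor
      · rintro ⟨z, hz, he⟩
        have : z = Additive.toMul m := Subtype.ext he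
        rw [this] at hz; exact hz
      · exact fun hm => ⟨Additive.toMul m, hm, rfl⟩
    have hGU : G ≤ Subgroup.normalizer (U : Set X) := by
      have key : ∀ g : ↥G, ∀ x ∈ U, (g : X) * x * (g : X)⁻¹ ∈ U := by
        rintro g _ ⟨z, hz, rfl⟩
        obtain ⟨s, rfl⟩ := E.surjective g
        have h1 := (hmemU _).2 (hN s (Additive.ofMul z) hz)
        rw [hρ] at h1
        exact h1
      intro g hg
      rw [Subgroup.mem_normalizer_iff]
      intro x
      refine ⟨key ⟨g, hg⟩ x, fun hx => ?_⟩
      have := key ⟨g⁻¹, inv_mem hg⟩ _ hx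
      simpa [mul_assoc] using this
    rcases hirr U (Subgroup.map_subtype_le _) hGU with h0 | h0
    · left
      rw [AddSubgroup.eq_bot_iff_forall]
      intro m hm
      have := (hmemU m).2 hm
      rw [h0, Subgroup.mem_bot] at this
      exact Additive.toMul.injective (Subtype.ext this)
    · right
      rw [AddSubgroup.eq_top_iff']
      exact fun m => (hmemU m).1 (h0.symm ▸ (Additive.toMul m : V).2)
  have hnt' : ∃ g m, ρ g m ≠ m := by
    by_contra hcon
    push Not at hcon
    refine hnt (Subgroup.commutator_eq_bot_iff_le_centralizer.2 fun x hx => ?_)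
    rw [Subgroup.mem_centralizer_iff]
    intro g hg
    obtain ⟨s, hs⟩ := E.surjective ⟨g, hg⟩
    have h1 := congrArg (fun m : Additive V => ((Additive.toMul m : V) : X)) (hcon s (Additive.ofMul ⟨x, hx⟩))
    simp only [hρ, hs, toMul_ofMul] at h1
    calc g * x = g * x * g⁻¹ * g := by group
      _ = x * g := by rw [h1]
  haveI : Nontrivial (Additive V) := by
    obtain ⟨g, m, hm⟩ := hnt'
    exact ⟨_, _, hm⟩
  have hquad : Quad ρ := by
    rcases hyp with hq | hq
    · refine quad_of_quadratic hirr' hnt' fun a b m => ?_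
      apply Additive.toMul.injective
      apply Subtype.ext
      set s : X := (E (u b) : X)
      set t : X := (E (u a) : X)
      set x : X := ((Additive.toMul m : V) : X)
      have hc : s * x * s⁻¹ * x⁻¹ ∈ ⁅V, (S : Subgroup ↥G).map G.subtype⁆ := by
        rw [Subgroup.commutator_comm]
        exact Subgroup.commutator_mem_commutator (hES b) (Additive.toMul m : V).2
      have hcc := Subgroup.mem_centralizer_iff.1 (Subgroup.commutator_eq_bot_iff_le_centralizer.1 hq hc) t (hES a)
      show t * ((Additive.toMul (ρ (u b) m - m) : V) : X) * t⁻¹ = ((Additive.toMul (ρ (u b) m - m) : V) : X)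
      have hd : ((Additive.toMul (ρ (u b) m - m) : V) : X) = s * x * s⁻¹ * x⁻¹ := by
        rw [toMul_sub, Subgroup.coe_div, hρ, div_eq_mul_inv]
      rw [hd, hcc]; group
    · refine quad_of_card hirr' hnt' (p := p) (fun m => ?_) ?_
      · apply Additive.toMul.injective
        apply Subtype.ext
        rw [toMul_nsmul, Subgroup.coe_pow]
        exact hV.2 _ (Additive.toMul m : V).2
      · refine le_trans (le_of_eq (Nat.card_congr (Additive.toMul : Additive V ≃ V))) (hq.trans ?_)
        refine Nat.pow_le_pow_left ?_ 2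
        refine Nat.card_le_card_of_injective
          (fun z => (⟨Additive.ofMul ⟨(z : X), z.2.1⟩, fun a => ?_⟩ : top ρ))
          (fun z z' hz => Subtype.ext (congrArg (fun q : top ρ => ((Additive.toMul (q : Additive V) : V) : X)) hz))
        apply Additive.toMul.injective
        apply Subtype.ext
        rw [hρ]
        show (E (u a) : X) * (z : X) * (E (u a) : X)⁻¹ = (z : X)
        rw [Subgroup.mem_centralizer_iff.1 z.2.2 _ (hES a)]
        group
  obtain ⟨Θ, hΘ⟩ := natural hquad hirr'
  refine ⟨hGV, bot_le, E.symm.toMonoidHom, AddMonoidHom.toMultiplicativeRight Θ.symm.toAddMonoidHom, ?_, ?_, ?_, ?_⟩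
  · rw [MonoidHom.range_eq_top]; exact E.symm.surjective
  · intro w
    exact ⟨Additive.toMul (Θ (Multiplicative.toAdd w)), congrArg Multiplicative.ofAdd (Θ.symm_apply_apply _)⟩
  · intro w
    rw [Subgroup.mem_bot]
    constructor
    · intro h1
      have h2 : Θ.symm (Additive.ofMul w) = 0 := congrArg Multiplicative.toAdd h1
      rw [AddEquiv.map_eq_zero_iff] at h2
      exact congrArg (fun m : Additive V => ((Additive.toMul m : V) : X)) h2
    · intro h1
      rw [show w = 1 from Subtype.ext h1, map_one]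
  · intro g w
    refine ⟨⟨(g : X) * w * (g : X)⁻¹, hmem g w⟩, rfl, ?_⟩
    obtain ⟨s, rfl⟩ := E.surjective g
    show Θ.symm (Additive.ofMul _) = ((E.symm (E s) : Matrix.SpecialLinearGroup (Fin 2) F) :
      Matrix (Fin 2) (Fin 2) F) *ᵥ Θ.symm (Additive.ofMul w)
    rw [E.symm_apply_apply, AddEquiv.symm_apply_eq, ← hΘ, AddEquiv.apply_symm_apply]
    rfl

end CfsgLib.Inv.SL2Quad
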