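import Cfsg.Agent.Inv.SL2Fpf
import Cfsg.Agent.Lie.Orders

/-!
Recognition of `SL₂(p)`: a pair of one-parameter subgroups satisfying the braid relations.
-/

set_option autoImplicit false
set_option linter.style.haveILetI false

namespace CfsgLib.Inv.SL2Rel

variable {G : Type*} [Group G] {p : ℕ} [hp : Fact p.Prime]

/-- Two additive one-parameter subgroups with the braid relations. -/
structure Pair (p : ℕ) (G : Type*) [Group G] where
  x : ZMod p → G
  y : ZMod p → G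
  x_add : ∀ a b, x (a + b) = x a * x b
  y_add : ∀ a b, y (a + b) = y a * y b
  braid : ∀ t, t ≠ 0 → x t * y (-t⁻¹) * x t = y (-t⁻¹) * x t * y (-t⁻¹)

variable (P : Pair p G)

theorem Pair.x_zero : P.x 0 = 1 := by
  have h := P.x_add 0 0
  rw [add_zero] at h
  exact mul_eq_left.1 h.symm

theorem Pair.y_zero : P.y 0 = 1 := by
  have h := P.y_add 0 0
  rw [add_zero] at h
  exact mul_eq_left.1 h.symm

theorem Pair.x_neg (a : ZMod p) : P.x (-a) = (P.x a)⁻¹ :=
  eq_inv_of_mul_eq_one_left (by rw [← P.x_add, neg_add_cancel, P.x_zero])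

theorem Pair.y_neg (a : ZMod p) : P.y (-a) = (P.y a)⁻¹ :=
  eq_inv_of_mul_eq_one_left (by rw [← P.y_add, neg_add_cancel, P.y_zero])

/-- The Weyl elements. -/
def Pair.w (t : ZMod p) : G := P.x t * P.y (-t⁻¹) * P.x t

theorem Pair.w_eq {t : ZMod p} (ht : t ≠ 0) : P.w t = P.y (-t⁻¹) * P.x t * P.y (-t⁻¹) := P.braid t ht

theorem all_multiples {P0 : ZMod p → Prop} {t : ZMod p} (ht : t ≠ 0) (h0 : P0 0) (h1 : P0 t)
    (hadd : ∀ a b, P0 a → P0 b → P0 (a + b)) (a : ZMod p) : P0 a := by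
  have key : ∀ n : ℕ, P0 ((n : ZMod p) * t) := by
    intro n
    induction n with
    | zero => rwa [Nat.cast_zero, zero_mul]
    | succ n ih => rw [Nat.cast_succ, add_mul, one_mul]; exact hadd _ _ ih h1
  have := key (a * t⁻¹).val
  rwa [ZMod.natCast_zmod_val, mul_assoc, inv_mul_cancel₀ ht, mul_one] at this

theorem Pair.w_x {t : ZMod p} (ht : t ≠ 0) (a : ZMod p) : P.w t * P.x a = P.y (-(a / (t * t))) * P.w t := by
  refine all_multiples (P0 := fun a => P.w t * P.x a = P.y (-(a / (t * t))) * P.w t) ht ?_ ?_ ?_ a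
  · rw [P.x_zero, zero_div, neg_zero, P.y_zero, mul_one, one_mul]
  · rw [show t / (t * t) = t⁻¹ by field_simp]
    conv_lhs => rw [P.w_eq ht]
    rw [Pair.w]; group
  · intro a b ha hb
    rw [P.x_add, ← mul_assoc, ha, mul_assoc, hb, ← mul_assoc, ← P.y_add, add_div, neg_add]

theorem Pair.w_y {t : ZMod p} (ht : t ≠ 0) (a : ZMod p) : P.w t * P.y a = P.x (-(t * t * a)) * P.w t := by
  refine all_multiples (P0 := fun a => P.w t * P.y a = P.x (-(t * t * a)) * P.w t) (t := -t⁻¹) (neg_ne_zero.2 (inv_ne_zero ht)) ?_ ?_ ?_ a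
  · rw [P.y_zero, mul_zero, neg_zero, P.x_zero, mul_one, one_mul]
  · rw [show -(t * t * -t⁻¹) = t by field_simp]
    conv_rhs => rw [P.w_eq ht]
    rw [Pair.w]; group
  · intro a b ha hb
    rw [P.y_add, ← mul_assoc, ha, mul_assoc, hb, ← mul_assoc, ← P.x_add, mul_add, neg_add]

theorem Pair.w_neg (t : ZMod p) : P.w (-t) * P.w t = 1 := by
  rw [Pair.w, Pair.w, inv_neg, neg_neg, P.x_neg, show P.y (-t⁻¹) = (P.y t⁻¹)⁻¹ from P.y_neg _]
  group

theorem Pair.w_neg' (t : ZMod p) : P.w t * P.w (-t) = 1 := by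
  have := P.w_neg (-t); rwa [neg_neg] at this

theorem Pair.w_w {t m : ZMod p} (ht : t ≠ 0) (hm : m ≠ 0) : P.w t * P.w m = P.w (t * t / m) * P.w t := by
  have hn : t * t / m ≠ 0 := div_ne_zero (mul_ne_zero ht ht) hm
  rw [P.w_eq hn, inv_div]
  conv_lhs => rw [show P.w m = P.x m * P.y (-m⁻¹) * P.x m from rfl, ← mul_assoc, ← mul_assoc, P.w_x ht,
    mul_assoc (P.y _) (P.w t), P.w_y ht, ← mul_assoc, mul_assoc _ (P.w t) (P.x m), P.w_x ht, ← mul_assoc,
    show -(t * t * -m⁻¹) = t * t / m by rw [div_eq_mul_inv]; ring]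

/-- The torus elements. -/
def Pair.h (t : ZMod p) : G := P.w t * P.w (-1)

theorem Pair.h_one : P.h 1 = 1 := P.w_neg' 1

theorem Pair.h_W (t : ZMod p) : P.h t * P.w 1 = P.w t := by
  rw [Pair.h, mul_assoc, P.w_neg, mul_one]

theorem Pair.h_x {t : ZMod p} (ht : t ≠ 0) (a : ZMod p) : P.h t * P.x a = P.x (t * t * a) * P.h t := by
  rw [Pair.h, mul_assoc, P.w_x (neg_ne_zero.2 one_ne_zero), ← mul_assoc, P.w_y ht, mul_assoc]
  congr 2
  simp

theorem Pair.h_w {g m : ZMod p} (hg : g ≠ 0) (hm : m ≠ 0) : P.h g * P.w m = P.w (g * g * m) * P.h g := by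
  rw [Pair.h, mul_assoc, P.w_w (neg_ne_zero.2 one_ne_zero) hm, ← mul_assoc,
    P.w_w hg (div_ne_zero (by simp) hm), mul_assoc]
  congr 2
  field_simp

theorem Pair.W_h {m : ZMod p} (hm : m ≠ 0) : P.w 1 * P.h m = P.h m⁻¹ * P.w 1 := by
  rw [P.h_W, Pair.h, ← mul_assoc, P.w_w one_ne_zero hm, mul_assoc, P.w_neg', mul_one, one_mul, one_div]

theorem Pair.key {u v : ZMod p} (hu : u ≠ 0) (hv : v ≠ 0) (huv : u + v = 1) :
    P.w 1 = P.w (-(u / v)) * P.w u * P.w v := by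
  have hx : ∀ s : ZMod p, s ≠ 0 → P.x s = P.y s⁻¹ * P.w s * P.y s⁻¹ := fun s hs => by
    rw [P.w_eq hs, P.y_neg]; group
  have ht : -(u / v) ≠ 0 := neg_ne_zero.2 (div_ne_zero hu hv)
  have hv' : v = 1 - u := by linear_combination huv
  calc P.w 1 = P.y (-1) * P.x 1 * P.y (-1) := by rw [P.w_eq one_ne_zero, inv_one]
    _ = P.y (-1) * (P.x u * P.x v) * P.y (-1) := by rw [← P.x_add, huv]
    _ = (P.y (-1) * P.y u⁻¹) * (P.w u * (P.y u⁻¹ * P.y v⁻¹)) * P.w v * (P.y v⁻¹ * P.y (-1)) := by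
      rw [hx u hu, hx v hv]; group
    _ = P.y (v / u) * (P.w u * P.y (u * v)⁻¹) * P.w v * P.y (u / v) := by
      rw [← P.y_add, ← P.y_add, ← P.y_add]
      congr 3
      · congr 1; field_simp; linear_combination -huv
      · congr 2; field_simp; linear_combination huv
      · field_simp; linear_combination -huv
    _ = P.y (v / u) * P.x (-(u / v)) * P.w u * (P.w v * P.y (u / v)) := by
      rw [P.w_y hu, show -(u * u * (u * v)⁻¹) = -(u / v) by field_simp]; group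
    _ = P.y (v / u) * P.x (-(u / v)) * (P.w u * P.x (-(v * u))) * P.w v := by
      rw [P.w_y hv, show -(v * v * (u / v)) = -(v * u) by field_simp]; group
    _ = P.y (v / u) * P.x (-(u / v)) * P.y (v / u) * P.w u * P.w v := by
      rw [P.w_x hu, show -(-(v * u) / (u * u)) = v / u by field_simp]; group
    _ = _ := by
      rw [P.w_eq ht, show -(-(u / v))⁻¹ = v / u by rw [inv_neg, neg_neg, inv_div]]

theorem Pair.h_key {u v : ZMod p} (hu : u ≠ 0) (hv : v ≠ 0) (huv : u + v = 1) :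
    P.h (u / v) = P.h u * P.h v⁻¹ := by
  have e : P.w (u / v) * P.w 1 = P.w u * P.w v := by
    rw [P.key hu hv huv, ← mul_assoc, ← mul_assoc, P.w_neg', one_mul]
  rw [Pair.h, Pair.h, Pair.h, mul_assoc (P.w u), ← mul_assoc (P.w (-1)), P.w_w (neg_ne_zero.2 one_ne_zero) (inv_ne_zero hv),
    show (-1 : ZMod p) * -1 / v⁻¹ = v by simp, ← mul_assoc, ← mul_assoc, ← e, mul_assoc (P.w (u / v)), P.w_neg',
    mul_one]

theorem Pair.d_comm {g m a : ZMod p} (hg : g ≠ 0) (hm : m ≠ 0) (ha : a ≠ 0) :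
    Commute ((P.h (g * m))⁻¹ * (P.h g * P.h m)) (P.h a) := by
  have hw : ∀ c : ZMod p, c ≠ 0 → Commute ((P.h (g * m))⁻¹ * (P.h g * P.h m)) (P.w c) := by
    intro c hc
    have h1 : P.h g * P.h m * P.w c = P.w (g * g * (m * m * c)) * (P.h g * P.h m) := by
      rw [mul_assoc, P.h_w hm hc, ← mul_assoc, P.h_w hg (mul_ne_zero (mul_ne_zero hm hm) hc), mul_assoc]
    have h2 : P.h (g * m) * P.w c = P.w (g * g * (m * m * c)) * P.h (g * m) := by
      rw [P.h_w (mul_ne_zero hg hm) hc]; congr 2; ring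
    show _ * _ = _ * _
    rw [mul_assoc, h1, ← mul_assoc, ← mul_assoc (P.w c)]
    congr 1
    rw [inv_mul_eq_iff_eq_mul, ← mul_assoc (P.h (g * m)), h2, mul_assoc (P.w _), mul_inv_cancel, mul_one]
  exact (hw a ha).mul_right (hw (-1) (neg_ne_zero.2 one_ne_zero))

theorem Pair.h_sq {g m : ZMod p} (hg : g ≠ 0) (hm : m ≠ 0) (hc : Commute (P.h g) (P.h m)) :
    P.h (g * g * m) = P.h m * P.h (g * g) := by
  have hn : P.h g * P.w (-1) = P.w (-(g * g)) * P.h g := by
    rw [P.h_w hg (neg_ne_zero.2 one_ne_zero), show g * g * -1 = -(g * g) by ring]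
  have h1 : P.h g * P.h m = P.w (g * g * m) * P.w (-(g * g)) * P.h g := by
    rw [show P.h m = P.w m * P.w (-1) from rfl, ← mul_assoc (P.h g), P.h_w hg hm, mul_assoc (P.w _), hn, ← mul_assoc (P.w _)]
  rw [hc.eq] at h1
  rw [mul_right_cancel h1, show P.h (g * g) = P.w (g * g) * P.w (-1) from rfl, mul_assoc (P.w (g * g * m)),
    ← mul_assoc (P.w (-(g * g))), P.w_neg, one_mul]
  rfl

/-- The torus is a homomorphic image of the units. -/
theorem Pair.h_mul {s t : ZMod p} (hs : s ≠ 0) (ht : t ≠ 0) : P.h (s * t) = P.h s * P.h t := by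
  obtain ⟨g, hg⟩ := IsCyclic.exists_monoid_generator (α := (ZMod p)ˣ)
  have hpow : ∀ a : ZMod p, a ≠ 0 → ∃ n : ℕ, (g : ZMod p) ^ n = a := fun a ha => by
    obtain ⟨n, hn⟩ := (Submonoid.mem_powers_iff _ _).1 (hg (Units.mk0 a ha))
    exact ⟨n, by rw [← Units.val_pow_eq_pow_val, hn, Units.val_mk0]⟩
  have hg0 : ∀ n : ℕ, (g : ZMod p) ^ n ≠ 0 := fun n => pow_ne_zero n g.ne_zero
  have hg1 : (g : ZMod p) ≠ 0 := g.ne_zero
  have hstep : ∀ i : ℕ, ∃ d, P.h ((g : ZMod p) ^ (i + 1)) = P.h ((g : ZMod p) ^ i) * P.h g * d ∧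
      ∀ a : ZMod p, a ≠ 0 → Commute d (P.h a) := fun i =>
    ⟨((P.h ((g : ZMod p) ^ i * g))⁻¹ * (P.h ((g : ZMod p) ^ i) * P.h g))⁻¹, by rw [pow_succ]; group,
      fun a ha => (P.d_comm (hg0 i) hg1 ha).inv_left⟩
  have hA : ∀ i : ℕ, Commute (P.h ((g : ZMod p) ^ i)) (P.h g) := by
    intro i
    induction i with
    | zero => rw [pow_zero, P.h_one]; exact Commute.one_left _
    | succ i ih =>
      obtain ⟨d, hd, hdc⟩ := hstep i
      rw [hd]; exact (ih.mul_left (Commute.refl _)).mul_left (hdc _ hg1)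
  have hB : ∀ i j : ℕ, Commute (P.h ((g : ZMod p) ^ i)) (P.h ((g : ZMod p) ^ j)) := by
    intro i j
    induction j with
    | zero => rw [pow_zero, P.h_one]; exact Commute.one_right _
    | succ j ih =>
      obtain ⟨d, hd, hdc⟩ := hstep j
      rw [hd]; exact (ih.mul_right (hA i)).mul_right (hdc _ (hg0 i)).symm
  have hcomm : ∀ a b : ZMod p, a ≠ 0 → b ≠ 0 → Commute (P.h a) (P.h b) := fun a b ha hb => by
    obtain ⟨i, rfl⟩ := hpow a ha
    obtain ⟨j, rfl⟩ := hpow b hb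
    exact hB i j
  have hev : ∀ (k : ℕ) (m : ZMod p), m ≠ 0 → P.h ((g : ZMod p) ^ (2 * k) * m) = P.h (g * g) ^ k * P.h m := by
    intro k
    induction k with
    | zero => intro m _; simp
    | succ k ih =>
      intro m hm
      rw [show (g : ZMod p) ^ (2 * (k + 1)) * m = g * g * ((g : ZMod p) ^ (2 * k) * m) by ring,
        P.h_sq hg1 (mul_ne_zero (hg0 _) hm) (hcomm _ _ hg1 (mul_ne_zero (hg0 _) hm)), ih m hm, mul_assoc,
        (hcomm m (g * g) hm (mul_ne_zero hg1 hg1)).eq, ← mul_assoc, ← pow_succ]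
  have hgg : P.h ((g : ZMod p) * g) = P.h g * P.h g := by
    by_cases hsq : ∃ k : ℕ, (g : ZMod p) = g ^ (2 * k)
    · obtain ⟨k, hk⟩ := hsq
      have h1 := hev k g hg1
      have h2 := hev k 1 one_ne_zero
      rw [mul_one, P.h_one, mul_one] at h2
      rw [← h2, ← hk] at h1
      exact h1
    · push Not at hsq
      set Q : Set (ZMod p) := {a | ∃ k : ℕ, a = (g : ZMod p) ^ (2 * k)} with hQ
      set N : Set (ZMod p) := {a | a ≠ 0 ∧ a ∉ Q} with hN
      obtain ⟨u, hu, huv⟩ : ∃ u ∈ N, 1 - u ∈ N := by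
        by_contra hno
        push Not at hno
        have hQ1 : (1 : ZMod p) ∈ Q := ⟨0, by simp⟩
        have h1 : Q.ncard ≤ N.ncard := by
          refine Set.ncard_le_ncard_of_injOn (fun a => a * g) ?_ (fun a _ b _ e => mul_right_cancel₀ hg1 e) (Set.toFinite _)
          rintro _ ⟨k, rfl⟩
          refine ⟨mul_ne_zero (hg0 _) hg1, fun ⟨l, hl⟩ => ?_⟩
          have hord : (g : ZMod p) ^ (p - 1) = 1 := ZMod.pow_card_sub_one_eq_one hg1
          have hp2 : p - 1 + 1 = p := Nat.succ_pred_prime hp.out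
          obtain ⟨e, he⟩ : ∃ e : ℕ, (g : ZMod p) ^ (2 * k) * (g : ZMod p) ^ e = 1 := ⟨(p - 1) * (2 * k) - 2 * k, by
            rcases Nat.eq_zero_or_pos (p - 1) with h0 | h0
            · have := hp.out.two_le; omega
            · rw [← pow_add, Nat.add_sub_cancel' (Nat.le_mul_of_pos_left _ h0), pow_mul, hord, one_pow]⟩
          have hee : (g : ZMod p) = g ^ (2 * l) * g ^ e := by
            rw [← hl, mul_comm ((g : ZMod p) ^ (2 * k)) g, mul_assoc, he, mul_one]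
          obtain ⟨m, hm⟩ : ∃ m : ℕ, (g : ZMod p) ^ e = g ^ (2 * m) := ⟨((p - 1) * k - k), by
            have : (g : ZMod p) ^ (2 * k) * g ^ (2 * ((p - 1) * k - k)) = 1 := by
              rw [← pow_add, ← mul_add, Nat.add_sub_cancel' (Nat.le_mul_of_pos_left _ (by have := hp.out.two_le; omega)),
                show 2 * ((p - 1) * k) = (p - 1) * (2 * k) by ring, pow_mul, hord, one_pow]
            exact mul_left_cancel₀ (hg0 (2 * k)) (he.trans this.symm)⟩
          rw [hm, ← pow_add, ← mul_add] at hee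
          exact hsq _ hee
        have h2 : N.ncard ≤ (Q \ {1}).ncard := by
          refine Set.ncard_le_ncard_of_injOn (fun a => 1 - a) (fun a ha => ?_) (fun a _ b _ e => sub_right_inj.1 e) (Set.toFinite _)
          have h0 : 1 - a ≠ 0 := fun e => ha.2 (by rw [← sub_eq_zero.1 e]; exact hQ1)
          refine ⟨by_contra fun hq => hno a ha ⟨h0, hq⟩, fun e => ha.1 ?_⟩
          rw [Set.mem_singleton_iff] at e
          linear_combination -e
        have h3 := Set.ncard_diff_singleton_lt_of_mem hQ1 (Set.toFinite _)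
        omega
      set v := 1 - u with hv
      have hodd : ∀ a : ZMod p, a ≠ 0 → a ∉ Q → ∃ k : ℕ, a = (g : ZMod p) ^ (2 * k) * g := by
        intro a ha haQ
        obtain ⟨n, rfl⟩ := hpow a ha
        rcases Nat.even_or_odd' n with ⟨k, rfl | rfl⟩
        · exact absurd ⟨k, rfl⟩ haQ
        · exact ⟨k, pow_succ _ _⟩
      have hvQ : v⁻¹ ∉ Q := fun ⟨k, hk⟩ => huv.2 ⟨(p - 1) * k - k, by
        have : (g : ZMod p) ^ (2 * k) * g ^ (2 * ((p - 1) * k - k)) = 1 := by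
          rw [← pow_add, ← mul_add, Nat.add_sub_cancel' (Nat.le_mul_of_pos_left _ (by have := hp.out.two_le; omega)),
            show 2 * ((p - 1) * k) = (p - 1) * (2 * k) by ring, pow_mul, ZMod.pow_card_sub_one_eq_one hg1, one_pow]
        rw [← hk] at this
        exact (inv_mul_eq_one₀ huv.1).1 this⟩
      obtain ⟨a, ha⟩ := hodd u hu.1 hu.2
      obtain ⟨b, hb⟩ := hodd v⁻¹ (inv_ne_zero huv.1) hvQ
      have hk := P.h_key hu.1 huv.1 (show u + v = 1 by rw [hv]; ring)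
      rw [div_eq_mul_inv, hb, ha, show (g : ZMod p) ^ (2 * a) * g * ((g : ZMod p) ^ (2 * b) * g) = g ^ (2 * (a + b + 1)) * 1 by ring,
        hev _ _ one_ne_zero, P.h_one, mul_one, hev a _ hg1, hev b _ hg1] at hk
      have hc1 : Commute (P.h (g : ZMod p)) (P.h ((g : ZMod p) * g) ^ b) :=
        (hcomm _ _ hg1 (mul_ne_zero hg1 hg1)).pow_right b
      rw [mul_assoc (P.h _ ^ a), ← mul_assoc (P.h (g : ZMod p)), hc1.eq, mul_assoc, ← mul_assoc, ← pow_add, pow_succ] at hk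
      exact mul_left_cancel hk
  have hall : ∀ n : ℕ, P.h ((g : ZMod p) ^ n) = P.h (g : ZMod p) ^ n := by
    intro n
    rcases Nat.even_or_odd' n with ⟨k, rfl | rfl⟩
    · rw [← mul_one ((g : ZMod p) ^ (2 * k)), hev k 1 one_ne_zero, P.h_one, mul_one, hgg, pow_mul, pow_two]
    · rw [pow_succ, hev k _ hg1, hgg, pow_succ, pow_mul, pow_two]
  obtain ⟨i, rfl⟩ := hpow s hs
  obtain ⟨j, rfl⟩ := hpow t ht
  rw [← pow_add, hall, hall, hall, pow_add]

/-- The Bruhat normal forms. -/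
def Pair.nf : (ZMod p × (ZMod p)ˣ) ⊕ (ZMod p × (ZMod p)ˣ × ZMod p) → G
  | Sum.inl (a, t) => P.x a * P.h t
  | Sum.inr (a, t, b) => P.x a * P.h t * P.w 1 * P.x b

theorem Pair.z_eq : P.w 1 * P.w 1 = P.h (-1) := by
  have hm : (-1 : ZMod p) ≠ 0 := neg_ne_zero.2 one_ne_zero
  have h1 : P.h (-1) * P.h (-1) = 1 := by rw [← P.h_mul hm hm, neg_one_mul, neg_neg, P.h_one]
  have h2 : P.h (-1) * (P.w 1 * P.w 1) = 1 := by rw [← mul_assoc, P.h_W, P.w_neg]
  exact mul_left_cancel (h2.trans h1.symm)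

theorem Pair.mul_x_nf (c : ZMod p) (i) : ∃ j, P.nf j = P.x c * P.nf i := by
  rcases i with ⟨a, t⟩ | ⟨a, t, b⟩
  · exact ⟨Sum.inl (c + a, t), by simp only [Pair.nf, P.x_add, mul_assoc]⟩
  · exact ⟨Sum.inr (c + a, t, b), by simp only [Pair.nf, P.x_add, mul_assoc]⟩

theorem Pair.mul_W_nf (i) : ∃ j, P.nf j = P.w 1 * P.nf i := by
  rcases i with ⟨a, t⟩ | ⟨a, t, b⟩
  · refine ⟨Sum.inr (0, t⁻¹, a / ((t : ZMod p) * t)), ?_⟩
    simp only [Pair.nf, P.x_zero, one_mul, Units.val_inv_eq_inv_val]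
    have h1 := P.h_x t.ne_zero (a / ((t : ZMod p) * t))
    rw [show (t : ZMod p) * t * (a / (t * t)) = a by field_simp] at h1
    rw [← P.W_h t.ne_zero, mul_assoc, h1]
  · set c := a / ((t : ZMod p) * t) with hc
    have h1 := P.h_x t.ne_zero c
    rw [show (t : ZMod p) * t * c = a by rw [hc]; field_simp] at h1
    have e : P.w 1 * (P.x a * P.h t * P.w 1 * P.x b) = P.h (t : ZMod p)⁻¹ * (P.w 1 * P.x c * P.w 1) * P.x b := by
      rw [← h1, show P.w 1 * (P.h (t : ZMod p) * P.x c * P.w 1 * P.x b) = (P.w 1 * P.h (t : ZMod p)) * P.x c * P.w 1 * P.x b by group,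
        P.W_h t.ne_zero]
      group
    by_cases hc0 : c = 0
    · refine ⟨Sum.inl ((-(t : ZMod p)⁻¹) * (-(t : ZMod p)⁻¹) * b, -t⁻¹), ?_⟩
      simp only [Pair.nf, Units.val_neg, Units.val_inv_eq_inv_val]
      rw [e, hc0, P.x_zero, mul_one, P.z_eq, ← P.h_mul (inv_ne_zero t.ne_zero) (neg_ne_zero.2 one_ne_zero),
        mul_neg_one, P.h_x (neg_ne_zero.2 (inv_ne_zero t.ne_zero))]
    · refine ⟨Sum.inr ((t : ZMod p)⁻¹ * (t : ZMod p)⁻¹ * -c⁻¹, t⁻¹ * Units.mk0 (-c⁻¹) (neg_ne_zero.2 (inv_ne_zero hc0)), -c⁻¹ + b), ?_⟩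
      simp only [Pair.nf, Units.val_mul, Units.val_mk0, Units.val_inv_eq_inv_val]
      have hy : P.y (-c) = P.x (-c⁻¹) * P.h c⁻¹ * P.w 1 * P.x (-c⁻¹) := by
        rw [mul_assoc (P.x (-c⁻¹)), P.h_W, Pair.w, inv_inv, P.x_neg]; group
      have hm : (-1 : ZMod p) ≠ 0 := neg_ne_zero.2 one_ne_zero
      rw [e, P.w_x one_ne_zero, mul_one, div_one, mul_assoc (P.y (-c)), P.z_eq, hy]
      have e1 : P.x (-c⁻¹) * P.h (-1) = P.h (-1) * P.x (-c⁻¹) := by
        rw [P.h_x hm]; simp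
      have e2 : P.w 1 * P.h (-1) = P.h (-1) * P.w 1 := by rw [P.W_h hm, inv_neg, inv_one]
      rw [mul_assoc (P.x (-c⁻¹) * P.h c⁻¹ * P.w 1), e1, ← mul_assoc (P.x (-c⁻¹) * P.h c⁻¹ * P.w 1), mul_assoc (P.x (-c⁻¹) * P.h c⁻¹), e2,
        ← mul_assoc (P.x (-c⁻¹) * P.h c⁻¹), mul_assoc (P.x (-c⁻¹)) (P.h c⁻¹), ← P.h_mul (inv_ne_zero hc0) hm, mul_neg_one,
        ← mul_assoc (P.h _), ← mul_assoc (P.h (t : ZMod p)⁻¹) (P.x _ * P.h _), ← mul_assoc (P.h (t : ZMod p)⁻¹) (P.x _),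
        P.h_x (inv_ne_zero t.ne_zero), P.x_add,
        P.h_mul (inv_ne_zero t.ne_zero) (neg_ne_zero.2 (inv_ne_zero hc0))]
      group

/-- The order bound. -/
theorem Pair.card_le : Finite (Subgroup.closure (Set.range P.x ∪ Set.range P.y)) ∧
    Nat.card (Subgroup.closure (Set.range P.x ∪ Set.range P.y)) ≤ p * (p ^ 2 - 1) := by
  set K := Subgroup.closure ({P.w 1} ∪ Set.range P.x) with hK
  have hle : Subgroup.closure (Set.range P.x ∪ Set.range P.y) ≤ K := by
    rw [Subgroup.closure_le]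
    rintro _ (⟨a, rfl⟩ | ⟨a, rfl⟩)
    · exact Subgroup.subset_closure (Or.inr ⟨a, rfl⟩)
    · have h := P.w_x one_ne_zero (-a)
      rw [mul_one, div_one, neg_neg] at h
      rw [eq_mul_inv_of_mul_eq h.symm]
      have hW : P.w 1 ∈ K := Subgroup.subset_closure (Or.inl rfl)
      exact mul_mem (mul_mem hW (Subgroup.subset_closure (Or.inr ⟨-a, rfl⟩))) (inv_mem hW)
  have hcl : ∀ k ∈ K, ∀ i, ∃ j, P.nf j = k * P.nf i := by
    intro k hk
    have hgen : ∀ k ∈ ({P.w 1} ∪ Set.range P.x : Set G), ∀ i, ∃ j, P.nf j = k * P.nf i := by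
      rintro k (hk | ⟨c, rfl⟩)
      · rw [Set.mem_singleton_iff.1 hk]; exact P.mul_W_nf
      · exact P.mul_x_nf c
    have hinv : ∀ k ∈ ({P.w 1} ∪ Set.range P.x : Set G), ∀ i, ∃ j, P.nf j = k⁻¹ * P.nf i := by
      rintro k (hk | ⟨c, rfl⟩)
      · rw [Set.mem_singleton_iff.1 hk]
        intro i
        obtain ⟨j, hj⟩ := P.mul_W_nf i
        obtain ⟨l, hl⟩ := P.mul_W_nf j
        obtain ⟨m, hm⟩ := P.mul_W_nf l
        have hm1 : (-1 : ZMod p) ≠ 0 := neg_ne_zero.2 one_ne_zero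
        have h4 : P.w 1 * P.w 1 * (P.w 1 * P.w 1) = 1 := by
          rw [P.z_eq, ← P.h_mul hm1 hm1, neg_one_mul, neg_neg, P.h_one]
        exact ⟨m, by rw [hm, hl, hj, show (P.w 1)⁻¹ = P.w 1 * (P.w 1 * P.w 1) from inv_eq_of_mul_eq_one_right (by rw [← mul_assoc]; exact h4)]; group⟩
      · rw [← P.x_neg]; exact P.mul_x_nf (-c)
    rw [hK] at hk
    induction hk using Subgroup.closure_induction_left with
    | one => exact fun i => ⟨i, (one_mul _).symm⟩
    | mul_left a ha b _ ih =>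
      intro i
      obtain ⟨j, hj⟩ := ih i
      obtain ⟨l, hl⟩ := hgen a ha j
      exact ⟨l, by rw [hl, hj, mul_assoc]⟩
    | inv_mul_cancel a ha b _ ih =>
      intro i
      obtain ⟨j, hj⟩ := ih i
      obtain ⟨l, hl⟩ := hinv a ha j
      exact ⟨l, by rw [hl, hj, mul_assoc]⟩
  choose f hf using fun k : K => hcl k k.2 (Sum.inl (0, 1))
  have hfi : Function.Injective f := fun a b e => by
    have := (hf a).symm.trans ((congrArg P.nf e).trans (hf b))
    simp only [Pair.nf, P.x_zero, Units.val_one, P.h_one, mul_one] at this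
    exact Subtype.ext this
  haveI : Finite K := Finite.of_injective f hfi
  refine ⟨Finite.of_injective _ (Subgroup.inclusion_injective hle),
    (Subgroup.card_le_of_le hle).trans ((Nat.card_le_card_of_injective f hfi).trans (le_of_eq ?_))⟩
  rw [Nat.card_sum, Nat.card_prod, Nat.card_prod, Nat.card_prod, Nat.card_units, Nat.card_zmod]
  obtain ⟨m, rfl⟩ : ∃ m, p = m + 1 := ⟨p - 1, by have := hp.out.two_le; omega⟩
  rw [show (m + 1) ^ 2 - 1 = m * (m + 2) from Nat.sub_eq_of_eq_add (by ring), Nat.add_sub_cancel]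
  ring

open CfsgLib.Inv.SL2Fpf (u v val_u val_v ext2 u_add generation)

/-- The pair of `SL₂(p)`. -/
def slPair (p : ℕ) [Fact p.Prime] : Pair p (Matrix.SpecialLinearGroup (Fin 2) (ZMod p)) where
  x := u
  y := v
  x_add := u_add
  y_add a b := by apply ext2 <;> simp [val_v, Matrix.mul_apply, Fin.sum_univ_two]
  braid t ht := by apply ext2 <;> simp [val_u, val_v, Matrix.mul_apply, Fin.sum_univ_two, ht]

/-- `SL₂(p)` maps onto the group generated by a pair. -/
theorem Pair.exists_hom : ∃ φ : Matrix.SpecialLinearGroup (Fin 2) (ZMod p) →* G,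
    φ.range = Subgroup.closure (Set.range P.x ∪ Set.range P.y) ∧ ∀ a, φ (u a) = P.x a ∧ φ (v a) = P.y a := by
  set Q : Pair p (Matrix.SpecialLinearGroup (Fin 2) (ZMod p) × G) :=
    { x := fun a => (u a, P.x a)
      y := fun a => (v a, P.y a)
      x_add := fun a b => Prod.ext (u_add a b) (P.x_add a b)
      y_add := fun a b => Prod.ext ((slPair p).y_add a b) (P.y_add a b)
      braid := fun t ht => Prod.ext ((slPair p).braid t ht) (P.braid t ht) } with hQ
  set D := Subgroup.closure (Set.range Q.x ∪ Set.range Q.y) with hD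
  set f := (MonoidHom.fst (Matrix.SpecialLinearGroup (Fin 2) (ZMod p)) G).comp D.subtype with hf
  have hx : ∀ a, Q.x a ∈ D := fun a => Subgroup.subset_closure (Or.inl ⟨a, rfl⟩)
  have hy : ∀ a, Q.y a ∈ D := fun a => Subgroup.subset_closure (Or.inr ⟨a, rfl⟩)
  have hsurj : Function.Surjective f := by
    intro g
    refine generation (P := fun g => ∃ d, f d = g) ⟨1, map_one f⟩ ?_ ?_ g
    · rintro a _ ⟨d, rfl⟩
      exact ⟨⟨Q.x a, hx a⟩ * d, by rw [map_mul]; rfl⟩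
    · rintro a _ ⟨d, rfl⟩
      exact ⟨⟨Q.y a, hy a⟩ * d, by rw [map_mul]; rfl⟩
  haveI : Finite D := Q.card_le.1
  have hbij : Function.Bijective f := by
    refine hsurj.bijective_of_nat_card_le (le_of_le_of_eq Q.card_le.2 ?_)
    rw [CfsgLib.Lie.Orders.card_SL_two (ZMod.card p)]
  set e := MulEquiv.ofBijective f hbij with he
  refine ⟨(MonoidHom.snd (Matrix.SpecialLinearGroup (Fin 2) (ZMod p)) G).comp (D.subtype.comp e.symm.toMonoidHom), ?_, fun a => ?_⟩
  · rw [MonoidHom.range_comp, MonoidHom.range_comp, MonoidHom.range_eq_top.2 e.symm.surjective, ← MonoidHom.range_eq_map,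
      Subgroup.range_subtype, hD, MonoidHom.map_closure, Set.image_union, ← Set.range_comp, ← Set.range_comp]
    rfl
  · have h1 : e.symm (u a) = ⟨Q.x a, hx a⟩ := e.symm_apply_eq.2 rfl
    have h2 : e.symm (v a) = ⟨Q.y a, hy a⟩ := e.symm_apply_eq.2 rfl
    exact ⟨congrArg Prod.snd (congrArg Subtype.val h1), congrArg Prod.snd (congrArg Subtype.val h2)⟩

end CfsgLib.Inv.SL2Rel
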