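import Cfsg.Agent.Inv.Isolated
import Cfsg.Agent.Inv.BaerSuzuki
import Cfsg.Agent.Solv.Basic
import Cfsg.Prelude.Def_SubgroupEmbedding

/-!
The Sidki pair condition for a subgroup of order at most four.
-/

set_option autoImplicit false
set_option linter.style.haveILetI false

namespace CfsgLib.Inv.SidkiFour

variable {G : Type*} [Group G] [Finite G]

/-- An involution outside the 2-core inverts a nontrivial element of odd order. -/
theorem exists_inverted_odd {v : G} (hv : orderOf v = 2) (hO : v ∉ Cfsg.pCore 2 G) :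
    ∃ h : G, h ≠ 1 ∧ Odd (orderOf h) ∧ v * h * v⁻¹ = h⁻¹ := by
  haveI : Fact (Nat.Prime 2) := ⟨Nat.prime_two⟩
  by_contra hc
  push Not at hc
  apply hO
  set Ω : Set (Subgroup G) := Set.range fun g : G => Subgroup.zpowers (g * v * g⁻¹) with hΩ
  have hconj : ∀ Y ∈ Ω, ∀ x : G, Y.map (MulAut.conj x).toMonoidHom ∈ Ω := by
    rintro _ ⟨g, rfl⟩ x
    refine ⟨x * g, ?_⟩
    simp only [MonoidHom.map_zpowers, MulEquiv.coe_toMonoidHom, MulAut.conj_apply]
    congr 1; group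
  have hgood : ∀ g : G, ∃ k : ℕ, (v * (g * v * g⁻¹)) ^ 2 ^ k = 1 := by
    intro g
    set m := v * (g * v * g⁻¹) with hm
    obtain ⟨e, o, ho, heq⟩ := Nat.exists_eq_pow_mul_and_not_dvd (orderOf_pos m).ne' 2 (by norm_num)
    refine ⟨e, ?_⟩
    by_contra hne
    have hodd : Odd (orderOf (m ^ 2 ^ e)) := by
      have h1 : orderOf (m ^ 2 ^ e) ∣ o :=
        orderOf_dvd_of_pow_eq_one (by rw [← pow_mul, ← heq, pow_orderOf_eq_one])
      exact (Nat.odd_iff.2 (Nat.two_dvd_ne_zero.1 ho)).of_dvd_nat h1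
    refine hc _ hne hodd ?_
    rw [← conj_pow, pair_conj hv (invol_conj hv g), inv_pow]
  have hpair : ∀ Y ∈ Ω, ∀ Z ∈ Ω, IsPGroup 2 ↥(Y ⊔ Z) := by
    rintro _ ⟨g, rfl⟩ _ ⟨g', rfl⟩
    set u := g * v * g⁻¹
    set w := g' * v * g'⁻¹
    have hu : orderOf u = 2 := invol_conj hv g
    have hw : orderOf w = 2 := invol_conj hv g'
    obtain ⟨k, hk⟩ := hgood (g⁻¹ * g')
    have hk' : (u * w) ^ 2 ^ k = 1 := by
      have e : u * w = g * (v * (g⁻¹ * g' * v * (g⁻¹ * g')⁻¹)) * g⁻¹ := by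
        show g * v * g⁻¹ * (g' * v * g'⁻¹) = _
        group
      rw [e, conj_pow, hk]; simp
    have hle : Subgroup.zpowers u ⊔ Subgroup.zpowers w ≤ Subgroup.closure ({u, w} : Set G) :=
      sup_le (Subgroup.zpowers_le.2 (Subgroup.subset_closure (by simp)))
        (Subgroup.zpowers_le.2 (Subgroup.subset_closure (by simp)))
    refine IsPGroup.to_le ?_ hle
    rintro ⟨d, hd⟩
    rcases (mem_pair_iff hu hw).1 hd with ⟨i, rfl⟩ | ⟨i, rfl⟩
    · refine ⟨k, Subtype.ext ?_⟩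
      show ((u * w) ^ i) ^ (2 ^ k) = 1
      rw [← zpow_natCast, ← zpow_mul, mul_comm, zpow_mul, zpow_natCast, hk', one_zpow]
    · refine ⟨1, Subtype.ext ?_⟩
      show (u * (u * w) ^ i) ^ (2 ^ 1) = 1
      rw [pow_one, pow_two, refl_mul_refl hu hw, sub_self, zpow_zero]
  have hbs := baer_suzuki Ω hconj hpair
  haveI : (sSup Ω).Normal := by
    have hle : ∀ x : G, (sSup Ω).map (MulAut.conj x).toMonoidHom ≤ sSup Ω := fun x => by
      rw [Subgroup.map_le_iff_le_comap]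
      exact sSup_le fun Y hY => Subgroup.map_le_iff_le_comap.1 (le_sSup (hconj Y hY x))
    exact ⟨fun a ha x => hle x ⟨a, ha, rfl⟩⟩
  refine CfsgLib.Solv.le_pCore hbs ?_
  have h1 : Subgroup.zpowers v ∈ Ω := ⟨1, by simp⟩
  exact le_sSup h1 (Subgroup.mem_zpowers v)

/-- Opposite actions of two involutions on two elements of odd order are impossible. -/
theorem no_cross {a b h k : G} (hab : a * b = b * a) (hk1 : k ≠ 1) (hh1 : h ≠ 1)
    (hoh : Odd (orderOf h)) (hok : Odd (orderOf k))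
    (hah : a * h * a⁻¹ = h) (hak : a * k * a⁻¹ = k⁻¹) (hbh : b * h * b⁻¹ = h⁻¹) (hbk : b * k * b⁻¹ = k)
    (hpair : ∀ n : G, Odd (orderOf n) → a * n * a⁻¹ = n⁻¹ →
      b * n * b⁻¹ = n ∨ (a * b) * n * (a * b)⁻¹ = n)
    (hpair' : ∀ n : G, Odd (orderOf n) → (a * b) * n * (a * b)⁻¹ = n⁻¹ →
      a * n * a⁻¹ = n ∨ b * n * b⁻¹ = n) : False := by
  have hroot : ∀ x y : G, Odd (orderOf x) → Commute (x ^ 2) y → Commute x y := by
    intro x y hx hxy
    obtain ⟨t, ht⟩ := hx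
    have e : x = (x ^ 2) ^ (t + 1) := by
      rw [← pow_mul, show 2 * (t + 1) = orderOf x + 1 by omega, pow_succ, pow_orderOf_eq_one, one_mul]
    exact e.symm ▸ hxy.pow_left (t + 1)
  have hone : ∀ x : G, Odd (orderOf x) → x = x⁻¹ → x = 1 := by
    intro x hx e
    have h2 : x ^ 2 = 1 := by rw [pow_two]; nth_rw 2 [e]; exact mul_inv_cancel x
    have := Nat.le_of_dvd (by norm_num) (orderOf_dvd_of_pow_eq_one h2)
    have := orderOf_pos x
    obtain ⟨t, ht⟩ := hx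
    exact orderOf_eq_one_iff.1 (by omega)
  by_cases hc : Commute h k
  · -- `h * k` is inverted by `a * b`
    have hn : Odd (orderOf (h * k)) := (hoh.mul hok).of_dvd_nat hc.orderOf_mul_dvd_mul_orderOf
    have h1 : (a * b) * (h * k) * (a * b)⁻¹ = (h * k)⁻¹ := by
      rw [mul_inv_rev h k,
        show (a * b) * (h * k) * (a * b)⁻¹ = (a * (b * h * b⁻¹) * a⁻¹) * (a * (b * k * b⁻¹) * a⁻¹) by group,
        hbh, hbk, hak, ← conj_inv, hah]
      exact hc.inv_inv.eq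
    rcases hpair' _ hn h1 with e | e
    · refine hk1 (hone k hok ?_)
      rw [show a * (h * k) * a⁻¹ = (a * h * a⁻¹) * (a * k * a⁻¹) by group, hah, hak] at e
      exact (mul_left_cancel e).symm
    · refine hh1 (hone h hoh ?_)
      rw [show b * (h * k) * b⁻¹ = (b * h * b⁻¹) * (b * k * b⁻¹) by group, hbh, hbk] at e
      exact (mul_right_cancel e).symm
  · -- `h * k * h⁻¹` is inverted by `a`
    have hn : Odd (orderOf (h * k * h⁻¹)) :=
      (show orderOf (h * k * h⁻¹) = orderOf k from MulEquiv.orderOf_eq (MulAut.conj h) k).symm ▸ hok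
    have h1 : a * (h * k * h⁻¹) * a⁻¹ = (h * k * h⁻¹)⁻¹ := by
      rw [show a * (h * k * h⁻¹) * a⁻¹ = (a * h * a⁻¹) * (a * k * a⁻¹) * (a * h * a⁻¹)⁻¹ by group, hah, hak,
        conj_inv]
    rcases hpair _ hn h1 with e | e
    · rw [show b * (h * k * h⁻¹) * b⁻¹ = (b * h * b⁻¹) * (b * k * b⁻¹) * (b * h * b⁻¹)⁻¹ by group, hbh, hbk] at e
      refine hc (hroot h k hoh ?_)
      show h ^ 2 * k = k * h ^ 2
      calc h ^ 2 * k = h * (h * k * h⁻¹) * h := by rw [pow_two]; group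
        _ = h * (h⁻¹ * k * h⁻¹⁻¹) * h := by rw [e]
        _ = k * h ^ 2 := by rw [pow_two]; group
    · rw [show (a * b) * (h * k * h⁻¹) * (a * b)⁻¹ =
        a * ((b * h * b⁻¹) * (b * k * b⁻¹) * (b * h * b⁻¹)⁻¹) * a⁻¹ by group, hbh, hbk,
        show a * (h⁻¹ * k * h⁻¹⁻¹) * a⁻¹ = (a * h * a⁻¹)⁻¹ * (a * k * a⁻¹) * (a * h * a⁻¹) by group,
        hah, hak] at e
      have h4 : h ^ 2 * k * (h ^ 2)⁻¹ = k⁻¹ := by
        calc h ^ 2 * k * (h ^ 2)⁻¹ = h * (h * k * h⁻¹) * h⁻¹ := by rw [pow_two]; group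
          _ = h * (h⁻¹ * k⁻¹ * h) * h⁻¹ := by rw [e]
          _ = k⁻¹ := by group
      have h8 : Commute ((h ^ 2) ^ 2) k := by
        show (h ^ 2) ^ 2 * k = k * (h ^ 2) ^ 2
        calc (h ^ 2) ^ 2 * k = h ^ 2 * (h ^ 2 * k * (h ^ 2)⁻¹) * (h ^ 2)⁻¹ * (h ^ 2) ^ 2 := by
              rw [pow_two (h ^ 2)]; group
          _ = k * (h ^ 2) ^ 2 := by rw [h4, ← conj_inv, h4, inv_inv]
      have ho2 : Odd (orderOf (h ^ 2)) := hoh.of_dvd_nat (orderOf_pow_dvd 2)
      exact hc (hroot h k hoh (hroot _ _ ho2 h8))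

theorem sidki_four (V : Subgroup G) (hV : Cfsg.IsElementaryAbelian 2 V) (hV1 : V ≠ ⊥)
    (hS : Cfsg.IsSidkiPair V) (h4 : Nat.card V ≤ 4) : V ⊓ Cfsg.pCore 2 G ≠ ⊥ := by
  intro hbot
  have hsq : ∀ x ∈ V, x * x = 1 := fun x hx => by
    have := hV.2 x hx
    rw [← pow_two]
    exact this
  have hcomm : ∀ x ∈ V, ∀ y ∈ V, x * y = y * x := fun x hx y hy =>
    Subtype.ext_iff.1 (hV.1.is_comm.comm ⟨x, hx⟩ ⟨y, hy⟩)
  have hinvol : ∀ x ∈ V, x ≠ 1 → orderOf x = 2 := fun x hx h1 => invol_iff.2 ⟨h1, hsq x hx⟩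
  have hmov : ∀ x ∈ V, x ≠ 1 → ∃ h : G, h ≠ 1 ∧ Odd (orderOf h) ∧ x * h * x⁻¹ = h⁻¹ ∧
      ∃ w ∈ V, w ≠ 1 ∧ w ≠ x ∧ w * h * w⁻¹ = h := by
    intro x hx h1
    obtain ⟨h, hh1, hho, hxh⟩ := exists_inverted_odd (hinvol x hx h1) fun hO =>
      h1 (Subgroup.mem_bot.1 (hbot ▸ Subgroup.mem_inf.2 ⟨hx, hO⟩))
    obtain ⟨w, hw, hw1, hwc⟩ := hS h x hx hho hxh
    refine ⟨h, hh1, hho, hxh, w, hw, hw1, fun e => hh1 ?_, mul_inv_eq_iff_eq_mul.2 hwc⟩
    rw [← e, mul_inv_eq_iff_eq_mul.2 hwc] at hxh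
    have h2 : h ^ 2 = 1 := by rw [pow_two]; nth_rw 2 [hxh]; exact mul_inv_cancel h
    have := Nat.le_of_dvd (by norm_num) (orderOf_dvd_of_pow_eq_one h2)
    have := orderOf_pos h
    obtain ⟨t, ht⟩ := hho
    exact orderOf_eq_one_iff.1 (by omega)
  obtain ⟨v, hv, hv1⟩ := V.bot_or_exists_ne_one.resolve_left hV1
  obtain ⟨h, hh1, hho, hvh, a, ha, ha1, hav, hah⟩ := hmov v hv hv1
  obtain ⟨k, hk1, hko, hak, b, hb, hb1, hba, hbk⟩ := hmov a ha ha1
  -- the four elements of `V`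
  have hab : a * b ≠ 1 := fun e => hba (by rw [← one_mul b, ← hsq a ha, mul_assoc, e, mul_one])
  have hfour : ∀ x ∈ V, x = 1 ∨ x = a ∨ x = b ∨ x = a * b := by
    intro x hx
    by_contra hc
    push Not at hc
    have hsub : ({x, 1, a, b, a * b} : Set G) ⊆ (V : Set G) := by
      intro z hz
      simp only [Set.mem_insert_iff, Set.mem_singleton_iff] at hz
      rcases hz with e | e | e | e | e <;> rw [e]
      exacts [hx, one_mem V, ha, hb, mul_mem ha hb]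
    have hle := Set.ncard_le_ncard hsub (Set.toFinite _)
    rw [← Nat.card_coe_set_eq (V : Set G)] at hle
    rw [Set.ncard_insert_of_notMem, Set.ncard_insert_of_notMem, Set.ncard_insert_of_notMem,
      Set.ncard_pair] at hle
    · exact absurd (hle.trans h4) (by norm_num)
    · exact fun e => ha1 (mul_eq_right.1 e.symm)
    · simp only [Set.mem_insert_iff, Set.mem_singleton_iff, not_or]
      exact ⟨hba.symm, fun e => hb1 (mul_eq_left.1 e.symm)⟩
    · simp only [Set.mem_insert_iff, Set.mem_singleton_iff, not_or]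
      exact ⟨ha1.symm, hb1.symm, hab.symm⟩
    · simp only [Set.mem_insert_iff, Set.mem_singleton_iff, not_or]
      exact hc
  have hbh : b * h * b⁻¹ = h⁻¹ := by
    rcases hfour v hv with e | e | e | e
    · exact absurd e hv1
    · exact absurd e.symm hav
    · rwa [e] at hvh
    · rw [e, hcomm a ha b hb, show b * a * h * (b * a)⁻¹ = b * (a * h * a⁻¹) * b⁻¹ by group, hah] at hvh
      exact hvh
  have hkey : ∀ x ∈ V, ∀ n : G, Odd (orderOf n) → x * n * x⁻¹ = n⁻¹ →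
      n = 1 ∨ ∃ w ∈ V, w ≠ 1 ∧ w ≠ x ∧ w * n * w⁻¹ = n := by
    intro x hx n hno hxn
    by_cases hn1 : n = 1
    · exact Or.inl hn1
    obtain ⟨w, hw, hw1, hwc⟩ := hS n x hx hno hxn
    refine Or.inr ⟨w, hw, hw1, fun e => hn1 ?_, mul_inv_eq_iff_eq_mul.2 hwc⟩
    rw [← e, mul_inv_eq_iff_eq_mul.2 hwc] at hxn
    have h2 : n ^ 2 = 1 := by rw [pow_two]; nth_rw 2 [hxn]; exact mul_inv_cancel n
    have := Nat.le_of_dvd (by norm_num) (orderOf_dvd_of_pow_eq_one h2)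
    have := orderOf_pos n
    obtain ⟨t, ht⟩ := hno
    exact orderOf_eq_one_iff.1 (by omega)
  refine no_cross (hcomm a ha b hb) hk1 hh1 hho hko hah hak hbh hbk (fun n hno hn => ?_) fun n hno hn => ?_
  · rcases hkey a ha n hno hn with e | ⟨w, hw, hw1, hwa, hwn⟩
    · left; simp [e]
    rcases hfour w hw with e | e | e | e
    · exact absurd e hw1
    · exact absurd e hwa
    · left; rwa [e] at hwn
    · right; rwa [e] at hwn
  · rcases hkey _ (mul_mem ha hb) n hno hn with e | ⟨w, hw, hw1, hwc, hwn⟩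
    · left; simp [e]
    rcases hfour w hw with e | e | e | e
    · exact absurd e hw1
    · left; rwa [e] at hwn
    · right; rwa [e] at hwn
    · exact absurd e hwc

end CfsgLib.Inv.SidkiFour
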