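import Cfsg.Agent.Inv.TransvectionSL
import Cfsg.Prelude.Def_Classical
import Cfsg.Agent.Solv.Basic

/-!
Siegel transvection groups of singular lines of a hyperbolic quadratic form, as root subgroups.
-/

set_option autoImplicit false
set_option linter.style.haveILetI false

namespace CfsgLib.Inv.Siegel

open Matrix CfsgLib.Inv
open scoped commutatorElement

variable {F : Type*} [Field F] {M : ℕ}

/-- The natural module. -/
abbrev V (M : ℕ) (F : Type*) : Type _ := Fin M ⊕ Fin M → F

/-- The isometry group. -/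
abbrev O (M : ℕ) (F : Type*) [Field F] := Cfsg.isometryGroup F (Cfsg.quadFormPlus M F)

/-- The form. -/
abbrev Q (x : V M F) : F := Cfsg.quadFormPlus M F x

/-- The polar form. -/
def B (x y : V M F) : F := ∑ i, (x (.inl i) * y (.inr i) + x (.inr i) * y (.inl i))

theorem Q_add (x y : V M F) : Q (x + y) = Q x + Q y + B x y := by
  simp only [Cfsg.quadFormPlus, B, Pi.add_apply, ← Finset.sum_add_distrib]
  exact Finset.sum_congr rfl fun i _ => by ring

theorem Q_smul (c : F) (x : V M F) : Q (c • x) = c * c * Q x := by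
  simp only [Cfsg.quadFormPlus, Pi.smul_apply, smul_eq_mul, Finset.mul_sum]
  exact Finset.sum_congr rfl fun i _ => by ring

theorem B_comm (x y : V M F) : B x y = B y x := Finset.sum_congr rfl fun i _ => by ring

theorem B_add_left (x y z : V M F) : B (x + y) z = B x z + B y z := by
  simp only [B, Pi.add_apply, ← Finset.sum_add_distrib]
  exact Finset.sum_congr rfl fun i _ => by ring

theorem B_smul_left (c : F) (x z : V M F) : B (c • x) z = c * B x z := by
  simp only [B, Pi.smul_apply, smul_eq_mul, Finset.mul_sum]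
  exact Finset.sum_congr rfl fun i _ => by ring

theorem B_add_right (x y z : V M F) : B x (y + z) = B x y + B x z := by
  rw [B_comm, B_add_left, B_comm y, B_comm z]

theorem B_smul_right (c : F) (x z : V M F) : B x (c • z) = c * B x z := by
  rw [B_comm, B_smul_left, B_comm z]

theorem B_zero_left (z : V M F) : B 0 z = 0 := by simp [B]

theorem B_neg_left (x z : V M F) : B (-x) z = - B x z := by
  rw [← neg_one_smul F x, B_smul_left, neg_one_mul]

theorem B_neg_right (x z : V M F) : B x (-z) = - B x z := by rw [B_comm, B_neg_left, B_comm z]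

theorem B_sub_left (x y z : V M F) : B (x - y) z = B x z - B y z := by
  rw [sub_eq_add_neg, B_add_left, B_neg_left, sub_eq_add_neg]

theorem B_self (x : V M F) : B x x = Q x + Q x := by
  simp only [B, Cfsg.quadFormPlus, ← Finset.sum_add_distrib]
  exact Finset.sum_congr rfl fun i _ => by ring

theorem B_self_zero {x : V M F} (h : Q x = 0) : B x x = 0 := by rw [B_self, h, add_zero]

/-- `B · p` as a dot product. -/
def swapV (p : V M F) : V M F := fun i => p i.swap

theorem dot_swap (p x : V M F) : swapV p ⬝ᵥ x = B x p := by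
  simp only [dotProduct, swapV, Fintype.sum_sum_type, Sum.swap_inl, Sum.swap_inr, B, ← Finset.sum_add_distrib]
  exact Finset.sum_congr rfl fun i _ => by ring

theorem swap_ne {p : V M F} (hp : p ≠ 0) : swapV p ≠ 0 := fun e => hp (funext fun i => by
  simpa [swapV] using congrFun e i.swap)

theorem exists_B_one {p : V M F} (hp : p ≠ 0) : ∃ x, B x p = 1 := by
  obtain ⟨x, hx⟩ := TSL.exists_dot_one (swap_ne hp)
  exact ⟨x, by rwa [dot_swap] at hx⟩

theorem exists_B_zero_one {p r : V M F} (hp : p ≠ 0) (hr : ∀ c : F, r ≠ c • p) :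
    ∃ x, B x p = 0 ∧ B x r = 1 := by
  obtain ⟨χ, h1, h2⟩ := TSL.exists_separate (u := swapV p) (v := swapV r) (swap_ne hp)
    (fun c e => hr c (funext fun i => by simpa [swapV] using congrFun e i.swap))
  refine ⟨(χ ⬝ᵥ swapV r)⁻¹ • χ, ?_, ?_⟩
  · rw [B_smul_left, ← dot_swap, dotProduct_comm (swapV p), h1, mul_zero]
  · rw [B_smul_left, ← dot_swap r χ, dotProduct_comm (swapV r), inv_mul_cancel₀ h2]

/-- A singular line with a chosen ordered basis. -/
def Line (p r : V M F) : Prop := LinearIndependent F ![p, r] ∧ Q p = 0 ∧ Q r = 0 ∧ Q (p + r) = 0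

theorem Line.ne_left {p r : V M F} (h : Line p r) : p ≠ 0 := by simpa using h.1.ne_zero 0

theorem Line.ne_right {p r : V M F} (h : Line p r) : r ≠ 0 := by simpa using h.1.ne_zero 1

theorem Line.not_mem {p r : V M F} (h : Line p r) (c : F) : r ≠ c • p := by
  intro e
  have := LinearIndependent.pair_iff.1 h.1 (-c) 1 (by rw [e]; simp)
  exact one_ne_zero this.2

theorem Line.orth {p r : V M F} (h : Line p r) : B p r = 0 := by
  have := Q_add p r
  rw [h.2.2.2, h.2.1, h.2.2.1] at this
  linear_combination -this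

theorem line_mk {p r : V M F} (hp : p ≠ 0) (hr : ∀ c : F, r ≠ c • p) (h1 : Q p = 0) (h2 : Q r = 0)
    (h3 : B p r = 0) : Line p r := by
  refine ⟨(LinearIndependent.pair_iff' hp).2 fun a e => hr a e.symm, h1, h2, ?_⟩
  rw [Q_add, h1, h2, h3, add_zero, add_zero]

theorem Line.symm {p r : V M F} (h : Line p r) : Line r p := by
  refine line_mk h.ne_right (fun c e => ?_) h.2.2.1 h.2.1 (by rw [B_comm, h.orth])
  have := LinearIndependent.pair_iff.1 h.1 1 (-c) (by rw [e]; simp)
  exact one_ne_zero this.1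

/-- The action. -/
def act (σ : O M F) (x : V M F) : V M F :=
  ((σ : Matrix.GeneralLinearGroup (Fin M ⊕ Fin M) F) : Matrix (Fin M ⊕ Fin M) (Fin M ⊕ Fin M) F) *ᵥ x

theorem act_one (x : V M F) : act (1 : O M F) x = x := Matrix.one_mulVec x

theorem act_mul (σ τ : O M F) (x : V M F) : act (σ * τ) x = act σ (act τ x) :=
  (Matrix.mulVec_mulVec x _ _).symm

theorem act_inv_act (σ : O M F) (x : V M F) : act σ⁻¹ (act σ x) = x := by
  rw [← act_mul, inv_mul_cancel, act_one]

theorem act_act_inv (σ : O M F) (x : V M F) : act σ (act σ⁻¹ x) = x := by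
  rw [← act_mul, mul_inv_cancel, act_one]

theorem act_add (σ : O M F) (x y : V M F) : act σ (x + y) = act σ x + act σ y := Matrix.mulVec_add _ x y

theorem act_smul (σ : O M F) (c : F) (x : V M F) : act σ (c • x) = c • act σ x := Matrix.mulVec_smul _ c x

theorem Q_act (σ : O M F) (x : V M F) : Q (act σ x) = Q x := σ.2 x 0

theorem B_act (σ : O M F) (x y : V M F) : B (act σ x) (act σ y) = B x y := by
  have h := Q_add (act σ x) (act σ y)
  rw [← act_add, Q_act, Q_act, Q_act, Q_add x y] at h
  linear_combination -h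

theorem act_ext {σ τ : O M F} (h : ∀ x, act σ x = act τ x) : σ = τ :=
  Subtype.ext (Units.ext (Matrix.ext_of_mulVec_single fun i => h _))

/-- The pointwise stabiliser of the perpendicular of `⟨p, r⟩`. -/
def T (p r : V M F) : Subgroup (O M F) where
  carrier := {σ | ∀ x, B x p = 0 → B x r = 0 → act σ x = x}
  one_mem' x _ _ := act_one x
  mul_mem' {a b} ha hb x h1 h2 := by rw [act_mul, hb x h1 h2, ha x h1 h2]
  inv_mem' {a} ha x h1 h2 := by
    conv_lhs => rw [← ha x h1 h2]
    exact act_inv_act a x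

theorem T_swap (p r : V M F) : T p r = T r p := by
  ext σ
  exact ⟨fun h x a b => h x b a, fun h x a b => h x b a⟩

theorem T_mono {p r p' r' : V M F} (a b c d : F) (h1 : p = a • p' + b • r') (h2 : r = c • p' + d • r') :
    T p r ≤ T p' r' := fun σ hσ x e1 e2 => hσ x
  (by rw [h1, B_add_right, B_smul_right, B_smul_right, e1, e2]; ring)
  (by rw [h2, B_add_right, B_smul_right, B_smul_right, e1, e2]; ring)

theorem T_smul {p r : V M F} {a b : F} (ha : a ≠ 0) (hb : b ≠ 0) : T (a • p) (b • r) = T p r := by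
  refine le_antisymm (T_mono a 0 0 b (by simp) (by simp)) (T_mono a⁻¹ 0 0 b⁻¹ ?_ ?_) <;> simp [smul_smul, ha, hb]

theorem T_conj (g : O M F) (p r : V M F) : Cfsg.conjBy (T p r) g = T (act g p) (act g r) := by
  ext σ
  rw [Cfsg.conjBy, CfsgLib.Solv.mem_map_conj_iff]
  constructor
  · intro h x e1 e2
    have := h (act g⁻¹ x) (by rw [← B_act g, act_act_inv, e1]) (by rw [← B_act g, act_act_inv, e2])
    rw [act_mul, act_mul, act_act_inv] at this
    have := congrArg (act g) this
    rwa [act_act_inv, act_act_inv] at this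
  · intro h x e1 e2
    have := h (act g x) (by rw [B_act, e1]) (by rw [B_act, e2])
    rw [act_mul, act_mul, this, act_inv_act]

theorem line_act (g : O M F) {p r : V M F} (h : Line p r) : Line (act g p) (act g r) := by
  refine line_mk (fun e => h.ne_left ?_) (fun c e => h.not_mem c ?_) (by rw [Q_act, h.2.1])
    (by rw [Q_act, h.2.2.1]) (by rw [B_act, h.orth])
  · have := congrArg (act g⁻¹) e
    rw [act_inv_act] at this
    exact this.trans (Matrix.mulVec_zero _)
  · have := congrArg (act g⁻¹) e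
    rwa [act_inv_act, act_smul, act_inv_act] at this

/-- The Siegel map. -/
def elFun (p r : V M F) (c : F) : V M F →ₗ[F] V M F where
  toFun x := x + (c * B x p) • r - (c * B x r) • p
  map_add' x y := by
    ext i
    simp only [B_add_left, Pi.add_apply, Pi.sub_apply, Pi.smul_apply, smul_eq_mul]
    ring
  map_smul' a x := by
    ext i
    simp only [B_smul_left, Pi.add_apply, Pi.sub_apply, Pi.smul_apply, smul_eq_mul, RingHom.id_apply]
    ring

theorem exists_el {p r : V M F} (h : Line p r) (c : F) :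
    ∃ σ : O M F, ∀ x, act σ x = x + (c * B x p) • r - (c * B x r) • p := by
  have hpp := B_self_zero h.2.1
  have hrr := B_self_zero h.2.2.1
  have hpr := h.orth
  have hcomp : ∀ a b : F, (LinearMap.toMatrix' (elFun p r a)) * LinearMap.toMatrix' (elFun p r b) =
      LinearMap.toMatrix' (elFun p r (a + b)) := by
    intro a b
    rw [← LinearMap.toMatrix'_comp]
    congr 1
    refine LinearMap.ext fun x => ?_
    ext i
    simp only [LinearMap.comp_apply, elFun, LinearMap.coe_mk, AddHom.coe_mk, B_sub_left, B_add_left, B_smul_left,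
      hpp, hrr, hpr, B_comm r p, Pi.add_apply, Pi.sub_apply, Pi.smul_apply, smul_eq_mul]
    ring
  have h0 : LinearMap.toMatrix' (elFun p r 0) = 1 := by
    rw [← LinearMap.toMatrix'_id]
    congr 1
    refine LinearMap.ext fun x => ?_
    simp [elFun]
  let u : Matrix.GeneralLinearGroup (Fin M ⊕ Fin M) F :=
    ⟨LinearMap.toMatrix' (elFun p r c), LinearMap.toMatrix' (elFun p r (-c)),
      by rw [hcomp, add_neg_cancel, h0], by rw [hcomp, neg_add_cancel, h0]⟩
  refine ⟨⟨u, fun x _ => ?_⟩, fun x => LinearMap.toMatrix'_mulVec _ x⟩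
  show Q (LinearMap.toMatrix' (elFun p r c) *ᵥ x) = Q x
  rw [LinearMap.toMatrix'_mulVec]
  simp only [elFun, LinearMap.coe_mk, AddHom.coe_mk, sub_eq_add_neg, ← neg_smul, Q_add, Q_smul, h.2.1, h.2.2.1,
    B_add_left, B_smul_left, B_smul_right, hpr, B_comm r p]
  ring

open Classical in
/-- The Siegel transvection. -/
noncomputable def el (p r : V M F) (c : F) : O M F := if h : Line p r then (exists_el h c).choose else 1

theorem el_act {p r : V M F} (h : Line p r) (c : F) (x : V M F) :
    act (el p r c) x = x + (c * B x p) • r - (c * B x r) • p := by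
  rw [el, dif_pos h]; exact (exists_el h c).choose_spec x

theorem el_mem {p r : V M F} (h : Line p r) (c : F) : el p r c ∈ T p r := fun x e1 e2 => by
  rw [el_act h, e1, e2]; simp

theorem el_add {p r : V M F} (h : Line p r) (a b : F) : el p r a * el p r b = el p r (a + b) := by
  refine act_ext fun x => ?_
  ext i
  simp only [act_mul, el_act h, B_sub_left, B_add_left, B_smul_left, B_self_zero h.2.1, B_self_zero h.2.2.1,
    h.orth, B_comm r p, Pi.add_apply, Pi.sub_apply, Pi.smul_apply, smul_eq_mul]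
  ring

theorem el_zero {p r : V M F} (h : Line p r) : el p r 0 = 1 :=
  act_ext fun x => by rw [el_act h, act_one]; simp

theorem el_inv {p r : V M F} (h : Line p r) (c : F) : (el p r c)⁻¹ = el p r (-c) :=
  inv_eq_of_mul_eq_one_right (by rw [el_add h, add_neg_cancel, el_zero h])

theorem exists_dual {p r : V M F} (h : Line p r) :
    ∃ x₁ x₂, B x₁ p = 1 ∧ B x₁ r = 0 ∧ B x₂ p = 0 ∧ B x₂ r = 1 := by
  obtain ⟨x₂, a, b⟩ := exists_B_zero_one h.ne_left h.not_mem
  obtain ⟨x₁, c, d⟩ := exists_B_zero_one h.ne_right h.symm.not_mem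
  exact ⟨x₁, x₂, d, c, a, b⟩

theorem mem_T {p r : V M F} (h : Line p r) {σ : O M F} : σ ∈ T p r ↔ ∃ c, σ = el p r c := by
  refine ⟨fun hσ => ?_, fun ⟨c, e⟩ => e ▸ el_mem h c⟩
  obtain ⟨x₁, x₂, a1, b1, a2, b2⟩ := exists_dual h
  set d₁ := act σ x₁ - x₁ with hd₁
  set d₂ := act σ x₂ - x₂ with hd₂
  have hlin : ∀ x, act σ x = x + B x p • d₁ + B x r • d₂ := by
    intro x
    have := hσ (x + (-(B x p)) • x₁ + (-(B x r)) • x₂)
      (by rw [B_add_left, B_add_left, B_smul_left, B_smul_left, a1, a2]; ring)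
      (by rw [B_add_left, B_add_left, B_smul_left, B_smul_left, b1, b2]; ring)
    rw [act_add, act_add, act_smul, act_smul] at this
    rw [hd₁, hd₂]
    ext i
    have hi := congrFun this i
    simp only [Pi.add_apply, Pi.smul_apply, Pi.sub_apply, smul_eq_mul] at hi ⊢
    linear_combination hi
  have hperp : ∀ y, B y p = 0 → B y r = 0 → B y d₁ = 0 ∧ B y d₂ = 0 := by
    intro y e1 e2
    have k : ∀ z, B y (act σ z - z) = 0 := fun z => by
      rw [sub_eq_add_neg, B_add_right, B_neg_right]
      have := B_act σ y z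
      rw [hσ y e1 e2] at this
      rw [this, add_neg_cancel]
    exact ⟨k x₁, k x₂⟩
  have hspan : ∀ d, (∀ y, B y p = 0 → B y r = 0 → B y d = 0) → d = B x₁ d • p + B x₂ d • r := by
    intro d hd
    by_contra hne
    obtain ⟨z, hz⟩ := exists_B_one (sub_ne_zero.2 hne)
    have h' := hd (z + (-(B z p)) • x₁ + (-(B z r)) • x₂)
      (by rw [B_add_left, B_add_left, B_smul_left, B_smul_left, a1, a2]; ring)
      (by rw [B_add_left, B_add_left, B_smul_left, B_smul_left, b1, b2]; ring)
    rw [B_add_left, B_add_left, B_smul_left, B_smul_left] at h'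
    rw [sub_eq_add_neg, B_add_right, B_neg_right, B_add_right, B_smul_right, B_smul_right] at hz
    exact one_ne_zero (by linear_combination h' - hz)
  have e1 := hspan d₁ fun y a b => (hperp y a b).1
  have e2 := hspan d₂ fun y a b => (hperp y a b).2
  set α₁ := B x₁ d₁
  set β₁ := B x₂ d₁
  set α₂ := B x₁ d₂
  set β₂ := B x₂ d₂
  have hq : ∀ x, α₁ * B x p * B x p + (β₁ + α₂) * (B x p * B x r) + β₂ * B x r * B x r = 0 := by
    intro x
    have hx := Q_act σ x
    rw [hlin x, e1, e2] at hx
    simp only [Q_add, Q_smul, B_add_left, B_add_right, B_smul_left, B_smul_right, h.2.1, h.2.2.1, h.orth,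
      B_comm r p, B_self_zero h.2.1, B_self_zero h.2.2.1] at hx
    linear_combination hx
  have k1 := hq x₁
  have k2 := hq x₂
  have k3 := hq (x₁ + x₂)
  simp only [B_add_left, a1, a2, b1, b2] at k1 k2 k3
  have hα : α₁ = 0 := by linear_combination k1
  have hβ : β₂ = 0 := by linear_combination k2
  have hαβ : α₂ = -β₁ := by linear_combination k3 - hα - hβ
  refine ⟨β₁, act_ext fun x => ?_⟩
  rw [hlin x, e1, e2, el_act h, hα, hβ, hαβ]
  ext i
  simp only [Pi.add_apply, Pi.sub_apply, Pi.smul_apply, smul_eq_mul]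
  ring

theorem el_ne_one {p r : V M F} (h : Line p r) {c : F} (hc : c ≠ 0) : el p r c ≠ 1 := by
  intro e
  obtain ⟨x₁, -, a, b, -, -⟩ := exists_dual h
  have := congrArg (fun σ => act σ x₁) e
  simp only [el_act h, act_one, a, b, mul_one, mul_zero, zero_smul, sub_zero, add_eq_left, smul_eq_zero] at this
  exact this.elim hc h.ne_right

theorem T_ne_bot {p r : V M F} (h : Line p r) : T p r ≠ ⊥ := fun e =>
  el_ne_one h one_ne_zero ((Subgroup.eq_bot_iff_forall _).1 e _ (el_mem h 1))

theorem T_comm {p r : V M F} (h : Line p r) : IsMulCommutative (T p r) := by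
  refine ⟨⟨?_⟩⟩
  rintro ⟨a, ha⟩ ⟨b, hb⟩
  obtain ⟨c, rfl⟩ := (mem_T h).1 ha
  obtain ⟨d, rfl⟩ := (mem_T h).1 hb
  exact Subtype.ext (show el p r c * el p r d = el p r d * el p r c by rw [el_add h, el_add h, add_comm])

variable {p r u w : V M F}

theorem commute_of (h : Line p r) (h' : Line u w)
    (hc : ∀ c d : F, ∀ x, act (el p r c * el u w d) x = act (el u w d * el p r c) x) : ⁅T p r, T u w⁆ = ⊥ := by
  rw [Subgroup.commutator_eq_bot_iff_le_centralizer]
  intro a ha
  obtain ⟨c, rfl⟩ := (mem_T h).1 ha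
  refine Subgroup.mem_centralizer_iff.2 fun b hb => ?_
  obtain ⟨d, rfl⟩ := (mem_T h').1 hb
  exact (act_ext (hc c d)).symm

theorem commute_zero (h : Line p r) (h' : Line u w) (a : B p u = 0) (b : B p w = 0) (c : B r u = 0)
    (d : B r w = 0) : ⁅T p r, T u w⁆ = ⊥ := by
  refine commute_of h h' fun s t x => ?_
  ext i
  simp only [act_mul, el_act h, el_act h', B_sub_left, B_add_left, B_smul_left, a, b, c, d, B_comm u p,
    B_comm w p, B_comm u r, B_comm w r, Pi.add_apply, Pi.sub_apply, Pi.smul_apply, smul_eq_mul]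
  ring

theorem commute_meet (h : Line p r) (h' : Line u r) : ⁅T p r, T u r⁆ = ⊥ := by
  refine commute_of h h' fun s t x => ?_
  ext i
  simp only [act_mul, el_act h, el_act h', B_sub_left, B_add_left, B_smul_left, B_self_zero h.2.2.1, h.orth,
    h'.orth, B_comm r p, B_comm r u, B_comm u p, Pi.add_apply, Pi.sub_apply, Pi.smul_apply, smul_eq_mul]
  ring

theorem comm_eq (h : Line p r) (h' : Line u w) (h'' : Line r w) (a : B p u = 1) (b : B p w = 0)
    (c : B r u = 0) (s t : F) : ⁅el p r s, el u w t⁆ = el r w (s * t) := by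
  rw [commutatorElement_def, el_inv h, el_inv h']
  refine act_ext fun x => ?_
  ext i
  simp only [act_mul, el_act h, el_act h', el_act h'', B_sub_left, B_add_left, B_smul_left, B_self_zero h.2.1,
    B_self_zero h.2.2.1, B_self_zero h'.2.1, B_self_zero h'.2.2.1, a, b, c, h.orth, h'.orth, h''.orth,
    B_comm r p, B_comm u p, B_comm w p, B_comm u r, B_comm w r, B_comm w u,
    Pi.add_apply, Pi.sub_apply, Pi.smul_apply, smul_eq_mul]
  ring

theorem case_comm (S : Set (Subgroup (O M F))) (h : Line p r) (h' : Line u w) (h'' : Line r w)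
    (a : B p u = 1) (b : B p w = 0) (c : B r u = 0) (hS : T r w ∈ S) :
    Cfsg.RootCommutatorCase S (T p r) (T u w) := by
  have hle : ⁅T p r, T u w⁆ = T r w := by
    refine le_antisymm (Subgroup.commutator_le.2 fun x hx y hy => ?_) fun z hz => ?_
    · obtain ⟨s, rfl⟩ := (mem_T h).1 hx
      obtain ⟨t, rfl⟩ := (mem_T h').1 hy
      rw [comm_eq h h' h'' a b c]
      exact el_mem h'' _
    · obtain ⟨s, rfl⟩ := (mem_T h'').1 hz
      rw [← mul_one s, ← comm_eq h h' h'' a b c]
      exact Subgroup.commutator_mem_commutator (el_mem h _) (el_mem h' _)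
  have z0 : B r w = 0 := h''.orth
  refine ⟨hle ▸ hS, fun z hz x hx => ?_, fun x hx hx1 => ?_, fun y hy hy1 => ?_⟩
  · rw [hle] at hz
    have hc : T p r ⊔ T u w ≤ Subgroup.centralizer (T r w : Set (O M F)) :=
      sup_le (Subgroup.commutator_eq_bot_iff_le_centralizer.1
          (commute_zero h h'' h.orth b (B_self_zero h.2.2.1) z0))
        (Subgroup.commutator_eq_bot_iff_le_centralizer.1
          (commute_zero h' h'' (by rw [B_comm, c]) h'.orth (by rw [B_comm, z0]) (B_self_zero h'.2.2.1)))
    exact Subgroup.mem_centralizer_iff.1 (hc hx) z hz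
  · obtain ⟨s, rfl⟩ := (mem_T h).1 hx
    have hs : s ≠ 0 := fun e => hx1 (by rw [e, el_zero h])
    refine le_antisymm ((Subgroup.closure_le _).2 ?_) (hle.le.trans fun z hz => ?_)
    · rintro _ ⟨y, hy, rfl⟩; exact Subgroup.commutator_mem_commutator hx hy
    · obtain ⟨e, rfl⟩ := (mem_T h'').1 hz
      refine Subgroup.subset_closure ⟨el u w (s⁻¹ * e), el_mem h' _, ?_⟩
      beta_reduce
      rw [← commutatorElement_def, comm_eq h h' h'' a b c, mul_inv_cancel_left₀ hs]
  · obtain ⟨t, rfl⟩ := (mem_T h').1 hy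
    have ht : t ≠ 0 := fun e => hy1 (by rw [e, el_zero h'])
    refine le_antisymm ((Subgroup.closure_le _).2 ?_) (hle.le.trans fun z hz => ?_)
    · rintro _ ⟨x, hx, rfl⟩; exact Subgroup.commutator_mem_commutator hx hy
    · obtain ⟨e, rfl⟩ := (mem_T h'').1 hz
      refine Subgroup.subset_closure ⟨el p r (e * t⁻¹), el_mem h _, ?_⟩
      beta_reduce
      rw [← commutatorElement_def, comm_eq h h' h'' a b c, inv_mul_cancel_right₀ ht]

theorem cond (h : Line p r) (h' : Line u w) (a : B p u = 1) (b : B p w = 0) (c : B r u = 0) (d : B r w = 1) :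
    Cfsg.RankOneCondition (T p r) (T u w) := by
  intro x hx hx1
  obtain ⟨s, rfl⟩ := (mem_T h).1 hx
  have hs : s ≠ 0 := fun e => hx1 (by rw [e, el_zero h])
  refine ⟨el u w (-s⁻¹), el_mem h' _, el_ne_one h' (neg_ne_zero.2 (inv_ne_zero hs)), ?_⟩
  rw [el_inv h', el_inv h, T_conj, T_conj, el_act h', el_act h', el_act h, el_act h,
    B_comm u p, B_comm w p, B_comm u r, B_comm w r, a, b, c, d, T_swap (u + _ - _)]
  refine le_antisymm (T_mono s⁻¹ 0 0 (-s⁻¹) ?_ ?_) (T_mono s 0 0 (-s) ?_ ?_) <;>
    (ext i; simp; field_simp; ring)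

open scoped IsMulCommutative in
theorem rankOne (h : Line p r) (h' : Line u w) (a : B p u = 1) (b : B p w = 0) (c : B r u = 0) (d : B r w = 1) :
    Cfsg.IsRankOnePair (T p r) (T u w) := by
  haveI := T_comm h
  haveI := T_comm h'
  refine ⟨fun e => ?_, inferInstance, inferInstance, cond h h' a b c d,
    cond h' h (by rw [B_comm, a]) (by rw [B_comm, c]) (by rw [B_comm, b]) (by rw [B_comm, d])⟩
  have hu : act (el u w 1) p = p :=
    (e.symm ▸ el_mem h' 1 : el u w 1 ∈ T p r) p (B_self_zero h.2.1) h.orth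
  rw [el_act h', a, b] at hu
  simp at hu
  exact h'.ne_right hu

/-- The `SL₂` action attached to a pair of opposite lines. -/
def slFun (p r u w : V M F) (g : Matrix (Fin 2) (Fin 2) F) : V M F →ₗ[F] V M F where
  toFun x := x + ((g 0 0 - 1) * B x w + g 0 1 * B x p) • r + (g 1 0 * B x w + (g 1 1 - 1) * B x p) • u
    + ((g 0 0 - 1) * B x u - g 0 1 * B x r) • p + ((g 1 1 - 1) * B x r - g 1 0 * B x u) • w
  map_add' x y := by
    ext i
    simp only [B_add_left, Pi.add_apply, Pi.smul_apply, smul_eq_mul]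
    ring
  map_smul' a x := by
    ext i
    simp only [B_smul_left, Pi.add_apply, Pi.smul_apply, smul_eq_mul, RingHom.id_apply]
    ring

theorem pair_over (h : Line p r) (h' : Line u w) (a : B p u = 1) (b : B p w = 0) (c : B r u = 0) (d : B r w = 1) :
    Cfsg.IsPSL2PairOver F (T p r) (T u w) := by
  have pp := B_self_zero h.2.1
  have rr := B_self_zero h.2.2.1
  have uu := B_self_zero h'.2.1
  have ww := B_self_zero h'.2.2.1
  have ua : B u p = 1 := by rw [B_comm, a]
  have wb : B w p = 0 := by rw [B_comm, b]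
  have uc : B u r = 0 := by rw [B_comm, c]
  have wd : B w r = 1 := by rw [B_comm, d]
  have rp : B r p = 0 := by rw [B_comm, h.orth]
  have wu : B w u = 0 := by rw [B_comm, h'.orth]
  let mh : Matrix.SpecialLinearGroup (Fin 2) F →* Matrix (Fin M ⊕ Fin M) (Fin M ⊕ Fin M) F :=
    { toFun := fun g => LinearMap.toMatrix' (slFun p r u w (g : Matrix (Fin 2) (Fin 2) F))
      map_one' := by
        rw [← LinearMap.toMatrix'_id]
        congr 1
        refine LinearMap.ext fun x => ?_
        simp [slFun]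
      map_mul' := fun g g' => by
        rw [← LinearMap.toMatrix'_comp]
        congr 1
        refine LinearMap.ext fun x => ?_
        ext i
        simp only [LinearMap.comp_apply, slFun, LinearMap.coe_mk, AddHom.coe_mk, B_add_left, B_smul_left,
          pp, rr, uu, ww, a, b, c, d, ua, wb, uc, wd, rp, wu, h.orth, h'.orth,
          Matrix.SpecialLinearGroup.coe_mul, Matrix.mul_apply, Fin.sum_univ_two,
          Pi.add_apply, Pi.smul_apply, smul_eq_mul]
        ring }
  have hmem : ∀ g, mh.toHomUnits g ∈ Cfsg.isometryGroup F (Cfsg.quadFormPlus M F) := by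
    intro g x y
    show Q (mh g *ᵥ x) = Q x
    show Q (LinearMap.toMatrix' (slFun p r u w (g : Matrix (Fin 2) (Fin 2) F)) *ᵥ x) = Q x
    rw [LinearMap.toMatrix'_mulVec]
    have hdet := g.2
    rw [Matrix.det_fin_two] at hdet
    simp only [slFun, LinearMap.coe_mk, AddHom.coe_mk, Q_add, Q_smul, B_add_left, B_smul_left, B_smul_right,
      h.2.1, h.2.2.1, h'.2.1, h'.2.2.1, a, b, c, d, ua, rp, h'.orth]
    linear_combination (B x p * B x u + B x r * B x w) * hdet
  let φ : Matrix.SpecialLinearGroup (Fin 2) F →* O M F := mh.toHomUnits.codRestrict _ hmem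
  have hact : ∀ g x, act (φ g) x = slFun p r u w (g : Matrix (Fin 2) (Fin 2) F) x :=
    fun g x => LinearMap.toMatrix'_mulVec _ x
  have up : ∀ g : Matrix.SpecialLinearGroup (Fin 2) F, (g : Matrix (Fin 2) (Fin 2) F) 1 0 = 0 →
      (g : Matrix (Fin 2) (Fin 2) F) 0 0 = 1 → (g : Matrix (Fin 2) (Fin 2) F) 1 1 = 1 →
      φ g = el p r ((g : Matrix (Fin 2) (Fin 2) F) 0 1) := fun g e1 e2 e3 => act_ext fun x => by
    rw [hact, el_act h]
    ext i
    simp [slFun, e1, e2, e3]
    ring
  have low : ∀ g : Matrix.SpecialLinearGroup (Fin 2) F, (g : Matrix (Fin 2) (Fin 2) F) 0 1 = 0 →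
      (g : Matrix (Fin 2) (Fin 2) F) 0 0 = 1 → (g : Matrix (Fin 2) (Fin 2) F) 1 1 = 1 →
      φ g = el u w (-((g : Matrix (Fin 2) (Fin 2) F) 1 0)) := fun g e1 e2 e3 => act_ext fun x => by
    rw [hact, el_act h']
    ext i
    simp [slFun, e1, e2, e3]
    ring
  have hU : (Cfsg.upperUnipotentSL2 F).map φ = T p r := by
    refine le_antisymm ?_ fun z hz => ?_
    · rw [Cfsg.upperUnipotentSL2, MonoidHom.map_closure, Subgroup.closure_le]
      rintro _ ⟨g, ⟨e1, e2, e3⟩, rfl⟩
      rw [up g e1 e2 e3]
      exact el_mem h _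
    · obtain ⟨s, rfl⟩ := (mem_T h).1 hz
      exact ⟨⟨!![1, s; 0, 1], by simp [Matrix.det_fin_two]⟩, Subgroup.subset_closure ⟨rfl, rfl, rfl⟩,
        up _ rfl rfl rfl⟩
  have hL : (Cfsg.lowerUnipotentSL2 F).map φ = T u w := by
    refine le_antisymm ?_ fun z hz => ?_
    · rw [Cfsg.lowerUnipotentSL2, MonoidHom.map_closure, Subgroup.closure_le]
      rintro _ ⟨g, ⟨e1, e2, e3⟩, rfl⟩
      rw [low g e1 e2 e3]
      exact el_mem h' _
    · obtain ⟨s, rfl⟩ := (mem_T h').1 hz
      refine ⟨⟨!![1, 0; -s, 1], by simp [Matrix.det_fin_two]⟩, Subgroup.subset_closure ⟨rfl, rfl, rfl⟩,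
        (low _ rfl rfl rfl).trans ?_⟩
      show el u w (- -s) = _
      rw [neg_neg]
  refine ⟨φ, ?_, fun g hg => ?_, hU, hL⟩
  · rw [← hU, ← hL, ← Subgroup.map_sup, MonoidHom.range_eq_map]
    congr 1
    symm
    refine CfsgLib.Lie.SLn.eq_top_of_transvection_mem _ fun i k hik t => ?_
    revert i k
    rw [Fin.forall_fin_two]
    refine ⟨?_, ?_⟩ <;> rw [Fin.forall_fin_two] <;> refine ⟨fun hik => ?_, fun hik => ?_⟩
    · exact absurd rfl hik
    · refine Subgroup.mem_sup_left (Subgroup.subset_closure ⟨?_, ?_, ?_⟩) <;>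
        simp [Matrix.SpecialLinearGroup.transvection, Matrix.transvection, Matrix.single]
    · refine Subgroup.mem_sup_right (Subgroup.subset_closure ⟨?_, ?_, ?_⟩) <;>
        simp [Matrix.SpecialLinearGroup.transvection, Matrix.transvection, Matrix.single]
    · exact absurd rfl hik
  · have h1 : slFun p r u w (g : Matrix (Fin 2) (Fin 2) F) r = r := by
      rw [← hact, MonoidHom.mem_ker.1 hg, act_one]
    have h2 : slFun p r u w (g : Matrix (Fin 2) (Fin 2) F) u = u := by
      rw [← hact, MonoidHom.mem_ker.1 hg, act_one]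
    have e1 := congrArg (fun x => B x w) h1
    have e2 := congrArg (fun x => B x p) h1
    have e3 := congrArg (fun x => B x w) h2
    have e4 := congrArg (fun x => B x p) h2
    simp only [slFun, LinearMap.coe_mk, AddHom.coe_mk, B_add_left, B_smul_left, pp, rr, uu, ww, a, b, c, d, ua,
      wb, uc, wd, rp, wu, h.orth, h'.orth] at e1 e2 e3 e4
    have : g = 1 := by
      refine Subtype.ext (Matrix.ext fun i j => ?_)
      fin_cases i <;> fin_cases j <;> simp
      · linear_combination e1
      · linear_combination e3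
      · linear_combination e2
      · linear_combination e4
    rw [this]
    exact one_mem _

theorem normalize (h' : Line u w) (Δ : B p u * B r w - B p w * B r u ≠ 0) :
    ∃ u' w', Line u' w' ∧ T u' w' = T u w ∧ B p u' = 1 ∧ B p w' = 0 ∧ B r u' = 0 ∧ B r w' = 1 := by
  set D := B p u * B r w - B p w * B r u with hD
  refine ⟨(B r w / D) • u + (-(B r u / D)) • w, (-(B p w / D)) • u + (B p u / D) • w, ?_, ?_, ?_, ?_, ?_, ?_⟩
  · refine line_mk (fun e => ?_) (fun s e => ?_) ?_ ?_ ?_
    · have := congrArg (B p) e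
      rw [B_add_right, B_smul_right, B_smul_right, B_comm p 0, B_zero_left] at this
      field_simp at this
      exact Δ (by linear_combination this)
    · have h1 := congrArg (B p) e
      have h2 := congrArg (B r) e
      simp only [B_add_right, B_smul_right] at h1 h2
      field_simp at h1 h2
      exact Δ (by linear_combination h2)
    all_goals simp only [Q_add, Q_smul, B_add_left, B_add_right, B_smul_left, B_smul_right, h'.2.1, h'.2.2.1,
      h'.orth, B_comm w u, B_self_zero h'.2.1, B_self_zero h'.2.2.1]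
    all_goals ring
  · refine le_antisymm (T_mono _ _ _ _ rfl rfl) (T_mono (B p u) (B r u) (B p w) (B r w) ?_ ?_)
    all_goals (ext i; simp only [Pi.add_apply, Pi.smul_apply, smul_eq_mul]; field_simp; linear_combination (0 : F))
  all_goals simp only [B_add_right, B_smul_right]
  all_goals field_simp
  all_goals linear_combination (0 : F)

theorem rank_pair_of_det (h : Line p r) (h' : Line u w) (Δ : B p u * B r w - B p w * B r u ≠ 0) :
    Cfsg.IsRankOnePair (T p r) (T u w) ∧ Cfsg.IsPSL2PairOver F (T p r) (T u w) := by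
  obtain ⟨u', w', hl, hT, a, b, c, d⟩ := normalize h' Δ
  rw [← hT]
  exact ⟨rankOne h hl a b c d, pair_over h hl a b c d⟩

/-- Shapes of a pair with degenerate pairing. -/
theorem degenerate_cases (h : Line p r) (h' : Line u w) (Δ : B p u * B r w - B p w * B r u = 0) :
    ⁅T p r, T u w⁆ = ⊥ ∨ ∃ p' r' u' w', Line p' r' ∧ Line u' w' ∧ Line r' w' ∧ T p' r' = T p r ∧
      T u' w' = T u w ∧ B p' u' = 1 ∧ B p' w' = 0 ∧ B r' u' = 0 ∧ B r' w' = 0 := by
  have main : ∀ p r u w : V M F, Line p r → Line u w → B p u * B r w - B p w * B r u = 0 → B p u ≠ 0 →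
      ⁅T p r, T u w⁆ = ⊥ ∨ ∃ p' r' u' w', Line p' r' ∧ Line u' w' ∧ Line r' w' ∧ T p' r' = T p r ∧
        T u' w' = T u w ∧ B p' u' = 1 ∧ B p' w' = 0 ∧ B r' u' = 0 ∧ B r' w' = 0 := by
    intro p r u w h h' Δ ha
    set s := B p u with hs
    set r' := r + (-(B r u / s)) • p with hr'
    set u' := s⁻¹ • u with hu'
    set w' := w + (-(B p w / s)) • u with hw'
    have hl : Line p r' := by
      refine line_mk h.ne_left (fun t e => h.not_mem (t + B r u / s) ?_) h.2.1 ?_ ?_
      · rw [hr'] at e
        rw [← sub_eq_zero] at e ⊢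
        rw [← e]
        ext i
        simp
        ring
      all_goals simp only [hr', Q_add, Q_smul, B_add_right, B_smul_right, h.2.1, h.2.2.1, h.orth, B_comm r p,
        B_self_zero h.2.1]
      all_goals ring
    have hl' : Line u' w' := by
      refine line_mk (smul_ne_zero (inv_ne_zero ha) h'.ne_left) (fun t e => h'.not_mem (t * s⁻¹ + B p w / s) ?_) ?_ ?_ ?_
      · rw [hw', hu'] at e
        rw [← sub_eq_zero] at e ⊢
        rw [← e]
        ext i
        simp
        ring
      all_goals simp only [hu', hw', Q_add, Q_smul, B_add_right, B_smul_right, B_smul_left, h'.2.1, h'.2.2.1,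
        h'.orth, B_comm w u, B_self_zero h'.2.1]
      all_goals ring
    have hT : T p r' = T p r := by
      refine le_antisymm (T_mono 1 0 (-(B r u / s)) 1 ?_ ?_) (T_mono 1 0 (B r u / s) 1 ?_ ?_)
      all_goals (ext i; simp [hr'])
      all_goals ring
    have hT' : T u' w' = T u w := by
      refine le_antisymm (T_mono s⁻¹ 0 (-(B p w / s)) 1 ?_ ?_) (T_mono s 0 (B p w) 1 ?_ ?_)
      all_goals (ext i; simp [hu', hw'])
      all_goals field_simp
      all_goals ring
    have e1 : B p u' = 1 := by rw [hu', B_smul_right, ← hs, inv_mul_cancel₀ ha]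
    have e2 : B p w' = 0 := by rw [hw', B_add_right, B_smul_right, ← hs]; field_simp; ring
    have e3 : B r' u' = 0 := by
      simp only [hr', hu', B_add_left, B_smul_left, B_smul_right, ← hs]; field_simp; ring
    have e4 : B r' w' = 0 := by
      simp only [hr', hw', B_add_left, B_smul_left, B_add_right, B_smul_right, ← hs]
      field_simp
      linear_combination Δ
    by_cases hdep : ∃ t : F, w' = t • r'
    · obtain ⟨t, ht⟩ := hdep
      have ht0 : t ≠ 0 := fun e => hl'.ne_right (by rw [ht, e, zero_smul])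
      have hl'' : Line u' r' := by
        refine line_mk hl'.ne_left (fun k e => hl'.not_mem (t * k) (by rw [ht, e, smul_smul])) hl'.2.1
          hl.2.2.1 (by rw [B_comm, e3])
      left
      rw [← hT, ← hT', show T u' w' = T u' r' by
        rw [ht, ← T_smul (p := u') (r := r') (one_ne_zero (α := F)) ht0, one_smul]]
      exact commute_meet hl hl''
    · push Not at hdep
      exact Or.inr ⟨p, r', u', w', hl, hl', line_mk hl.ne_right hdep hl.2.2.1 hl'.2.2.1 e4, hT, hT', e1, e2, e3, e4⟩
  by_cases ha : B p u = 0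
  · by_cases hb : B p w = 0
    · by_cases hc : B r u = 0
      · by_cases hd : B r w = 0
        · exact Or.inl (commute_zero h h' ha hb hc hd)
        · have := main r p w u h.symm h'.symm (by rw [ha, hb, hc]; ring) hd
          rwa [T_swap r p, T_swap w u] at this
      · have := main r p u w h.symm h' (by rw [ha, hb]; ring) hc
        rwa [T_swap r p] at this
    · have := main p r w u h h'.symm (by linear_combination -Δ) hb
      rwa [T_swap w u] at this
  · exact main p r u w h h' Δ ha

theorem trichotomy (S : Set (Subgroup (O M F))) (hS : ∀ p r : V M F, Line p r → T p r ∈ S)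
    (h : Line p r) (h' : Line u w) :
    ⁅T p r, T u w⁆ = ⊥ ∨ Cfsg.IsRankOnePair (T p r) (T u w) ∨ Cfsg.RootCommutatorCase S (T p r) (T u w) := by
  by_cases Δ : B p u * B r w - B p w * B r u = 0
  · rcases degenerate_cases h h' Δ with e | ⟨p', r', u', w', hl, hl', hl'', e1, e2, a, b, c, -⟩
    · exact Or.inl e
    · rw [← e1, ← e2]
      exact Or.inr (Or.inr (case_comm S hl hl' hl'' a b c (hS _ _ hl'')))
  · exact Or.inr (Or.inl (rank_pair_of_det h h' Δ).1)

theorem det_of_rankOne (h : Line p r) (h' : Line u w) (hr : Cfsg.IsRankOnePair (T p r) (T u w)) :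
    B p u * B r w - B p w * B r u ≠ 0 := by
  intro Δ
  rcases degenerate_cases h h' Δ with e | ⟨p', r', u', w', hl, hl', hl'', e1, e2, a, b, c, d⟩
  · obtain ⟨s, hs, -, hc⟩ := hr.cond_left (el p r 1) (el_mem h 1) (el_ne_one h one_ne_zero)
    refine hr.ne ?_
    have h1 : Cfsg.conjBy (T p r) s⁻¹ = T p r := by
      refine Subgroup.mem_normalizer_iff_map_conj_eq.1 (inv_mem (Subgroup.centralizer_le_normalizer _ ?_))
      exact Subgroup.commutator_eq_bot_iff_le_centralizer.1 (by rw [Subgroup.commutator_comm, e]) hs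
    have h2 : Cfsg.conjBy (T u w) (el p r 1)⁻¹ = T u w := by
      refine Subgroup.mem_normalizer_iff_map_conj_eq.1 (inv_mem (Subgroup.centralizer_le_normalizer _ ?_))
      exact Subgroup.commutator_eq_bot_iff_le_centralizer.1 e (el_mem h 1)
    rwa [h1, h2] at hc
  · rw [← e1, ← e2] at hr
    obtain ⟨s, hs, -, hc⟩ := hr.cond_left (el p' r' 1) (el_mem hl 1) (el_ne_one hl one_ne_zero)
    obtain ⟨t, rfl⟩ := (mem_T hl').1 hs
    rw [T_conj, T_conj, el_inv hl', el_inv hl] at hc
    have ur : B u' r' = 0 := by rw [B_comm, c]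
    have wr : B w' r' = 0 := by rw [B_comm, d]
    have up : B u' p' = 1 := by rw [B_comm, a]
    have wp : B w' p' = 0 := by rw [B_comm, b]
    have hrr := B_self_zero hl.2.2.1
    have huu := B_self_zero hl'.2.1
    have hww := B_self_zero hl'.2.2.1
    have huw := hl'.orth
    have hL := line_act (el p' r' (-1)) hl'
    obtain ⟨y, hy1, hy2⟩ := exists_B_zero_one hl''.ne_left hl''.not_mem
    set P' := act (el u' w' (-t)) p' with hP'
    set R' := act (el u' w' (-t)) r' with hR'
    set y' := y + (-(B y P')) • u' with hy'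
    have hRe : R' = r' := by
      rw [hR', el_act hl', c, d]
      simp
    have huP : B u' P' = 1 := by
      rw [hP', el_act hl', a, b, B_comm u', B_sub_left, B_add_left, B_smul_left, B_smul_left,
        B_comm p' u', up, B_comm w' u', huw]
      ring
    have k1 : B y' P' = 0 := by rw [hy', B_add_left, B_smul_left, huP]; ring
    have k2 : B y' R' = 0 := by rw [hy', hRe, B_add_left, B_smul_left, hy1, ur]; ring
    have k3 : B y' w' = 1 := by rw [hy', B_add_left, B_smul_left, hy2, huw]; ring
    have hfix := (hc ▸ el_mem hL 1 : el (act (el p' r' (-1)) u') (act (el p' r' (-1)) w') 1 ∈ T P' R') y' k1 k2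
    rw [el_act hL] at hfix
    have hwe : act (el p' r' (-1)) w' = w' := by rw [el_act hl, wp, wr]; simp
    rw [hwe, k3, one_mul, one_mul, one_smul] at hfix
    have := congrArg (fun z => B z p') hfix
    simp only [B_sub_left, B_add_left, B_smul_left, wp, el_act hl, up, ur, hl.orth, B_comm r' p',
      B_self_zero hl.2.1, mul_zero, mul_one, add_zero, sub_zero] at this
    simp at this

/-- The adjacency of lines. -/
def Adj (a b : V M F × V M F) : Prop :=
  Line a.1 a.2 ∧ Line b.1 b.2 ∧ B a.1 b.1 * B a.2 b.2 - B a.1 b.2 * B a.2 b.1 ≠ 0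

theorem exists_partner {p : V M F} (hp : p ≠ 0) (hq : Q p = 0) : ∃ u, Q u = 0 ∧ B p u = 1 := by
  obtain ⟨y, hy⟩ := exists_B_one hp
  refine ⟨y + (-(Q y)) • p, ?_, ?_⟩
  · rw [Q_add, Q_smul, hq, B_smul_right, hy]; ring
  · rw [B_add_right, B_smul_right, B_self_zero hq, B_comm, hy]; ring

theorem exists_nonsingular (hM : 3 ≤ M) {p u r s : V M F} (pp : Q p = 0) (uu : Q u = 0) (rr : Q r = 0)
    (ss : Q s = 0) (pu : B p u = 1) (rs : B r s = 1) (pr : B p r = 0) (ps : B p s = 0) (ur : B u r = 0)
    (us : B u s = 0) : ∃ x, B x p = 0 ∧ B x u = 0 ∧ B x r = 0 ∧ B x s = 0 ∧ Q x ≠ 0 := by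
  set P : V M F → V M F :=
    fun y => y + (-(B y u)) • p + (-(B y p)) • u + (-(B y s)) • r + (-(B y r)) • s with hP
  have hperp : ∀ y, B (P y) p = 0 ∧ B (P y) u = 0 ∧ B (P y) r = 0 ∧ B (P y) s = 0 := by
    intro y
    simp only [hP, B_add_left, B_smul_left, pu, rs, pr, ps, ur, us, B_comm u p, B_comm r p, B_comm s p,
      B_comm r u, B_comm s u, B_comm s r, B_self_zero pp, B_self_zero uu, B_self_zero rr, B_self_zero ss]
    refine ⟨?_, ?_, ?_, ?_⟩ <;> ring
  obtain ⟨y, hy⟩ : ∃ y, P y ≠ 0 := by
    by_contra hall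
    push Not at hall
    have htop : (⊤ : Submodule F (V M F)) ≤ Submodule.span F (Set.range ![p, u, r, s]) := by
      intro y _
      have hy' := hall y
      rw [show y = B y u • p + B y p • u + B y s • r + B y r • s by
        ext i
        have := congrFun hy' i
        simp [hP] at this
        simp
        linear_combination this]
      refine Submodule.add_mem _ (Submodule.add_mem _ (Submodule.add_mem _ ?_ ?_) ?_) ?_ <;>
        refine Submodule.smul_mem _ _ (Submodule.subset_span ?_)
      exacts [⟨0, rfl⟩, ⟨1, rfl⟩, ⟨2, rfl⟩, ⟨3, rfl⟩]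
    have h1 := Submodule.finrank_mono htop
    rw [finrank_top] at h1
    have h2 := (h1.trans (finrank_range_le_card (R := F) ![p, u, r, s]))
    simp [Module.finrank_pi, Fintype.card_sum] at h2
    omega
  by_cases hq : Q (P y) = 0
  · obtain ⟨z, hz⟩ := exists_B_one hy
    have hz' : B (P z) (P y) = 1 := by
      obtain ⟨h1, h2, h3, h4⟩ := hperp y
      show B (z + (-(B z u)) • p + (-(B z p)) • u + (-(B z s)) • r + (-(B z r)) • s) (P y) = 1
      rw [B_add_left, B_add_left, B_add_left, B_add_left, B_smul_left, B_smul_left, B_smul_left, B_smul_left,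
        B_comm p, h1, B_comm u (P y), h2, B_comm r (P y), h3, B_comm s (P y), h4, hz]
      ring
    by_cases hq' : Q (P z) = 0
    · obtain ⟨h1, h2, h3, h4⟩ := hperp y
      obtain ⟨g1, g2, g3, g4⟩ := hperp z
      refine ⟨P z + P y, ?_, ?_, ?_, ?_, ?_⟩
      · rw [B_add_left, g1, h1, add_zero]
      · rw [B_add_left, g2, h2, add_zero]
      · rw [B_add_left, g3, h3, add_zero]
      · rw [B_add_left, g4, h4, add_zero]
      · rw [Q_add, hq', hq, hz']; simp
    · exact ⟨P z, (hperp z).1, (hperp z).2.1, (hperp z).2.2.1, (hperp z).2.2.2, hq'⟩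
  · exact ⟨P y, (hperp y).1, (hperp y).2.1, (hperp y).2.2.1, (hperp y).2.2.2, hq⟩

/-- Two lines through a point have a common opposite line. -/
theorem common_opposite (hM : 3 ≤ M) {p r r' : V M F} (h : Line p r) (h' : Line p r') :
    ∃ u w, Adj (p, r) (u, w) ∧ Adj (u, w) (p, r') := by
  obtain ⟨u, uu, pu⟩ := exists_partner h.ne_left h.2.1
  have norm : ∀ r : V M F, Line p r → ∃ r₁, Line p r₁ ∧ B r₁ u = 0 ∧
      (∀ w, B p w = 0 → B r w = B r₁ w) := by
    intro r h
    refine ⟨r + (-(B r u)) • p, ?_, ?_, ?_⟩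
    · refine line_mk h.ne_left (fun t e => h.not_mem (t + B r u) ?_) h.2.1 ?_ ?_
      · ext i
        have := congrFun e i
        simp at this ⊢
        linear_combination this
      all_goals simp only [Q_add, Q_smul, B_add_right, B_smul_right, h.2.1, h.2.2.1, h.orth, B_comm r p,
        B_self_zero h.2.1]
      all_goals ring
    · rw [B_add_left, B_smul_left, pu]; ring
    · intro w hw; rw [B_add_left, B_smul_left, hw]; ring
  obtain ⟨r₁, hr₁, e₁, k₁⟩ := norm r h
  obtain ⟨r₂, hr₂, e₂, k₂⟩ := norm r' h'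
  suffices ∃ w, Q w = 0 ∧ B p w = 0 ∧ B u w = 0 ∧ B r₁ w ≠ 0 ∧ B r₂ w ≠ 0 by
    obtain ⟨w, qw, pw, uw, a, b⟩ := this
    have hu : Line u w := by
      refine line_mk (fun e => ?_) (fun t e => ?_) uu qw uw
      · rw [e, B_comm, B_zero_left] at pu; exact zero_ne_one pu
      · rw [e, B_smul_right, e₁, mul_zero] at a; exact a rfl
    refine ⟨u, w, ⟨h, hu, ?_⟩, hu, h', ?_⟩
    · show B p u * B r w - B p w * B r u ≠ 0
      rw [pu, pw, k₁ w pw]; simpa using a
    · show B u p * B w r' - B u r' * B w p ≠ 0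
      rw [B_comm u p, pu, B_comm w r', k₂ w pw, B_comm w p, pw]; simpa using b
  by_cases hrr : B r₁ r₂ = 0
  · obtain ⟨x, a, b⟩ : ∃ x, B x r₁ ≠ 0 ∧ B x r₂ ≠ 0 := by
      obtain ⟨x, a, b⟩ := TSL.exists_both (swap_ne hr₁.ne_right) (swap_ne hr₂.ne_right)
      exact ⟨x, by rwa [dot_swap] at a, by rwa [dot_swap] at b⟩
    set y := x + (-(B x u)) • p + (-(B x p)) • u with hy
    have yp : B y p = 0 := by
      simp only [hy, B_add_left, B_smul_left, B_self_zero h.2.1, B_comm u p, pu]; ring
    have yu : B y u = 0 := by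
      simp only [hy, B_add_left, B_smul_left, B_self_zero uu, pu]; ring
    have y1 : B y r₁ = B x r₁ := by
      simp only [hy, B_add_left, B_smul_left, hr₁.orth, B_comm u r₁, e₁]; ring
    have y2 : B y r₂ = B x r₂ := by
      simp only [hy, B_add_left, B_smul_left, hr₂.orth, B_comm u r₂, e₂]; ring
    refine ⟨y + (-(Q y / B y r₁)) • r₁, ?_, ?_, ?_, ?_, ?_⟩
    · rw [Q_add, Q_smul, hr₁.2.2.1, B_smul_right, y1]; field_simp; ring
    · rw [B_add_right, B_smul_right, B_comm p y, yp, hr₁.orth]; ring
    · rw [B_add_right, B_smul_right, B_comm u y, yu, B_comm u r₁, e₁]; ring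
    · rw [B_add_right, B_smul_right, B_self_zero hr₁.2.2.1, mul_zero, add_zero, B_comm, y1]; exact a
    · rw [B_add_right, B_smul_right, B_comm r₂ r₁, hrr, mul_zero, add_zero, B_comm, y2]; exact b
  · set s := (B r₁ r₂)⁻¹ • r₂ with hs
    have ss : Q s = 0 := by rw [hs, Q_smul, hr₂.2.2.1, mul_zero]
    have rs : B r₁ s = 1 := by rw [hs, B_smul_right, inv_mul_cancel₀ hrr]
    have ps : B p s = 0 := by rw [hs, B_smul_right, hr₂.orth, mul_zero]
    have us : B u s = 0 := by rw [hs, B_smul_right, B_comm u r₂, e₂, mul_zero]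
    have ur : B u r₁ = 0 := by rw [B_comm, e₁]
    obtain ⟨x, xp, xu, xr, xs, hq⟩ := exists_nonsingular hM h.2.1 uu hr₁.2.2.1 ss pu rs hr₁.orth ps ur us
    refine ⟨r₁ + (-(Q x)) • s + x, ?_, ?_, ?_, ?_, ?_⟩
    · simp only [Q_add, Q_smul, ss, hr₁.2.2.1, B_smul_right, B_add_left, B_smul_left, rs, B_comm r₁ x, xr,
        B_comm s x, xs]
      ring
    · rw [B_add_right, B_add_right, B_smul_right, hr₁.orth, ps, B_comm p x, xp]; ring
    · rw [B_add_right, B_add_right, B_smul_right, ur, us, B_comm u x, xu]; ring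
    · rw [B_add_right, B_add_right, B_smul_right, B_self_zero hr₁.2.2.1, rs, B_comm r₁ x, xr]
      simpa using hq
    · have : r₂ = B r₁ r₂ • s := by rw [hs, smul_smul, mul_inv_cancel₀ hrr, one_smul]
      rw [this, B_smul_left, B_add_right, B_add_right, B_smul_right, B_self_zero ss, B_comm s r₁, rs, B_comm s x, xs]
      simpa using hrr

/-- Two singular points are collinear with a third. -/
theorem exists_middle_point (hM : 3 ≤ M) {r r' : V M F} (hr : r ≠ 0) (hr' : r' ≠ 0) (hrr : B r r' ≠ 0)
    (q : Q r = 0) (q' : Q r' = 0) : ∃ t, Line r t ∧ Line t r' := by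
  let f : (Fin M → F) →ₗ[F] (F × F) :=
    { toFun := fun a => (B (Sum.elim a 0) r, B (Sum.elim a 0) r')
      map_add' := fun a b => by
        have : (Sum.elim (a + b) 0 : V M F) = Sum.elim a 0 + Sum.elim b 0 := by ext (i | i) <;> simp
        rw [this, B_add_left, B_add_left]; rfl
      map_smul' := fun c a => by
        have : (Sum.elim (c • a) 0 : V M F) = c • Sum.elim a 0 := by ext (i | i) <;> simp
        rw [this, B_smul_left, B_smul_left]; rfl }
  have hker : LinearMap.ker f ≠ ⊥ := LinearMap.ker_ne_bot_of_finrank_lt (by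
    rw [Module.finrank_prod, Module.finrank_self, Module.finrank_pi, Fintype.card_fin]; omega)
  obtain ⟨a, ha, ha0⟩ := (Submodule.ne_bot_iff _).1 hker
  have ha' : (B (Sum.elim a 0) r, B (Sum.elim a 0) r') = (0, 0) := ha
  rw [Prod.mk.injEq] at ha'
  set t : V M F := Sum.elim a 0 with ht
  have qt : Q t = 0 := by simp [Cfsg.quadFormPlus, ht]
  have t0 : t ≠ 0 := fun e => ha0 (funext fun i => by simpa [ht] using congrFun e (.inl i))
  refine ⟨t, line_mk hr (fun c e => ?_) q qt (by rw [B_comm, ha'.1]),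
    line_mk t0 (fun c e => ?_) qt q' ha'.2⟩
  · have := ha'.2
    rw [e, B_smul_left, mul_eq_zero] at this
    rcases this with rfl | h
    · exact t0 (by rw [e, zero_smul])
    · exact hrr h
  · exact hrr (by rw [e, B_smul_right, B_comm r t, ha'.1, mul_zero])

theorem Adj.symm {a b : V M F × V M F} (h : Adj a b) : Adj b a := by
  refine ⟨h.2.1, h.1, ?_⟩
  rw [B_comm b.1 a.1, B_comm b.2 a.2, B_comm b.1 a.2, B_comm b.2 a.1]
  simpa [mul_comm] using h.2.2

/-- One step: opposite lines, or equal groups. -/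
def Step (a b : V M F × V M F) : Prop := Adj a b ∨ (Line b.1 b.2 ∧ T a.1 a.2 = T b.1 b.2)

/-- The graph of opposite lines is connected. -/
theorem connected (hM : 3 ≤ M) {p r u w : V M F} (h : Line p r) (h' : Line u w) :
    ∃ (u' w' : V M F), Line u' w' ∧ T u' w' = T u w ∧
      Relation.ReflTransGen Step (p, r) (u', w') := by
  refine ⟨u, w, h', rfl, ?_⟩
  have shared : ∀ x y z : V M F, Line x y → Line x z →
      Relation.ReflTransGen Step (x, y) (x, z) := by
    intro x y z hy hz
    obtain ⟨s, t, a, b⟩ := common_opposite hM hy hz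
    exact (Relation.ReflTransGen.single (show Step _ _ from Or.inl a)).tail (Or.inl b)
  have flip : ∀ x y : V M F, Line x y →
      Relation.ReflTransGen Step (x, y) (y, x) :=
    fun x y hy => Relation.ReflTransGen.single (Or.inr ⟨hy.symm, T_swap x y⟩)
  by_cases hpu : B p u = 0
  · by_cases hdep : ∃ c : F, u = c • p
    · obtain ⟨c, rfl⟩ := hdep
      have hc : c ≠ 0 := fun e => h'.ne_left (by rw [e, zero_smul])
      have hl : Line p w := by
        refine line_mk h.ne_left (fun k e => h'.not_mem (k * c⁻¹) ?_) h.2.1 h'.2.2.1 ?_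
        · rw [smul_smul, inv_mul_cancel_right₀ hc, e]
        · have := h'.orth
          rw [B_smul_left, mul_eq_zero] at this
          exact this.resolve_left hc
      refine (shared p r w h hl).tail (Or.inr ⟨h', ?_⟩)
      show T p w = T (c • p) w
      conv_rhs => rw [← one_smul F w]
      exact (T_smul hc one_ne_zero).symm
    · push Not at hdep
      have hl : Line p u := line_mk h.ne_left hdep h.2.1 h'.2.1 hpu
      exact ((shared p r u h hl).trans (flip p u hl)).trans (shared u p w hl.symm h')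
  · obtain ⟨t, h1, h2⟩ := exists_middle_point hM h.ne_left h'.ne_left hpu h.2.1 h'.2.1
    exact ((((shared p r t h h1).trans (flip p t h1)).trans (shared t p u h1.symm h2)).trans (flip t u h2)).trans
      (shared u t w h2.symm h')

end CfsgLib.Inv.Siegel
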