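import Cfsg.Prelude.Def_Involutions
import Cfsg.Agent.Inv.Dihedral
import Mathlib.GroupTheory.Sylow
import Mathlib.GroupTheory.GroupAction.Quotient
import Mathlib.GroupTheory.Nilpotent
import Mathlib.Tactic

/-! Strongly embedded subgroups. -/

set_option autoImplicit false
set_option linter.style.haveILetI false

namespace CfsgLib.Inv

variable {G : Type*} [Group G]

theorem mem_conj_map {H : Subgroup G} {g t : G} :
    t ∈ H.map (MulAut.conj g).toMonoidHom ↔ g⁻¹ * t * g ∈ H := by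
  constructor
  · rintro ⟨h, hh, rfl⟩; simpa [mul_assoc] using hh
  · intro h; exact ⟨_, h, by simp [mul_assoc]⟩

/-- Strong embedding in terms of involutions. -/
theorem se_iff_invol [Finite G] (H : Subgroup G) :
    Cfsg.IsStronglyEmbedded H ↔ H ≠ ⊤ ∧ Even (Nat.card H) ∧
      ∀ g t : G, orderOf t = 2 → t ∈ H → g⁻¹ * t * g ∈ H → g ∈ H := by
  haveI : Fact (Nat.Prime 2) := ⟨Nat.prime_two⟩
  refine and_congr Iff.rfl (and_congr Iff.rfl ⟨fun h g t ht htH htg => ?_, fun h g hg => ?_⟩)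
  · by_contra hg
    have hm : t ∈ H ⊓ H.map (MulAut.conj g).toMonoidHom := ⟨htH, mem_conj_map.2 htg⟩
    refine Nat.not_even_iff_odd.2 (h g hg) (even_iff_two_dvd.2 ?_)
    rw [← ht, ← Subgroup.orderOf_mk t hm]
    exact orderOf_dvd_natCard _
  · by_contra ho
    obtain ⟨⟨t, ht'⟩, ht⟩ :=
      exists_prime_orderOf_dvd_card' 2 (even_iff_two_dvd.1 (Nat.not_odd_iff_even.1 ho))
    rw [Subgroup.orderOf_mk] at ht
    exact hg (h g t ht ht'.1 (mem_conj_map.1 ht'.2))

theorem exists_invol_of_even [Finite G] {H : Subgroup G} (h : Even (Nat.card H)) :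
    ∃ t ∈ H, orderOf t = 2 := by
  haveI : Fact (Nat.Prime 2) := ⟨Nat.prime_two⟩
  obtain ⟨⟨t, htH⟩, ht⟩ := exists_prime_orderOf_dvd_card' 2 (even_iff_two_dvd.1 h)
  exact ⟨t, htH, by rwa [Subgroup.orderOf_mk] at ht⟩

theorem se_centralizer_le [Finite G] {H : Subgroup G} (hH : Cfsg.IsStronglyEmbedded H) {t : G}
    (htH : t ∈ H) (ht : orderOf t = 2) : Subgroup.centralizer ({t} : Set G) ≤ H := fun g hg => by
  refine ((se_iff_invol H).1 hH).2.2 g t ht htH ?_
  rw [mul_assoc, ← Subgroup.mem_centralizer_singleton_iff.1 hg, inv_mul_cancel_left]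
  exact htH

theorem se_mem_of_conj [Finite G] {H : Subgroup G} (hH : Cfsg.IsStronglyEmbedded H) {t g : G}
    (htH : t ∈ H) (ht : orderOf t = 2) (h : g * t * g⁻¹ ∈ H) : g ∈ H := by
  refine ((se_iff_invol H).1 hH).2.2 g _ (invol_conj ht g) h ?_
  rwa [show g⁻¹ * (g * t * g⁻¹) * g = t by group]

theorem fixed_coset_iff {H : Subgroup G} {t g : G} :
    t • (g : G ⧸ H) = g ↔ g⁻¹ * t * g ∈ H := by
  rw [MulAction.Quotient.smul_mk, smul_eq_mul, eq_comm, QuotientGroup.eq, mul_assoc]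

end CfsgLib.Inv
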