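import Cfsg.Prelude.Def_SylowControl
import Cfsg.Agent.Solv.Basic
import Mathlib.GroupTheory.Sylow
import Mathlib.Tactic.Group

/-!
Transport of `sylowMembers` by conjugation.
-/

set_option autoImplicit false

namespace CfsgLib.Inv

open Cfsg

variable {G : Type*} [Group G] {p : ℕ}

theorem mem_conjR {g : G} {X : Subgroup G} {y : G} :
    y ∈ subgroupConjRight g X ↔ g * y * g⁻¹ ∈ X := by
  rw [subgroupConjRight, CfsgLib.Solv.mem_map_conj_iff, inv_inv]

theorem conjR_mul (g h : G) (X : Subgroup G) :
    subgroupConjRight (g * h) X = subgroupConjRight h (subgroupConjRight g X) := by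
  ext y
  simp only [mem_conjR]
  rw [show g * (h * y * h⁻¹) * g⁻¹ = g * h * y * (g * h)⁻¹ by group]

theorem conjR_one (X : Subgroup G) : subgroupConjRight 1 X = X := by
  ext y; simp [mem_conjR]

theorem conjR_inf (g : G) (X Y : Subgroup G) :
    subgroupConjRight g (X ⊓ Y) = subgroupConjRight g X ⊓ subgroupConjRight g Y := by
  ext y; simp only [mem_conjR, Subgroup.mem_inf]

theorem conjR_mem_self {g : G} {X : Subgroup G} (hg : g ∈ X) : subgroupConjRight g X = X := by
  ext y
  rw [mem_conjR]
  refine ⟨fun h => ?_, fun h => mul_mem (mul_mem hg h) (inv_mem hg)⟩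
  simpa [mul_assoc] using mul_mem (mul_mem (inv_mem hg) h) hg

theorem conjR_mem_normalizer {g : G} {X : Subgroup G} (hg : g ∈ Subgroup.normalizer (X : Set G)) :
    subgroupConjRight g X = X := by
  ext y
  rw [mem_conjR]
  exact (Subgroup.mem_normalizer_iff.1 hg y).symm

theorem mem_normalizer_of_conjR {g : G} {X : Subgroup G} (h : subgroupConjRight g X = X) :
    g ∈ Subgroup.normalizer (X : Set G) :=
  Subgroup.mem_normalizer_iff.2 fun y => by
    constructor
    · intro hy; rw [← h] at hy; exact mem_conjR.1 hy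
    · intro hy; rw [← h]; exact mem_conjR.2 hy

theorem sylow_conjR (S : Sylow p G) (g : G) :
    ∃ T : Sylow p G, (T : Subgroup G) = subgroupConjRight g (S : Subgroup G) :=
  ⟨MulAut.conj g⁻¹ • S, rfl⟩

theorem exists_conjR_eq [Finite G] [Fact p.Prime] (S T : Sylow p G) :
    ∃ g : G, subgroupConjRight g (S : Subgroup G) = (T : Subgroup G) := by
  obtain ⟨g, hg⟩ := MulAction.exists_smul_eq G S T
  refine ⟨g⁻¹, ?_⟩
  rw [← hg, subgroupConjRight, inv_inv]
  rfl

/-- Conjugation carries the members for `S` to the members for the conjugate of `S`. -/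
theorem sylowMembers_conjR [Finite G] [Fact p.Prime] {𝓕 : Set (Subgroup G)} (h𝓕 : IsNormalSet 𝓕)
    {S X : Subgroup G} (hX : X ∈ sylowMembers p 𝓕 S) (g : G) :
    subgroupConjRight g X ∈ sylowMembers p 𝓕 (subgroupConjRight g S) := by
  obtain ⟨hXF, P, hP⟩ := hX
  refine ⟨h𝓕 X hXF g, P.mapSurjective (f := (X.equivMapOfInjective _ (MulAut.conj g⁻¹).injective).toMonoidHom)
    (MulEquiv.surjective _), ?_⟩
  rw [← conjR_inf, ← hP]
  refine Eq.trans (congrArg (fun K : Subgroup _ => K.map (subgroupConjRight g X).subtype)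
    (Sylow.coe_mapSurjective (MulEquiv.surjective _) P)) ?_
  unfold subgroupConjRight
  rw [Subgroup.map_map, Subgroup.map_map]
  congr 1

end CfsgLib.Inv
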