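import Cfsg.Agent.Inv.QDClasses
import Cfsg.Agent.Inv.FusionInvariant
import Mathlib.GroupTheory.SpecificGroups.Cyclic

/-!
Normal subgroups cut out by fusion invariant homomorphisms of a Sylow 2-subgroup, and their Sylow subgroups.
-/

set_option autoImplicit false

namespace CfsgLib.Inv

open scoped Pointwise

variable {G : Type*} [Group G] [Finite G] (S : Sylow 2 G)

/-- A fusion invariant homomorphism to an abelian 2-group extends. -/
theorem exists_normal_kernel {A : Type*} [CommGroup A] (ϕ : (S : Subgroup G) →* A) (hs : Function.Surjective ϕ)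
    {a : ℕ} (hA : Nat.card A = 2 ^ a)
    (hinv : ∀ (u : (S : Subgroup G)) (g : G) (h : g * (u : G) * g⁻¹ ∈ (S : Subgroup G)), ϕ ⟨_, h⟩ = ϕ u) :
    ∃ K : Subgroup G, K.Normal ∧ K.index = 2 ^ a ∧ K.subgroupOf (S : Subgroup G) = ϕ.ker := by
  haveI : Fact (Nat.Prime 2) := ⟨Nat.prime_two⟩
  have hodd : Odd (S : Subgroup G).index := Nat.not_even_iff_odd.1 fun h => S.not_dvd_index (even_iff_two_dvd.1 h)
  have hcop : (Nat.card A).Coprime (S : Subgroup G).index := by
    rw [hA]; exact (Nat.coprime_two_left.2 hodd).pow_left a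
  have key : ∀ (g : G) (hg : g ∈ (S : Subgroup G)),
      MonoidHom.transfer ϕ g = powCoprime hcop (ϕ ⟨g, hg⟩) := by
    intro g hg
    rw [transfer_eq_pow_of_ctrl _ ϕ hg ?_]
    · rfl
    intro k g₀ h
    rw [← map_pow]
    have h' : g₀⁻¹ * (((⟨g, hg⟩ : (S : Subgroup G)) ^ k : (S : Subgroup G)) : G) * g₀⁻¹⁻¹ ∈ (S : Subgroup G) := by
      simpa using h
    refine Eq.trans (congrArg ϕ (Subtype.ext ?_)) (hinv _ _ h')
    simp
  refine ⟨(MonoidHom.transfer ϕ).ker, inferInstance, ?_, ?_⟩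
  · rw [Subgroup.index_ker, MonoidHom.range_eq_top.2 (fun v => ?_), Subgroup.card_top, hA]
    obtain ⟨⟨u, hu⟩, hu'⟩ := hs ((powCoprime hcop).symm v)
    exact ⟨u, by rw [key u hu, hu', Equiv.apply_symm_apply]⟩
  · ext v
    rw [Subgroup.mem_subgroupOf, MonoidHom.mem_ker, MonoidHom.mem_ker, key _ v.2, Subtype.coe_eta]
    exact ⟨fun h => (powCoprime hcop).injective (h.trans (powCoprime_one (h := hcop)).symm), fun h => by rw [h, powCoprime_one]⟩

omit [Finite G] in
theorem odd_mem_of_two_pow_index {K : Subgroup G} [K.Normal] {a : ℕ} (hK : K.index = 2 ^ a) {g : G}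
    (hg : Odd (orderOf g)) : g ∈ K := by
  rw [← QuotientGroup.eq_one_iff (N := K), ← orderOf_eq_one_iff]
  have h1 : orderOf (g : G ⧸ K) ∣ 2 ^ a := hK ▸ orderOf_dvd_natCard _
  exact Nat.eq_one_of_dvd_coprimes ((Nat.coprime_two_left.2 hg).pow_left a) h1 (orderOf_map_dvd (QuotientGroup.mk' K) g)

/-- The Sylow 2-subgroups of a normal subgroup. -/
theorem sylow_inter {K : Subgroup G} {M : Subgroup (S : Subgroup G)} (hidx : M.index = K.index)
    (hKM : K.subgroupOf (S : Subgroup G) = M) :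
    ∃ T : Sylow 2 K, (T : Subgroup K) = (S : Subgroup G).subgroupOf K ∧
      ∀ T' : Sylow 2 K, Nonempty ((T' : Subgroup K) ≃* M) := by
  haveI : Fact (Nat.Prime 2) := ⟨Nat.prime_two⟩
  subst hKM
  let e : (S : Subgroup G).subgroupOf K ≃* K.subgroupOf (S : Subgroup G) :=
    { toFun := fun x => ⟨⟨x.1.1, x.2⟩, x.1.2⟩
      invFun := fun x => ⟨⟨x.1.1, x.2⟩, x.1.2⟩
      left_inv := fun _ => rfl
      right_inv := fun _ => rfl
      map_mul' := fun _ _ => rfl }
  have hi : ((S : Subgroup G).subgroupOf K).index = (S : Subgroup G).index := by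
    have h1 := Subgroup.card_mul_index ((S : Subgroup G).subgroupOf K)
    rw [Nat.card_congr e.toEquiv] at h1
    have h2 := Subgroup.card_mul_index (K.subgroupOf (S : Subgroup G))
    rw [hidx] at h2
    have h3 := Subgroup.card_mul_index (S : Subgroup G)
    have h4 := Subgroup.card_mul_index K
    rw [← h2, ← h4, ← h1] at h3
    have hpos : 0 < Nat.card (K.subgroupOf (S : Subgroup G)) := Nat.card_pos
    apply Nat.eq_of_mul_eq_mul_left (Nat.mul_pos hpos (Nat.pos_of_ne_zero K.index_ne_zero_of_finite))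
    rw [h3]; ring
  let T : Sylow 2 K := (IsPGroup.comap_of_injective S.2 K.subtype K.subtype_injective).toSylow
    (by change ¬ 2 ∣ ((S : Subgroup G).subgroupOf K).index; rw [hi]; exact S.not_dvd_index)
  exact ⟨T, rfl, fun T' => ⟨(Sylow.equiv T' T).trans e⟩⟩

/-- A normal subgroup whose Sylow 2-subgroup lies in every index two candidate has no subgroup of index two. -/
theorem no_index_two_of_gen {K : Subgroup G} [K.Normal] {a : ℕ} (hK : K.index = 2 ^ a)
    {M : Subgroup (S : Subgroup G)} (hidx : M.index = K.index) (hKM : K.subgroupOf (S : Subgroup G) = M)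
    (hgen : ∀ L : Subgroup G, (∀ u ∈ K, ∀ v ∈ K, u ∉ L → v ∉ L → u * v ∈ L) →
      (∀ g : G, Odd (orderOf g) → g ∈ L) → M ≤ L.subgroupOf (S : Subgroup G))
    (H : Subgroup K) : H.index ≠ 2 := by
  haveI : Fact (Nat.Prime 2) := ⟨Nat.prime_two⟩
  intro hH
  have hmem : ∀ u : K, (u : G) ∈ H.map K.subtype ↔ u ∈ H := fun u => Subgroup.mem_map_iff_mem K.subtype_injective
  have hle := hgen (H.map K.subtype) (fun u hu v hv h1 h2 =>
    (hmem (⟨u, hu⟩ * ⟨v, hv⟩)).2 ((Subgroup.mul_mem_iff_of_index_two hH).2 (iff_of_false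
      (fun h => h1 ((hmem ⟨u, hu⟩).2 h)) (fun h => h2 ((hmem ⟨v, hv⟩).2 h)))))
    (fun g hg => (hmem ⟨g, odd_mem_of_two_pow_index hK hg⟩).2 (odd_mem_of_index_two hH (by rwa [Subgroup.orderOf_mk])))
  obtain ⟨T, hT, -⟩ := sylow_inter S hidx hKM
  have hTH : (T : Subgroup K) ≤ H := by
    intro u hu
    rw [hT, Subgroup.mem_subgroupOf] at hu
    have : (⟨(u : G), hu⟩ : (S : Subgroup G)) ∈ M := hKM ▸ Subgroup.mem_subgroupOf.2 u.2
    exact (hmem u).1 (Subgroup.mem_subgroupOf.1 (hle this))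
  have h := Subgroup.index_dvd_of_le hTH
  rw [hH] at h
  exact T.not_dvd_index h

/-- A subgroup of `N` whose elements of odd order and whose elements in the Sylow subgroup lie in `C` lies in `C`. -/
theorem le_of_odd_sylow {N K C : Subgroup G} (hSN : (S : Subgroup G) ≤ N) (hKN : K ≤ N)
    (hKn : ∀ c ∈ N, ∀ k ∈ K, c * k * c⁻¹ ∈ K) (hCn : ∀ c ∈ N, ∀ k ∈ C, c * k * c⁻¹ ∈ C)
    (hodd : ∀ k ∈ K, Odd (orderOf k) → k ∈ C) (hS : ∀ k ∈ (S : Subgroup G), k ∈ K → k ∈ C) : K ≤ C := by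
  haveI : Fact (Nat.Prime 2) := ⟨Nat.prime_two⟩
  intro k hk
  let R : Sylow 2 K := default
  obtain ⟨c, hc, hcR⟩ := exists_sylow_conj_le S hSN
    (show (R : Subgroup K).map K.subtype ≤ N from (Subgroup.map_subtype_le _).trans hKN) (R.2.map K.subtype)
  have htop : C.subgroupOf K = ⊤ := by
    rw [eq_top_iff, ← closure_odd_sup_sylow R, Subgroup.closure_le]
    rintro u (hu | hu)
    · exact hodd (u : G) u.2 (by rwa [Subgroup.orderOf_coe])
    · have h1 : c * (u : G) * c⁻¹ ∈ (S : Subgroup G) := hcR (by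
        rw [CfsgLib.Solv.mem_conj_smul_iff]
        exact ⟨u, hu, by simp [mul_assoc]⟩)
      have h2 := hCn c⁻¹ (inv_mem hc) _ (hS _ h1 (hKn c hc _ u.2))
      show (u : G) ∈ C
      simpa [mul_assoc] using h2
  exact htop.ge (Subgroup.mem_top (⟨k, hk⟩ : K))

omit [Finite G] in
theorem map_conj_centralizer (g : G) (X : Subgroup G) :
    (Subgroup.centralizer (X : Set G)).map (MulAut.conj g).toMonoidHom =
      Subgroup.centralizer ((X.map (MulAut.conj g).toMonoidHom : Subgroup G) : Set G) := by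
  ext y
  constructor
  · rintro ⟨c, hc, rfl⟩ _ ⟨x, hx, rfl⟩
    simp only [MulEquiv.coe_toMonoidHom, ← map_mul, hc x hx]
  · intro hy
    refine ⟨g⁻¹ * y * g, fun x hx => ?_, by simp [mul_assoc]⟩
    have : g * x * g⁻¹ * y = y * (g * x * g⁻¹) := hy _ ⟨x, hx, rfl⟩
    calc x * (g⁻¹ * y * g) = g⁻¹ * (g * x * g⁻¹ * y) * g := by group
      _ = g⁻¹ * y * g * x := by rw [this]; group

omit [Finite G] in
theorem relIndex_conj_local (g : G) (X : Subgroup G) :
    ((X.map (MulAut.conj g).toMonoidHom) ⊔ Subgroup.centralizer ((X.map (MulAut.conj g).toMonoidHom : Subgroup G) : Set G)).relIndex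
      (Subgroup.normalizer ((X.map (MulAut.conj g).toMonoidHom : Subgroup G) : Set G)) =
    (X ⊔ Subgroup.centralizer (X : Set G)).relIndex (Subgroup.normalizer (X : Set G)) := by
  rw [← map_conj_centralizer, ← Subgroup.map_sup, ← Subgroup.map_equiv_normalizer_eq,
    Subgroup.relIndex_map_map_of_injective _ _ (MulAut.conj g).injective]

end CfsgLib.Inv
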