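import Cfsg.Agent.Base.ZStar.Holds
import Cfsg.Agent.Solv.Generation
import Cfsg.Agent.Solv.CoprimeAction

/-!
Abelian 2-subgroups `H` such that `H` and any conjugate lie in `H R` for some subgroup `R` of
odd order normalized by `H`: the product `H O(G)` is then normal.
-/

set_option autoImplicit false

namespace CfsgLib.Inv.Tame

open Cfsg CfsgLib.Solv CfsgLib.Inv
open scoped Pointwise

universe u

variable {G : Type u} [Group G]

/-- `H` and each of its conjugates lie in `H R` for an odd order subgroup `R` normalized by `H`. -/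
def IsTame (H : Subgroup G) : Prop :=
  ∀ g : G, ∃ R : Subgroup G, Odd (Nat.card R) ∧ H ≤ Subgroup.normalizer (R : Set G) ∧
    ∀ x ∈ H, g * x * g⁻¹ ∈ H ⊔ R

/-- The relation singling out the image in `H` of an element of `H R`. -/
def Rel (k y : G) : Prop := Odd (orderOf (k⁻¹ * y))

theorem conj_mem_of {H R : Subgroup G} (hHR : H ≤ Subgroup.normalizer (R : Set G)) {h r : G}
    (hh : h ∈ H) (hr : r ∈ R) : h⁻¹ * r * h ∈ R := by
  simpa using le_normalizer_iff_forall_conj_mem.1 hHR h⁻¹ (inv_mem hh) r hr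

theorem exists_decomp [Finite G] {H R : Subgroup G} (hHR : H ≤ Subgroup.normalizer (R : Set G)) {y : G}
    (hy : y ∈ H ⊔ R) : ∃ h ∈ H, ∃ r ∈ R, y = h * r := by
  obtain ⟨m, hm, x, hx, rfl⟩ := exists_mul_of_mem_sup hHR hy
  exact ⟨x, hx, x⁻¹ * m * x, conj_mem_of hHR hx hm, by group⟩

theorem pow_decomp {H R : Subgroup G} (hHR : H ≤ Subgroup.normalizer (R : Set G)) {h r : G}
    (hh : h ∈ H) (hr : r ∈ R) (m : ℕ) : ∃ r' ∈ R, (h * r) ^ m = h ^ m * r' := by
  induction m with
  | zero => exact ⟨1, one_mem R, by simp⟩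
  | succ m ih =>
    obtain ⟨r', hr', he⟩ := ih
    refine ⟨h⁻¹ * r' * h * r, mul_mem (conj_mem_of hHR hh hr') hr, ?_⟩
    rw [pow_succ, he, pow_succ]; group

theorem coprime_of_odd [Finite G] {H R : Subgroup G} (hH : IsPGroup 2 H) (hR : Odd (Nat.card R)) :
    (Nat.card H).Coprime (Nat.card R) := by
  haveI : Fact (Nat.Prime 2) := ⟨Nat.prime_two⟩
  obtain ⟨k, hk⟩ := IsPGroup.iff_card.1 hH
  rw [hk]
  exact Nat.Coprime.pow_left k (Nat.coprime_two_left.2 hR)

theorem eq_one_of_mem [Finite G] {H R : Subgroup G} (hH : IsPGroup 2 H) (hR : Odd (Nat.card R)) {x : G}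
    (hxH : x ∈ H) (hxR : x ∈ R) : x = 1 := by
  have : x ∈ H ⊓ R := Subgroup.mem_inf.2 ⟨hxH, hxR⟩
  rwa [inf_eq_bot_of_coprime_card (coprime_of_odd hH hR), Subgroup.mem_bot] at this

theorem rel_iff [Finite G] {H R : Subgroup G} (hH : IsPGroup 2 H) (hR : Odd (Nat.card R))
    (hHR : H ≤ Subgroup.normalizer (R : Set G)) {k h r : G} (hk : k ∈ H) (hh : h ∈ H)
    (hr : r ∈ R) : Rel k (h * r) ↔ k = h := by
  haveI : Fact (Nat.Prime 2) := ⟨Nat.prime_two⟩
  constructor
  · intro hodd
    have hkh : k⁻¹ * h ∈ H := mul_mem (inv_mem hk) hh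
    unfold Rel at hodd
    rw [← mul_assoc] at hodd
    obtain ⟨r', hr', he⟩ := pow_decomp hHR hkh hr (orderOf (k⁻¹ * h * r))
    rw [pow_orderOf_eq_one] at he
    have h1 : (k⁻¹ * h) ^ orderOf (k⁻¹ * h * r) = 1 :=
      eq_one_of_mem hH hR (pow_mem hkh _) (by rw [eq_inv_of_mul_eq_one_left he.symm]; exact inv_mem hr')
    obtain ⟨j, hj⟩ := IsPGroup.iff_orderOf.1 hH ⟨_, hkh⟩
    rw [Subgroup.orderOf_mk] at hj
    have h2 := orderOf_dvd_of_pow_eq_one h1
    rw [hj] at h2
    rcases Nat.eq_zero_or_pos j with rfl | hjp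
    · rw [pow_zero, orderOf_eq_one_iff] at hj
      exact inv_mul_eq_one.1 hj
    · exact absurd ((dvd_pow_self 2 hjp.ne').trans h2) hodd.not_two_dvd_nat
  · rintro rfl
    unfold Rel
    rw [inv_mul_cancel_left]
    exact hR.of_dvd_nat (Subgroup.orderOf_dvd_natCard R hr)

section

variable [Finite G] {H : Subgroup G}

theorem exists_rel (hH : IsPGroup 2 H) (ht : IsTame H) (g : G) {x : G} (hx : x ∈ H) :
    ∃ k ∈ H, Rel k (g * x * g⁻¹) := by
  obtain ⟨R, hR, hHR, hg⟩ := ht g
  obtain ⟨h, hh, r, hr, he⟩ := exists_decomp hHR (hg x hx)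
  exact ⟨h, hh, by rw [he]; exact (rel_iff hH hR hHR hh hh hr).2 rfl⟩

theorem rel_unique (hH : IsPGroup 2 H) (ht : IsTame H) {g x k k' : G} (hx : x ∈ H) (hk : k ∈ H)
    (hk' : k' ∈ H) (h1 : Rel k (g * x * g⁻¹)) (h2 : Rel k' (g * x * g⁻¹)) : k = k' := by
  obtain ⟨R, hR, hHR, hg⟩ := ht g
  obtain ⟨h, hh, r, hr, he⟩ := exists_decomp hHR (hg x hx)
  rw [he] at h1 h2
  rw [(rel_iff hH hR hHR hk hh hr).1 h1, (rel_iff hH hR hHR hk' hh hr).1 h2]

theorem rel_mul (hH : IsPGroup 2 H) (ht : IsTame H) {g a b k l : G} (ha : a ∈ H) (hb : b ∈ H)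
    (hk : k ∈ H) (hl : l ∈ H) (h1 : Rel k (g * a * g⁻¹)) (h2 : Rel l (g * b * g⁻¹)) :
    Rel (k * l) (g * (a * b) * g⁻¹) := by
  obtain ⟨R, hR, hHR, hg⟩ := ht g
  obtain ⟨h, hh, r, hr, he⟩ := exists_decomp hHR (hg a ha)
  obtain ⟨h', hh', r', hr', he'⟩ := exists_decomp hHR (hg b hb)
  rw [he] at h1
  rw [he'] at h2
  rw [(rel_iff hH hR hHR hk hh hr).1 h1, (rel_iff hH hR hHR hl hh' hr').1 h2]
  have : g * (a * b) * g⁻¹ = h * h' * (h'⁻¹ * r * h' * r') := by
    calc g * (a * b) * g⁻¹ = (g * a * g⁻¹) * (g * b * g⁻¹) := by group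
      _ = _ := by rw [he, he']; group
  rw [this]
  exact (rel_iff hH hR hHR (mul_mem hh hh') (mul_mem hh hh')
    (mul_mem (conj_mem_of hHR hh' hr) hr')).2 rfl

theorem rel_one (g : G) : Rel 1 (g * 1 * g⁻¹) := by
  unfold Rel
  simp

theorem rel_invol (hH : IsPGroup 2 H) (ht : IsTame H) {g t k : G} (htH : t ∈ H) (hk : k ∈ H)
    (h : Rel k (g * t * g⁻¹)) (ht2 : t * t = 1) : k * k = 1 ∧ (k = 1 → t = 1) := by
  refine ⟨rel_unique hH ht (one_mem H) (mul_mem hk hk) (one_mem H)
    (by have := rel_mul hH ht htH htH hk hk h h; rwa [ht2] at this) (rel_one g), fun hk1 => ?_⟩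
  obtain ⟨R, hR, hHR, hg⟩ := ht g
  obtain ⟨h0, hh, r, hr, he⟩ := exists_decomp hHR (hg t htH)
  rw [he] at h
  have h01 : h0 = 1 := by rw [← (rel_iff hH hR hHR hk hh hr).1 h, hk1]
  rw [h01, one_mul] at he
  have hsq : r ^ 2 = 1 := by
    rw [← he, pow_two]
    calc g * t * g⁻¹ * (g * t * g⁻¹) = g * (t * t) * g⁻¹ := by group
      _ = 1 := by rw [ht2]; group
  have hr1 : r = 1 := by
    rcases (Nat.dvd_prime Nat.prime_two).1 (orderOf_dvd_of_pow_eq_one hsq) with h2 | h2
    · exact orderOf_eq_one_iff.1 h2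
    · exact absurd (h2 ▸ Subgroup.orderOf_dvd_natCard R hr) hR.not_two_dvd_nat
  rw [hr1] at he
  calc t = g⁻¹ * (g * t * g⁻¹) * g := by group
    _ = 1 := by rw [he]; group

theorem isTame_map {Q : Type*} [Group Q] (f : G →* Q) (hf : Function.Surjective f)
    (ht : IsTame H) : IsTame (H.map f) := by
  intro q
  obtain ⟨g, rfl⟩ := hf q
  obtain ⟨R, hR, hHR, hg⟩ := ht g
  refine ⟨R.map f, hR.of_dvd_nat (Subgroup.card_map_dvd _ _), ?_, ?_⟩
  · exact (Subgroup.map_mono hHR).trans (Subgroup.le_normalizer_map f)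
  · rintro _ ⟨x, hx, rfl⟩
    rw [← Subgroup.map_sup]
    exact ⟨g * x * g⁻¹, hg x hx, by simp⟩

theorem isTame_sub (ht : IsTame H) (K : Subgroup G) (hHK : H ≤ K) :
    IsTame (H.subgroupOf K) := by
  intro g
  obtain ⟨R, hR, hHR, hg⟩ := ht (g : G)
  refine ⟨(R ⊓ K).subgroupOf K, ?_, ?_, ?_⟩
  · rw [CfsgLib.Solv.card_subgroupOf inf_le_right]
    exact hR.of_dvd_nat (Subgroup.card_dvd_of_le inf_le_left)
  · rw [le_normalizer_iff_forall_conj_mem]
    intro a ha r hr
    exact Subgroup.mem_subgroupOf.2 (Subgroup.mem_inf.2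
      ⟨le_normalizer_iff_forall_conj_mem.1 hHR _ ha _ (Subgroup.mem_inf.1 hr).1,
        mul_mem (mul_mem a.2 r.2) (inv_mem a.2)⟩)
  · intro x hx
    obtain ⟨h, hh, r, hr, he⟩ := exists_decomp hHR (hg _ hx)
    have hrK : r ∈ K := by
      have : r = h⁻¹ * ((g : G) * (x : G) * (g : G)⁻¹) := by
        simp only [Subgroup.subtype_apply] at he
        rw [he]; group
      rw [this]
      exact mul_mem (inv_mem (hHK hh)) (mul_mem (mul_mem g.2 x.2) (inv_mem g.2))
    have : g * x * g⁻¹ = (⟨h, hHK hh⟩ : K) * ⟨r, hrK⟩ := Subtype.ext he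
    rw [this]
    exact mul_mem (Subgroup.mem_sup_left (show h ∈ H from hh))
      (Subgroup.mem_sup_right (Subgroup.mem_inf.2 ⟨hr, hrK⟩))

/-- If `H O` is invariant under conjugation by `g`, then `g` is in `O N(H)`. -/
theorem exists_mem_normalizer {R : Subgroup G} (hH : IsPGroup 2 H) (hR : Odd (Nat.card R))
    (hHR : H ≤ Subgroup.normalizer (R : Set G)) {g : G} (hg : ∀ x ∈ H, g * x * g⁻¹ ∈ H ⊔ R) :
    ∃ r ∈ R, r⁻¹ * g ∈ Subgroup.normalizer (H : Set G) := by
  set Y := MulAut.conj g • H with hY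
  have hYle : Y ≤ H ⊔ R := by
    intro y hy
    rw [hY, mem_conj_smul_iff] at hy
    have := hg _ hy
    rwa [show g * (g⁻¹ * y * g) * g⁻¹ = y by group] at this
  have hYN : Y ≤ Subgroup.normalizer (R : Set G) :=
    hYle.trans (sup_le hHR Subgroup.le_normalizer)
  have hc := coprime_of_odd hH hR
  have hYc : (Nat.card Y).Coprime (Nat.card R) := by rwa [hY, card_conj_smul]
  have hsup : H ⊔ R = Y ⊔ R := by
    refine (Subgroup.eq_of_le_of_card_ge (sup_le hYle le_sup_right) ?_).symm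
    rw [card_sup_of_le_normalizer hHR hc, card_sup_of_le_normalizer hYN hYc, hY, card_conj_smul]
  have hs : Group.IsSolvable H := by
    haveI : Fact (Nat.Prime 2) := ⟨Nat.prime_two⟩
    haveI := hH.isNilpotent
    infer_instance
  obtain ⟨c, hc', hcY⟩ := conj_complement_in_sup' hHR hYN hsup hc hYc (Or.inr hs)
  obtain ⟨r, hr, h, hh, rfl⟩ := exists_mul_of_mem_sup hHR hc'
  refine ⟨r, hr, mem_normalizer_of_conj_smul_eq ?_⟩
  rw [map_mul, mul_smul, conj_smul_eq_self_of_mem_normalizer (Subgroup.le_normalizer hh)] at hcY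
  rw [map_mul, mul_smul, ← hY, ← hcY, smul_smul, ← map_mul, inv_mul_cancel, map_one, one_smul]

end

theorem oddCore_quot_eq_bot [Finite G] (hO : Cfsg.oddCore G = ⊥) {w : G} (hw : orderOf w = 2)
    [(Subgroup.zpowers w).Normal] : Cfsg.oddCore (G ⧸ Subgroup.zpowers w) = ⊥ := by
  haveI : Fact (Nat.Prime 2) := ⟨Nat.prime_two⟩
  have hO' : ∀ N : Subgroup G, N.Normal → Odd (Nat.card N) → N = ⊥ := fun N hn ho =>
    le_bot_iff.1 (hO ▸ CfsgLib.Base.ZStar.le_oddCore hn ho)
  set W := Subgroup.zpowers w with hW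
  set f := QuotientGroup.mk' W with hf
  set K := Cfsg.oddCore (G ⧸ W)
  haveI : K.Normal := CfsgLib.Fus.normal_pPrimeCore 2
  set L := K.comap f with hL
  have hWcard : Nat.card W = 2 := by rw [hW, Nat.card_zpowers, hw]
  have hLW : W ≤ L := fun a ha => by
    rw [hL, Subgroup.mem_comap, hf, QuotientGroup.mk'_apply, (QuotientGroup.eq_one_iff a).2 ha]
    exact one_mem K
  have heven : 2 ∣ Nat.card L := hWcard ▸ Subgroup.card_dvd_of_le hLW
  obtain ⟨R⟩ := (inferInstance : Nonempty (Sylow 2 L))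
  have hodd : ¬ 2 ∣ Nat.card K := CfsgLib.Base.ZStar.not_two_dvd_oddCore
  have hRc : Nat.card R = 2 := by
    have hcard : Nat.card L = Nat.card K * 2 := by
      have h1 := Subgroup.index_comap_of_surjective K (f := f) (QuotientGroup.mk'_surjective W)
      have h2 := L.card_mul_index
      rw [hL, h1, ← hL, W.card_eq_card_quotient_mul_card_subgroup, ← K.card_mul_index,
        hWcard] at h2
      have h3 : K.index ≠ 0 := Subgroup.index_ne_zero_of_finite
      have : Nat.card L * K.index = Nat.card K * 2 * K.index := by rw [h2]; ring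
      exact Nat.eq_of_mul_eq_mul_right (Nat.pos_of_ne_zero h3) this
    rw [R.card_eq_multiplicity, hcard, Nat.factorization_mul Nat.card_pos.ne' two_ne_zero]
    have h0 : (Nat.card K).factorization 2 = 0 := Nat.factorization_eq_zero_of_not_dvd hodd
    rw [Finsupp.add_apply, h0, zero_add, Nat.Prime.factorization_self Nat.prime_two, pow_one]
  have hL2 := CfsgLib.Base.BS.isPGroup_of_cyclic_sylow hO' L heven R
    (isCyclic_of_prime_card (p := 2) hRc)
  rw [Subgroup.eq_bot_iff_forall]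
  intro q hq
  obtain ⟨a, rfl⟩ := QuotientGroup.mk'_surjective W q
  obtain ⟨k, hk⟩ := IsPGroup.iff_orderOf.1 hL2 ⟨a, show a ∈ L from hq⟩
  replace hk : orderOf a = 2 ^ k := by rw [← hk, ← Subgroup.orderOf_coe]
  have h1 : orderOf (f a) ∣ 2 ^ k := hk ▸ orderOf_map_dvd f a
  have h2 : orderOf (f a) ∣ Nat.card K := Subgroup.orderOf_dvd_natCard K hq
  rw [← orderOf_eq_one_iff]
  exact Nat.eq_one_of_dvd_coprimes
    (Nat.Coprime.pow_left k ((Nat.prime_two.coprime_iff_not_dvd).2 hodd)) h1 h2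

/-- `x` preserves the relation between the involutions of `H` and those of its conjugates. -/
def Preserves (H : Subgroup G) (x : G) : Prop :=
  ∀ g : G, ∀ t ∈ H, t * t = 1 → ∀ k ∈ H, Rel k (g * t * g⁻¹) →
    Rel k (x * g * t * (x * g)⁻¹)

/-- The subgroup of elements preserving the relation. -/
def preserver [Finite G] (H : Subgroup G) : Subgroup G where
  carrier := {x | Preserves H x}
  mul_mem' {x y} hx hy g t ht ht2 k hk h := by
    have := hx (y * g) t ht ht2 k hk (hy g t ht ht2 k hk h)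
    rwa [← mul_assoc] at this
  one_mem' g t _ _ k _ h := by rwa [one_mul]
  inv_mem' {x} hx := by
    have hp : ∀ n : ℕ, Preserves H (x ^ n) := by
      intro n
      induction n with
      | zero => intro g t _ _ k _ h; rwa [pow_zero, one_mul]
      | succ n ih =>
        intro g t ht ht2 k hk h
        have := ih (x * g) t ht ht2 k hk (hx g t ht ht2 k hk h)
        rwa [← mul_assoc, ← pow_succ] at this
    have he : x⁻¹ = x ^ (orderOf x - 1) := by
      rw [inv_eq_iff_mul_eq_one, ← pow_succ', Nat.sub_add_cancel (orderOf_pos x),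
        pow_orderOf_eq_one]
    rw [Set.mem_setOf_eq, he]
    exact hp _

theorem self_le_preserver [Finite G] {H : Subgroup G} (hab : IsMulCommutative H) :
    H ≤ preserver H := by
  intro c hc g t _ _ k hk h
  unfold Rel at h ⊢
  have hck : c * k⁻¹ = k⁻¹ * c := by
    haveI := hab
    exact commute_of_isMulCommutative hc (inv_mem hk)
  have e : k⁻¹ * (c * g * t * (c * g)⁻¹) = c * (k⁻¹ * (g * t * g⁻¹)) * c⁻¹ := by
    calc k⁻¹ * (c * g * t * (c * g)⁻¹) = (k⁻¹ * c) * (g * t * g⁻¹) * c⁻¹ := by group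
      _ = (c * k⁻¹) * (g * t * g⁻¹) * c⁻¹ := by rw [hck]
      _ = _ := by group
  rw [e, show c * (k⁻¹ * (g * t * g⁻¹)) * c⁻¹ = MulAut.conj c (k⁻¹ * (g * t * g⁻¹)) from rfl,
    MulEquiv.orderOf_eq]
  exact h

theorem preserver_normalized [Finite G] {H : Subgroup G} {n x : G}
    (hn : n ∈ Subgroup.normalizer (H : Set G)) (hx : x ∈ preserver H) :
    n * x * n⁻¹ ∈ preserver H := by
  intro g t ht ht2 k hk h
  have hk' : n⁻¹ * k * n ∈ H := (Subgroup.mem_normalizer_iff''.1 hn k).1 hk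
  have h' : Rel (n⁻¹ * k * n) (n⁻¹ * g * t * (n⁻¹ * g)⁻¹) := by
    unfold Rel at h ⊢
    rwa [show (n⁻¹ * k * n)⁻¹ * (n⁻¹ * g * t * (n⁻¹ * g)⁻¹)
        = MulAut.conj n⁻¹ (k⁻¹ * (g * t * g⁻¹)) by simp [mul_assoc],
      MulEquiv.orderOf_eq]
  have := hx _ t ht ht2 _ hk' h'
  unfold Rel at this ⊢
  rwa [show k⁻¹ * (n * x * n⁻¹ * g * t * (n * x * n⁻¹ * g)⁻¹)
      = MulAut.conj n ((n⁻¹ * k * n)⁻¹ * (x * (n⁻¹ * g) * t * (x * (n⁻¹ * g))⁻¹)) by
        simp [mul_assoc],
    MulEquiv.orderOf_eq]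

section Main

variable [Finite G] {H : Subgroup G}

open CfsgLib.Base.ZStar in
/-- An element centralizing the involution `u` and centralizing `H` modulo `O(C(u))` preserves
the relation. -/
theorem mem_preserver (hH : IsPGroup 2 H) (hab : IsMulCommutative H) (ht : IsTame H)
    {u : G} (huH : u ∈ H) (hu : orderOf u = 2) (hbig : ∃ h ∈ H, h * h = 1 ∧ h ≠ 1 ∧ h ≠ u)
    (C O : Subgroup G) (hC : C = Subgroup.centralizer ({u} : Set G)) (hOC : O ≤ C)
    (hOodd : Odd (Nat.card O)) (hCO : C ≤ Subgroup.normalizer (O : Set G))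
    (hcomm : ∀ X : Subgroup G, X ≤ C → Odd (Nat.card X) → H ≤ Subgroup.normalizer (X : Set G) →
      ∀ h ∈ H, ∀ r ∈ X, h * r * h⁻¹ * r⁻¹ ∈ O)
    {x : G} (hxC : x ∈ C) (hx : ∀ h ∈ H, h * x * h⁻¹ * x⁻¹ ∈ O) : x ∈ preserver H := by
  haveI := hab
  have hHC : H ≤ C := fun h hh => hC ▸ Subgroup.mem_centralizer_singleton_iff.2
    (commute_of_isMulCommutative hh huH)
  have huu : u * u = 1 := invol_mul_self hu
  -- the central element of the dihedral group on `u` and an image of `k`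
  have aux : ∀ g t k : G, t ∈ H → t * t = 1 → k ∈ H → k * k = 1 → Rel k (g * t * g⁻¹) → k ≠ u →
      Even (orderOf (u * (g * t * g⁻¹))) ∧
        (u * k)⁻¹ * (u * (g * t * g⁻¹)) ^ (orderOf (u * (g * t * g⁻¹)) / 2) ∈ O ∧
        (u * (g * t * g⁻¹)) ^ (orderOf (u * (g * t * g⁻¹)) / 2) ∈ C := by
    intro g t k htH ht2 hk hk2 hrel hku
    obtain ⟨R, hR, hHR, hg⟩ := ht g
    obtain ⟨h, hh, r, hr, he⟩ := exists_decomp hHR (hg t htH)
    rw [he] at hrel
    obtain rfl := (rel_iff hH hR hHR hk hh hr).1 hrel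
    set y := g * t * g⁻¹ with hy
    have hdH : u * k ∈ H := mul_mem huH hh
    have hd2 : u * k * (u * k) = 1 := by
      calc u * k * (u * k) = u * (k * u) * k := by group
        _ = u * (u * k) * k := by rw [commute_of_isMulCommutative hh huH]
        _ = (u * u) * (k * k) := by group
        _ = 1 := by rw [huu, hk2, one_mul]
    have hd1 : u * k ≠ 1 := fun h => hku (by
      calc k = u⁻¹ * (u * k) := by group
        _ = u := by rw [h, mul_one, invol_inv hu])
    have huy : u * y = u * k * r := by rw [he, mul_assoc]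
    set m := orderOf (u * y) with hm
    have heven : Even m := by
      by_contra hodd
      rw [Nat.not_even_iff_odd] at hodd
      obtain ⟨r', hr', he'⟩ := pow_decomp hHR hdH hr m
      rw [← huy, hm, pow_orderOf_eq_one, ← hm] at he'
      obtain ⟨i, hi⟩ := hodd
      have hdm : (u * k) ^ m = u * k := by
        rw [hi, pow_succ, pow_mul, pow_two, hd2, one_pow, one_mul]
      rw [hdm] at he'
      exact hd1 (eq_one_of_mem hH hR hdH (eq_inv_of_mul_eq_one_left he'.symm ▸ inv_mem hr'))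
    have hnodd : Odd (m / 2) := by
      obtain ⟨r', hr', he'⟩ := pow_decomp hHR hdH hr 2
      rw [pow_two (u * k), hd2, one_mul, ← huy] at he'
      have h1 : orderOf ((u * y) ^ 2) = m / 2 := by
        rw [orderOf_pow_of_dvd two_ne_zero (even_iff_two_dvd.1 heven)]
      rw [← h1, he']
      exact hR.of_dvd_nat (Subgroup.orderOf_dvd_natCard R hr')
    by_cases hyne : y = 1
    · have hk1 : k = 1 := by
        refine eq_one_of_mem hH hR hh ?_
        rw [hyne] at he
        rw [eq_inv_of_mul_eq_one_left he.symm]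
        exact inv_mem hr
      rw [hm, hyne, mul_one, hu, hk1, mul_one]
      refine ⟨even_two, ?_, ?_⟩
      · rw [show (2 : ℕ) / 2 = 1 from rfl, pow_one, inv_mul_cancel]
        exact one_mem O
      · rw [show (2 : ℕ) / 2 = 1 from rfl, pow_one]
        exact hHC huH
    have hy2 : orderOf y = 2 := invol_iff.2 ⟨hyne, by
      calc g * t * g⁻¹ * (g * t * g⁻¹) = g * (t * t) * g⁻¹ := by group
        _ = 1 := by rw [ht2]; group⟩
    obtain ⟨hz2, hzu, -⟩ := even_center hu hy2 heven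
    set z := (u * y) ^ (m / 2) with hz
    obtain ⟨r', hr', he'⟩ := pow_decomp hHR hdH hr (m / 2)
    have hdn : (u * k) ^ (m / 2) = u * k := by
      obtain ⟨i, hi⟩ := hnodd
      rw [hi, pow_succ, pow_mul, pow_two, hd2, one_pow, one_mul]
    rw [hdn, ← huy] at he'
    have hzC : z ∈ C := hC ▸ Subgroup.mem_centralizer_singleton_iff.2 hzu.eq
    have hr'C : r' ∈ C := by
      have : r' = (u * k)⁻¹ * z := by rw [hz, he']; group
      rw [this]
      exact mul_mem (inv_mem (hHC hdH)) hzC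
    refine ⟨heven, ?_, hzC⟩
    rw [show (u * k)⁻¹ * z = r' by rw [hz, he', inv_mul_cancel_left]]
    -- `r'` is inverted by `u * k` and centralized by it modulo `O`
    set X := R ⊓ C with hX
    have hXodd : Odd (Nat.card X) := hR.of_dvd_nat (Subgroup.card_dvd_of_le inf_le_left)
    have hXn : H ≤ Subgroup.normalizer (X : Set G) :=
      le_normalizer_inf_of_le hHR (hHC.trans Subgroup.le_normalizer)
    have hrX : r' ∈ X := Subgroup.mem_inf.2 ⟨hr', hr'C⟩
    have hc := hcomm X inf_le_right hXodd hXn _ hdH r' hrX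
    have hinv : u * k * r' * (u * k)⁻¹ = r'⁻¹ := by
      have hzz : u * k * r' * (u * k * r') = 1 := by rw [← he']; exact invol_mul_self hz2
      rw [← eq_inv_of_mul_eq_one_left hd2]
      exact eq_inv_of_mul_eq_one_left (by simpa [mul_assoc] using hzz)
    rw [hinv] at hc
    have hsq : r' * r' ∈ O := by simpa using inv_mem hc
    obtain ⟨i, hi⟩ := hXodd.of_dvd_nat (Subgroup.orderOf_dvd_natCard X hrX)
    have : r' = (r' * r') ^ (i + 1) := by
      rw [← pow_two, ← pow_mul, show 2 * (i + 1) = (2 * i + 1) + 1 by ring, ← hi, pow_succ,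
        pow_orderOf_eq_one, one_mul]
    rw [this]
    exact pow_mem hsq _
  -- the case of an image different from `u`
  have hgen : ∀ g t k : G, t ∈ H → t * t = 1 → k ∈ H → Rel k (g * t * g⁻¹) → k ≠ u →
      Rel k (x * g * t * (x * g)⁻¹) := by
    intro g t k htH ht2 hk hrel hku
    obtain ⟨hk2, -⟩ := rel_invol hH ht htH hk hrel ht2
    obtain ⟨k', hk', hrel'⟩ := exists_rel hH ht (x * g) htH
    obtain ⟨hk2', -⟩ := rel_invol hH ht htH hk' hrel' ht2
    obtain ⟨heven, hzO, hzC⟩ := aux g t k htH ht2 hk hk2 hrel hku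
    set y := g * t * g⁻¹ with hy
    have hxu : x * u * x⁻¹ = u := by
      have h1 := Subgroup.mem_centralizer_singleton_iff.1 (hC ▸ hxC)
      rw [h1, mul_inv_cancel_right]
    have hconj : u * (x * g * t * (x * g)⁻¹) = MulAut.conj x (u * y) := by
      rw [map_mul, MulAut.conj_apply, MulAut.conj_apply, hxu, hy]; group
    have hord : orderOf (u * (x * g * t * (x * g)⁻¹)) = orderOf (u * y) := by
      rw [hconj, MulEquiv.orderOf_eq]
    have hk'u : k' ≠ u := by
      intro h
      have h1 : Odd (orderOf (u * (x * g * t * (x * g)⁻¹))) := by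
        have := hrel'
        unfold Rel at this
        rwa [h, invol_inv hu] at this
      rw [hord] at h1
      exact Nat.not_even_iff_odd.2 h1 heven
    obtain ⟨-, hzO', -⟩ := aux (x * g) t k' htH ht2 hk' hk2' hrel' hk'u
    rw [hord, hconj, ← map_pow] at hzO'
    set z := (u * y) ^ (orderOf (u * y) / 2) with hz
    set d := u * k with hd
    set d' := u * k' with hd'
    have hdH : d ∈ H := mul_mem huH hk
    have e1 : x * (z⁻¹ * d) * x⁻¹ ∈ O := by
      refine le_normalizer_iff_forall_conj_mem.1 hCO x hxC _ ?_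
      simpa using inv_mem hzO
    have e2 : x * d⁻¹ * x⁻¹ * d ∈ O := by
      simpa [mul_assoc] using inv_mem (hx d⁻¹ (inv_mem hdH))
    have e3 : d'⁻¹ * d ∈ O := by
      have : d'⁻¹ * d = (d'⁻¹ * MulAut.conj x z) * (x * (z⁻¹ * d) * x⁻¹) *
          (x * d⁻¹ * x⁻¹ * d) := by
        rw [MulAut.conj_apply]; group
      rw [this]
      exact mul_mem (mul_mem hzO' e1) e2
    have e4 := eq_one_of_mem hH hOodd (mul_mem (inv_mem (mul_mem huH hk')) hdH) e3
    have hkk : k' = k := mul_left_cancel (inv_mul_eq_one.1 e4)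
    exact hkk ▸ hrel'
  intro g t htH ht2 k hk hrel
  by_cases hku : k = u
  swap
  · exact hgen g t k htH ht2 hk hrel hku
  subst hku
  obtain ⟨h, hh, hh2, hh1, hhu⟩ := hbig
  -- the map taking an involution to its image is onto
  have himg : ∀ s : {s : G // s ∈ H ∧ s * s = 1}, ∃ l : {s : G // s ∈ H ∧ s * s = 1},
      Rel l.1 (g * s.1 * g⁻¹) := by
    intro s
    obtain ⟨l, hl, hrl⟩ := exists_rel hH ht g s.2.1
    exact ⟨⟨l, hl, (rel_invol hH ht s.2.1 hl hrl s.2.2).1⟩, hrl⟩
  choose f hf using himg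
  have hfinj : Function.Injective f := by
    intro s₁ s₂ he
    have h1 := rel_mul hH ht s₁.2.1 s₂.2.1 (f s₁).2.1 (f s₂).2.1 (hf s₁) (hf s₂)
    have h11 : (f s₁).1 * (f s₂).1 = 1 := by rw [he]; exact (f s₂).2.2
    rw [h11] at h1
    have hs : s₁.1 * s₂.1 * (s₁.1 * s₂.1) = 1 := by
      calc s₁.1 * s₂.1 * (s₁.1 * s₂.1) = s₁.1 * (s₂.1 * s₁.1) * s₂.1 := by group
        _ = s₁.1 * (s₁.1 * s₂.1) * s₂.1 := by
          rw [commute_of_isMulCommutative s₂.2.1 s₁.2.1]
        _ = (s₁.1 * s₁.1) * (s₂.1 * s₂.1) := by group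
        _ = 1 := by rw [s₁.2.2, s₂.2.2, one_mul]
    have h2 := (rel_invol hH ht (mul_mem s₁.2.1 s₂.2.1) (one_mem H) h1 hs).2 rfl
    exact Subtype.ext ((eq_inv_of_mul_eq_one_left h2).trans (inv_eq_of_mul_eq_one_right s₂.2.2))
  have hfsurj := Finite.injective_iff_surjective.1 hfinj
  have hhu2 : h * k * (h * k) = 1 := by
    calc h * k * (h * k) = h * (k * h) * k := by group
      _ = h * (h * k) * k := by rw [commute_of_isMulCommutative hk hh]
      _ = (h * h) * (k * k) := by group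
      _ = 1 := by rw [hh2, huu, one_mul]
  obtain ⟨t₁, he₁⟩ := hfsurj ⟨h, hh, hh2⟩
  obtain ⟨t₂, he₂⟩ := hfsurj ⟨h * k, mul_mem hh hk, hhu2⟩
  have hr₁ : Rel h (g * t₁.1 * g⁻¹) := by have := hf t₁; rwa [he₁] at this
  have hr₂ : Rel (h * k) (g * t₂.1 * g⁻¹) := by have := hf t₂; rwa [he₂] at this
  have ht12 : t₁.1 * t₂.1 * (t₁.1 * t₂.1) = 1 := by
    calc t₁.1 * t₂.1 * (t₁.1 * t₂.1) = t₁.1 * (t₂.1 * t₁.1) * t₂.1 := by group
      _ = t₁.1 * (t₁.1 * t₂.1) * t₂.1 := by rw [commute_of_isMulCommutative t₂.2.1 t₁.2.1]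
      _ = (t₁.1 * t₁.1) * (t₂.1 * t₂.1) := by group
      _ = 1 := by rw [t₁.2.2, t₂.2.2, one_mul]
  have hhk : h * (h * k) = k := by rw [← mul_assoc, hh2, one_mul]
  have hr12 : Rel k (g * (t₁.1 * t₂.1) * g⁻¹) := by
    have := rel_mul hH ht t₁.2.1 t₂.2.1 hh (mul_mem hh hk) hr₁ hr₂
    rwa [hhk] at this
  have htt : (⟨t, htH, ht2⟩ : {s : G // s ∈ H ∧ s * s = 1}) =
      ⟨t₁.1 * t₂.1, mul_mem t₁.2.1 t₂.2.1, ht12⟩ := hfinj (Subtype.ext (by
    rw [rel_unique hH ht htH (f _).2.1 hk (hf _) hrel]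
    exact (rel_unique hH ht (mul_mem t₁.2.1 t₂.2.1) (f _).2.1 hk (hf _) hr12).symm))
  have htt' : t = t₁.1 * t₂.1 := congrArg Subtype.val htt
  have hhne : h * k ≠ k := fun e => hh1 (mul_eq_right.1 e)
  have := rel_mul hH ht t₁.2.1 t₂.2.1 hh (mul_mem hh hk)
    (hgen g _ _ t₁.2.1 t₁.2.2 hh hr₁ hhu)
    (hgen g _ _ t₂.2.1 t₂.2.2 (mul_mem hh hk) hr₂ hhne)
  rwa [hhk, ← htt'] at this

end Main

open CfsgLib.Base.ZStar in
/-- `H O(G)` contains every conjugate of `H`. -/
theorem conj_mem_sup_oddCore_aux : ∀ (n : ℕ) (G : Type u) [Group G] [Finite G], Nat.card G = n →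
    ∀ H : Subgroup G, IsPGroup 2 H → IsMulCommutative H → IsTame H →
      ∀ g : G, ∀ x ∈ H, g * x * g⁻¹ ∈ H ⊔ Cfsg.oddCore G := by
  intro n
  induction n using Nat.strong_induction_on with
  | _ n IH => ?_
  intro G _ _ hn H hH hab ht g x hx
  subst hn
  haveI := hab
  haveI : Fact (Nat.Prime 2) := ⟨Nat.prime_two⟩
  have habmap : ∀ {Q : Type u} [Group Q] (f : G →* Q), IsMulCommutative (H.map f) := by
    intro Q _ f
    refine ⟨⟨?_⟩⟩
    rintro ⟨_, a, ha, rfl⟩ ⟨_, b, hb, rfl⟩
    exact Subtype.ext (by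
      show f a * f b = f b * f a
      rw [← map_mul, ← map_mul, commute_of_isMulCommutative ha hb])
  haveI hOn : (Cfsg.oddCore G).Normal := CfsgLib.Fus.normal_pPrimeCore 2
  by_cases hO : Cfsg.oddCore G = ⊥
  swap
  · set M := Cfsg.oddCore G with hM
    set f := QuotientGroup.mk' M with hf
    have hlt : Nat.card (G ⧸ M) < Nat.card G := CfsgLib.Solv.card_quotient_lt hO
    have h := IH _ hlt (G ⧸ M) rfl (H.map f) (hH.map f) (habmap f)
      (isTame_map f (QuotientGroup.mk'_surjective M) ht) (f g) (f x)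
      (Subgroup.mem_map_of_mem f hx)
    have hQ : Cfsg.oddCore (G ⧸ M) = ⊥ := CfsgLib.Solv.pPrimeCore_quotient_self
    rw [hQ, sup_bot_eq, ← map_inv, ← map_mul, ← map_mul, ← Subgroup.mem_comap,
      Subgroup.comap_map_eq, hf, QuotientGroup.ker_mk'] at h
    exact h
  rw [hO, sup_bot_eq]
  have hO' : ∀ N : Subgroup G, N.Normal → Odd (Nat.card N) → N = ⊥ := fun N hn ho =>
    le_bot_iff.1 (hO ▸ le_oddCore hn ho)
  by_cases hcen : ∃ w ∈ H, orderOf w = 2 ∧ w ∈ Subgroup.center G
  · obtain ⟨w, hwH, hw, hwZ⟩ := hcen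
    haveI hWn : (Subgroup.zpowers w).Normal := Subgroup.Normal.mk fun a ha b => by
      have := Subgroup.mem_center_iff.1 ((Subgroup.zpowers_le.2 hwZ) ha) b
      rw [this, mul_inv_cancel_right]; exact ha
    set f := QuotientGroup.mk' (Subgroup.zpowers w) with hf
    have hlt : Nat.card (G ⧸ Subgroup.zpowers w) < Nat.card G :=
      CfsgLib.Solv.card_quotient_lt (by
        rw [Ne, Subgroup.zpowers_eq_bot]; exact invol_ne_one hw)
    have h := IH _ hlt _ rfl (H.map f) (hH.map f) (habmap f)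
      (isTame_map f (QuotientGroup.mk'_surjective _) ht) (f g) (f x)
      (Subgroup.mem_map_of_mem f hx)
    rw [oddCore_quot_eq_bot hO hw, sup_bot_eq, ← map_inv, ← map_mul, ← map_mul,
      ← Subgroup.mem_comap, Subgroup.comap_map_eq, hf, QuotientGroup.ker_mk',
      sup_eq_left.2 (Subgroup.zpowers_le.2 hwH)] at h
    exact h
  push Not at hcen
  set K := Subgroup.normalClosure (H : Set G) with hK
  have hHK : H ≤ K := Subgroup.le_normalClosure
  by_cases hKtop : K = ⊤
  swap
  · have hlt : Nat.card K < Nat.card G := CfsgLib.Solv.card_lt_of_ne_top hKtop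
    have habK : IsMulCommutative (H.subgroupOf K) := ⟨⟨fun a b => Subtype.ext (Subtype.ext (by
      show ((a.1 : K) : G) * ((b.1 : K) : G) = ((b.1 : K) : G) * ((a.1 : K) : G)
      exact commute_of_isMulCommutative a.2 b.2))⟩⟩
    have hnorm : ∀ k ∈ K, ∀ a ∈ H, k * a * k⁻¹ ∈ H := by
      intro k hk a ha
      have h := IH _ hlt K rfl (H.subgroupOf K) (hH.comap_subtype (K := K)) habK
        (isTame_sub ht K hHK) ⟨k, hk⟩ ⟨a, hHK ha⟩ ha
      rw [oddCore_bot_subgroup hO' K, sup_bot_eq] at h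
      exact h
    obtain ⟨R, hR, hHR, hg⟩ := ht g
    obtain ⟨h, hh, r, hr, he⟩ := exists_decomp hHR (hg x hx)
    set Y := MulAut.conj g • H with hY
    have hYp : IsPGroup 2 Y := hH.of_equiv (Subgroup.equivSMul (MulAut.conj g) H)
    have hyY : g * x * g⁻¹ ∈ Y := by
      rw [hY, mem_conj_smul_iff]
      convert hx using 1; group
    have hYK : Y ≤ K := by
      intro y hy
      rw [hY, mem_conj_smul_iff] at hy
      have := Subgroup.normalClosure_normal.conj_mem _ (hHK hy) g
      rwa [show g * (g⁻¹ * y * g) * g⁻¹ = y by group] at this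
    have hYN : Y ≤ Subgroup.normalizer (H : Set G) :=
      le_normalizer_iff_forall_conj_mem.2 fun y hy a ha => hnorm y (hYK hy) a ha
    have hsup : IsPGroup 2 (Y ⊔ H : Subgroup G) := hYp.to_sup_of_normal_right' hH hYN
    have hr1 : r = 1 := eq_one_of_mem hsup hR
      (by
        have : r = h⁻¹ * (g * x * g⁻¹) := by rw [he]; group
        rw [this]
        exact mul_mem (inv_mem (Subgroup.mem_sup_right hh)) (Subgroup.mem_sup_left hyY)) hr
    rw [he, hr1, mul_one]
    exact hh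
  -- now `G` is generated by the conjugates of `H`
  rcases eq_or_ne H ⊥ with rfl | hne
  · rw [Subgroup.mem_bot.1 hx]; simp
  exfalso
  haveI : Nontrivial H := (Subgroup.nontrivial_iff_ne_bot H).2 hne
  obtain ⟨k0, hk0⟩ := IsPGroup.iff_card.1 hH
  have hk01 : k0 ≠ 0 := by
    rintro rfl
    exact absurd hk0 (by simpa using (Finite.one_lt_card (α := H)).ne')
  obtain ⟨a', ha'⟩ := exists_prime_orderOf_dvd_card' (G := H) 2 (hk0 ▸ dvd_pow_self 2 hk01)
  set a : G := a'.1 with haa
  have haH : a ∈ H := a'.2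
  have ha : orderOf a = 2 := by rw [haa, Subgroup.orderOf_coe]; exact ha'
  have hrel : ∀ g : G, Rel a (g * a * g⁻¹) := by
    intro g
    by_cases hone : ∀ s ∈ H, s * s = 1 → s = 1 ∨ s = a
    · obtain ⟨k, hk, hr⟩ := exists_rel hH ht g haH
      obtain ⟨hk2, hk1⟩ := rel_invol hH ht haH hk hr (invol_mul_self ha)
      rcases hone k hk hk2 with h | h
      · exact absurd (hk1 h) (invol_ne_one ha)
      · rwa [h] at hr
    push Not at hone
    obtain ⟨b, hb, hb2, hb1, hba⟩ := hone
    have hb' : orderOf b = 2 := invol_iff.2 ⟨hb1, hb2⟩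
    -- centralizers of involutions of `H` in the various `R`
    have hCle : ∀ e ∈ H, orderOf e = 2 → ∀ R : Subgroup G, Odd (Nat.card R) →
        H ≤ Subgroup.normalizer (R : Set G) →
        R ⊓ Subgroup.centralizer ({e} : Set G) ≤ preserver H := by
      intro e he he2 R hR hHR x hx
      set C := Subgroup.centralizer ({e} : Set G) with hC
      have hHC : H ≤ C := fun h hh =>
        Subgroup.mem_centralizer_singleton_iff.2 (commute_of_isMulCommutative hh he)
      have hCtop : C ≠ ⊤ := fun h => hcen e he he2 (Subgroup.mem_center_iff.2 fun w => by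
        have : w ∈ C := h ▸ Subgroup.mem_top w
        exact Subgroup.mem_centralizer_singleton_iff.1 this)
      have habC : IsMulCommutative (H.subgroupOf C) := ⟨⟨fun p q => Subtype.ext (Subtype.ext (by
        show ((p.1 : C) : G) * ((q.1 : C) : G) = ((q.1 : C) : G) * ((p.1 : C) : G)
        exact commute_of_isMulCommutative p.2 q.2))⟩⟩
      set O := (Cfsg.oddCore C).map C.subtype with hOdef
      have hOodd : Odd (Nat.card O) := by
        rw [hOdef, card_map_subtype]; exact odd_card_oddCore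
      haveI : (Cfsg.oddCore C).Normal := CfsgLib.Fus.normal_pPrimeCore 2
      have hCO : C ≤ Subgroup.normalizer (O : Set G) := by
        rw [le_normalizer_iff_forall_conj_mem]
        rintro p hp _ ⟨q, hq, rfl⟩
        exact ⟨⟨p, hp⟩ * q * ⟨p, hp⟩⁻¹, Subgroup.Normal.conj_mem inferInstance q hq _, rfl⟩
      have hIH : ∀ p ∈ C, ∀ h ∈ H, p * h * p⁻¹ ∈ H ⊔ O := by
        intro p hp h hh
        have hmem := IH _ (CfsgLib.Solv.card_lt_of_ne_top hCtop) C rfl (H.subgroupOf C)
          (hH.comap_subtype (K := C)) habC (isTame_sub ht C hHC) ⟨p, hp⟩ ⟨h, hHC hh⟩ hh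
        have := Subgroup.mem_map_of_mem C.subtype hmem
        rwa [Subgroup.map_sup, Subgroup.map_subgroupOf_eq_of_le hHC] at this
      have hcomm : ∀ X : Subgroup G, X ≤ C → Odd (Nat.card X) →
          H ≤ Subgroup.normalizer (X : Set G) →
          ∀ h ∈ H, ∀ r ∈ X, h * r * h⁻¹ * r⁻¹ ∈ O := by
        intro X hXC hXodd hXn h hh r hr
        have hXO : X ≤ Subgroup.normalizer (O : Set G) := hXC.trans hCO
        have hHO : H ≤ Subgroup.normalizer (O : Set G) := hHC.trans hCO
        obtain ⟨h', hh', o, ho, he'⟩ := exists_decomp hHO (hIH r (hXC hr) h⁻¹ (inv_mem hh))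
        have hmem : h * r * h⁻¹ * r⁻¹ = h * h' * o := by
          calc h * r * h⁻¹ * r⁻¹ = h * (r * h⁻¹ * r⁻¹) := by group
            _ = _ := by rw [he', mul_assoc]
        have hXOodd : Odd (Nat.card (X ⊔ O : Subgroup G)) := by
          have hL := CfsgLib.Solv.card_sup_mul_card_inf
            ((X.subgroupOf (Subgroup.normalizer (O : Set G))))
            (O.subgroupOf (Subgroup.normalizer (O : Set G)))
          rw [← Subgroup.subgroupOf_sup hXO Subgroup.le_normalizer,
            CfsgLib.Solv.card_subgroupOf (sup_le hXO Subgroup.le_normalizer),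
            CfsgLib.Solv.card_subgroupOf hXO,
            CfsgLib.Solv.card_subgroupOf Subgroup.le_normalizer] at hL
          exact (hXodd.mul hOodd).of_dvd_nat (Dvd.intro _ hL)
        have hhh : h * h' = 1 := by
          refine eq_one_of_mem hH hXOodd (mul_mem hh hh') ?_
          have : h * h' = (h * r * h⁻¹ * r⁻¹) * o⁻¹ := by rw [hmem]; group
          rw [this]
          exact mul_mem (mul_mem
            (Subgroup.mem_sup_left (le_normalizer_iff_forall_conj_mem.1 hXn h hh r hr))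
            (Subgroup.mem_sup_left (inv_mem hr))) (Subgroup.mem_sup_right (inv_mem ho))
        rw [hmem, hhh, one_mul]
        exact ho
      obtain ⟨hxR, hxC⟩ := Subgroup.mem_inf.1 hx
      refine mem_preserver hH hab ht he he2 ?_ C O rfl (Subgroup.map_subtype_le _) hOodd hCO hcomm
        hxC fun h hh => hcomm (R ⊓ C) inf_le_right
          (hR.of_dvd_nat (Subgroup.card_dvd_of_le inf_le_left))
          (le_normalizer_inf_of_le hHR (hHC.trans Subgroup.le_normalizer)) h hh x hx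
      by_cases hea : a = e
      · exact ⟨b, hb, hb2, hb1, fun h => hba (h.trans hea.symm)⟩
      · exact ⟨a, haH, invol_mul_self ha, invol_ne_one ha, hea⟩
    have hRle : ∀ R : Subgroup G, Odd (Nat.card R) → H ≤ Subgroup.normalizer (R : Set G) →
        R ≤ preserver H := by
      intro R hR hHR
      refine CfsgLib.Solv.le_of_centralizers_pair' (q := 2) haH hb hHR (coprime_of_odd hH hR)
        (Nat.coprime_two_left.2 hR) ?_ ?_ ?_ (hCle b hb hb' R hR hHR)
      · intro x _; rw [pow_two, invol_mul_self ha, one_mul, mul_one]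
      · intro x _; rw [pow_two, hb2, one_mul, mul_one]
      · intro i
        have hbi : b ^ i = 1 ∨ b ^ i = b := by
          rcases Nat.even_or_odd i with ⟨j, rfl⟩ | ⟨j, rfl⟩
          · left; rw [← two_mul, pow_mul, pow_two, hb2, one_pow]
          · right; rw [pow_succ, pow_mul, pow_two, hb2, one_pow, one_mul]
        rcases hbi with h | h <;> rw [h]
        · rw [mul_one]; exact hCle a haH ha R hR hHR
        · refine hCle _ (mul_mem haH hb) (invol_iff.2 ⟨fun h' => hba ?_, ?_⟩) R hR hHR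
          · rw [eq_inv_of_mul_eq_one_left h', invol_inv hb']
          · calc a * b * (a * b) = a * (b * a) * b := by group
              _ = a * (a * b) * b := by rw [commute_of_isMulCommutative hb haH]
              _ = (a * a) * (b * b) := by group
              _ = 1 := by rw [invol_mul_self ha, hb2, one_mul]
    have hnormal : (preserver H).Normal := Subgroup.Normal.mk fun p hp w => by
      obtain ⟨R, hR, hHR, hw⟩ := ht w
      obtain ⟨r, hr, hn⟩ := exists_mem_normalizer hH hR hHR hw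
      have : w * p * w⁻¹ = r * ((r⁻¹ * w) * p * (r⁻¹ * w)⁻¹) * r⁻¹ := by group
      rw [this]
      exact mul_mem (mul_mem (hRle R hR hHR hr) (preserver_normalized hn hp))
        (inv_mem (hRle R hR hHR hr))
    have htop : g ∈ preserver H := by
      haveI := hnormal
      have : K ≤ preserver H := Subgroup.normalClosure_le_normal (self_le_preserver hab)
      exact this (hKtop ▸ Subgroup.mem_top g)
    have h1 : Rel a (1 * a * 1⁻¹) := by unfold Rel; simp
    have := htop 1 a haH (invol_mul_self ha) a haH h1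
    rwa [mul_one] at this
  have hiso : Cfsg.IsIsolated a := by
    intro w hw
    have hodd := hrel w
    unfold Rel at hodd
    rw [invol_inv ha] at hodd
    set y := w * a * w⁻¹ with hy
    have hy2 : orderOf y = 2 := invol_conj ha w
    have hsq : (a * y) ^ 2 = 1 := by
      rw [pow_two, hw.symm.mul_mul_mul_comm, invol_mul_self ha, invol_mul_self hy2, one_mul]
    rcases (Nat.dvd_prime Nat.prime_two).1 (orderOf_dvd_of_pow_eq_one hsq) with h | h
    · exact (eq_inv_of_mul_eq_one_right (orderOf_eq_one_iff.1 h)).trans (invol_inv ha)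
    · rw [h] at hodd
      exact absurd hodd (by decide)
  refine hcen a haH ha (Subgroup.mem_center_iff.2 fun w => ?_)
  have h := of_isolated holds ha hiso w
  rw [hO, Subgroup.mem_bot] at h
  exact (mul_inv_eq_iff_eq_mul.1 (mul_inv_eq_one.1 h)).symm

/-- `H O(G)` contains every conjugate of a tame abelian 2-subgroup `H`. -/
theorem conj_mem_sup_oddCore [Finite G] {H : Subgroup G} (hH : IsPGroup 2 H)
    (hab : IsMulCommutative H) (ht : IsTame H) :
    ∀ g : G, ∀ x ∈ H, g * x * g⁻¹ ∈ H ⊔ Cfsg.oddCore G :=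
  conj_mem_sup_oddCore_aux _ G rfl H hH hab ht

/-- A tame abelian 2-subgroup `H` satisfies `G = N(H) O(G)`. -/
theorem normalizer_sup_oddCore [Finite G] {H : Subgroup G} (hH : IsPGroup 2 H)
    (hab : IsMulCommutative H) (ht : IsTame H) :
    Subgroup.normalizer (H : Set G) ⊔ Cfsg.oddCore G = ⊤ := by
  rw [eq_top_iff]
  intro g _
  haveI : (Cfsg.oddCore G).Normal := CfsgLib.Fus.normal_pPrimeCore 2
  have hHO : H ≤ Subgroup.normalizer ((Cfsg.oddCore G : Subgroup G) : Set G) := by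
    rw [Subgroup.normalizer_eq_top]; exact le_top
  obtain ⟨r, hr, hn⟩ := exists_mem_normalizer hH CfsgLib.Base.ZStar.odd_card_oddCore hHO
    (conj_mem_sup_oddCore hH hab ht g)
  rw [show g = r * (r⁻¹ * g) by group]
  exact mul_mem (Subgroup.mem_sup_right hr) (Subgroup.mem_sup_left hn)

end CfsgLib.Inv.Tame
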