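import Cfsg.Agent.Inv.ZJComplement
import Cfsg.Agent.Inv.DStar
import Cfsg.Agent.Solv.Thompson
import Cfsg.Agent.Fus.ThompsonFactor

/-!
Thompson's normal p-complement criterion for the abelian Thompson subgroup.
-/

set_option autoImplicit false
set_option linter.style.haveILetI false
set_option linter.deprecated false
set_option linter.unusedSectionVars false

open scoped commutatorElement Pointwise

namespace CfsgLib.Inv.ZJ

open CfsgLib.Solv

universe u

variable {G : Type u} [Group G] {G' : Type u} [Group G'] {p : ℕ}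

theorem not_involves_subgroup {T : Type*} [Group T] (H : Subgroup G) (h : ¬ Cfsg.Involves T G) :
    ¬ Cfsg.Involves T ↥H := fun h' => h (CfsgLib.Dickson.involves_of_isSec
  (CfsgLib.Dickson.isSec_trans (A := G) ⟨H, MonoidHom.id _, Function.surjective_id⟩
    (CfsgLib.Dickson.isSec_of_involves h')))

theorem map_jOf_injOn {e : ℕ} (f : G →* G') (D : Subgroup G) (hf : Set.InjOn f (D : Set G)) :
    (jOf e D).map f = jOf e (D.map f) := by
  have hψ : Function.Injective (f.comp D.subtype) := fun a b h => Subtype.ext (hf a.2 b.2 h)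
  have h1 : (jOf e (⊤ : Subgroup D)).map D.subtype = jOf e D := by
    rw [map_jOf D.subtype_injective, ← MonoidHom.range_eq_map, D.range_subtype]
  rw [← h1, Subgroup.map_map, map_jOf hψ]
  congr 1
  rw [← Subgroup.map_map, ← MonoidHom.range_eq_map, D.range_subtype]

theorem normalizer_le_jOf [Finite G] {e : ℕ} (D : Subgroup G) :
    Subgroup.normalizer (D : Set G) ≤ Subgroup.normalizer (jOf e D : Set G) := by
  intro g hg
  refine mem_normalizer_of_conj_smul_eq ?_
  rw [conj_smul_eq_map, map_jOf (MulAut.conj g).injective, ← conj_smul_eq_map g D,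
    conj_smul_eq_self_of_mem_normalizer hg]

theorem jOf_ne_bot [Finite G] [Fact p.Prime] {S : Subgroup G} (hS : IsPGroup p S) (hne : S ≠ ⊥) :
    jOf 0 S ≠ ⊥ := fun h => zJ_ne_bot (p := p) (Or.inl rfl) hS hne (le_bot_iff.1 (inf_le_left.trans h.le))

/-- The Thompson subgroup does not change inside a subgroup containing it. -/
theorem jOf_eq_of_le [Finite G] {e : ℕ} {R S : Subgroup G} (hRS : R ≤ S) (hJ : jOf e S ≤ R) :
    jOf e R = jOf e S := by
  obtain ⟨A₀, hA₀⟩ := exists_maxA e S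
  have hA₀R : A₀ ≤ R := hA₀.le_jOf.trans hJ
  refine le_antisymm (iSup₂_le fun A hA => MaxA.le_jOf ⟨hA.1.trans hRS, hA.2.1, fun B hB hBe =>
    (hA₀.2.2 B hB hBe).trans (hA.2.2 A₀ hA₀R hA₀.2.1)⟩) (iSup₂_le fun A hA => MaxA.le_jOf
      ⟨hA.le_jOf.trans hJ, hA.2.1, fun B hB hBe => hA.2.2 B (hB.trans hRS) hBe⟩)

/-- The hypothesis of Thompson's criterion. -/
def HypA (p : ℕ) (S : Subgroup G) : Prop :=
  Cfsg.HasNormalPComplement p (Subgroup.normalizer (jOf 0 S : Set G)) ∧
    Cfsg.HasNormalPComplement p (Subgroup.centralizer (zOf S : Set G))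

theorem HypA.of_normalizers [Finite G] [Fact p.Prime] {S : Subgroup G}
    (h1 : Cfsg.HasNormalPComplement p (Subgroup.normalizer (jOf 0 S : Set G)))
    (h2 : Cfsg.HasNormalPComplement p (Subgroup.normalizer (zOf S : Set G))) : HypA p S :=
  ⟨h1, hnpc_of_le (Subgroup.centralizer_le_normalizer _) h2⟩

theorem HypA.comap [Finite G] [Finite G'] [Fact p.Prime] {f : G →* G'}
    (hf : Function.Injective f) {S : Subgroup G} (h : HypA p (S.map f)) :
    HypA p S := by
  refine ⟨hnpc_of_map_le hf (L := Subgroup.normalizer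
    (jOf 0 (S.map f) : Set G')) ?_ h.1,
    hnpc_of_map_le hf (L := Subgroup.centralizer (zOf (S.map f) : Set G')) ?_ h.2⟩
  · rw [← map_jOf_injOn f S hf.injOn]
    exact Subgroup.le_normalizer_map f
  · rw [← map_zOf f hf S, Subgroup.map_le_iff_le_comap]
    intro g hg
    rw [Subgroup.mem_comap, Subgroup.mem_centralizer_iff]
    rintro _ ⟨z, hz, rfl⟩
    rw [← map_mul, ← map_mul, Subgroup.mem_centralizer_iff.1 hg z hz]

theorem HypA.conj [Finite G] [Fact p.Prime] (g : G) {S : Subgroup G} (h : HypA p S) :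
    HypA p (MulAut.conj g • S) := by
  refine HypA.comap (f := (MulAut.conj g⁻¹).toMonoidHom) (MulAut.conj g⁻¹).injective ?_
  rwa [← conj_smul_eq_map, ← mul_smul, ← map_mul, inv_mul_cancel, map_one, one_smul]

/-- Step one: passing to the quotient by a normal `p'`-subgroup. -/
theorem HypA.quotient [Finite G] [Fact p.Prime] {S M : Subgroup G} [M.Normal]
    (hS : IsPGroup p S) (hM : ¬ p ∣ Nat.card M) (h : HypA p S) :
    HypA p (S.map (QuotientGroup.mk' M)) := by
  have hcop : ∀ X : Subgroup G, X ≤ S → (Nat.card X).Coprime (Nat.card M) := fun X hX => by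
    obtain ⟨k, hk⟩ := (hS.to_le hX).exists_card_eq
    rw [hk]
    exact (((Fact.out : p.Prime).coprime_iff_not_dvd.2 hM).pow_left k)
  have hsol : ∀ X : Subgroup G, X ≤ S → Group.IsSolvable X := fun X hX => by
    haveI := (hS.to_le hX).isNilpotent
    infer_instance
  have hinj : Set.InjOn (QuotientGroup.mk' M) (S : Set G) := by
    intro a (ha : a ∈ S) b (hb : b ∈ S) hab
    have h1 : a⁻¹ * b ∈ S ⊓ M := Subgroup.mem_inf.2 ⟨mul_mem (inv_mem ha) hb, QuotientGroup.eq.1 hab⟩
    rw [inf_eq_bot_of_coprime_card (hcop S le_rfl), Subgroup.mem_bot] at h1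
    exact (inv_mul_eq_one.1 h1)
  refine ⟨?_, ?_⟩
  · rw [← map_jOf_injOn _ S hinj]
    exact hnpc_of_le (normalizer_map_mk'_le (hcop _ (jOf_le S))
      (hsol _ (jOf_le S))) (hnpc_map _ h.1)
  · have hz : zOf (S.map (QuotientGroup.mk' M)) = (zOf S).map (QuotientGroup.mk' M) := by
      ext y
      simp only [Subgroup.mem_inf, Subgroup.mem_centralizer_iff, Subgroup.mem_map, SetLike.mem_coe]
      constructor
      · rintro ⟨⟨x, hx, rfl⟩, hc⟩
        refine ⟨x, ⟨hx, fun s hs => hinj (mul_mem hs hx) (mul_mem hx hs) ?_⟩, rfl⟩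
        simpa only [map_mul] using hc _ ⟨s, hs, rfl⟩
      · rintro ⟨x, ⟨hx, hc⟩, rfl⟩
        refine ⟨⟨x, hx, rfl⟩, ?_⟩
        rintro _ ⟨s, hs, rfl⟩
        rw [← map_mul, ← map_mul, hc s hs]
    rw [hz]
    exact hnpc_of_le (centralizer_map_mk'_le (hcop _ (zOf_le S)) (hsol _ (zOf_le S)))
      (hnpc_map _ h.2)


/-- A statement holding for all groups of order less than that of `G`. -/
def IHA (p : ℕ) (G : Type u) [Group G] : Prop :=
  ∀ (G' : Type u) [Group G'] [Finite G'] (P' : Sylow p G'), Nat.card G' < Nat.card G →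
    (¬ Cfsg.Involves (Equiv.Perm (Fin 4)) G → ¬ Cfsg.Involves (Equiv.Perm (Fin 4)) G') →
    HypA p (P' : Subgroup G') → Cfsg.HasNormalPComplement p G'

theorem IHA.subgroup [Finite G] [Fact p.Prime] (ih : IHA p G) {H : Subgroup G}
    (hH : H ≠ ⊤) (S : Sylow p H) (h : HypA p ((S : Subgroup H).map H.subtype)) :
    Cfsg.HasNormalPComplement p H :=
  ih H S (card_lt_of_ne_top hH) (not_involves_subgroup H) (h.comap H.subtype_injective)

theorem IHA.over [Finite G] [Fact p.Prime] (ih : IHA p G) (P : Sylow p G)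
    (h : HypA p (P : Subgroup G)) {H : Subgroup G} (hH : H ≠ ⊤)
    (hPH : (P : Subgroup G) ≤ H) : Cfsg.HasNormalPComplement p H :=
  ih.subgroup hH (P.subtype hPH) (by rwa [Sylow.coe_subtype, Subgroup.map_subgroupOf_eq_of_le hPH])

/-- A counterexample has a nontrivial normal `p`-subgroup. -/
theorem pCore_ne_bot_of_ihA [Finite G] [hp : Fact p.Prime] (ih : IHA p G)
    (P : Sylow p G) (h : HypA p (P : Subgroup G))
    (hn : ¬ Cfsg.HasNormalPComplement p G) : Cfsg.pCore p G ≠ ⊥ := by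
  let bad : Set (Subgroup G) := {Q | IsPGroup p Q ∧ Q ≠ ⊥ ∧
    ¬ Cfsg.HasNormalPComplement p (Subgroup.normalizer (Q : Set G))}
  have hne : bad.Nonempty := by
    rw [hnpc_iff_frobCond, FrobCond] at hn
    push Not at hn
    obtain ⟨Q, hQ, g, hg, hc, hgC⟩ := hn
    refine ⟨Q, hQ, ?_, fun hN => hgC
      (mem_centralizer_of_hnpc_subgroup hN Subgroup.le_normalizer hQ hg hg hc)⟩
    rintro rfl
    exact hgC (Subgroup.mem_centralizer_iff.2 fun q hq => by
      rw [Subgroup.mem_bot.1 hq, one_mul, mul_one])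
  obtain ⟨U, ⟨hU, hUne, hUbad⟩, hmax⟩ := Set.exists_max_image bad
    (fun Q => vP p (Subgroup.normalizer (Q : Set G))) (Set.toFinite _) hne
  by_cases htop : Subgroup.normalizer (U : Set G) = ⊤
  · haveI := Subgroup.normalizer_eq_top_iff.1 htop
    exact fun hb => hUne (le_bot_iff.1 (hb ▸ le_pCore hU))
  exfalso
  set H := Subgroup.normalizer (U : Set G) with hHdef
  obtain ⟨S⟩ : Nonempty (Sylow p H) := inferInstance
  set S' := (S : Subgroup H).map H.subtype with hS'
  have hS'p : IsPGroup p S' := S.isPGroup'.map H.subtype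
  have hcard : Nat.card S' = p ^ vP p H := by
    rw [hS', card_map_subtype]; exact S.card_eq_multiplicity
  have hS'ne : S' ≠ ⊥ := by
    intro hb
    rw [hb, Subgroup.card_bot] at hcard
    obtain ⟨j, hj⟩ := hU.exists_card_eq
    have hd := Subgroup.card_dvd_of_le (Subgroup.le_normalizer (H := U))
    rw [hj, hp.out.pow_dvd_iff_le_factorization Nat.card_pos.ne'] at hd
    have hj0 : j ≠ 0 := by
      rintro rfl
      exact hUne (Subgroup.card_eq_one.1 (by rw [hj, pow_zero]))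
    have := Nat.pow_right_injective hp.out.two_le
      (show p ^ 0 = p ^ vP p H by rw [pow_zero, ← hcard])
    simp only [vP, hHdef] at this
    omega
  by_cases hsyl : ∃ P0 : Sylow p G, (P0 : Subgroup G) = S'
  · obtain ⟨P0, hP0⟩ := hsyl
    obtain ⟨g, hg⟩ := MulAction.exists_smul_eq G P P0
    refine hUbad (ih.subgroup htop S ?_)
    rw [← hS', ← hP0, ← hg, Sylow.coe_subgroup_smul]
    exact h.conj g
  · push Not at hsyl
    have hlt := vP_lt_normalizer hS'p hcard hsyl
    have key : ∀ X : Subgroup G, X ≤ S' → X ≠ ⊥ →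
        Subgroup.normalizer (S' : Set G) ≤ Subgroup.normalizer (X : Set G) →
        Cfsg.HasNormalPComplement p (Subgroup.normalizer (X : Set G)) := by
      intro X hX hXne hle
      by_contra hbad
      have h1 : vP p (Subgroup.normalizer (X : Set G)) ≤ vP p H :=
        hmax X ⟨hS'p.to_le hX, hXne, hbad⟩
      have h2 : vP p (Subgroup.normalizer (S' : Set G)) ≤ vP p (Subgroup.normalizer (X : Set G)) :=
        vP_mono hle
      omega
    exact hUbad (ih.subgroup htop S (HypA.of_normalizers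
      (key _ (jOf_le S') (jOf_ne_bot hS'p hS'ne)
        (normalizer_le_jOf S'))
      (key _ (zOf_le S') (zOf_ne_bot hS'p hS'ne) (normalizer_le_normalizer_zOf S'))))

/-- Modulo its `p`-core, a minimal counterexample has a normal `p`-complement. -/
theorem hnpc_quotient_pCore_of_ihA [Finite G] [hp : Fact p.Prime] (ih : IHA p G)
    (P : Sylow p G) (h : HypA p (P : Subgroup G)) (hU : Cfsg.pCore p G ≠ ⊥)
    [(Cfsg.pCore p G).Normal] : Cfsg.HasNormalPComplement p (G ⧸ Cfsg.pCore p G) := by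
  set U := Cfsg.pCore p G
  set f := QuotientGroup.mk' U with hf
  have hfs : Function.Surjective f := QuotientGroup.mk'_surjective U
  set P' := P.mapSurjective hfs with hP'
  by_cases hb : (P' : Subgroup (G ⧸ U)) = ⊥
  · rw [hnpc_iff_inf P', hb, bot_inf_eq]
  refine ih _ P' (card_quotient_lt hU) (fun h h' => h (CfsgLib.Fus.involves_comap hfs h')) ?_
  have key : ∀ X : Subgroup (G ⧸ U), X ≤ P' → X ≠ ⊥ →
      Subgroup.normalizer ((P' : Subgroup (G ⧸ U)) : Set (G ⧸ U)) ≤
        Subgroup.normalizer (X : Set (G ⧸ U)) →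
      Cfsg.HasNormalPComplement p (Subgroup.normalizer (X : Set (G ⧸ U))) := by
    intro X hX hXne hle
    have hW : IsPGroup p (X.comap f) := (P'.isPGroup'.to_le hX).comap_of_ker_isPGroup f
      (by rw [hf, QuotientGroup.ker_mk']; exact (pCore_isPGroup G p))
    have hNW : Subgroup.normalizer (X.comap f : Set G) = (Subgroup.normalizer (X : Set _)).comap f :=
      (Subgroup.comap_normalizer_eq_of_surjective X hfs).symm
    have hPle : (P : Subgroup G) ≤ Subgroup.normalizer (X.comap f : Set G) := by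
      rw [hNW, ← Subgroup.map_le_iff_le_comap]
      exact le_trans (le_of_eq (Sylow.coe_mapSurjective hfs P).symm)
        (Subgroup.le_normalizer.trans hle)
    have hne : Subgroup.normalizer (X.comap f : Set G) ≠ ⊤ := by
      intro htop
      haveI := Subgroup.normalizer_eq_top_iff.1 htop
      refine hXne (le_bot_iff.1 ?_)
      rw [← Subgroup.map_comap_eq_self_of_surjective hfs X, Subgroup.map_le_iff_le_comap,
        hf, MonoidHom.comap_bot, QuotientGroup.ker_mk']
      exact le_pCore hW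
    have h' := hnpc_map f (ih.over P h hne hPle)
    rwa [hNW, Subgroup.map_comap_eq_self_of_surjective hfs] at h'
  exact HypA.of_normalizers
    (key _ (jOf_le _) (jOf_ne_bot P'.isPGroup' hb)
      (normalizer_le_jOf _))
    (key _ (zOf_le _) (zOf_ne_bot P'.isPGroup' hb) (normalizer_le_normalizer_zOf _))


/-- For odd primes the criterion follows from the center of the Thompson subgroup. -/
theorem hnpc_of_hypA_odd [Finite G] [hp : Fact p.Prime] (hp2 : p ≠ 2) (S : Sylow p G)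
    (h : HypA p (S : Subgroup G)) : Cfsg.HasNormalPComplement p G := by
  set Sg := (S : Subgroup G) with hSg
  refine hnpc_of_zJ hp2 (Or.inl rfl) G S Sg (stronglyClosed_self _) ?_
  set Z := zJ 0 Sg with hZ
  set M := Subgroup.normalizer (Z : Set G) with hM
  set C := Subgroup.centralizer (Z : Set G) with hC
  have hCM : C ≤ M := Subgroup.centralizer_le_normalizer _
  have hMC : M ≤ Subgroup.normalizer (C : Set G) := CfsgLib.Glau.normalizer_le_centralizer_normalizer Z
  have hSM : Sg ≤ M := Subgroup.le_normalizer.trans (normalizer_le_zJ Sg)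
  have hCn : Cfsg.HasNormalPComplement p C := by
    refine hnpc_of_le (Subgroup.centralizer_le fun z hz => ?_) h.2
    obtain ⟨A, hA⟩ := exists_maxA 0 Sg
    exact ⟨hA.le_jOf (hA.mem hz.1 (pow_zero _) fun a ha => (hz.2 a (hA.1 ha)).symm),
      fun w hw => hz.2 w (jOf_le Sg hw)⟩
  have hJC : jOf 0 Sg ≤ Sg ⊓ C := le_inf (jOf_le Sg) fun w hw z hz => (hz.2 w hw).symm
  have hS : CfsgLib.Glau.Syl p Sg M := (CfsgLib.Glau.syl_top S).mono hSM le_top
  have hC' : CfsgLib.Glau.Syl p (Sg ⊓ C) C := by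
    have h1 := hS.inf_normal hMC
    rwa [inf_eq_right.2 hCM] at h1
  set NJ := Subgroup.normalizer (jOf 0 Sg : Set G) with hNJ
  have hNR : Subgroup.normalizer ((Sg ⊓ C : Subgroup G) : Set G) ≤ NJ := by
    refine (normalizer_le_jOf (e := 0) _).trans (le_of_eq ?_)
    rw [jOf_eq_of_le inf_le_left hJC]
  -- the residual of `C` is a normal `p'`-subgroup of `M`
  set K := (Cfsg.pResidual p ↥C).map C.subtype with hK
  have hKc : ¬ p ∣ Nat.card K := by rw [hK, card_map_subtype]; exact hnpc_iff.1 hCn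
  have hKC : K ≤ C := Subgroup.map_subtype_le _
  have hKgen : ∀ x ∈ C, Nat.Coprime (orderOf x) p → x ∈ K := fun x hx hc =>
    ⟨⟨x, hx⟩, Subgroup.subset_closure (show Nat.Coprime (orderOf (⟨x, hx⟩ : C)) p by rwa [Subgroup.orderOf_mk]), rfl⟩
  haveI : (K.subgroupOf M).Normal := by
    refine Subgroup.normal_subgroupOf_of_le_normalizer fun m hm => Subgroup.mem_normalizer_fintype fun x hx => ?_
    obtain ⟨⟨x', hx'C⟩, hx', rfl⟩ := hx
    refine hKgen _ ((Subgroup.mem_normalizer_iff.1 (hMC hm) x').1 hx'C) ?_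
    have := (hnpc_mem_iff hCn).1 hx'
    rw [Subgroup.orderOf_mk] at this
    have h := MulEquiv.orderOf_eq (MulAut.conj m) x'
    rw [MulAut.conj_apply] at h
    show Nat.Coprime (orderOf (m * x' * m⁻¹)) p
    rwa [h]
  have hKM : ¬ p ∣ Nat.card (K.subgroupOf M) := by
    rwa [Nat.card_congr (Subgroup.subgroupOfEquivOfLe (hKC.trans hCM)).toEquiv]
  refine hnpc_of_quotient_pprime hKM ?_
  let φ : ↥(M ⊓ NJ) →* ↥M ⧸ K.subgroupOf M :=
    (QuotientGroup.mk' _).comp (Subgroup.inclusion (inf_le_left : M ⊓ NJ ≤ M))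
  refine hnpc_of_surjective (f := φ) (fun q => ?_) (hnpc_of_le inf_le_right h.1)
  obtain ⟨⟨g, hg⟩, rfl⟩ := QuotientGroup.mk'_surjective _ q
  obtain ⟨c, hc, k, hk, hgk⟩ := CfsgLib.Glau.frattini hS hMC hg
  -- split `c` as an element of `K` times one of the Sylow subgroup of `C`
  obtain ⟨r, hr, t, ht, hct⟩ : ∃ r ∈ K, ∃ t ∈ Sg ⊓ C, c = r * t := by
    have h1 := sylow_sup_pResidual hC'.toSylow
    rw [hC'.coe_toSylow] at h1
    haveI := pResidual_char p ↥C
    obtain ⟨r, hr, t, ht, hrt⟩ := Subgroup.mem_sup_of_normal_left.1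
      ((sup_comm _ _).trans h1 |>.ge (Subgroup.mem_top (⟨c, hc.2⟩ : C)))
    exact ⟨(r : G), ⟨r, hr, rfl⟩, (t : G), ht, (congrArg Subtype.val hrt).symm⟩
  have htk : t * k ∈ M ⊓ NJ :=
    ⟨M.mul_mem (hCM ht.2) hk.1, NJ.mul_mem (hNR (Subgroup.le_normalizer ht)) (hNR hk.2)⟩
  refine ⟨⟨t * k, htk⟩, ?_⟩
  have hmem : (⟨r, (hKC.trans hCM) hr⟩ : ↥M) ∈ K.subgroupOf M := hr
  show QuotientGroup.mk' _ (⟨t * k, htk.1⟩ : ↥M) = _
  rw [show (⟨g, hg⟩ : ↥M) = ⟨r, (hKC.trans hCM) hr⟩ * ⟨t * k, htk.1⟩ from Subtype.ext (by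
    show g = r * (t * k)
    rw [hgk, hct, mul_assoc]), map_mul, show QuotientGroup.mk' (K.subgroupOf M) ⟨r, (hKC.trans hCM) hr⟩ = 1 from
    (QuotientGroup.eq_one_iff _).2 hmem, one_mul]

/-- An element of order three inverted by an involution in the action on a normal elementary abelian `2`-subgroup with
a `2`-group as kernel gives a section `S₄`. -/
theorem no_inverted_three [Finite G] (hS4 : ¬ Cfsg.Involves (Equiv.Perm (Fin 4)) G) {V U : Subgroup G} [V.Normal]
    [U.Normal] (hU : IsPGroup 2 U) (hV : ∀ u ∈ V, ∀ v ∈ V, u * v = v * u) (hV2 : ∀ v ∈ V, v ^ 2 = 1)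
    (hker : ∀ g, g ∈ U ↔ ∀ v ∈ V, g * v = v * g) (θ : G →* MulAut V)
    (hθ : ∀ (g : G) (v : V), ((θ g v : V) : G) = g * v * g⁻¹) :
    ∀ y ∈ θ.range, ∀ a ∈ θ.range, y ^ 3 = 1 → y ≠ 1 → a ^ 2 = 1 → a * y * a = y⁻¹ → False := by
  rintro _ ⟨y₁, rfl⟩ _ ⟨a₁, rfl⟩ hy3 hy1 ha2 hay
  haveI : Fact (Nat.Prime 2) := ⟨Nat.prime_two⟩
  have hθ1 : ∀ g, θ g = 1 ↔ g ∈ U := by
    intro g
    rw [hker]
    constructor
    · intro h v hv
      have h1 := congrArg (fun α : MulAut V => ((α ⟨v, hv⟩ : V) : G)) h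
      simp only [hθ, MulAut.one_apply] at h1
      exact mul_inv_eq_iff_eq_mul.1 h1
    · intro h
      refine MulEquiv.ext fun v => Subtype.ext ?_
      rw [hθ, h v v.2, mul_inv_cancel_right]
      rfl
  obtain ⟨j, hj⟩ := hU ⟨y₁ ^ 3, (hθ1 _).1 (by rw [map_pow, hy3])⟩
  have hj' : (y₁ ^ 3) ^ 2 ^ j = 1 := congrArg Subtype.val hj
  obtain ⟨k, hk⟩ := exists_pow_eq_self_of_coprime (x := θ y₁) (n := 2 ^ j)
    ((Nat.Coprime.pow_left j (by decide : Nat.Coprime 2 3)).coprime_dvd_right (orderOf_dvd_of_pow_eq_one hy3))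
  set y₀ := (y₁ ^ 2 ^ j) ^ k with hy₀
  have hθy : θ y₀ = θ y₁ := by rw [hy₀, map_pow, map_pow, hk]
  have hy₀3 : y₀ ^ 3 = 1 := by
    rw [hy₀, ← pow_mul, mul_comm k, pow_mul, ← pow_mul y₁, mul_comm (2 ^ j), pow_mul y₁, hj', one_pow]
  have hy₀1 : y₀ ≠ 1 := fun h => hy1 (by rw [← hθy, h, map_one])
  set X := Subgroup.zpowers y₀ with hX
  have hX3 : Nat.card X = 3 := by rw [Nat.card_zpowers, CfsgLib.Fus.orderOf_three hy₀3 hy₀1]
  have hXs : Group.IsSolvable X := inferInstance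
  obtain ⟨l, hl⟩ := hU.exists_card_eq
  set π := QuotientGroup.mk' U
  have hπθ : ∀ g g' : G, θ g = θ g' → π g = π g' := fun g g' h => by
    refine QuotientGroup.eq.2 ((hθ1 _).1 ?_)
    rw [map_mul, map_inv, h, inv_mul_cancel]
  have ha' : (θ a₁)⁻¹ = θ a₁ := inv_eq_of_mul_eq_one_right (by rw [← pow_two, ha2])
  have hinv : π (a₁ * y₀ * a₁⁻¹) = π y₀⁻¹ := hπθ _ _ (by
    rw [map_mul, map_mul, map_inv, ha', map_inv, hθy]; exact hay)
  obtain ⟨a₀, ha₀, ha₀e⟩ := normalizer_map_mk'_le (X := X) (M := U) (by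
      rw [hX3, hl]; exact Nat.Coprime.pow_right l (by decide)) hXs
    (show π a₁ ∈ Subgroup.normalizer ((X.map π : Subgroup (G ⧸ U)) : Set (G ⧸ U)) by
      refine Subgroup.mem_normalizer_fintype ?_
      rintro _ ⟨x, hx, rfl⟩
      obtain ⟨i, rfl⟩ := Subgroup.mem_zpowers_iff.1 hx
      refine ⟨(y₀⁻¹) ^ i, X.zpow_mem (X.inv_mem (Subgroup.mem_zpowers y₀)) i, ?_⟩
      rw [map_zpow, ← hinv, map_mul, map_mul, map_inv, map_zpow, conj_zpow])
  have hθa : θ a₀ = θ a₁ := by
    have h1 : a₀⁻¹ * a₁ ∈ U := QuotientGroup.eq.1 ha₀e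
    have h2 := (hθ1 _).2 h1
    rwa [map_mul, map_inv, inv_mul_eq_one] at h2
  have hay₀ : a₀ * y₀ * a₀⁻¹ = y₀⁻¹ := by
    have h1 : a₀ * y₀ * a₀⁻¹ * y₀ ∈ X ⊓ U := by
      refine ⟨X.mul_mem ((Subgroup.mem_normalizer_iff.1 ha₀ y₀).1 (Subgroup.mem_zpowers y₀))
        (Subgroup.mem_zpowers y₀), (hθ1 _).1 ?_⟩
      rw [map_mul, map_mul, map_mul, map_inv, hθa, ha', hθy, hay, inv_mul_cancel]
    rw [inf_eq_bot_of_coprime_card (by rw [hX3, hl]; exact Nat.Coprime.pow_right l (by decide)),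
      Subgroup.mem_bot, mul_eq_one_iff_eq_inv] at h1
    exact h1
  -- a vector fixed by `a₀` and moved by `y₀`
  set α := θ a₀ with hα
  set y' := θ y₀ with hy'
  have hαsq : α * α = 1 := by rw [hθa, ← pow_two, ha2]
  have hy'n : y' ^ 3 = 1 := by rw [hθy, hy3]
  have hy'1 : y' ≠ 1 := by rw [hθy]; exact hy1
  have hV2' : ∀ v : V, v ^ 2 = 1 := fun v => Subtype.ext (hV2 v v.2)
  have hVc : ∀ u v : V, u * v = v * u := fun u v => Subtype.ext (hV u u.2 v v.2)
  obtain ⟨v, hv⟩ : ∃ v : V, y' v ≠ v := by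
    by_contra hcon
    push_neg at hcon
    exact hy'1 (MulEquiv.ext hcon)
  let f : V → V := fun v => v⁻¹ * y' v
  have hfm : ∀ u v : V, f (u * v) = f u * f v := fun u v => by
    simp only [f, map_mul, mul_inv_rev]
    rw [hVc v⁻¹ u⁻¹]
    calc u⁻¹ * v⁻¹ * (y' u * y' v) = u⁻¹ * ((v⁻¹ * y' u) * y' v) := by simp only [mul_assoc]
      _ = u⁻¹ * y' u * (v⁻¹ * y' v) := by rw [hVc v⁻¹ (y' u)]; simp only [mul_assoc]
  have hfix : ∀ u : V, y' (f u) = f u → f u = 1 := fun u hu => by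
    have := CfsgLib.Fus.aut_fix_of_step hV2' (n := 3) (by decide) hy'n (u := u) (w := f u) (by simp [f]) hu
    simp [f, this]
  have hαy : α * y' = y'⁻¹ * α := by
    have h2 : α * y' * α⁻¹ = y'⁻¹ := by
      rw [hα, hy', ← map_inv, ← map_mul, ← map_mul, ← map_inv]
      exact congrArg θ hay₀
    rw [← h2, inv_mul_cancel_right]
  set u' := y'⁻¹ (α v) with hu'
  have hαf : α (f v) = f u' := by
    have h1 : α (f v) = (α v)⁻¹ * u' := by
      show α (v⁻¹ * y' v) = _
      rw [map_mul, map_inv, ← MulAut.mul_apply, hαy, MulAut.mul_apply]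
    have h2 : f u' = u'⁻¹ * α v := by
      show u'⁻¹ * y' u' = _
      rw [hu', MulAut.apply_inv_self]
    have h3 : (α v)⁻¹ * u' = ((α v)⁻¹ * u')⁻¹ :=
      (inv_eq_of_mul_eq_one_right (by rw [← pow_two, hV2'])).symm
    rw [h1, h2, h3, mul_inv_rev, inv_inv]
  have hfv : f v ≠ 1 := fun h => hv (inv_mul_eq_one.1 h).symm
  obtain ⟨u, hw1, hαw⟩ : ∃ u : V, f u ≠ 1 ∧ α (f u) = f u := by
    by_cases hfx : α (f v) = f v
    · exact ⟨v, hfv, hfx⟩
    · refine ⟨v * u', ?_, ?_⟩
      · rw [hfm, ← hαf]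
        intro h
        have h' : α (f v) = (f v)⁻¹ := eq_inv_of_mul_eq_one_right h
        exact hfx (h'.trans (inv_eq_of_mul_eq_one_right (by rw [← pow_two, hV2'])))
      · have hinv2 : ∀ x : V, α (α x) = x := fun x => congrArg (fun β : MulAut V => β x) hαsq
        rw [hfm, ← hαf, map_mul, hinv2, hVc]
  have hyw : y' (f u) ≠ f u := fun h => hw1 (hfix u h)
  have hsum : f u * y' (f u) * (y' ^ 2) (f u) = 1 := by
    have hy3u : (y' ^ 2) (y' u) = u := by
      rw [← MulAut.mul_apply, ← pow_succ, hy'n]; rfl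
    simp only [f, map_mul, map_inv, hy3u]
    have e : (y' ^ 2) u = y' (y' u) := by rw [pow_two]; rfl
    rw [e]
    simp [mul_assoc]
  refine hS4 (CfsgLib.Fus.involves_s4_of_config (w := ((f u : V) : G)) (y := y₀) (a := a₀) ?_ ?_ hy₀3 ?_ ?_ ?_ ?_
    hay₀ ?_)
  · exact hV2 _ (f u).2
  · exact fun h => hw1 (Subtype.ext h)
  · intro h
    exact hyw (Subtype.ext (by rw [hy', hθ]; exact h))
  · have := congrArg (fun x : V => (x : G)) hsum
    rw [pow_two] at this
    simpa [hy', hθ, pow_two, mul_assoc] using this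
  · exact hV _ (f u).2 _ ((inferInstance : V.Normal).conj_mem _ (f u).2 y₀)
  · have := congrArg (fun x : V => (x : G)) hαw
    simpa [hα, hθ] using this
  · intro i
    have hT2 : a₀ ^ 2 ∈ U := (hθ1 _).1 (by rw [map_pow, pow_two]; exact hαsq)
    rw [(hker _).1 hT2 _ ((inferInstance : V.Normal).conj_mem _ (f u).2 _), mul_inv_cancel_right]

set_option maxHeartbeats 1000000 in
/-- The constrained case for the prime two. -/
theorem hypA_core [Finite G] [Fact (Nat.Prime 2)] (hS4 : ¬ Cfsg.Involves (Equiv.Perm (Fin 4)) G) (ih : IHA 2 G)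
    (S : Sylow 2 G) (h : HypA 2 (S : Subgroup G)) (hO : Cfsg.pPrimeCore 2 G = ⊥) :
    Cfsg.HasNormalPComplement 2 G := by
  classical
  by_contra hn
  set Sg := (S : Subgroup G) with hSg
  haveI hUn := CfsgLib.Solv.pCore_normal G 2
  set U := Cfsg.pCore 2 G with hUdef
  have hUp : IsPGroup 2 U := pCore_isPGroup G 2
  have hUne : U ≠ ⊥ := pCore_ne_bot_of_ihA ih S h hn
  have hQ := hnpc_quotient_pCore_of_ihA ih S h hUne
  have hCU : Subgroup.centralizer (U : Set G) ≤ U := centralizer_pCore_le_of_thompson hQ hO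
  have hUS : U ≤ Sg := pCore_le_sylow S
  have hmaxS : ∀ H : Subgroup G, Sg ≤ H → H ≠ ⊤ → H = Sg := by
    intro H hSH hH
    refine S.is_maximal' (isPGroup_of_forall_coprime fun g hg hc => ?_) hSH
    exact eq_one_of_isPGroup_coprime hUp (hCU (mem_centralizer_of_hnpc_subgroup (ih.over S h hH hSH)
      (hUS.trans hSH) hUp hg (Subgroup.normalizer_eq_top U ▸ Subgroup.mem_top g) hc)) hc
  -- the quotient is solvable
  set f := QuotientGroup.mk' U with hf
  have hfs : Function.Surjective f := QuotientGroup.mk'_surjective U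
  set P' : Sylow 2 (G ⧸ U) := S.mapSurjective hfs with hP'
  have hP'map : (P' : Subgroup (G ⧸ U)) = Sg.map f := Sylow.coe_mapSurjective hfs S
  set R := Cfsg.pResidual 2 (G ⧸ U) with hRdef
  haveI := pResidual_char 2 (G ⧸ U)
  haveI hRn : R.Normal := Subgroup.normal_of_characteristic R
  have hR : ¬ 2 ∣ Nat.card R := hnpc_iff.1 hQ
  have hsup : (P' : Subgroup (G ⧸ U)) ⊔ R = ⊤ := sylow_sup_pResidual P'
  have hsolR : Group.IsSolvable R := by
    by_cases hRb : R = ⊥
    · rw [hRb]; infer_instance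
    obtain ⟨r, hr, hrd⟩ := Nat.exists_prime_and_dvd (fun e => hRb (Subgroup.card_eq_one.1 e))
    haveI : Fact r.Prime := ⟨hr⟩
    have hcop : (Nat.card (P' : Subgroup (G ⧸ U))).Coprime (Nat.card R) := by
      obtain ⟨k, hk⟩ := P'.isPGroup'.exists_card_eq
      rw [hk]
      exact (Nat.prime_two.coprime_iff_not_dvd.2 hR).pow_left k
    obtain ⟨T, hT⟩ := exists_invariant_sylow (p := r) (A := (P' : Subgroup (G ⧸ U))) (K := R)
      (Subgroup.normalizer_eq_top R ▸ le_top) hcop (Or.inl (by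
        haveI := P'.isPGroup'.isNilpotent
        infer_instance))
    set T' := (T : Subgroup R).map R.subtype with hT'
    haveI := T.isPGroup'.isNilpotent
    by_cases htop : ((P' : Subgroup (G ⧸ U)) ⊔ T').comap f = ⊤
    · have hle : R ≤ T' := by
        intro x hx
        have hx' : x ∈ (P' : Subgroup (G ⧸ U)) ⊔ T' := by
          obtain ⟨g, rfl⟩ := hfs x
          exact htop.ge (Subgroup.mem_top g)
        obtain ⟨a, ha, t, ht, hat⟩ := Set.mem_mul.1 (show x ∈ ((P' : Subgroup (G ⧸ U)) : Set (G ⧸ U)) * (T' : Set (G ⧸ U)) by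
          rw [← Subgroup.coe_mul_of_left_le_normalizer_right _ T' hT]; exact hx')
        have haR : a ∈ (P' : Subgroup (G ⧸ U)) ⊓ R := by
          refine ⟨ha, ?_⟩
          have := R.mul_mem hx (R.inv_mem (Subgroup.map_subtype_le (T : Subgroup R) ht))
          rwa [← hat, mul_inv_cancel_right] at this
        rw [inf_eq_bot_of_coprime_card hcop, Subgroup.mem_bot] at haR
        rw [haR, one_mul] at hat
        rw [← hat]; exact ht
      have hTtop : (T : Subgroup R) = ⊤ := eq_top_iff.2 fun x _ => by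
        obtain ⟨t, ht, he⟩ := hle x.2
        rwa [← R.subtype_injective he]
      have hRr : IsPGroup r R := (hTtop ▸ T.isPGroup' : IsPGroup r (⊤ : Subgroup R)).of_equiv Subgroup.topEquiv
      haveI : Fact r.Prime := ⟨hr⟩
      haveI := hRr.isNilpotent
      infer_instance
    · exfalso
      have he := hmaxS _ (by rw [← Subgroup.map_le_iff_le_comap, ← hP'map]; exact le_sup_left) htop
      have h1 : T' ≤ (P' : Subgroup (G ⧸ U)) := by
        rw [hP'map, ← he, Subgroup.map_comap_eq_self_of_surjective hfs]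
        exact le_sup_right
      have h2 : T' ≤ (P' : Subgroup (G ⧸ U)) ⊓ R := le_inf h1 (Subgroup.map_subtype_le _)
      rw [inf_eq_bot_of_coprime_card hcop, le_bot_iff, hT',
        Subgroup.map_eq_bot_iff_of_injective _ R.subtype_injective] at h2
      have h3 := T.dvd_card_of_dvd_card hrd
      rw [h2, Subgroup.card_bot] at h3
      exact hr.ne_one (Nat.dvd_one.1 h3)
  haveI : Group.IsSolvable ((G ⧸ U) ⧸ R) := by
    have hg : IsPGroup 2 ((G ⧸ U) ⧸ R) := by
      refine IsPGroup.of_surjective P'.isPGroup' ((QuotientGroup.mk' R).comp (P' : Subgroup (G ⧸ U)).subtype) fun q => ?_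
      obtain ⟨x, rfl⟩ := QuotientGroup.mk'_surjective R q
      obtain ⟨a, ha, b, hb, rfl⟩ := Subgroup.mem_sup_of_normal_right.1 (hsup.ge (Subgroup.mem_top x))
      refine ⟨⟨a, ha⟩, ?_⟩
      show QuotientGroup.mk' R a = QuotientGroup.mk' R (a * b)
      rw [map_mul, show QuotientGroup.mk' R b = 1 from (QuotientGroup.eq_one_iff b).2 hb, mul_one]
    haveI := hg.isNilpotent
    infer_instance
  haveI : Group.IsSolvable (G ⧸ U) := by
    haveI := hsolR
    exact Group.isSolvable_of_ker_le_range R.subtype (QuotientGroup.mk' R)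
      (by rw [QuotientGroup.ker_mk', R.range_subtype])
  -- the module
  set V₀ := Subgroup.normalClosure ((zOf Sg : Subgroup G) : Set G) with hV₀
  have hZU : zOf Sg ≤ U ⊓ Subgroup.centralizer (U : Set G) := fun z hz =>
    have hzC : z ∈ Subgroup.centralizer (U : Set G) := Subgroup.centralizer_le hUS hz.2
    ⟨hCU hzC, hzC⟩
  have hV₀U : V₀ ≤ U ⊓ Subgroup.centralizer (U : Set G) := Subgroup.normalClosure_le_normal hZU
  have hV₀c : ∀ u ∈ V₀, ∀ v ∈ V₀, u * v = v * u := fun u hu v hv =>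
    (hV₀U hv).2 u (hV₀U hu).1
  haveI hV₀n : V₀.Normal := Subgroup.normalClosure_normal
  let V : Subgroup G :=
    { carrier := {v | v ∈ V₀ ∧ v ^ 2 = 1}
      one_mem' := ⟨V₀.one_mem, one_pow 2⟩
      mul_mem' := fun {u v} hu hv => ⟨V₀.mul_mem hu.1 hv.1, by
        rw [(show Commute u v from hV₀c u hu.1 v hv.1).mul_pow, hu.2, hv.2, one_mul]⟩
      inv_mem' := fun {u} hu => ⟨V₀.inv_mem hu.1, by rw [inv_pow, hu.2, inv_one]⟩ }
  have hVV₀ : V ≤ V₀ := fun v hv => hv.1
  haveI hVn : V.Normal := ⟨fun v hv g => ⟨hV₀n.conj_mem v hv.1 g, by rw [conj_pow, hv.2]; simp⟩⟩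
  -- the kernel
  have hUV : ∀ g ∈ U, ∀ v ∈ V₀, g * v = v * g := fun g hg v hv => (hV₀U hv).2 g hg
  have hCV₀ : Cfsg.HasNormalPComplement 2 ↥(Subgroup.centralizer (V₀ : Set G)) :=
    hnpc_of_le (Subgroup.centralizer_le Subgroup.subset_normalClosure) h.2
  have hodd₀ : ∀ g : G, Nat.Coprime (orderOf g) 2 → (∀ v ∈ V₀, g * v = v * g) → g = 1 := by
    intro g hg hgV
    set C := Subgroup.centralizer (V₀ : Set G)
    haveI : C.Normal := inferInstance
    haveI := pResidual_char 2 ↥C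
    haveI := normal_map_subtype_of_characteristic (Cfsg.pResidual 2 ↥C)
    have hb : (Cfsg.pResidual 2 ↥C).map C.subtype = ⊥ := by
      refine le_bot_iff.1 (hO ▸ le_pPrimeCore (Nat.Coprime.symm ?_))
      rw [card_map_subtype]
      exact Nat.prime_two.coprime_iff_not_dvd.2 (hnpc_iff.1 hCV₀)
    have hgC : g ∈ C := fun v hv => (hgV v hv).symm
    have hm : g ∈ (Cfsg.pResidual 2 ↥C).map C.subtype :=
      ⟨⟨g, hgC⟩, Subgroup.subset_closure (show Nat.Coprime (orderOf (⟨g, hgC⟩ : C)) 2 by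
        rwa [Subgroup.orderOf_mk]), rfl⟩
    rw [hb] at hm
    exact Subgroup.mem_bot.1 hm
  have hodd : ∀ g : G, Nat.Coprime (orderOf g) 2 → (∀ v ∈ V, g * v = v * g) → g = 1 := by
    intro g hg hgV
    refine hodd₀ g hg ?_
    -- fixing the involutions of an abelian group forces fixing everything
    suffices key : ∀ (j : ℕ) (z : G), z ∈ V₀ → z ^ 2 ^ j = 1 → g * z = z * g by
      intro v hv
      obtain ⟨j, hj⟩ := hUp ⟨v, (hV₀U hv).1⟩
      exact key j v hv (congrArg Subtype.val hj)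
    intro j
    induction j with
    | zero => intro z _ hz; rw [pow_zero, pow_one] at hz; simp [hz]
    | succ j ihj =>
      intro z hz hz2
      have h2 : g * z ^ 2 = z ^ 2 * g := ihj _ (V₀.pow_mem hz 2) (by rw [← pow_mul, ← pow_succ', hz2])
      set w := z⁻¹ * (g * z * g⁻¹) with hw
      have hwV₀ : w ∈ V₀ := V₀.mul_mem (V₀.inv_mem hz) (hV₀n.conj_mem z hz g)
      have hwV : w ∈ V := ⟨hwV₀, by
        have hc : Commute z⁻¹ (g * z * g⁻¹) := hV₀c _ (V₀.inv_mem hz) _ (hV₀n.conj_mem z hz g)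
        rw [hw, hc.mul_pow, conj_pow, h2, mul_inv_cancel_right, inv_pow, inv_mul_cancel]⟩
      have hgw : g * w = w * g := hgV w hwV
      have hpow : ∀ i : ℕ, g ^ i * z * (g ^ i)⁻¹ = z * w ^ i := by
        intro i
        induction i with
        | zero => simp
        | succ i ih2 =>
          calc g ^ (i + 1) * z * (g ^ (i + 1))⁻¹ = g * (g ^ i * z * (g ^ i)⁻¹) * g⁻¹ := by
                simp [pow_succ', mul_assoc]
            _ = (g * z * g⁻¹) * (g * w ^ i * g⁻¹) := by rw [ih2]; simp [mul_assoc]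
            _ = z * w * w ^ i := by
                rw [((show Commute g w from hgw).pow_right i).eq, mul_inv_cancel_right, hw, mul_inv_cancel_left]
            _ = z * w ^ (i + 1) := by rw [mul_assoc, ← pow_succ']
      have h1 := hpow (orderOf g)
      rw [pow_orderOf_eq_one, inv_one, one_mul, mul_one, left_eq_mul] at h1
      have hw1 : w = 1 := orderOf_eq_one_iff.1 (Nat.eq_one_of_dvd_coprimes hg
        (orderOf_dvd_of_pow_eq_one h1) (orderOf_dvd_of_pow_eq_one hwV.2))
      rw [hw, inv_mul_eq_one] at hw1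
      exact mul_inv_eq_iff_eq_mul.1 hw1.symm
  have hker : ∀ g, g ∈ U ↔ ∀ v ∈ V, g * v = v * g := by
    refine fun g => ⟨fun hg v hv => hUV g hg v hv.1, fun hg => ?_⟩
    have hle : Subgroup.centralizer (V : Set G) ≤ U := by
      refine le_pCore (isPGroup_of_forall_coprime fun x hx hc => hodd x hc fun v hv => (hx v hv).symm)
    exact hle fun v hv => (hg v hv).symm
  let θ : G →* MulAut V := MulAut.conjNormal
  have hθ : ∀ (g : G) (v : V), ((θ g v : V) : G) = g * v * g⁻¹ := fun g v => MulAut.conjNormal_apply _ _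
  have hθ1 : ∀ g, θ g = 1 ↔ g ∈ U := by
    intro g
    rw [hker]
    constructor
    · intro h1 v hv
      have h2 := congrArg (fun α : MulAut V => ((α ⟨v, hv⟩ : V) : G)) h1
      simp only [hθ, MulAut.one_apply] at h2
      exact mul_inv_eq_iff_eq_mul.1 h2
    · intro h1
      refine MulEquiv.ext fun v => Subtype.ext ?_
      rw [hθ, h1 v v.2, mul_inv_cancel_right]
      rfl
  have hO2 : Cfsg.pCore 2 θ.range = ⊥ := by
    rw [eq_bot_iff]
    intro a ha
    haveI := CfsgLib.Solv.pCore_normal θ.range 2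
    set N := (Cfsg.pCore 2 θ.range).comap θ.rangeRestrict
    have hNp : IsPGroup 2 N := by
      refine (pCore_isPGroup θ.range 2).comap_of_ker_isPGroup θ.rangeRestrict ?_
      refine hUp.to_le fun x hx => (hθ1 x).1 (congrArg Subtype.val (MonoidHom.mem_ker.1 hx))
    obtain ⟨g, rfl⟩ := θ.rangeRestrict_surjective a
    rw [Subgroup.mem_bot]
    exact Subtype.ext ((hθ1 g).2 (le_pCore hNp ha))
  haveI : Group.IsSolvable θ.range := by
    have hle : U ≤ θ.rangeRestrict.ker := fun g hg => Subtype.ext ((hθ1 g).2 hg)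
    refine Group.isSolvable_of_surjective (f := QuotientGroup.lift U θ.rangeRestrict hle) fun a => ?_
    obtain ⟨g, rfl⟩ := θ.rangeRestrict_surjective a
    exact ⟨QuotientGroup.mk g, rfl⟩
  have h3 := no_inverted_three hS4 hUp (fun u (hu : u ∈ V) v (hv : v ∈ V) => hV₀c u hu.1 v hv.1) (fun v (hv : v ∈ V) => hv.2) hker θ hθ
  -- some largest abelian subgroup lies outside `U`
  have hex : ∃ A, MaxA 0 Sg A ∧ ¬ A ≤ U := by
    by_contra hne
    push_neg at hne
    have hJU : jOf 0 Sg ≤ U := iSup₂_le hne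
    have hJn : (jOf 0 Sg).Normal := by
      rw [← jOf_eq_of_le hUS hJU]
      exact Subgroup.normalizer_eq_top_iff.1 (eq_top_iff.2
        ((Subgroup.normalizer_eq_top_iff.2 hUn).ge.trans (normalizer_le_jOf U)))
    exact hn (hnpc_top (Subgroup.normalizer_eq_top_iff.2 hJn) h.1)
  obtain ⟨A, ⟨hA, hAU⟩, hmax⟩ := Set.exists_max_image {A : Subgroup G | MaxA 0 Sg A ∧ ¬ A ≤ U}
    (fun A => Nat.card (A ⊓ V₀ : Subgroup G)) (Set.toFinite _) hex
  have hV₀S : V₀ ≤ Sg := fun v hv => hUS (hV₀U hv).1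
  have hVA : V₀ ≤ Subgroup.normalizer (A : Set G) := by
    by_contra hnot
    have hmem : A.subgroupOf Sg ∈ Cfsg.maxAbelianSubgroups ↥Sg := by
      refine ⟨(hA.2.1.comap Sg.subtype_injective).1, fun B hB => ?_⟩
      rw [← Subgroup.card_map_of_injective Sg.subtype_injective (K := B),
        ← Subgroup.card_map_of_injective Sg.subtype_injective (K := A.subgroupOf Sg),
        Subgroup.map_subgroupOf_eq_of_le hA.1]
      exact hA.2.2 _ (Subgroup.map_subtype_le B) (Abel.map (f := Sg.subtype) ⟨hB, fun a _ => pow_zero a⟩)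
    obtain ⟨A', hA', hA'N, -, hlt⟩ := CfsgLib.Inv.replacement S.isPGroup' (D := V₀.subgroupOf Sg) inferInstance
      ⟨⟨fun a b => Subtype.ext (Subtype.ext (hV₀c _ a.2 _ b.2))⟩⟩ hmem (fun hle => hnot fun v hv => by
        have h1 := hle (show (⟨v, hV₀S hv⟩ : ↥Sg) ∈ V₀.subgroupOf Sg from hv)
        rw [← Subgroup.subgroupOf_normalizer_eq hA.1] at h1
        exact h1)
    set B := A'.map Sg.subtype with hBdef
    have hB : MaxA 0 Sg B := ⟨Subgroup.map_subtype_le A', Abel.map ⟨hA'.1, fun a _ => pow_zero a⟩, fun X hX hXe => by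
      have h1 := hA'.2 (X.subgroupOf Sg) (hXe.comap Sg.subtype_injective).1
      rw [← Subgroup.card_map_of_injective Sg.subtype_injective (K := X.subgroupOf Sg),
        Subgroup.map_subgroupOf_eq_of_le hX,
        ← Subgroup.card_map_of_injective Sg.subtype_injective (K := A')] at h1
      exact h1⟩
    have hlt' : Nat.card (A ⊓ V₀ : Subgroup G) < Nat.card (B ⊓ V₀ : Subgroup G) := by
      have e1 : ∀ X : Subgroup ↥Sg, (X ⊓ V₀.subgroupOf Sg).map Sg.subtype = X.map Sg.subtype ⊓ V₀ := fun X => by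
        rw [Subgroup.map_inf _ _ _ Sg.subtype_injective, Subgroup.map_subgroupOf_eq_of_le hV₀S]
      have e2 := e1 (A.subgroupOf Sg)
      rw [Subgroup.map_subgroupOf_eq_of_le hA.1] at e2
      rw [← e2, hBdef, ← e1, Subgroup.card_map_of_injective Sg.subtype_injective,
        Subgroup.card_map_of_injective Sg.subtype_injective]
      exact lt_of_le_of_ne (Subgroup.card_le_of_le hlt.le) fun he =>
        hlt.ne (Subgroup.eq_of_le_of_card_ge hlt.le he.ge)
    have hBU : B ≤ U := by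
      by_contra hBU
      exact absurd (hmax B ⟨hB, hBU⟩) (not_le.2 hlt')
    refine hnot fun v hv => ?_
    have hvB : v ∈ B := hB.mem (hV₀S hv) (pow_zero v) fun b hb => (hUV b (hBU hb) v hv).symm
    obtain ⟨v', hv', rfl⟩ := hvB
    have h1 := hA'N hv'
    rw [← Subgroup.subgroupOf_normalizer_eq hA.1] at h1
    exact h1
  let g : A →* θ.range := θ.rangeRestrict.comp A.subtype
  have hgker : g.ker = U.subgroupOf A := by
    ext a
    rw [MonoidHom.mem_ker, Subgroup.mem_subgroupOf]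
    exact ⟨fun h1 => (hθ1 _).1 (congrArg Subtype.val h1), fun h1 => Subtype.ext ((hθ1 _).2 h1)⟩
  have hne : g.range ≠ ⊥ := by
    intro h1
    refine hAU fun a ha => ?_
    have h2 : g ⟨a, ha⟩ ∈ g.range := ⟨_, rfl⟩
    rw [h1, Subgroup.mem_bot] at h2
    have : (⟨a, ha⟩ : A) ∈ g.ker := h2
    rwa [hgker] at this
  have hgsq : ∀ a ∈ A, θ a ^ 2 = 1 := by
    intro a ha
    refine MulEquiv.ext fun v => Subtype.ext ?_
    rw [← map_pow, hθ, MulAut.one_apply]
    set w := (v : G)⁻¹ * (a * v * a⁻¹) with hw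
    have hwV : w ∈ V := V.mul_mem (V.inv_mem v.2) (hVn.conj_mem v v.2 a)
    have hwA : w ∈ A := by
      rw [hw, show (v : G)⁻¹ * (a * v * a⁻¹) = ((v : G)⁻¹ * a * (v : G)⁻¹⁻¹) * a⁻¹ by group]
      exact A.mul_mem ((Subgroup.mem_normalizer_iff.1 (hVA (V₀.inv_mem v.2.1)) a).1 ha) (A.inv_mem ha)
    have haw : a * w * a⁻¹ = w := by rw [hA.2.1.comm ha hwA, mul_inv_cancel_right]
    calc a ^ 2 * v * (a ^ 2)⁻¹ = a * (a * v * a⁻¹) * a⁻¹ := by rw [pow_two]; group
      _ = a * (v * w) * a⁻¹ := by rw [hw, mul_inv_cancel_left]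
      _ = (a * v * a⁻¹) * (a * w * a⁻¹) := by group
      _ = v * (w * w) := by rw [haw, hw]; group
      _ = (v : G) := by rw [← pow_two, hwV.2, mul_one]
  have hbound := CfsgLib.Fus.offender_bound (V := V) (fun u v => Subtype.ext (hV₀c _ u.2.1 _ v.2.1))
    (fun v => Subtype.ext v.2.2) θ.range hO2 h3 g.range
    ⟨⟨by
      rintro ⟨_, a, rfl⟩ ⟨_, b, rfl⟩
      refine Subtype.ext ?_
      show g a * g b = g b * g a
      rw [← map_mul, ← map_mul]
      exact congrArg g (Subtype.ext (hA.2.1.comm a.2 b.2))⟩⟩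
    (by rintro _ ⟨a, rfl⟩; exact Subtype.ext (hgsq a a.2))
    hne
  set P := CfsgLib.Fus.fixedBy (((↑) : θ.range → MulAut V) '' (g.range : Set θ.range)) with hP
  have hAg : Nat.card A = Nat.card ↥(A ⊓ U) * Nat.card g.range := by
    rw [← g.ker.card_mul_index, Subgroup.index_ker, hgker]
    congr 1
    rw [← Subgroup.inf_subgroupOf_left]
    exact Nat.card_congr (Subgroup.subgroupOfEquivOfLe inf_le_left).toEquiv
  have h1 := card_sup_mul_card_inf (A ⊓ U) V₀
  have h2 : Nat.card ↥((A ⊓ U) ⊔ V₀) ≤ Nat.card A := by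
    refine hA.2.2 _ (sup_le (inf_le_left.trans hA.1) hV₀S) (abel_of_commute ?_ fun x _ => pow_zero x)
    intro x hx y hy
    obtain ⟨a, ha, u, hu, rfl⟩ := Subgroup.mem_sup_of_normal_right.1 hx
    obtain ⟨b, hb, v, hv, rfl⟩ := Subgroup.mem_sup_of_normal_right.1 hy
    have c1 : Commute a b := hA.2.1.comm ha.1 hb.1
    have c2 : Commute a v := hUV a ha.2 v hv
    have c3 : Commute b u := hUV b hb.2 u hu
    have c4 : Commute u v := hV₀c u hu v hv
    exact ((c1.mul_right c2).mul_left ((c3.symm).mul_right c4)).eq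
  have h4 := card_sup_mul_card_inf (A ⊓ V₀) V
  rw [sup_comm, inf_comm (a := A ⊓ V₀)] at h4
  have h5 : Nat.card ↥(V ⊔ A ⊓ V₀) ≤ Nat.card V₀ := Subgroup.card_le_of_le (sup_le hVV₀ inf_le_right)
  have h6 : Nat.card ↥(V ⊓ (A ⊓ V₀)) ≤ Nat.card P := by
    refine Nat.card_le_card_of_injective (fun x => (⟨⟨x, x.2.1⟩, ?_⟩ : P)) fun x y hxy =>
      Subtype.ext (congrArg (fun z : P => ((z : V) : G)) hxy)
    rintro _ ⟨_, ⟨a, rfl⟩, rfl⟩
    refine Subtype.ext ?_
    show ((θ (a : G) ⟨x, x.2.1⟩ : V) : G) = x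
    rw [hθ]
    show (a : G) * x * (a : G)⁻¹ = x
    rw [hA.2.1.comm a.2 x.2.2.1, mul_inv_cancel_right]
  have e : A ⊓ U ⊓ V₀ = A ⊓ V₀ := le_antisymm (inf_le_inf_right _ inf_le_left)
    (le_inf (le_inf inf_le_left (inf_le_right.trans (hV₀U.trans inf_le_left))) inf_le_right)
  rw [e] at h1
  have hp1 : 0 < Nat.card ↥(A ⊓ U) := Nat.card_pos
  have hp2 : 0 < Nat.card ↥(A ⊓ V₀) := Nat.card_pos
  have hV0 : Nat.card V₀ ≤ Nat.card g.range * Nat.card ↥(A ⊓ V₀) := by
    refine Nat.le_of_mul_le_mul_left ?_ hp1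
    rw [← h1, ← mul_assoc, ← hAg]
    exact Nat.mul_le_mul_right _ h2
  have hV1 : Nat.card V ≤ Nat.card g.range * Nat.card P := by
    refine Nat.le_of_mul_le_mul_right ?_ hp2
    rw [mul_comm (Nat.card V), ← h4]
    calc Nat.card ↥(V ⊔ A ⊓ V₀) * Nat.card ↥(V ⊓ (A ⊓ V₀))
        ≤ (Nat.card g.range * Nat.card ↥(A ⊓ V₀)) * Nat.card P := Nat.mul_le_mul (h5.trans hV0) h6
      _ = Nat.card g.range * Nat.card P * Nat.card ↥(A ⊓ V₀) := by ring
  omega

theorem hnpc_of_hypA_two [Fact (Nat.Prime 2)] :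
    ∀ (n : ℕ) (G : Type u) [Group G] [Finite G], ¬ Cfsg.Involves (Equiv.Perm (Fin 4)) G → ∀ S : Sylow 2 G,
      Nat.card G = n → HypA 2 (S : Subgroup G) → Cfsg.HasNormalPComplement 2 G := by
  intro n
  induction n using Nat.strong_induction_on with
  | _ n IH =>
    intro G _ _ hS4 S hn h
    have ih : IHA 2 G := fun G' _ _ P' hlt hs h' => IH _ (hn ▸ hlt) G' (hs hS4) P' rfl h'
    by_cases hO : Cfsg.pPrimeCore 2 G = ⊥
    · exact hypA_core hS4 ih S h hO
    haveI := pPrimeCore_normal (p := 2) (G := G)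
    have hM : ¬ 2 ∣ Nat.card (Cfsg.pPrimeCore 2 G) := not_dvd_card_pPrimeCore
    refine hnpc_of_quotient_pprime hM
      (ih _ (S.mapSurjective (QuotientGroup.mk'_surjective _)) (card_quotient_lt hO)
        (fun hs h' => hs (CfsgLib.Fus.involves_comap (QuotientGroup.mk'_surjective _) h')) ?_)
    rw [Sylow.coe_mapSurjective]
    exact h.quotient S.isPGroup' hM

/-- Thompson's criterion for the abelian Thompson subgroup. -/
theorem hnpc_of_hypA [Finite G] [hp : Fact p.Prime] (h0 : p ≠ 2 ∨ ¬ Cfsg.Involves (Equiv.Perm (Fin 4)) G)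
    (S : Sylow p G) (h : HypA p (S : Subgroup G)) : Cfsg.HasNormalPComplement p G := by
  by_cases hp2 : p = 2
  · subst hp2
    exact hnpc_of_hypA_two _ G (h0.resolve_left fun h => h rfl) S rfl h
  · exact hnpc_of_hypA_odd hp2 S h

end CfsgLib.Inv.ZJ
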