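import Cfsg.Agent.Inv.Component
import Mathlib.GroupTheory.SpecificGroups.Alternating.Simple
import Mathlib.GroupTheory.Sylow

/-!
The blocks spanned by the 3-cycles of a permutation group.
-/

set_option autoImplicit false
set_option linter.unusedSectionVars false

namespace CfsgLib.Inv.ThreeCycles

open Equiv

variable {α : Type*} [Fintype α] [DecidableEq α]

/-- the 3-cycle `(a b c)` -/
def cyc (a b c : α) : Perm α := swap a b * swap b c

theorem cyc_apply_a {a b c : α} (hab : a ≠ b) (hac : a ≠ c) : cyc a b c a = b := by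
  rw [cyc, Perm.mul_apply, swap_apply_of_ne_of_ne hab hac, swap_apply_left]

theorem cyc_apply_b {a b c : α} (hac : a ≠ c) (hbc : b ≠ c) : cyc a b c b = c := by
  rw [cyc, Perm.mul_apply, swap_apply_left, swap_apply_of_ne_of_ne hac.symm hbc.symm]

theorem cyc_apply_c (a b c : α) : cyc a b c c = a := by
  rw [cyc, Perm.mul_apply, swap_apply_right, swap_apply_right]

theorem cyc_apply_other {a b c x : α} (ha : x ≠ a) (hb : x ≠ b) (hc : x ≠ c) : cyc a b c x = x := by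
  rw [cyc, Perm.mul_apply, swap_apply_of_ne_of_ne hb hc, swap_apply_of_ne_of_ne ha hb]

theorem conj_swap (g : Perm α) (a b : α) : g * swap a b * g⁻¹ = swap (g a) (g b) :=
  (Equiv.swap_apply_apply g a b).symm

theorem cyc_conj (g : Perm α) (a b c : α) : g * cyc a b c * g⁻¹ = cyc (g a) (g b) (g c) := by
  rw [cyc, cyc, ← conj_swap g a b, ← conj_swap g b c]; group

theorem cyc_rot {a b c : α} (hab : a ≠ b) (hbc : b ≠ c) (hac : a ≠ c) : cyc b c a = cyc a b c := by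
  ext x
  by_cases ha : x = a
  · rw [ha, cyc_apply_c, cyc_apply_a hab hac]
  by_cases hb : x = b
  · rw [hb, cyc_apply_a hbc hab.symm, cyc_apply_b hac hbc]
  by_cases hc : x = c
  · rw [hc, cyc_apply_b hab.symm hac.symm, cyc_apply_c]
  rw [cyc_apply_other hb hc ha, cyc_apply_other ha hb hc]

theorem cyc_inv {a b c : α} (hab : a ≠ b) (hbc : b ≠ c) (hac : a ≠ c) : (cyc a b c)⁻¹ = cyc b a c := by
  refine inv_eq_of_mul_eq_one_right ?_
  ext x
  rw [Perm.mul_apply, Perm.one_apply]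
  by_cases ha : x = a
  · rw [ha, cyc_apply_b hbc hac, cyc_apply_c]
  by_cases hb : x = b
  · rw [hb, cyc_apply_a hab.symm hbc, cyc_apply_a hab hac]
  by_cases hc : x = c
  · rw [hc, cyc_apply_c, cyc_apply_b hac hbc]
  rw [cyc_apply_other hb ha hc, cyc_apply_other ha hb hc]

theorem cyc_pow_three {a b c : α} (hab : a ≠ b) (hbc : b ≠ c) (hac : a ≠ c) : cyc a b c ^ 3 = 1 := by
  ext x
  rw [pow_succ, pow_two, Perm.mul_apply, Perm.mul_apply, Perm.one_apply]
  by_cases ha : x = a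
  · rw [ha, cyc_apply_a hab hac, cyc_apply_b hac hbc, cyc_apply_c]
  by_cases hb : x = b
  · rw [hb, cyc_apply_b hac hbc, cyc_apply_c, cyc_apply_a hab hac]
  by_cases hc : x = c
  · rw [hc, cyc_apply_c, cyc_apply_a hab hac, cyc_apply_b hac hbc]
  rw [cyc_apply_other ha hb hc, cyc_apply_other ha hb hc, cyc_apply_other ha hb hc]

theorem exists_cyc {σ : Perm α} (h : σ.IsThreeCycle) :
    ∃ a b c, a ≠ b ∧ b ≠ c ∧ a ≠ c ∧ σ = cyc a b c := by
  have hcard : σ.support.card = 3 := h.card_support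
  obtain ⟨a, ha⟩ : σ.support.Nonempty := Finset.card_pos.1 (by omega)
  have h3 : σ ^ 3 = 1 := orderOf_dvd_iff_pow_eq_one.1 (dvd_of_eq h.orderOf)
  have h3a : σ (σ (σ a)) = a := by
    have := DFunLike.congr_fun h3 a
    simpa [pow_succ, pow_two] using this
  have hab : a ≠ σ a := fun e => Perm.mem_support.1 ha e.symm
  have hbc : σ a ≠ σ (σ a) := fun e => hab (σ.injective e)
  have hac : a ≠ σ (σ a) := fun e => hab (by
    conv_lhs => rw [← h3a]
    rw [← e])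
  refine ⟨a, σ a, σ (σ a), hab, hbc, hac, ?_⟩
  have hsub : ({a, σ a, σ (σ a)} : Finset α) = σ.support := by
    refine Finset.eq_of_subset_of_card_le ?_ ?_
    · intro x hx
      rcases Finset.mem_insert.1 hx with rfl | hx
      · exact ha
      rcases Finset.mem_insert.1 hx with rfl | hx
      · exact Perm.mem_support.2 fun e => hbc e.symm
      · rw [Finset.mem_singleton.1 hx]
        exact Perm.mem_support.2 (by rw [h3a]; exact hac)
    · rw [hcard, Finset.card_eq_three.2 ⟨a, σ a, σ (σ a), hab, hac, hbc, rfl⟩]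
  ext x
  by_cases hxa : x = a
  · rw [hxa, cyc_apply_a hab hac]
  by_cases hxb : x = σ a
  · rw [hxb, cyc_apply_b hac hbc]
  by_cases hxc : x = σ (σ a)
  · rw [hxc, cyc_apply_c, h3a]
  rw [cyc_apply_other hxa hxb hxc]
  exact Perm.notMem_support.1 (by rw [← hsub]; simp [hxa, hxb, hxc])

variable (H : Subgroup (Perm α))

/-- all 3-cycles on `Ω` lie in `H` -/
def Good (Ω : Finset α) : Prop :=
  ∀ a b c : α, a ∈ Ω → b ∈ Ω → c ∈ Ω → a ≠ b → b ≠ c → a ≠ c → cyc a b c ∈ H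

/-- a maximal such set -/
def Block (Ω : Finset α) : Prop :=
  3 ≤ Ω.card ∧ Good H Ω ∧
    ∀ a b c : α, a ≠ b → b ≠ c → a ≠ c → cyc a b c ∈ H → a ∈ Ω → b ∈ Ω ∧ c ∈ Ω

variable {H}

theorem good_step {Ω : Finset α} (hG : Good H Ω) {a b x : α} (ha : a ∈ Ω) (hb : b ∈ Ω) (hab : a ≠ b)
    (hx : x ∉ Ω) (h : cyc a b x ∈ H) : Good H (insert x Ω) := by
  have hne : ∀ {u}, u ∈ Ω → u ≠ x := fun hu e => hx (e ▸ hu)
  have hsymm : ∀ {u v}, u ∈ Ω → v ∈ Ω → u ≠ v → cyc u v x ∈ H → cyc v u x ∈ H := fun hu hv huv hh => by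
    rw [← cyc_inv huv (hne hv) (hne hu)]; exact inv_mem hh
  have hmove : ∀ {u v w}, u ∈ Ω → v ∈ Ω → w ∈ Ω → u ≠ v → v ≠ w → u ≠ w → cyc u v x ∈ H → cyc v w x ∈ H := by
    intro u v w hu hv hw huv hvw huw hh
    have hg := hG u v w hu hv hw huv hvw huw
    have := mul_mem (mul_mem hg hh) (inv_mem hg)
    rwa [cyc_conj, cyc_apply_a huv huw, cyc_apply_b huw hvw,
      cyc_apply_other (hne hu).symm (hne hv).symm (hne hw).symm] at this
  have hA : ∀ u, u ∈ Ω → u ≠ a → cyc a u x ∈ H := fun u hu hua => by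
    by_cases hub : u = b
    · rw [hub]; exact h
    · exact hmove hb ha hu hab.symm hua.symm (Ne.symm hub) (hsymm ha hb hab h)
  have hP : ∀ u v, u ∈ Ω → v ∈ Ω → u ≠ v → cyc u v x ∈ H := by
    intro u v hu hv huv
    by_cases hua : u = a
    · rw [hua]; exact hA v hv (fun e => huv (hua.trans e.symm))
    by_cases hva : v = a
    · rw [hva]; exact hsymm ha hu (Ne.symm hua) (hA u hu hua)
    exact hmove ha hu hv (Ne.symm hua) huv (Ne.symm hva) (hA u hu hua)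
  intro p q r hp hq hr hpq hqr hpr
  rcases Finset.mem_insert.1 hr with rfl | hr'
  · exact hP p q (Finset.mem_of_mem_insert_of_ne hp hpr) (Finset.mem_of_mem_insert_of_ne hq hqr) hpq
  rcases Finset.mem_insert.1 hp with rfl | hp'
  · rw [← cyc_rot hpq hqr hpr]
    exact hP q r (Finset.mem_of_mem_insert_of_ne hq hpq.symm) hr' hqr
  rcases Finset.mem_insert.1 hq with rfl | hq'
  · rw [← cyc_rot hpq hqr hpr, ← cyc_rot hqr hpr.symm hpq.symm]
    exact hP r p hr' hp' hpr.symm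
  · exact hG p q r hp' hq' hr' hpq hqr hpr

theorem good_join {Ω : Finset α} (hG : Good H Ω) (h3 : 3 ≤ Ω.card) {a x y : α} (hax : a ≠ x) (hxy : x ≠ y)
    (hay : a ≠ y) (ha : a ∈ Ω) (h : cyc a x y ∈ H) : ∃ Ω', Ω ⊆ Ω' ∧ x ∈ Ω' ∧ y ∈ Ω' ∧ Good H Ω' := by
  have key : ∀ Ω₁ : Finset α, Good H Ω₁ → a ∈ Ω₁ → x ∈ Ω₁ → ∃ Ω', Ω₁ ⊆ Ω' ∧ y ∈ Ω' ∧ Good H Ω' := by
    intro Ω₁ hG₁ ha₁ hx₁
    by_cases hy : y ∈ Ω₁
    · exact ⟨Ω₁, subset_rfl, hy, hG₁⟩
    · exact ⟨insert y Ω₁, Finset.subset_insert _ _, Finset.mem_insert_self _ _, good_step hG₁ ha₁ hx₁ hax hy h⟩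
  by_cases hx : x ∈ Ω
  · obtain ⟨Ω', hs, hy, hG'⟩ := key Ω hG ha hx
    exact ⟨Ω', hs, hs hx, hy, hG'⟩
  have hGx : Good H (insert x Ω) := by
    by_cases hy : y ∈ Ω
    · refine good_step hG hy ha hay.symm hx ?_
      rw [← cyc_rot hax hxy hay, ← cyc_rot hxy hay.symm hax.symm] at h
      exact h
    · obtain ⟨b, hb, hb'⟩ : ∃ b b' : α, b ∈ Ω.erase a ∧ b' ∈ Ω.erase a ∧ b ≠ b' := by
        obtain ⟨b, b', h1, h2, h3⟩ := Finset.one_lt_card_iff.1
          (by rw [Finset.card_erase_of_mem ha]; omega : 1 < (Ω.erase a).card)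
        exact ⟨b, b', h1, h2, h3⟩
      obtain ⟨b', hbΩ, hb'Ω, hbb'⟩ : ∃ b' : α, b ∈ Ω.erase a ∧ b' ∈ Ω.erase a ∧ b ≠ b' := ⟨hb, hb'⟩
      rw [Finset.mem_erase] at hbΩ hb'Ω
      have hne : ∀ {u}, u ∈ Ω → u ≠ x ∧ u ≠ y := fun hu => ⟨fun e => hx (e ▸ hu), fun e => hy (e ▸ hu)⟩
      have hc1 := hG a b b' ha hbΩ.2 hb'Ω.2 hbΩ.1.symm hbb' hb'Ω.1.symm
      refine good_step hG ha hbΩ.2 hbΩ.1.symm hx ?_
      have hm := mul_mem hc1 (mul_mem (mul_mem h (inv_mem hc1)) (inv_mem h))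
      rw [cyc_inv hbΩ.1.symm hbb' hb'Ω.1.symm, cyc_conj, cyc_apply_a hax hay,
        cyc_apply_other hbΩ.1 (hne hbΩ.2).1 (hne hbΩ.2).2,
        cyc_apply_other hb'Ω.1 (hne hb'Ω.2).1 (hne hb'Ω.2).2,
        cyc_rot hbb'.symm (hne hbΩ.2).1 (hne hb'Ω.2).1] at hm
      simp only [cyc] at hm ⊢
      rw [← mul_assoc, mul_assoc (swap a b) (swap b b'), swap_comm b' b, swap_mul_self, mul_one] at hm
      exact hm
  obtain ⟨Ω', hs, hy, hG'⟩ := key _ hGx (Finset.mem_insert_of_mem ha) (Finset.mem_insert_self _ _)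
  exact ⟨Ω', (Finset.subset_insert _ _).trans hs, hs (Finset.mem_insert_self _ _), hy, hG'⟩

theorem good_triple {a b c : α} (hab : a ≠ b) (hbc : b ≠ c) (hac : a ≠ c) (h : cyc a b c ∈ H) :
    Good H {a, b, c} := by
  have h1 : cyc b c a ∈ H := by rw [cyc_rot hab hbc hac]; exact h
  have h2 : cyc c a b ∈ H := by rw [cyc_rot hbc hac.symm hab.symm]; exact h1
  have h3 : cyc b a c ∈ H := by rw [← cyc_inv hab hbc hac]; exact inv_mem h
  have h4 : cyc a c b ∈ H := by rw [cyc_rot hab.symm hac hbc]; exact h3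
  have h5 : cyc c b a ∈ H := by rw [cyc_rot hac hbc.symm hab]; exact h4
  intro p q r hp hq hr hpq hqr hpr
  simp only [Finset.mem_insert, Finset.mem_singleton] at hp hq hr
  rcases hp with rfl | rfl | rfl <;> rcases hq with rfl | rfl | rfl <;>
    rcases hr with rfl | rfl | rfl <;> first | assumption | contradiction

theorem exists_block {a b c : α} (hab : a ≠ b) (hbc : b ≠ c) (hac : a ≠ c) (h : cyc a b c ∈ H) :
    ∃ Ω, Block H Ω ∧ a ∈ Ω := by
  classical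
  obtain ⟨Ω, hΩ, hmax⟩ := ((Finset.univ : Finset (Finset α)).filter fun Ω => {a, b, c} ⊆ Ω ∧ Good H Ω).exists_max_image
    Finset.card ⟨{a, b, c}, Finset.mem_filter.2 ⟨Finset.mem_univ _, subset_rfl, good_triple hab hbc hac h⟩⟩
  rw [Finset.mem_filter] at hΩ
  obtain ⟨-, habc, hG⟩ := hΩ
  have h3 : 3 ≤ Ω.card := le_trans (le_of_eq (Finset.card_eq_three.2 ⟨a, b, c, hab, hac, hbc, rfl⟩).symm)
    (Finset.card_le_card habc)
  refine ⟨Ω, ⟨h3, hG, fun u v w huv hvw huw hh hu => ?_⟩, habc (by simp)⟩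
  obtain ⟨Ω', hs, hv, hw, hG'⟩ := good_join hG h3 huv hvw huw hu hh
  have heq : Ω = Ω' := Finset.eq_of_subset_of_card_le hs
    (hmax Ω' (Finset.mem_filter.2 ⟨Finset.mem_univ _, habc.trans hs, hG'⟩))
  exact ⟨heq ▸ hv, heq ▸ hw⟩

theorem block_eq {Ω Ω' : Finset α} (hΩ : Block H Ω) (hΩ' : Block H Ω') {a : α} (ha : a ∈ Ω) (ha' : a ∈ Ω') :
    Ω = Ω' := by
  have key : ∀ {A B : Finset α}, Block H A → Block H B → a ∈ A → a ∈ B → B ⊆ A := by
    intro A B hA hB haA haB x hx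
    by_cases hxa : x = a
    · rw [hxa]; exact haA
    obtain ⟨y, hy⟩ : ∃ y, y ∈ (B.erase a).erase x := Finset.card_pos.1 (by
      rw [Finset.card_erase_of_mem (Finset.mem_erase.2 ⟨hxa, hx⟩), Finset.card_erase_of_mem haB]
      have := hB.1
      omega)
    rw [Finset.mem_erase, Finset.mem_erase] at hy
    exact (hA.2.2 a x y (Ne.symm hxa) (Ne.symm hy.1) (Ne.symm hy.2.1)
      (hB.2.1 a x y haB hx hy.2.2 (Ne.symm hxa) (Ne.symm hy.1) (Ne.symm hy.2.1)) haA).1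
  exact subset_antisymm (key hΩ' hΩ ha' ha) (key hΩ hΩ' ha ha')

theorem block_image {Ω : Finset α} (hΩ : Block H Ω) {g : Perm α} (hg : g ∈ H) : Block H (Ω.image g) := by
  refine ⟨by rw [Finset.card_image_of_injective _ g.injective]; exact hΩ.1, ?_, ?_⟩
  · intro a b c ha hb hc hab hbc hac
    obtain ⟨a', ha', rfl⟩ := Finset.mem_image.1 ha
    obtain ⟨b', hb', rfl⟩ := Finset.mem_image.1 hb
    obtain ⟨c', hc', rfl⟩ := Finset.mem_image.1 hc
    rw [← cyc_conj]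
    exact mul_mem (mul_mem hg (hΩ.2.1 a' b' c' ha' hb' hc' (fun e => hab (congrArg g e)) (fun e => hbc (congrArg g e))
      (fun e => hac (congrArg g e)))) (inv_mem hg)
  · intro a b c hab hbc hac h ha
    obtain ⟨a', ha', rfl⟩ := Finset.mem_image.1 ha
    obtain ⟨b', rfl⟩ := g.surjective b
    obtain ⟨c', rfl⟩ := g.surjective c
    have hh : cyc a' b' c' ∈ H := by
      have := mul_mem (mul_mem (inv_mem hg) h) hg
      rwa [show g⁻¹ * cyc (g a') (g b') (g c') * g = cyc a' b' c' by rw [← cyc_conj]; group] at this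
    obtain ⟨h1, h2⟩ := hΩ.2.2 a' b' c' (fun e => hab (congrArg g e)) (fun e => hbc (congrArg g e))
      (fun e => hac (congrArg g e)) hh ha'
    exact ⟨Finset.mem_image_of_mem g h1, Finset.mem_image_of_mem g h2⟩

/-- alternating permutations supported in a good set lie in `H` -/
theorem alt_le_of_good {Ω : Finset α} (hG : Good H Ω) :
    (alternatingGroup {x // x ∈ Ω}).map (Perm.ofSubtype : Perm {x // x ∈ Ω} →* Perm α) ≤ H := by
  rw [← Perm.closure_three_cycles_eq_alternating, MonoidHom.map_closure, Subgroup.closure_le]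
  rintro _ ⟨σ, hσ, rfl⟩
  obtain ⟨a, b, c, hab, hbc, hac, rfl⟩ := exists_cyc (show σ.IsThreeCycle from hσ)
  have : Perm.ofSubtype (cyc a b c) = cyc (a : α) b c := by
    rw [cyc, cyc, map_mul, Perm.ofSubtype_swap_eq, Perm.ofSubtype_swap_eq]
  rw [SetLike.mem_coe, this]
  exact hG _ _ _ a.2 b.2 c.2 (fun e => hab (Subtype.ext e)) (fun e => hbc (Subtype.ext e)) (fun e => hac (Subtype.ext e))

theorem commute_of_fpf_four {Ω : Finset α} (hΩ : Ω.card = 4) {σ τ : Perm α}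
    (hs : ∀ x, x ∈ Ω → σ x ∈ Ω ∧ σ x ≠ x ∧ σ (σ x) = x) (hs' : ∀ x, x ∉ Ω → σ x = x)
    (ht : ∀ x, x ∈ Ω → τ x ∈ Ω ∧ τ x ≠ x ∧ τ (τ x) = x) (ht' : ∀ x, x ∉ Ω → τ x = x) : Commute σ τ := by
  refine Equiv.ext fun x => ?_
  show σ (τ x) = τ (σ x)
  by_cases hx : x ∈ Ω
  swap
  · rw [ht' x hx, hs' x hx, ht' x hx]
  obtain ⟨hσ, hσne, hσσ⟩ := hs x hx
  obtain ⟨hτ, hτne, hττ⟩ := ht x hx
  by_cases he : σ x = τ x
  · calc σ (τ x) = σ (σ x) := by rw [he]
      _ = x := hσσ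
      _ = τ (τ x) := hττ.symm
      _ = τ (σ x) := by rw [he]
  have hc3 : ({x, σ x, τ x} : Finset α).card = 3 :=
    Finset.card_eq_three.2 ⟨x, σ x, τ x, hσne.symm, hτne.symm, he, rfl⟩
  have hsub : ({x, σ x, τ x} : Finset α) ⊆ Ω := by
    intro y hy
    simp only [Finset.mem_insert, Finset.mem_singleton] at hy
    rcases hy with rfl | rfl | rfl <;> assumption
  obtain ⟨d, hd⟩ := Finset.card_eq_one.1
    (by rw [Finset.card_sdiff_of_subset hsub, hΩ, hc3] : (Ω \ ({x, σ x, τ x} : Finset α)).card = 1)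
  have hmem : ∀ y, y ∈ Ω → y ≠ x → y ≠ σ x → y ≠ τ x → y = d := fun y hy h1 h2 h3 => by
    refine Finset.mem_singleton.1 (hd ▸ ?_)
    simp [hy, h1, h2, h3]
  rw [hmem (σ (τ x)) (hs _ hτ).1
      (fun e => he (σ.injective (by rw [hσσ, e])))
      (fun e => hτne (σ.injective e))
      (hs _ hτ).2.1,
    hmem (τ (σ x)) (ht _ hσ).1
      (fun e => he (τ.injective (by rw [hττ, e])))
      (ht _ hσ).2.1
      (fun e => hσne (τ.injective e))]

end CfsgLib.Inv.ThreeCycles
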