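import Cfsg.Agent.Lie.SLn
import Cfsg.Prelude.Def_RootSubgroups

/-!
The transvection groups of an incident point-hyperplane pair in `SL`, as abstract root subgroups.
-/

set_option autoImplicit false
set_option linter.style.haveILetI false

namespace CfsgLib.Inv.TSL

open Matrix
open scoped commutatorElement

variable {ι : Type*} [Fintype ι] [DecidableEq ι] {k : Type*} [Field k]

/-- The matrix `x ↦ x + (φ ⬝ x) v`. -/
def mat (v φ : ι → k) : Matrix ι ι k := 1 + Matrix.vecMulVec v φ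

theorem mat_mulVec (v φ x : ι → k) : mat v φ *ᵥ x = x + (φ ⬝ᵥ x) • v := by
  rw [mat, Matrix.add_mulVec, Matrix.one_mulVec, Matrix.vecMulVec_mulVec, op_smul_eq_smul]

theorem vecMul_mat (v φ y : ι → k) : y ᵥ* mat v φ = y + (y ⬝ᵥ v) • φ := by
  rw [mat, Matrix.vecMul_add, Matrix.vecMul_one, Matrix.vecMul_vecMulVec]

theorem det_mat (v φ : ι → k) : (mat v φ).det = 1 + φ ⬝ᵥ v := by
  rw [mat, Matrix.vecMulVec_eq (ι := Unit), Matrix.det_one_add_replicateCol_mul_replicateRow]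

open Classical in
/-- The transvection (junk `1` when the pair is not incident). -/
noncomputable def tv (v φ : ι → k) : Matrix.SpecialLinearGroup ι k :=
  if h : φ ⬝ᵥ v = 0 then ⟨mat v φ, by rw [det_mat, h, add_zero]⟩ else 1

theorem coe_tv {v φ : ι → k} (h : φ ⬝ᵥ v = 0) : (tv v φ : Matrix ι ι k) = mat v φ := by
  rw [show tv v φ = ⟨mat v φ, by rw [det_mat, h, add_zero]⟩ from dif_pos h]

theorem ext_mulVec {g h : Matrix.SpecialLinearGroup ι k}
    (H : ∀ x, (g : Matrix ι ι k) *ᵥ x = (h : Matrix ι ι k) *ᵥ x) : g = h :=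
  Subtype.ext (Matrix.ext_of_mulVec_single fun i => H _)

theorem incid_smul {v φ : ι → k} (h : φ ⬝ᵥ v = 0) (c : k) : φ ⬝ᵥ (c • v) = 0 := by
  rw [dotProduct_smul, h, smul_zero]

theorem tv_add {v φ : ι → k} (h : φ ⬝ᵥ v = 0) (c d : k) :
    tv (c • v) φ * tv (d • v) φ = tv ((c + d) • v) φ := by
  refine ext_mulVec fun x => ?_
  rw [Matrix.SpecialLinearGroup.coe_mul, ← Matrix.mulVec_mulVec, coe_tv (incid_smul h c),
    coe_tv (incid_smul h d), coe_tv (incid_smul h _), mat_mulVec, mat_mulVec, mat_mulVec]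
  simp only [dotProduct_add, dotProduct_smul, h, smul_eq_mul, mul_zero, add_zero, add_smul, smul_add, smul_smul]
  abel

theorem tv_zero (φ : ι → k) : tv (0 : ι → k) φ = 1 := by
  refine ext_mulVec fun x => ?_
  rw [coe_tv (dotProduct_zero φ), mat_mulVec, smul_zero, add_zero, Matrix.SpecialLinearGroup.coe_one,
    Matrix.one_mulVec]

open Classical in
/-- The transvection group of `(v, φ)`. -/
noncomputable def T (v φ : ι → k) : Subgroup (Matrix.SpecialLinearGroup ι k) :=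
  if h : φ ⬝ᵥ v = 0 then
    ({ toFun := fun c => tv (c.toAdd • v) φ
       map_one' := by simp [tv_zero]
       map_mul' := fun c d => (tv_add h _ _).symm } : Multiplicative k →* Matrix.SpecialLinearGroup ι k).range
  else ⊥

theorem mem_T {v φ : ι → k} (h : φ ⬝ᵥ v = 0) {g : Matrix.SpecialLinearGroup ι k} :
    g ∈ T v φ ↔ ∃ c : k, g = tv (c • v) φ := by
  rw [T, dif_pos h]
  constructor
  · rintro ⟨c, rfl⟩; exact ⟨c.toAdd, rfl⟩
  · rintro ⟨c, rfl⟩; exact ⟨Multiplicative.ofAdd c, rfl⟩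

theorem tv_inv {v φ : ι → k} (h : φ ⬝ᵥ v = 0) (c : k) : (tv (c • v) φ)⁻¹ = tv ((-c) • v) φ :=
  inv_eq_of_mul_eq_one_right (by rw [tv_add h, add_neg_cancel, zero_smul, tv_zero])

theorem T_comm {v φ : ι → k} (h : φ ⬝ᵥ v = 0) : IsMulCommutative (T v φ) := by
  refine ⟨⟨?_⟩⟩
  rintro ⟨a, ha⟩ ⟨b, hb⟩
  obtain ⟨c, rfl⟩ := (mem_T h).1 ha
  obtain ⟨d, rfl⟩ := (mem_T h).1 hb
  exact Subtype.ext (show tv (c • v) φ * tv (d • v) φ = tv (d • v) φ * tv (c • v) φ by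
    rw [tv_add h, tv_add h, add_comm])

theorem T_smul {v φ : ι → k} (h : φ ⬝ᵥ v = 0) {a b : k} (ha : a ≠ 0) (hb : b ≠ 0) :
    T (a • v) (b • φ) = T v φ := by
  have h' : (b • φ) ⬝ᵥ (a • v) = 0 := by rw [smul_dotProduct, incid_smul h, smul_zero]
  have key : ∀ c : k, tv (c • a • v) (b • φ) = tv ((c * a * b) • v) φ := fun c => by
    refine ext_mulVec fun x => ?_
    rw [coe_tv (incid_smul h' c), coe_tv (incid_smul h _), mat_mulVec, mat_mulVec, smul_dotProduct]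
    simp only [smul_smul, smul_eq_mul]
    congr 2; ring
  ext g
  rw [mem_T h', mem_T h]
  constructor
  · rintro ⟨c, rfl⟩; exact ⟨_, key c⟩
  · rintro ⟨c, rfl⟩
    refine ⟨c * a⁻¹ * b⁻¹, ?_⟩
    rw [key]; congr 2; field_simp

theorem incid_act {v φ : ι → k} (h : φ ⬝ᵥ v = 0) (g : Matrix.SpecialLinearGroup ι k) :
    (φ ᵥ* ((g⁻¹ : Matrix.SpecialLinearGroup ι k) : Matrix ι ι k)) ⬝ᵥ ((g : Matrix ι ι k) *ᵥ v) = 0 := by
  rw [← Matrix.dotProduct_mulVec, Matrix.mulVec_mulVec, ← Matrix.SpecialLinearGroup.coe_mul, inv_mul_cancel,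
    Matrix.SpecialLinearGroup.coe_one, Matrix.one_mulVec, h]

theorem conj_tv {v φ : ι → k} (h : φ ⬝ᵥ v = 0) (g : Matrix.SpecialLinearGroup ι k) :
    g * tv v φ * g⁻¹ =
      tv ((g : Matrix ι ι k) *ᵥ v) (φ ᵥ* ((g⁻¹ : Matrix.SpecialLinearGroup ι k) : Matrix ι ι k)) := by
  refine ext_mulVec fun x => ?_
  rw [Matrix.SpecialLinearGroup.coe_mul, Matrix.SpecialLinearGroup.coe_mul, ← Matrix.mulVec_mulVec,
    ← Matrix.mulVec_mulVec, coe_tv h, coe_tv (incid_act h g), mat_mulVec, mat_mulVec, Matrix.mulVec_add,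
    Matrix.mulVec_smul, Matrix.mulVec_mulVec, ← Matrix.SpecialLinearGroup.coe_mul, mul_inv_cancel,
    Matrix.SpecialLinearGroup.coe_one, Matrix.one_mulVec, Matrix.dotProduct_mulVec]

theorem T_conj {v φ : ι → k} (h : φ ⬝ᵥ v = 0) (g : Matrix.SpecialLinearGroup ι k) :
    Cfsg.conjBy (T v φ) g =
      T ((g : Matrix ι ι k) *ᵥ v) (φ ᵥ* ((g⁻¹ : Matrix.SpecialLinearGroup ι k) : Matrix ι ι k)) := by
  ext x
  rw [Cfsg.conjBy, Subgroup.mem_map, mem_T (incid_act h g)]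
  constructor
  · rintro ⟨_, hy, rfl⟩
    obtain ⟨c, rfl⟩ := (mem_T h).1 hy
    refine ⟨c, ?_⟩
    rw [← Matrix.mulVec_smul]
    exact conj_tv (incid_smul h c) g
  · rintro ⟨c, rfl⟩
    refine ⟨_, (mem_T h).2 ⟨c, rfl⟩, ?_⟩
    rw [← Matrix.mulVec_smul]
    exact conj_tv (incid_smul h c) g

theorem exists_dot_one {φ : ι → k} (hφ : φ ≠ 0) : ∃ x, φ ⬝ᵥ x = 1 := by
  obtain ⟨i, hi⟩ := Function.ne_iff.1 hφ
  exact ⟨Pi.single i (φ i)⁻¹, by rw [dotProduct_single, mul_inv_cancel₀ hi]⟩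

theorem tv_ne_one {v φ : ι → k} (h : φ ⬝ᵥ v = 0) (hv : v ≠ 0) (hφ : φ ≠ 0) : tv v φ ≠ 1 := by
  intro e
  obtain ⟨x, hx⟩ := exists_dot_one hφ
  have h1 := congrArg (fun g : Matrix.SpecialLinearGroup ι k => (g : Matrix ι ι k) *ᵥ x) e
  simp only [coe_tv h, mat_mulVec, Matrix.SpecialLinearGroup.coe_one, Matrix.one_mulVec, hx, one_smul,
    add_eq_left] at h1
  exact hv h1

theorem T_ne_bot {v φ : ι → k} (h : φ ⬝ᵥ v = 0) (hv : v ≠ 0) (hφ : φ ≠ 0) : T v φ ≠ ⊥ := fun e =>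
  tv_ne_one h hv hφ ((Subgroup.eq_bot_iff_forall _).1 e _ ((mem_T h).2 ⟨1, by rw [one_smul]⟩))

/-- Equal transvection groups have proportional points. -/
theorem point_of_eq {v φ v' φ' : ι → k} (h : φ ⬝ᵥ v = 0) (h' : φ' ⬝ᵥ v' = 0) (hφ' : φ' ≠ 0)
    (e : T v φ = T v' φ') : ∃ c : k, v' = c • v := by
  obtain ⟨c, hc⟩ := (mem_T h).1 (e.symm ▸ (mem_T h').2 ⟨1, rfl⟩ : tv ((1 : k) • v') φ' ∈ T v φ)
  obtain ⟨x, hx⟩ := exists_dot_one hφ'
  rw [one_smul] at hc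
  have h1 := congrArg (fun g : Matrix.SpecialLinearGroup ι k => (g : Matrix ι ι k) *ᵥ x) hc
  simp only [coe_tv (incid_smul h c), coe_tv h', mat_mulVec, hx, one_smul, add_right_inj,
    smul_smul] at h1
  exact ⟨_, h1⟩

theorem tv_mul_self_comm {v φ w ψ : ι → k} (h : φ ⬝ᵥ v = 0) (h' : ψ ⬝ᵥ w = 0)
    (ha : φ ⬝ᵥ w = 0) (hb : ψ ⬝ᵥ v = 0) : tv v φ * tv w ψ = tv w ψ * tv v φ := by
  refine ext_mulVec fun x => ?_
  simp only [Matrix.SpecialLinearGroup.coe_mul, ← Matrix.mulVec_mulVec, coe_tv h, coe_tv h', mat_mulVec,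
    dotProduct_add, dotProduct_smul, ha, hb, smul_zero, add_zero]
  abel

theorem T_commute {v φ w ψ : ι → k} (h : φ ⬝ᵥ v = 0) (h' : ψ ⬝ᵥ w = 0) (ha : φ ⬝ᵥ w = 0) (hb : ψ ⬝ᵥ v = 0) :
    ⁅T v φ, T w ψ⁆ = ⊥ := by
  rw [Subgroup.commutator_eq_bot_iff_le_centralizer]
  intro x hx
  obtain ⟨c, rfl⟩ := (mem_T h).1 hx
  refine Subgroup.mem_centralizer_iff.2 fun y hy => ?_
  obtain ⟨d, rfl⟩ := (mem_T h').1 hy
  exact (tv_mul_self_comm (incid_smul h c) (incid_smul h' d) (incid_smul ha d) (incid_smul hb c)).symm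

theorem comm_left {v φ w ψ : ι → k} (h : φ ⬝ᵥ v = 0) (h' : ψ ⬝ᵥ w = 0) (hb : ψ ⬝ᵥ v = 0) (c d : k) :
    ⁅tv (c • v) φ, tv (d • w) ψ⁆ = tv ((c * d * (φ ⬝ᵥ w)) • v) ψ := by
  rw [commutatorElement_def, tv_inv h, tv_inv h']
  refine ext_mulVec fun x => ?_
  simp only [Matrix.SpecialLinearGroup.coe_mul, ← Matrix.mulVec_mulVec, coe_tv (incid_smul h _),
    coe_tv (incid_smul h' _), coe_tv (incid_smul hb _), mat_mulVec, dotProduct_add, dotProduct_smul,
    h, h', hb, smul_eq_mul, mul_zero, add_zero]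
  ext i
  simp only [Pi.add_apply, Pi.smul_apply, smul_eq_mul]
  ring

theorem comm_right {v φ w ψ : ι → k} (h : φ ⬝ᵥ v = 0) (h' : ψ ⬝ᵥ w = 0) (ha : φ ⬝ᵥ w = 0) (c d : k) :
    ⁅tv (c • v) φ, tv (d • w) ψ⁆ = tv ((-(c * d * (ψ ⬝ᵥ v))) • w) φ := by
  rw [commutatorElement_def, tv_inv h, tv_inv h']
  refine ext_mulVec fun x => ?_
  simp only [Matrix.SpecialLinearGroup.coe_mul, ← Matrix.mulVec_mulVec, coe_tv (incid_smul h _),
    coe_tv (incid_smul h' _), coe_tv (incid_smul ha _), mat_mulVec, dotProduct_add, dotProduct_smul,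
    h, h', ha, smul_eq_mul, mul_zero, add_zero]
  ext i
  simp only [Pi.add_apply, Pi.smul_apply, smul_eq_mul]
  ring

/-- The commutator case. -/
theorem case_left (S : Set (Subgroup (Matrix.SpecialLinearGroup ι k))) {v φ w ψ : ι → k}
    (h : φ ⬝ᵥ v = 0) (h' : ψ ⬝ᵥ w = 0) (hb : ψ ⬝ᵥ v = 0) (ha : φ ⬝ᵥ w ≠ 0) (hS : T v ψ ∈ S) :
    Cfsg.RootCommutatorCase S (T v φ) (T w ψ) := by
  have hle : ⁅T v φ, T w ψ⁆ = T v ψ := by
    refine le_antisymm (Subgroup.commutator_le.2 fun x hx y hy => ?_) fun z hz => ?_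
    · obtain ⟨c, rfl⟩ := (mem_T h).1 hx
      obtain ⟨d, rfl⟩ := (mem_T h').1 hy
      rw [comm_left h h' hb]
      exact (mem_T hb).2 ⟨_, rfl⟩
    · obtain ⟨c, rfl⟩ := (mem_T hb).1 hz
      rw [show c = c * (φ ⬝ᵥ w)⁻¹ * 1 * (φ ⬝ᵥ w) by field_simp, ← comm_left h h' hb]
      exact Subgroup.commutator_mem_commutator ((mem_T h).2 ⟨_, rfl⟩) ((mem_T h').2 ⟨_, rfl⟩)
  refine ⟨hle ▸ hS, fun z hz x hx => ?_, fun x hx hx1 => ?_, fun y hy hy1 => ?_⟩
  · rw [hle] at hz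
    have hc : T v φ ⊔ T w ψ ≤ Subgroup.centralizer ({z} : Set (Matrix.SpecialLinearGroup ι k)) := by
      obtain ⟨c, rfl⟩ := (mem_T hb).1 hz
      refine sup_le (fun x hx => ?_) (fun x hx => ?_) <;> rw [Subgroup.mem_centralizer_singleton_iff]
      · obtain ⟨d, rfl⟩ := (mem_T h).1 hx
        exact tv_mul_self_comm (incid_smul h d) (incid_smul hb c) (incid_smul h c) (incid_smul hb d)
      · obtain ⟨d, rfl⟩ := (mem_T h').1 hx
        exact tv_mul_self_comm (incid_smul h' d) (incid_smul hb c) (incid_smul hb c) (incid_smul h' d)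
    exact (Subgroup.mem_centralizer_singleton_iff.1 (hc hx)).symm
  · obtain ⟨c, rfl⟩ := (mem_T h).1 hx
    have hc : c ≠ 0 := fun e => hx1 (by rw [e, zero_smul, tv_zero])
    refine le_antisymm ((Subgroup.closure_le _).2 ?_) (hle.le.trans fun z hz => ?_)
    · rintro _ ⟨y, hy, rfl⟩; exact Subgroup.commutator_mem_commutator hx hy
    · obtain ⟨e, rfl⟩ := (mem_T hb).1 hz
      refine Subgroup.subset_closure ⟨tv ((e * c⁻¹ * (φ ⬝ᵥ w)⁻¹) • w) ψ, (mem_T h').2 ⟨_, rfl⟩, ?_⟩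
      beta_reduce
      rw [← commutatorElement_def, comm_left h h' hb]; congr 2; field_simp
  · obtain ⟨d, rfl⟩ := (mem_T h').1 hy
    have hd : d ≠ 0 := fun e => hy1 (by rw [e, zero_smul, tv_zero])
    refine le_antisymm ((Subgroup.closure_le _).2 ?_) (hle.le.trans fun z hz => ?_)
    · rintro _ ⟨x, hx, rfl⟩; exact Subgroup.commutator_mem_commutator hx hy
    · obtain ⟨e, rfl⟩ := (mem_T hb).1 hz
      refine Subgroup.subset_closure ⟨tv ((e * d⁻¹ * (φ ⬝ᵥ w)⁻¹) • v) φ, (mem_T h).2 ⟨_, rfl⟩, ?_⟩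
      beta_reduce
      rw [← commutatorElement_def, comm_left h h' hb]; congr 2; field_simp

theorem case_symm (S : Set (Subgroup (Matrix.SpecialLinearGroup ι k))) {A B : Subgroup (Matrix.SpecialLinearGroup ι k)}
    (h : Cfsg.RootCommutatorCase S A B) : Cfsg.RootCommutatorCase S B A := by
  obtain ⟨h1, h2, h3, h4⟩ := h
  have hflip : ∀ (s : Set (Matrix.SpecialLinearGroup ι k)) (F : Matrix.SpecialLinearGroup ι k → Matrix.SpecialLinearGroup ι k),
      Subgroup.closure (F '' s) = Subgroup.closure ((fun z => (F z)⁻¹) '' s) := by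
    intro s F
    rw [← Subgroup.closure_inv (F '' s)]
    congr 1
    ext z
    simp only [Set.mem_inv, Set.mem_image]
    exact ⟨fun ⟨x, hx, e⟩ => ⟨x, hx, by rw [e, inv_inv]⟩, fun ⟨x, hx, e⟩ => ⟨x, hx, by rw [← e, inv_inv]⟩⟩
  rw [Cfsg.RootCommutatorCase, Subgroup.commutator_comm B A, sup_comm B A]
  refine ⟨h1, h2, fun b hb hb1 => ?_, fun a ha ha1 => ?_⟩
  · rw [← h4 b hb hb1, hflip]
    congr 1
    exact Set.image_congr fun a _ => by group
  · rw [← h3 a ha ha1, hflip]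
    congr 1
    exact Set.image_congr fun b _ => by group

theorem cond {v φ w ψ : ι → k} (h : φ ⬝ᵥ v = 0) (h' : ψ ⬝ᵥ w = 0) (ha : φ ⬝ᵥ w = 1) (hb : ψ ⬝ᵥ v = 1) :
    Cfsg.RankOneCondition (T v φ) (T w ψ) := by
  intro x hx hx1
  obtain ⟨c, rfl⟩ := (mem_T h).1 hx
  have hc : c ≠ 0 := fun e => hx1 (by rw [e, zero_smul, tv_zero])
  have hw : w ≠ 0 := fun e => by simp [e] at ha
  have hψ : ψ ≠ 0 := fun e => by simp [e] at hb
  refine ⟨tv (c⁻¹ • w) ψ, (mem_T h').2 ⟨_, rfl⟩,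
    tv_ne_one (incid_smul h' _) (smul_ne_zero (inv_ne_zero hc) hw) hψ, ?_⟩
  rw [T_conj h, T_conj h']
  simp only [inv_inv, tv_inv h, tv_inv h', coe_tv (incid_smul h _), coe_tv (incid_smul h' _), mat_mulVec,
    vecMul_mat, dotProduct_smul, ha, hb, smul_eq_mul, mul_one, one_smul, neg_neg]
  have key : (ψ + c • φ) ⬝ᵥ (w + (-c) • v) = 0 := by
    simp only [add_dotProduct, smul_dotProduct, dotProduct_add, dotProduct_smul, h, h', ha, hb, smul_eq_mul]
    ring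
  rw [show v + (-c⁻¹) • w = (-c⁻¹) • (w + (-c) • v) by ext i; simp; field_simp; ring,
    show φ + c⁻¹ • ψ = c⁻¹ • (ψ + c • φ) by ext i; simp; field_simp; ring,
    T_smul key (neg_ne_zero.2 (inv_ne_zero hc)) (inv_ne_zero hc)]

open scoped IsMulCommutative in
theorem rankOne {v φ w ψ : ι → k} (h : φ ⬝ᵥ v = 0) (h' : ψ ⬝ᵥ w = 0) (ha : φ ⬝ᵥ w = 1) (hb : ψ ⬝ᵥ v = 1) :
    Cfsg.IsRankOnePair (T v φ) (T w ψ) := by
  haveI := T_comm h
  haveI := T_comm h'
  refine ⟨fun e => ?_, inferInstance, inferInstance, cond h h' ha hb, cond h' h hb ha⟩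
  obtain ⟨c, rfl⟩ := point_of_eq h h' (fun e' => by simp [e'] at hb) e
  rw [dotProduct_smul, h, smul_zero] at ha
  exact zero_ne_one ha

/-- The homomorphism from `SL₂` attached to a hyperbolic pair of incident pairs. -/
noncomputable def sl2Hom {v φ w ψ : ι → k} (h : φ ⬝ᵥ v = 0) (h' : ψ ⬝ᵥ w = 0) (ha : φ ⬝ᵥ w = 1) (hb : ψ ⬝ᵥ v = 1) :
    Matrix.SpecialLinearGroup (Fin 2) k →* Matrix.SpecialLinearGroup ι k :=
  let U : Matrix ι (Fin 2) k := Matrix.of fun i j => ![v i, w i] j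
  let W : Matrix (Fin 2) ι k := Matrix.of ![ψ, φ]
  have hWU : W * U = 1 := by
    ext i j
    show ![ψ, φ] i ⬝ᵥ (fun l => ![v l, w l] j) = (1 : Matrix (Fin 2) (Fin 2) k) i j
    fin_cases i <;> fin_cases j <;> simp [h, h', ha, hb]
  { toFun := fun g => ⟨1 + U * ((g : Matrix (Fin 2) (Fin 2) k) - 1) * W, by
      rw [Matrix.mul_assoc, Matrix.det_one_add_mul_comm, Matrix.mul_assoc, hWU, Matrix.mul_one,
        add_sub_cancel, g.2]⟩
    map_one' := Subtype.ext (by simp)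
    map_mul' := fun g g' => Subtype.ext (by
      show 1 + U * ((g : Matrix (Fin 2) (Fin 2) k) * (g' : Matrix (Fin 2) (Fin 2) k) - 1) * W =
        (1 + U * ((g : Matrix (Fin 2) (Fin 2) k) - 1) * W) * (1 + U * ((g' : Matrix (Fin 2) (Fin 2) k) - 1) * W)
      rw [Matrix.add_mul, Matrix.one_mul, Matrix.mul_add, Matrix.mul_one]
      have e : U * ((g : Matrix (Fin 2) (Fin 2) k) - 1) * W * (U * ((g' : Matrix (Fin 2) (Fin 2) k) - 1) * W) =
          U * (((g : Matrix (Fin 2) (Fin 2) k) - 1) * ((g' : Matrix (Fin 2) (Fin 2) k) - 1)) * W := by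
        simp only [Matrix.mul_assoc]
        rw [← Matrix.mul_assoc W U, hWU, Matrix.one_mul]
      rw [e, show (g : Matrix (Fin 2) (Fin 2) k) * (g' : Matrix (Fin 2) (Fin 2) k) - 1 =
        ((g : Matrix (Fin 2) (Fin 2) k) - 1) + ((g' : Matrix (Fin 2) (Fin 2) k) - 1) +
          ((g : Matrix (Fin 2) (Fin 2) k) - 1) * ((g' : Matrix (Fin 2) (Fin 2) k) - 1) by noncomm_ring]
      simp only [Matrix.mul_add, Matrix.add_mul]
      abel) }

theorem act_sl2Hom {v φ w ψ : ι → k} (h : φ ⬝ᵥ v = 0) (h' : ψ ⬝ᵥ w = 0) (ha : φ ⬝ᵥ w = 1) (hb : ψ ⬝ᵥ v = 1)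
    (g : Matrix.SpecialLinearGroup (Fin 2) k) (x : ι → k) :
    (sl2Hom h h' ha hb g : Matrix ι ι k) *ᵥ x =
      x + ((g.1 0 0 - 1) * (ψ ⬝ᵥ x) + g.1 0 1 * (φ ⬝ᵥ x)) • v +
        (g.1 1 0 * (ψ ⬝ᵥ x) + (g.1 1 1 - 1) * (φ ⬝ᵥ x)) • w := by
  show (1 + Matrix.of (fun i j => ![v i, w i] j) * ((g : Matrix (Fin 2) (Fin 2) k) - 1) *
    Matrix.of ![ψ, φ]) *ᵥ x = _
  rw [Matrix.add_mulVec, Matrix.one_mulVec, ← Matrix.mulVec_mulVec, ← Matrix.mulVec_mulVec, add_assoc]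
  congr 1
  ext i
  simp [Matrix.mulVec, dotProduct, Fin.sum_univ_two]
  ring

theorem pair_over {v φ w ψ : ι → k} (h : φ ⬝ᵥ v = 0) (h' : ψ ⬝ᵥ w = 0) (ha : φ ⬝ᵥ w = 1) (hb : ψ ⬝ᵥ v = 1) :
    Cfsg.IsPSL2PairOver k (T v φ) (T w ψ) := by
  have hU : (Cfsg.upperUnipotentSL2 k).map (sl2Hom h h' ha hb) = T v φ := by
    refine le_antisymm ?_ fun z hz => ?_
    · rw [Cfsg.upperUnipotentSL2, MonoidHom.map_closure, Subgroup.closure_le]
      rintro _ ⟨g, ⟨h1, h2, h3⟩, rfl⟩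
      refine (mem_T h).2 ⟨g.1 0 1, ext_mulVec fun x => ?_⟩
      rw [act_sl2Hom, coe_tv (incid_smul h _), mat_mulVec, h1, h2, h3]
      simp [smul_smul, mul_comm]
    · obtain ⟨c, rfl⟩ := (mem_T h).1 hz
      refine ⟨⟨!![1, c; 0, 1], by simp [Matrix.det_fin_two]⟩, Subgroup.subset_closure ⟨rfl, rfl, rfl⟩, ?_⟩
      refine ext_mulVec fun x => (act_sl2Hom h h' ha hb _ x).trans ?_
      rw [coe_tv (incid_smul h _), mat_mulVec]
      simp [smul_smul, mul_comm]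
  have hL : (Cfsg.lowerUnipotentSL2 k).map (sl2Hom h h' ha hb) = T w ψ := by
    refine le_antisymm ?_ fun z hz => ?_
    · rw [Cfsg.lowerUnipotentSL2, MonoidHom.map_closure, Subgroup.closure_le]
      rintro _ ⟨g, ⟨h1, h2, h3⟩, rfl⟩
      refine (mem_T h').2 ⟨g.1 1 0, ext_mulVec fun x => ?_⟩
      rw [act_sl2Hom, coe_tv (incid_smul h' _), mat_mulVec, h1, h2, h3]
      simp [smul_smul, mul_comm]
    · obtain ⟨c, rfl⟩ := (mem_T h').1 hz
      refine ⟨⟨!![1, 0; c, 1], by simp [Matrix.det_fin_two]⟩, Subgroup.subset_closure ⟨rfl, rfl, rfl⟩, ?_⟩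
      refine ext_mulVec fun x => (act_sl2Hom h h' ha hb _ x).trans ?_
      rw [coe_tv (incid_smul h' _), mat_mulVec]
      simp [smul_smul, mul_comm]
  refine ⟨sl2Hom h h' ha hb, ?_, fun g hg => ?_, hU, hL⟩
  · rw [← hU, ← hL, ← Subgroup.map_sup, MonoidHom.range_eq_map]
    congr 1
    symm
    refine CfsgLib.Lie.SLn.eq_top_of_transvection_mem _ fun i j hij c => ?_
    revert i j
    rw [Fin.forall_fin_two]
    refine ⟨?_, ?_⟩ <;> rw [Fin.forall_fin_two] <;> refine ⟨fun hij => ?_, fun hij => ?_⟩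
    · exact absurd rfl hij
    · refine Subgroup.mem_sup_left (Subgroup.subset_closure ⟨?_, ?_, ?_⟩) <;>
        simp [Matrix.SpecialLinearGroup.transvection, Matrix.transvection, Matrix.single]
    · refine Subgroup.mem_sup_right (Subgroup.subset_closure ⟨?_, ?_, ?_⟩) <;>
        simp [Matrix.SpecialLinearGroup.transvection, Matrix.transvection, Matrix.single]
    · exact absurd rfl hij
  · have hv := act_sl2Hom h h' ha hb g v
    have hw := act_sl2Hom h h' ha hb g w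
    rw [MonoidHom.mem_ker.1 hg, Matrix.SpecialLinearGroup.coe_one, Matrix.one_mulVec, h, hb] at hv
    rw [MonoidHom.mem_ker.1 hg, Matrix.SpecialLinearGroup.coe_one, Matrix.one_mulVec, ha, h'] at hw
    have e1 := congrArg (fun x => ψ ⬝ᵥ x) hv
    have e2 := congrArg (fun x => φ ⬝ᵥ x) hv
    have e3 := congrArg (fun x => ψ ⬝ᵥ x) hw
    have e4 := congrArg (fun x => φ ⬝ᵥ x) hw
    simp only [dotProduct_add, dotProduct_smul, smul_eq_mul, h, h', ha, hb] at e1 e2 e3 e4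
    have : g = 1 := by
      refine Subtype.ext (Matrix.ext fun i j => ?_)
      fin_cases i <;> fin_cases j <;> simp
      · linear_combination -e1
      · linear_combination -e3
      · linear_combination -e2
      · linear_combination -e4
    rw [this]
    exact one_mem _

theorem rank_pair_of_ne {v φ w ψ : ι → k} (h : φ ⬝ᵥ v = 0) (h' : ψ ⬝ᵥ w = 0) (ha : φ ⬝ᵥ w ≠ 0) (hb : ψ ⬝ᵥ v ≠ 0) :
    Cfsg.IsRankOnePair (T v φ) (T w ψ) ∧ Cfsg.IsPSL2PairOver k (T v φ) (T w ψ) := by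
  rw [← T_smul h' (inv_ne_zero ha) (inv_ne_zero hb)]
  have h'' : ((ψ ⬝ᵥ v)⁻¹ • ψ) ⬝ᵥ ((φ ⬝ᵥ w)⁻¹ • w) = 0 := by
    rw [smul_dotProduct, incid_smul h', smul_zero]
  have ha' : φ ⬝ᵥ ((φ ⬝ᵥ w)⁻¹ • w) = 1 := by rw [dotProduct_smul, smul_eq_mul, inv_mul_cancel₀ ha]
  have hb' : ((ψ ⬝ᵥ v)⁻¹ • ψ) ⬝ᵥ v = 1 := by rw [smul_dotProduct, smul_eq_mul, inv_mul_cancel₀ hb]
  exact ⟨rankOne h h'' ha' hb', pair_over h h'' ha' hb'⟩

theorem ne_of_rankOne {v φ w ψ : ι → k} (h : φ ⬝ᵥ v = 0) (h' : ψ ⬝ᵥ w = 0) (hv : v ≠ 0) (hφ : φ ≠ 0)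
    (hw : w ≠ 0) (hψ : ψ ≠ 0) (hr : Cfsg.IsRankOnePair (T v φ) (T w ψ)) : φ ⬝ᵥ w ≠ 0 ∧ ψ ⬝ᵥ v ≠ 0 := by
  obtain ⟨b, hb, -, hconj⟩ := hr.cond_left (tv ((1 : k) • v) φ) ((mem_T h).2 ⟨1, rfl⟩)
    (tv_ne_one (incid_smul h 1) (by rwa [one_smul]) hφ)
  obtain ⟨d, rfl⟩ := (mem_T h').1 hb
  rw [T_conj h, T_conj h'] at hconj
  simp only [inv_inv, tv_inv h, tv_inv h'] at hconj
  simp only [coe_tv (incid_smul h _), coe_tv (incid_smul h' _), mat_mulVec,
    vecMul_mat, dotProduct_smul, smul_eq_mul] at hconj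
  simp only [one_smul, one_mul, neg_neg, neg_mul, mul_neg] at hconj
  by_contra hne
  rw [not_and_or, not_not, not_not] at hne
  rcases hne with ha | hb'
  · by_cases hb0 : ψ ⬝ᵥ v = 0
    · simp [ha, hb0] at hconj
      exact hr.ne hconj
    · simp only [ha, mul_zero, zero_smul, add_zero] at hconj
      obtain ⟨c, hc⟩ := point_of_eq (v := v + (ψ ⬝ᵥ v) • (-d) • w) (φ := φ) (v' := w) (φ' := ψ + (ψ ⬝ᵥ v) • φ)
        (by simp [dotProduct_add, dotProduct_smul, h, ha])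
        (by simp [add_dotProduct, smul_dotProduct, h', ha])
        (fun e => hb0 (by
          have := congrArg (fun y => y ⬝ᵥ v) e
          simpa [add_dotProduct, smul_dotProduct, h] using this))
        hconj
      have := congrArg (fun y => ψ ⬝ᵥ y) hc
      simp [dotProduct_add, dotProduct_smul, h', hb0] at this
      rw [this, zero_smul] at hc
      exact hw hc
  · by_cases ha0 : φ ⬝ᵥ w = 0
    · simp [ha0, hb'] at hconj
      exact hr.ne hconj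
    · simp only [hb', mul_zero, zero_smul, add_zero] at hconj
      obtain ⟨c, hc⟩ := point_of_eq (v := v) (v' := w + (φ ⬝ᵥ w) • (-1 : k) • v) (φ' := ψ)
        (by simp [add_dotProduct, smul_dotProduct, h, hb'])
        (by simp [dotProduct_add, dotProduct_smul, h', hb']) hψ hconj
      have := congrArg (fun y => φ ⬝ᵥ y) hc
      simp [dotProduct_add, dotProduct_smul, h, ha0] at this

theorem trichotomy (S : Set (Subgroup (Matrix.SpecialLinearGroup ι k))) {v φ w ψ : ι → k}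
    (h : φ ⬝ᵥ v = 0) (h' : ψ ⬝ᵥ w = 0)
    (hS : ∀ v φ : ι → k, v ≠ 0 → φ ≠ 0 → φ ⬝ᵥ v = 0 → T v φ ∈ S)
    (hv : v ≠ 0) (hφ : φ ≠ 0) (hw : w ≠ 0) (hψ : ψ ≠ 0) :
    ⁅T v φ, T w ψ⁆ = ⊥ ∨ Cfsg.IsRankOnePair (T v φ) (T w ψ) ∨ Cfsg.RootCommutatorCase S (T v φ) (T w ψ) := by
  by_cases ha : φ ⬝ᵥ w = 0 <;> by_cases hb : ψ ⬝ᵥ v = 0
  · exact Or.inl (T_commute h h' ha hb)
  · exact Or.inr (Or.inr (case_symm S (case_left S h' h ha hb (hS w φ hw hφ ha))))
  · exact Or.inr (Or.inr (case_left S h h' hb ha (hS v ψ hv hψ hb)))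
  · exact Or.inr (Or.inl (rank_pair_of_ne h h' ha hb).1)

theorem exists_separate {u v : ι → k} (hu : u ≠ 0) (hv : ∀ c : k, v ≠ c • u) :
    ∃ χ : ι → k, χ ⬝ᵥ u = 0 ∧ χ ⬝ᵥ v ≠ 0 := by
  obtain ⟨i, hi⟩ := Function.ne_iff.1 hu
  obtain ⟨j, hj⟩ := Function.ne_iff.1 (hv (v i / u i))
  refine ⟨Pi.single j 1 - (u j / u i) • Pi.single i 1, ?_, fun e => hj ?_⟩
  · simp only [sub_dotProduct, smul_dotProduct, single_dotProduct, one_mul, smul_eq_mul]
    simp only [Pi.zero_apply] at hi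
    field_simp; ring
  · simp only [sub_dotProduct, smul_dotProduct, single_dotProduct, one_mul, smul_eq_mul] at e
    simp only [Pi.smul_apply, smul_eq_mul]
    rw [sub_eq_zero] at e
    rw [e]; ring

theorem exists_both {p q : ι → k} (hp : p ≠ 0) (hq : q ≠ 0) : ∃ r, p ⬝ᵥ r ≠ 0 ∧ q ⬝ᵥ r ≠ 0 := by
  obtain ⟨a, ha⟩ := exists_dot_one hp
  obtain ⟨b, hb⟩ := exists_dot_one hq
  by_cases h1 : q ⬝ᵥ a = 0
  · by_cases h2 : p ⬝ᵥ b = 0
    · exact ⟨a + b, by simp [dotProduct_add, ha, h2], by simp [dotProduct_add, hb, h1]⟩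
    · exact ⟨b, h2, by simp [hb]⟩
  · exact ⟨a, by simp [ha], h1⟩

/-- Any two transvection groups have a common rank one partner. -/
theorem exists_middle {v φ w ψ : ι → k} (h : φ ⬝ᵥ v = 0) (h' : ψ ⬝ᵥ w = 0)
    (hv : v ≠ 0) (hφ : φ ≠ 0) (hw : w ≠ 0) (hψ : ψ ≠ 0) :
    ∃ u χ : ι → k, u ≠ 0 ∧ χ ≠ 0 ∧ χ ⬝ᵥ u = 0 ∧
      Cfsg.IsRankOnePair (T v φ) (T u χ) ∧ Cfsg.IsRankOnePair (T u χ) (T w ψ) := by
  obtain ⟨u, hu1, hu2⟩ := exists_both hφ hψ
  have hu : u ≠ 0 := fun e => hu1 (by simp [e])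
  have key : ∀ (z η : ι → k), z ≠ 0 → η ⬝ᵥ z = 0 → η ⬝ᵥ u ≠ 0 → ∃ χ : ι → k, χ ⬝ᵥ u = 0 ∧ χ ⬝ᵥ z ≠ 0 := by
    intro z η hz hz0 hzu
    refine exists_separate hu fun c e => ?_
    rw [e, dotProduct_smul, smul_eq_mul, mul_eq_zero] at hz0
    rcases hz0 with rfl | e'
    · exact hz (by rw [e, zero_smul])
    · exact hzu e'
  obtain ⟨χ1, h11, h12⟩ := key v φ hv h hu1
  obtain ⟨χ2, h21, h22⟩ := key w ψ hw h' hu2
  obtain ⟨χ, hχu, hχv, hχw⟩ : ∃ χ : ι → k, χ ⬝ᵥ u = 0 ∧ χ ⬝ᵥ v ≠ 0 ∧ χ ⬝ᵥ w ≠ 0 := by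
    by_cases h13 : χ1 ⬝ᵥ w = 0
    · by_cases h23 : χ2 ⬝ᵥ v = 0
      · exact ⟨χ1 + χ2, by simp [add_dotProduct, h11, h21], by simp [add_dotProduct, h23, h12],
          by simp [add_dotProduct, h13, h22]⟩
      · exact ⟨χ2, h21, h23, h22⟩
    · exact ⟨χ1, h11, h12, h13⟩
  exact ⟨u, χ, hu, fun e => hχv (by simp [e]), hχu, (rank_pair_of_ne h hχu hu1 hχv).1,
    (rank_pair_of_ne hχu h' hχw hu2).1⟩

/-- Transitivity on incident pairs. -/
theorem exists_move {v φ : ι → k} (hv : v ≠ 0) (hφ : φ ≠ 0) (h : φ ⬝ᵥ v = 0) {i₀ i₁ i₂ : ι}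
    (h01 : i₀ ≠ i₁) (h02 : i₀ ≠ i₂) (h12 : i₁ ≠ i₂) :
    ∃ g : Matrix.SpecialLinearGroup ι k, (g : Matrix ι ι k) *ᵥ Pi.single i₀ 1 = v ∧
      φ ᵥ* (g : Matrix ι ι k) = Pi.single i₁ 1 := by
  obtain ⟨i, hi⟩ := Function.ne_iff.1 hv
  simp only [Pi.zero_apply] at hi
  obtain ⟨j, hj, hji⟩ : ∃ j, φ j ≠ 0 ∧ j ≠ i := by
    by_contra hall
    push Not at hall
    obtain ⟨x, hx⟩ := Function.ne_iff.1 hφ
    simp only [Pi.zero_apply] at hx
    have hxi := hall x hx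
    subst hxi
    have hs : φ = Pi.single x (φ x) := funext fun l => by
      by_cases hl : l = x
      · subst hl; simp
      · rw [Pi.single_eq_of_ne hl]; by_contra hne; exact hl (hall l hne)
    rw [hs, single_dotProduct] at h
    exact (mul_ne_zero hx hi) h
  set σ : Equiv.Perm ι := (Equiv.swap (Equiv.swap i₀ i i₁) j) * Equiv.swap i₀ i with hσ
  have hσ1 : σ i₁ = j := by simp [hσ, Equiv.Perm.mul_apply]
  have hσ0 : σ i₀ = i := by
    rw [hσ, Equiv.Perm.mul_apply, Equiv.swap_apply_left, Equiv.swap_apply_of_ne_of_ne]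
    · intro e
      have := congrArg (Equiv.swap i₀ i) e
      rw [Equiv.swap_apply_right, Equiv.swap_apply_self] at this
      exact h01 this
    · exact hji.symm
  set M : Matrix ι ι k := Matrix.of fun r c =>
    if c = i₀ then v r else if c = i₁ then (Pi.single j (φ j)⁻¹ : ι → k) r
    else (Pi.single (σ c) 1 - (φ (σ c) / φ j) • Pi.single j 1 : ι → k) r with hM
  have hcol : ∀ c, M *ᵥ Pi.single c 1 = fun r => M r c := fun c => by
    rw [Matrix.mulVec_single_one]; rfl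
  have hrow : φ ᵥ* M = Pi.single i₁ 1 := by
    funext c
    show φ ⬝ᵥ (fun r => M r c) = _
    simp only [hM, Matrix.of_apply]
    by_cases h0 : c = i₀
    · subst h0; simp only [if_true, Pi.single_eq_of_ne h01]; exact h
    · by_cases h1 : c = i₁
      · subst h1; simp [h0, dotProduct_single, mul_inv_cancel₀ hj]
      · simp only [if_neg h0, if_neg h1, Pi.single_eq_of_ne h1]
        show φ ⬝ᵥ (Pi.single (σ c) 1 - (φ (σ c) / φ j) • Pi.single j 1) = 0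
        simp [dotProduct_sub, dotProduct_smul, dotProduct_single, div_mul_cancel₀ _ hj]
  have hinj : Function.Injective M.mulVec := by
    intro a b hab
    rw [← sub_eq_zero]
    have h0 : M *ᵥ (a - b) = 0 := by rw [Matrix.mulVec_sub, sub_eq_zero]; exact hab
    set x := a - b with hx
    have hj1 : x i₁ = 0 := by
      have h1 := congrArg (fun y => φ ⬝ᵥ y) h0
      simp only [Matrix.dotProduct_mulVec, hrow, single_dotProduct, one_mul, dotProduct_zero] at h1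
      exact h1
    set y : ι → k := fun c => if c = i₀ then 0 else x c with hy
    have hentry : ∀ r, r ≠ j → (∑ c, M r c * x c) = v r * x i₀ + y (σ.symm r) := by
      intro r hr
      have : ∀ c, M r c * x c =
          (if c = i₀ then v r * x i₀ else 0) + (if c = σ.symm r then y c else 0) := by
        intro c
        by_cases hc0 : c = i₀
        · subst hc0; simp [hM, hy]
        · by_cases hc1 : c = i₁
          · subst hc1; simp [hy, hc0, hj1]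
          · by_cases hs : c = σ.symm r
            · have : σ c = r := by rw [hs, Equiv.apply_symm_apply]
              simp [hM, hy, hc0, hc1, ← hs, this, Pi.single_eq_of_ne hr]
            · have : r ≠ σ c := fun e => hs (by rw [e, Equiv.symm_apply_apply])
              simp [hM, hy, hc0, hc1, hs, Pi.single_eq_of_ne this, Pi.single_eq_of_ne hr]
      rw [Finset.sum_congr rfl fun c _ => this c, Finset.sum_add_distrib, Finset.sum_ite_eq', Finset.sum_ite_eq',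
        if_pos (Finset.mem_univ _), if_pos (Finset.mem_univ _)]
    funext c
    have hx0 : x i₀ = 0 := by
      have h1 : (∑ c, M i c * x c) = 0 := congrFun h0 i
      have hsi : σ.symm i = i₀ := by rw [Equiv.symm_apply_eq, hσ0]
      rw [hentry i hji.symm, hsi, hy] at h1
      simp at h1
      exact h1.resolve_left hi
    by_cases hc0 : c = i₀
    · subst hc0; exact hx0
    · by_cases hc1 : c = i₁
      · subst hc1; exact hj1
      · have hr : σ c ≠ j := fun e => hc1 (σ.injective (e.trans hσ1.symm))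
        have h1 : (∑ l, M (σ c) l * x l) = 0 := congrFun h0 (σ c)
        rw [hentry _ hr, Equiv.symm_apply_apply, hy, hx0, mul_zero, zero_add] at h1
        simpa [hc0] using h1
  have hdet : M.det ≠ 0 := ((Matrix.isUnit_iff_isUnit_det M).1 (Matrix.mulVec_injective_iff_isUnit.1 hinj)).ne_zero
  refine ⟨⟨M * Matrix.diagonal (Function.update 1 i₂ M.det⁻¹), ?_⟩, ?_, ?_⟩
  · rw [Matrix.det_mul, Matrix.det_diagonal, Finset.prod_update_of_mem (Finset.mem_univ _)]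
    simp [hdet]
  · show (M * _) *ᵥ _ = v
    rw [← Matrix.mulVec_mulVec, show Matrix.diagonal (Function.update (1 : ι → k) i₂ M.det⁻¹) *ᵥ Pi.single i₀ 1 =
      Pi.single i₀ 1 by
        ext l
        rw [Matrix.mulVec_diagonal]
        by_cases hl : l = i₀
        · subst hl; simp [h02]
        · simp [Pi.single_eq_of_ne hl], hcol]
    funext r
    simp [hM]
  · show φ ᵥ* (M * _) = _
    rw [← Matrix.vecMul_vecMul, hrow]
    ext l
    rw [Matrix.vecMul_diagonal]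
    by_cases hl : l = i₁
    · subst hl; simp [h12]
    · simp [Pi.single_eq_of_ne hl]

theorem T_elementary (i j : ι) (hij : i ≠ j) :
    T (Pi.single i (1 : k)) (Pi.single j 1) =
      Subgroup.closure {t : Matrix.SpecialLinearGroup ι k | ∃ c : k, (t : Matrix ι ι k) = Matrix.transvection i j c} := by
  have h : (Pi.single j (1 : k) : ι → k) ⬝ᵥ Pi.single i (1 : k) = 0 := by
    simp [single_dotProduct, hij.symm]
  have e : ∀ c : k, ((tv (c • (Pi.single i (1 : k) : ι → k)) (Pi.single j 1) : Matrix.SpecialLinearGroup ι k) : Matrix ι ι k) = Matrix.transvection i j c := by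
    intro c
    rw [coe_tv (incid_smul h c)]
    refine Matrix.ext_of_mulVec_single fun l => ?_
    rw [mat_mulVec, CfsgLib.Lie.SLn.transv_mulVec, single_dotProduct, one_mul, smul_smul, mul_comm]
  refine le_antisymm (fun g hg => ?_) ((Subgroup.closure_le _).2 ?_)
  · obtain ⟨c, rfl⟩ := (mem_T h).1 hg
    exact Subgroup.subset_closure ⟨c, e c⟩
  · rintro t ⟨c, hc⟩
    exact (mem_T h).2 ⟨c, Subtype.ext (hc.trans (e c).symm)⟩

end CfsgLib.Inv.TSL
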