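import Cfsg.Agent.Inv.TransvectionSL
import Cfsg.Agent.Lie.Unitary
import Cfsg.Agent.Solv.Basic
import Mathlib.Algebra.Field.TransferInstance
import Mathlib.Algebra.Ring.TransferInstance

/-!
Unitary transvection groups as abstract root subgroups.
-/

set_option autoImplicit false
set_option linter.style.haveILetI false

namespace CfsgLib.Inv.TSU

open Matrix CfsgLib.Inv CfsgLib.Lie CfsgLib.Lie.Herm
open scoped commutatorElement

/-! ### Restricting to an overgroup -/

theorem cj_subgroupOf {G : Type*} [Group G] {A H : Subgroup G} (hA : A ≤ H) (g : H) :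
    Cfsg.conjBy (A.subgroupOf H) g = (Cfsg.conjBy A (g : G)).subgroupOf H := by
  ext x
  simp only [Cfsg.conjBy, Subgroup.mem_subgroupOf, CfsgLib.Solv.mem_map_conj_iff, Subgroup.coe_mul,
    Subgroup.coe_inv]

theorem subgroupOf_inj {G : Type*} [Group G] {A B H : Subgroup G} (hA : A ≤ H) (hB : B ≤ H)
    (e : A.subgroupOf H = B.subgroupOf H) : A = B := by
  have := congrArg (fun K : Subgroup H => K.map H.subtype) e
  simpa only [Subgroup.map_subgroupOf_eq_of_le hA, Subgroup.map_subgroupOf_eq_of_le hB] using this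

theorem rankOne_subgroupOf {G : Type*} [Group G] {A B H : Subgroup G} (hA : A ≤ H) (hB : B ≤ H)
    (h : Cfsg.IsRankOnePair A B) : Cfsg.IsRankOnePair (A.subgroupOf H) (B.subgroupOf H) := by
  haveI := h.nilpotent_left
  haveI := h.nilpotent_right
  have key : ∀ C D : Subgroup G, C ≤ H → D ≤ H → Cfsg.RankOneCondition C D →
      Cfsg.RankOneCondition (C.subgroupOf H) (D.subgroupOf H) := by
    intro C D hC hD hc a ha ha1
    obtain ⟨b, hb, hb1, e⟩ := hc (a : G) ha fun e => ha1 (Subtype.ext e)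
    refine ⟨⟨b, hD hb⟩, hb, fun e' => hb1 (congrArg Subtype.val e'), ?_⟩
    rw [cj_subgroupOf hC, cj_subgroupOf hD]
    exact congrArg (fun K : Subgroup G => K.subgroupOf H) e
  exact ⟨fun e => h.ne (subgroupOf_inj hA hB e),
    Group.nilpotent_of_surjective (Subgroup.subgroupOfEquivOfLe hA).symm.toMonoidHom
      (Subgroup.subgroupOfEquivOfLe hA).symm.surjective,
    Group.nilpotent_of_surjective (Subgroup.subgroupOfEquivOfLe hB).symm.toMonoidHom
      (Subgroup.subgroupOfEquivOfLe hB).symm.surjective,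
    key A B hA hB h.cond_left, key B A hB hA h.cond_right⟩

theorem pair_over_subgroupOf {G : Type*} [Group G] {A B H : Subgroup G} {k : Type*} [Field k]
    (hA : A ≤ H) (hB : B ≤ H) (h : Cfsg.IsPSL2PairOver k A B) :
    Cfsg.IsPSL2PairOver k (A.subgroupOf H) (B.subgroupOf H) := by
  obtain ⟨φ, hr, hk, hU, hL⟩ := h
  set ψ := φ.codRestrict H (fun g => sup_le hA hB (hr ▸ ⟨g, rfl⟩)) with hψ
  have hcomp : H.subtype.comp ψ = φ := MonoidHom.ext fun g => rfl
  have hmap : ∀ (K : Subgroup (Matrix.SpecialLinearGroup (Fin 2) k)), K.map ψ = (K.map φ).subgroupOf H := by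
    intro K
    rw [← hcomp, ← Subgroup.map_map, ← Subgroup.comap_subtype,
      Subgroup.comap_map_eq_self_of_injective H.subtype_injective]
  refine ⟨ψ, ?_, fun g hg => hk ?_, ?_, ?_⟩
  · rw [MonoidHom.range_eq_map, hmap, ← MonoidHom.range_eq_map, hr, Subgroup.subgroupOf_sup hA hB]
  · exact congrArg Subtype.val hg
  · rw [hmap, hU]
  · rw [hmap, hL]

theorem rankOne_conj {G : Type*} [Group G] {A B : Subgroup G} (h : Cfsg.IsRankOnePair A B) (hA : A ≠ ⊥) :
    ∃ g : G, B = Cfsg.conjBy A g := by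
  obtain ⟨a, ha, ha1⟩ : ∃ a ∈ A, a ≠ 1 := by
    by_contra hall
    push Not at hall
    exact hA ((Subgroup.eq_bot_iff_forall A).2 hall)
  obtain ⟨b, -, -, e⟩ := h.cond_left a ha ha1
  refine ⟨a * b⁻¹, ?_⟩
  have := congrArg (fun K : Subgroup G => Cfsg.conjBy K a) e
  simp only [Cfsg.conjBy, Subgroup.map_map] at this
  rw [show (MulAut.conj a).toMonoidHom.comp (MulAut.conj a⁻¹).toMonoidHom = MonoidHom.id G from
    MonoidHom.ext fun x => by simp [mul_assoc], Subgroup.map_id] at this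
  rw [← this, Cfsg.conjBy]
  congr 1
  ext x
  simp [mul_assoc]

/-! ### The unitary transvection groups -/

variable {F : Type*} [Field F] [Fintype F] {q N : ℕ}

/-- `j ↦ p_j ^ q` -/
def bar (q : ℕ) (p : Fin N → F) : Fin N → F := fun j => p j ^ q

theorem bar_dot (x p : Fin N → F) : bar q p ⬝ᵥ x = Cfsg.hermForm N F q x p :=
  Finset.sum_congr rfl fun i _ => mul_comm _ _

theorem bar_smul (c : F) (p : Fin N → F) : bar q (c • p) = c ^ q • bar q p :=
  funext fun i => mul_pow c (p i) q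

theorem bar_incid {p : Fin N → F} (hp : Cfsg.hermForm N F q p p = 0) : bar q p ⬝ᵥ p = 0 := by
  rw [bar_dot, hp]

theorem bar_ne {p : Fin N → F} (hp : p ≠ 0) : bar q p ≠ 0 := by
  obtain ⟨i, hi⟩ := Function.ne_iff.1 hp
  exact fun e => hi (pow_eq_zero_iff'.1 (congrFun e i)).1

/-- `x ↦ x + c h(x,p) p` -/
noncomputable def el (q : ℕ) (p : Fin N → F) (c : F) : Matrix.SpecialLinearGroup (Fin N) F :=
  TSL.tv (c • p) (bar q p)

theorem el_act {p : Fin N → F} (hp : Cfsg.hermForm N F q p p = 0) (c : F) (x : Fin N → F) :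
    (el q p c : Matrix (Fin N) (Fin N) F) *ᵥ x = x + (c * Cfsg.hermForm N F q x p) • p := by
  rw [el, TSL.coe_tv (TSL.incid_smul (bar_incid hp) c), TSL.mat_mulVec, bar_dot, smul_smul, mul_comm]

theorem el_inv {p : Fin N → F} (hp : Cfsg.hermForm N F q p p = 0) (c : F) : (el q p c)⁻¹ = el q p (-c) :=
  TSL.tv_inv (bar_incid hp) c

/-- The transvection group of the isotropic point `p`, as a subgroup of `SL`. -/
noncomputable def P (q : ℕ) (p : Fin N → F) : Subgroup (Matrix.SpecialLinearGroup (Fin N) F) :=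
  Subgroup.closure {g | ∃ c : F, c ^ q + c = 0 ∧ g = el q p c}

theorem zero_mem_skew (hF : Fintype.card F = q ^ 2) : (0 : F) ^ q + 0 = 0 := by
  rw [add_zero, zero_pow (by have := two_le hF; omega)]

theorem neg_skew (hF : Fintype.card F = q ^ 2) {c : F} (hc : c ^ q + c = 0) : (-c) ^ q + -c = 0 := by
  rw [← conj_apply hF, map_neg, conj_apply]; linear_combination -hc

theorem mem_P (hF : Fintype.card F = q ^ 2) {p : Fin N → F} (hp : Cfsg.hermForm N F q p p = 0)
    {g : Matrix.SpecialLinearGroup (Fin N) F} : g ∈ P q p ↔ ∃ c : F, c ^ q + c = 0 ∧ g = el q p c := by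
  refine ⟨fun h => ?_, fun h => Subgroup.subset_closure h⟩
  induction h using Subgroup.closure_induction with
  | mem x hx => exact hx
  | one => exact ⟨0, zero_mem_skew hF, by rw [el, zero_smul, TSL.tv_zero]⟩
  | mul a b _ _ iha ihb =>
    obtain ⟨c, hc, rfl⟩ := iha
    obtain ⟨d, hd, rfl⟩ := ihb
    exact ⟨c + d, by rw [add_pow_q hF]; linear_combination hc + hd, TSL.tv_add (bar_incid hp) c d⟩
  | inv a _ iha =>
    obtain ⟨c, hc, rfl⟩ := iha
    exact ⟨-c, neg_skew hF hc, el_inv hp c⟩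

theorem exists_skew (hF : Fintype.card F = q ^ 2) : ∃ ε : F, ε ≠ 0 ∧ ε ^ q + ε = 0 := by
  obtain ⟨a, ha⟩ : ∃ a : F, a ^ q ≠ a := by
    by_contra hall
    push Not at hall
    exact conj_ne_id hF (RingHom.ext fun x => hall x)
  refine ⟨a ^ q - a, sub_ne_zero.2 ha, ?_⟩
  rw [← conj_apply hF (a ^ q - a), map_sub, conj_apply, conj_apply, pow_pow_q hF]
  ring

theorem el_ne_one {p : Fin N → F} (hp : Cfsg.hermForm N F q p p = 0) (hp0 : p ≠ 0) {c : F} (hc : c ≠ 0) :
    el q p c ≠ 1 :=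
  TSL.tv_ne_one (TSL.incid_smul (bar_incid hp) c) (smul_ne_zero hc hp0) (bar_ne hp0)

theorem P_ne_bot (hF : Fintype.card F = q ^ 2) {p : Fin N → F} (hp : Cfsg.hermForm N F q p p = 0) (hp0 : p ≠ 0) :
    P q p ≠ ⊥ := by
  obtain ⟨ε, hε, hs⟩ := exists_skew hF
  exact fun e => el_ne_one hp hp0 hε ((Subgroup.eq_bot_iff_forall _).1 e _ ((mem_P hF hp).2 ⟨ε, hs, rfl⟩))

theorem P_comm (hF : Fintype.card F = q ^ 2) {p : Fin N → F} (hp : Cfsg.hermForm N F q p p = 0) :
    IsMulCommutative (P q p) := by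
  refine ⟨⟨?_⟩⟩
  rintro ⟨a, ha⟩ ⟨b, hb⟩
  obtain ⟨c, -, rfl⟩ := (mem_P hF hp).1 ha
  obtain ⟨d, -, rfl⟩ := (mem_P hF hp).1 hb
  exact Subtype.ext (show el q p c * el q p d = el q p d * el q p c by
    rw [el, el, TSL.tv_add (bar_incid hp), TSL.tv_add (bar_incid hp), add_comm])

theorem mem_SU {g : Matrix.SpecialLinearGroup (Fin N) F} :
    g ∈ Cfsg.SU N F q ↔ ∀ u v, Cfsg.hermForm N F q ((g : Matrix (Fin N) (Fin N) F) *ᵥ u)
      ((g : Matrix (Fin N) (Fin N) F) *ᵥ v) = Cfsg.hermForm N F q u v := Iff.rfl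

theorem el_mem_SU (hF : Fintype.card F = q ^ 2) {p : Fin N → F} (hp : Cfsg.hermForm N F q p p = 0) {c : F}
    (hc : c ^ q + c = 0) : el q p c ∈ Cfsg.SU N F q := by
  rw [mem_SU]
  intro u v
  rw [el_act hp, el_act hp, form_add_left, form_add_right hF, form_add_right hF, form_smul_left,
    form_smul_left, form_smul_right, form_smul_right, hp, mul_pow, form_comm hF]
  linear_combination (Cfsg.hermForm N F q u p * Cfsg.hermForm N F q p v) * hc

theorem P_le_SU (hF : Fintype.card F = q ^ 2) (p : Fin N → F) (hp : Cfsg.hermForm N F q p p = 0) :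
    P q p ≤ Cfsg.SU N F q := (Subgroup.closure_le _).2 fun _ ⟨_, hc, e⟩ => e ▸ el_mem_SU hF hp hc

theorem isotropic_act {g : Matrix.SpecialLinearGroup (Fin N) F} (hg : g ∈ Cfsg.SU N F q) {p : Fin N → F}
    (hp : Cfsg.hermForm N F q p p = 0) :
    Cfsg.hermForm N F q ((g : Matrix (Fin N) (Fin N) F) *ᵥ p) ((g : Matrix (Fin N) (Fin N) F) *ᵥ p) = 0 := by
  rw [mem_SU.1 hg]; exact hp

theorem act_ne (g : Matrix.SpecialLinearGroup (Fin N) F) {p : Fin N → F} (hp : p ≠ 0) :
    (g : Matrix (Fin N) (Fin N) F) *ᵥ p ≠ 0 := fun e => hp (by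
  have := congrArg (fun x => ((g⁻¹ : Matrix.SpecialLinearGroup (Fin N) F) : Matrix (Fin N) (Fin N) F) *ᵥ x) e
  simpa only [Matrix.mulVec_mulVec, ← Matrix.SpecialLinearGroup.coe_mul, inv_mul_cancel,
    Matrix.SpecialLinearGroup.coe_one, Matrix.one_mulVec, Matrix.mulVec_zero] using this)

theorem el_conj {g : Matrix.SpecialLinearGroup (Fin N) F} (hg : g ∈ Cfsg.SU N F q) {p : Fin N → F}
    (hp : Cfsg.hermForm N F q p p = 0) (c : F) :
    g * el q p c * g⁻¹ = el q ((g : Matrix (Fin N) (Fin N) F) *ᵥ p) c := by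
  refine TSL.ext_mulVec fun x => ?_
  rw [el_act (isotropic_act hg hp), Matrix.SpecialLinearGroup.coe_mul, Matrix.SpecialLinearGroup.coe_mul,
    ← Matrix.mulVec_mulVec, ← Matrix.mulVec_mulVec, el_act hp, Matrix.mulVec_add, Matrix.mulVec_smul,
    ← mem_SU.1 hg (_ *ᵥ x) p]
  simp only [Matrix.mulVec_mulVec, ← Matrix.SpecialLinearGroup.coe_mul, mul_inv_cancel,
    Matrix.SpecialLinearGroup.coe_one, Matrix.one_mulVec]

theorem P_conj (hF : Fintype.card F = q ^ 2) {g : Matrix.SpecialLinearGroup (Fin N) F} (hg : g ∈ Cfsg.SU N F q)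
    {p : Fin N → F} (hp : Cfsg.hermForm N F q p p = 0) :
    Cfsg.conjBy (P q p) g = P q ((g : Matrix (Fin N) (Fin N) F) *ᵥ p) := by
  ext x
  rw [Cfsg.conjBy, Subgroup.mem_map, mem_P hF (isotropic_act hg hp)]
  constructor
  · rintro ⟨_, hy, rfl⟩
    obtain ⟨c, hc, rfl⟩ := (mem_P hF hp).1 hy
    exact ⟨c, hc, el_conj hg hp c⟩
  · rintro ⟨c, hc, rfl⟩
    exact ⟨_, (mem_P hF hp).2 ⟨c, hc, rfl⟩, el_conj hg hp c⟩

theorem P_smul (hF : Fintype.card F = q ^ 2) {p : Fin N → F} (hp : Cfsg.hermForm N F q p p = 0) {a : F}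
    (ha : a ≠ 0) : P q (a • p) = P q p := by
  have hp' : Cfsg.hermForm N F q (a • p) (a • p) = 0 := by rw [form_smul_left, form_smul_right, hp]; ring
  have key : ∀ c, el q (a • p) c = el q p (c * (a * a ^ q)) := fun c => TSL.ext_mulVec fun x => by
    rw [el_act hp', el_act hp, form_smul_right, smul_smul]; congr 2; ring
  have hN : (a * a ^ q) ^ q = a * a ^ q := by rw [mul_pow, pow_pow_q hF, mul_comm]
  have hN0 : a * a ^ q ≠ 0 := mul_ne_zero ha (pow_ne_zero _ ha)
  ext g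
  rw [mem_P hF hp', mem_P hF hp]
  constructor
  · rintro ⟨c, hc, rfl⟩
    exact ⟨_, by rw [mul_pow, hN]; linear_combination (a * a ^ q) * hc, key c⟩
  · rintro ⟨c, hc, rfl⟩
    refine ⟨c * (a * a ^ q)⁻¹, ?_, ?_⟩
    · rw [mul_pow, inv_pow, hN]; linear_combination (a * a ^ q)⁻¹ * hc
    · rw [key, inv_mul_cancel_right₀ hN0]

variable {p r : Fin N → F}

theorem form_zero_symm (hF : Fintype.card F = q ^ 2) (h : Cfsg.hermForm N F q p r = 0) :
    Cfsg.hermForm N F q r p = 0 := by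
  rw [← form_comm hF p r, h, zero_pow (by have := two_le hF; omega)]

theorem el_commute (hF : Fintype.card F = q ^ 2) (hp : Cfsg.hermForm N F q p p = 0)
    (hr : Cfsg.hermForm N F q r r = 0) (h : Cfsg.hermForm N F q p r = 0) (c d : F) :
    el q p c * el q r d = el q r d * el q p c :=
  TSL.tv_mul_self_comm (TSL.incid_smul (bar_incid hp) c) (TSL.incid_smul (bar_incid hr) d)
    (TSL.incid_smul (by rw [bar_dot, form_zero_symm hF h]) d) (TSL.incid_smul (by rw [bar_dot, h]) c)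

theorem P_commute (hF : Fintype.card F = q ^ 2) (hp : Cfsg.hermForm N F q p p = 0)
    (hr : Cfsg.hermForm N F q r r = 0) (h : Cfsg.hermForm N F q p r = 0) : ⁅P q p, P q r⁆ = ⊥ := by
  rw [Subgroup.commutator_eq_bot_iff_le_centralizer]
  intro x hx
  obtain ⟨c, -, rfl⟩ := (mem_P hF hp).1 hx
  refine Subgroup.mem_centralizer_iff.2 fun y hy => ?_
  obtain ⟨d, -, rfl⟩ := (mem_P hF hr).1 hy
  exact (el_commute hF hp hr h c d).symm

theorem form_zero_of_commute (hF : Fintype.card F = q ^ 2) (hp : Cfsg.hermForm N F q p p = 0)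
    (hr : Cfsg.hermForm N F q r r = 0) (hp0 : p ≠ 0) {c : F} (hc : c ≠ 0)
    (h : el q r c * el q p c = el q p c * el q r c) : Cfsg.hermForm N F q p r = 0 := by
  have e := congrArg (fun g : Matrix.SpecialLinearGroup (Fin N) F => (g : Matrix (Fin N) (Fin N) F) *ᵥ p) h
  simp only [Matrix.SpecialLinearGroup.coe_mul, ← Matrix.mulVec_mulVec, el_act hp, el_act hr, form_add_left,
    form_smul_left, hp, mul_zero, zero_smul, add_zero, zero_add, left_eq_add, smul_eq_zero, mul_eq_zero] at e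
  simp only [hc, hp0, false_or, or_false] at e
  rcases e with e | e <;> first | exact e | exact form_zero_symm hF e

theorem skew_inv (hF : Fintype.card F = q ^ 2) {c : F} (hc : c ^ q + c = 0) (hc0 : c ≠ 0) :
    (c⁻¹) ^ q + c⁻¹ = 0 := by
  rw [inv_pow, show c ^ q = -c by linear_combination hc, inv_neg, neg_add_cancel]

theorem cond (hF : Fintype.card F = q ^ 2) (hp : Cfsg.hermForm N F q p p = 0)
    (hr : Cfsg.hermForm N F q r r = 0) (hr0 : r ≠ 0) (h : Cfsg.hermForm N F q p r ≠ 0) :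
    Cfsg.RankOneCondition (P q p) (P q r) := by
  intro x hx hx1
  obtain ⟨c, hc, rfl⟩ := (mem_P hF hp).1 hx
  have hc0 : c ≠ 0 := fun e => hx1 (by rw [e, el, zero_smul, TSL.tv_zero])
  set b := Cfsg.hermForm N F q p r with hb
  have hN : (b * b ^ q) ^ q = b * b ^ q := by rw [mul_pow, pow_pow_q hF, mul_comm]
  have hN0 : b * b ^ q ≠ 0 := mul_ne_zero h (pow_ne_zero _ h)
  set d := c⁻¹ * (b * b ^ q)⁻¹ with hd
  have hds : d ^ q + d = 0 := by
    rw [hd, mul_pow, inv_pow (b * b ^ q), hN]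
    linear_combination (b * b ^ q)⁻¹ * skew_inv hF hc hc0
  refine ⟨el q r d, (mem_P hF hr).2 ⟨d, hds, rfl⟩,
    el_ne_one hr hr0 (mul_ne_zero (inv_ne_zero hc0) (inv_ne_zero hN0)), ?_⟩
  rw [el_inv hr, el_inv hp, P_conj hF (el_mem_SU hF hr (neg_skew hF hds)) hp,
    P_conj hF (el_mem_SU hF hp (neg_skew hF hc)) hr, el_act hr, el_act hp, ← hb, ← form_comm hF p r, ← hb]
  have hiso : Cfsg.hermForm N F q (r + (-c * b ^ q) • p) (r + (-c * b ^ q) • p) = 0 := by
    have := isotropic_act (el_mem_SU hF hp (neg_skew hF hc)) hr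
    rwa [el_act hp, ← form_comm hF p r, ← hb] at this
  have hbq : b ^ q ≠ 0 := pow_ne_zero _ h
  rw [show p + (-d * b) • r = (-d * b) • (r + (-c * b ^ q) • p) by
    ext i; simp [hd]; field_simp; ring]
  exact P_smul hF hiso (mul_ne_zero (neg_ne_zero.2 (mul_ne_zero (inv_ne_zero hc0) (inv_ne_zero hN0))) h)

open scoped IsMulCommutative in
theorem rankOne (hF : Fintype.card F = q ^ 2) (hp : Cfsg.hermForm N F q p p = 0)
    (hr : Cfsg.hermForm N F q r r = 0) (hp0 : p ≠ 0) (hr0 : r ≠ 0) (h : Cfsg.hermForm N F q p r ≠ 0) :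
    Cfsg.IsRankOnePair (P q p) (P q r) := by
  haveI := P_comm hF hp
  haveI := P_comm hF hr
  refine ⟨fun e => h ?_, inferInstance, inferInstance, cond hF hp hr hr0 h,
    cond hF hr hp hp0 fun e => h (form_zero_symm hF e)⟩
  obtain ⟨ε, hε, hεs⟩ := exists_skew hF
  obtain ⟨c, -, hc⟩ := (mem_P hF hp).1 (e.symm ▸ (mem_P hF hr).2 ⟨ε, hεs, rfl⟩ : el q r ε ∈ P q p)
  refine form_zero_of_commute hF hp hr hp0 hε ?_
  rw [hc, el, el, TSL.tv_add (bar_incid hp), TSL.tv_add (bar_incid hp), add_comm]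

/-- The fixed field of `x ↦ x ^ q`. -/
abbrev Lf (hF : Fintype.card F = q ^ 2) : Subfield F := RingHom.eqLocusField (conj hF) (RingHom.id F)

theorem mem_Lf (hF : Fintype.card F = q ^ 2) {x : F} : x ∈ Lf hF ↔ x ^ q = x := Iff.rfl

theorem card_Lf (hF : Fintype.card F = q ^ 2) : Nat.card (Lf hF) = q := by
  classical
  have hq := two_le hF
  have e : (Lf hF) ≃ Option {c : F // c ≠ 0 ∧ c ^ q = c} :=
    { toFun := fun x => if h : (x : F) = 0 then none else some ⟨x, h, x.2⟩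
      invFun := fun o => o.elim 0 fun c => ⟨c.1, c.2.2⟩
      left_inv := fun x => by
        by_cases h : (x : F) = 0
        · simp [h]; exact Subtype.ext h.symm
        · simp [h]
      right_inv := fun o => by
        cases o with
        | none => simp
        | some c => simp [c.2.1] }
  rw [Nat.card_congr e, Finite.card_option, card_fixed_units hF]
  omega

theorem pair_over (hF : Fintype.card F = q ^ 2) {L : Type*} [Field L] (ι : L ≃+* Lf hF)
    (hp : Cfsg.hermForm N F q p p = 0) (hr : Cfsg.hermForm N F q r r = 0)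
    (h : Cfsg.hermForm N F q p r ≠ 0) : Cfsg.IsPSL2PairOver L (P q p) (P q r) := by
  obtain ⟨ε, hε, hεs⟩ := exists_skew hF
  set b := Cfsg.hermForm N F q p r with hb
  have hbq : b ^ q ≠ 0 := pow_ne_zero _ h
  have h1 : bar q p ⬝ᵥ (ε • p) = 0 := TSL.incid_smul (bar_incid hp) ε
  have h2 : ((ε * b)⁻¹ • bar q r) ⬝ᵥ ((b ^ q)⁻¹ • r) = 0 := by
    rw [smul_dotProduct, TSL.incid_smul (bar_incid hr), smul_zero]
  have ha : bar q p ⬝ᵥ ((b ^ q)⁻¹ • r) = 1 := by
    rw [dotProduct_smul, bar_dot, ← form_comm hF p r, ← hb, smul_eq_mul, inv_mul_cancel₀ hbq]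
  have hbb : ((ε * b)⁻¹ • bar q r) ⬝ᵥ (ε • p) = 1 := by
    rw [smul_dotProduct, dotProduct_smul, bar_dot, ← hb, smul_eq_mul, smul_eq_mul]
    field_simp
  set φ := TSL.sl2Hom h1 h2 ha hbb with hφ
  set j : L →+* F := (Lf hF).subtype.comp ι.toRingHom with hj
  have hjinj : Function.Injective j := (Lf hF).subtype.injective.comp ι.injective
  have hjq : ∀ x : L, j x ^ q = j x := fun x => (ι x).2
  have hjsurj : ∀ y : F, y ^ q = y → ∃ x, j x = y := fun y hy => ⟨ι.symm ⟨y, hy⟩, by simp [hj]⟩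
  set ψ := φ.comp (Matrix.SpecialLinearGroup.map j) with hψ
  have up : ∀ (g : Matrix.SpecialLinearGroup (Fin 2) L), (g : Matrix (Fin 2) (Fin 2) L) 1 0 = 0 →
      (g : Matrix (Fin 2) (Fin 2) L) 0 0 = 1 → (g : Matrix (Fin 2) (Fin 2) L) 1 1 = 1 →
      ψ g = el q p (ε * j ((g : Matrix (Fin 2) (Fin 2) L) 0 1)) := by
    intro g e1 e2 e3
    refine TSL.ext_mulVec fun x => ?_
    show (φ _ : Matrix (Fin N) (Fin N) F) *ᵥ x = _
    rw [TSL.act_sl2Hom, el_act hp, bar_dot]
    simp only [Matrix.SpecialLinearGroup.map_apply_coe, RingHom.mapMatrix_apply, Matrix.map_apply, e1, e2, e3,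
      map_zero, map_one, sub_self, zero_mul, zero_add, add_zero, zero_smul, smul_smul]
    congr 2; ring
  have low : ∀ (g : Matrix.SpecialLinearGroup (Fin 2) L), (g : Matrix (Fin 2) (Fin 2) L) 0 1 = 0 →
      (g : Matrix (Fin 2) (Fin 2) L) 0 0 = 1 → (g : Matrix (Fin 2) (Fin 2) L) 1 1 = 1 →
      ψ g = el q r (j ((g : Matrix (Fin 2) (Fin 2) L) 1 0) * (ε * b)⁻¹ * (b ^ q)⁻¹) := by
    intro g e1 e2 e3
    refine TSL.ext_mulVec fun x => ?_
    show (φ _ : Matrix (Fin N) (Fin N) F) *ᵥ x = _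
    rw [TSL.act_sl2Hom, el_act hr, smul_dotProduct, bar_dot (p := r)]
    simp only [Matrix.SpecialLinearGroup.map_apply_coe, RingHom.mapMatrix_apply, Matrix.map_apply, e1, e2, e3,
      map_zero, map_one, sub_self, zero_mul, zero_add, add_zero, zero_smul, smul_smul, smul_eq_mul]
    congr 2; ring
  have hK : ((ε * b)⁻¹ * (b ^ q)⁻¹) ^ q = -((ε * b)⁻¹ * (b ^ q)⁻¹) := by
    rw [mul_pow, inv_pow, inv_pow, mul_pow, pow_pow_q hF, show ε ^ q = -ε by linear_combination hεs]
    field_simp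
  have hU : (Cfsg.upperUnipotentSL2 L).map ψ = P q p := by
    refine le_antisymm ?_ fun z hz => ?_
    · rw [Cfsg.upperUnipotentSL2, MonoidHom.map_closure, Subgroup.closure_le]
      rintro _ ⟨g, ⟨e1, e2, e3⟩, rfl⟩
      refine (mem_P hF hp).2 ⟨_, ?_, up g e1 e2 e3⟩
      rw [mul_pow, hjq]; linear_combination j ((g : Matrix (Fin 2) (Fin 2) L) 0 1) * hεs
    · obtain ⟨c, hc, rfl⟩ := (mem_P hF hp).1 hz
      obtain ⟨x, hx⟩ := hjsurj (c * ε⁻¹) (by
        rw [mul_pow, inv_pow, show ε ^ q = -ε by linear_combination hεs, show c ^ q = -c by linear_combination hc,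
          inv_neg, neg_mul_neg])
      refine ⟨⟨!![1, x; 0, 1], by simp [Matrix.det_fin_two]⟩, Subgroup.subset_closure ⟨rfl, rfl, rfl⟩, ?_⟩
      refine (up _ rfl rfl rfl).trans ?_
      show el q p (ε * j x) = _
      rw [hx]; congr 1; field_simp
  have hL : (Cfsg.lowerUnipotentSL2 L).map ψ = P q r := by
    refine le_antisymm ?_ fun z hz => ?_
    · rw [Cfsg.lowerUnipotentSL2, MonoidHom.map_closure, Subgroup.closure_le]
      rintro _ ⟨g, ⟨e1, e2, e3⟩, rfl⟩
      refine (mem_P hF hr).2 ⟨_, ?_, low g e1 e2 e3⟩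
      rw [mul_assoc, mul_pow, hjq, hK]; ring
    · obtain ⟨c, hc, rfl⟩ := (mem_P hF hr).1 hz
      have hcq : c ^ q = -c := by linear_combination hc
      obtain ⟨x, hx⟩ := hjsurj (c * (ε * b) * b ^ q) (by
        rw [mul_pow, mul_pow, mul_pow, pow_pow_q hF, hcq, show ε ^ q = -ε by linear_combination hεs]; ring)
      refine ⟨⟨!![1, 0; x, 1], by simp [Matrix.det_fin_two]⟩, Subgroup.subset_closure ⟨rfl, rfl, rfl⟩, ?_⟩
      refine (low _ rfl rfl rfl).trans ?_
      show el q r (j x * (ε * b)⁻¹ * (b ^ q)⁻¹) = _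
      rw [hx]; congr 1; field_simp
  refine ⟨ψ, ?_, fun g hg => ?_, hU, hL⟩
  · rw [← hU, ← hL, ← Subgroup.map_sup, MonoidHom.range_eq_map]
    congr 1
    symm
    refine CfsgLib.Lie.SLn.eq_top_of_transvection_mem _ fun i k hik c => ?_
    revert i k
    rw [Fin.forall_fin_two]
    refine ⟨?_, ?_⟩ <;> rw [Fin.forall_fin_two] <;> refine ⟨fun hik => ?_, fun hik => ?_⟩
    · exact absurd rfl hik
    · refine Subgroup.mem_sup_left (Subgroup.subset_closure ⟨?_, ?_, ?_⟩) <;>
        simp [Matrix.SpecialLinearGroup.transvection, Matrix.transvection, Matrix.single]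
    · refine Subgroup.mem_sup_right (Subgroup.subset_closure ⟨?_, ?_, ?_⟩) <;>
        simp [Matrix.SpecialLinearGroup.transvection, Matrix.transvection, Matrix.single]
    · exact absurd rfl hik
  · have hg' : φ (Matrix.SpecialLinearGroup.map j g) = 1 := hg
    set g' := Matrix.SpecialLinearGroup.map j g with hgdef
    have hv := TSL.act_sl2Hom h1 h2 ha hbb g' (ε • p)
    have hw := TSL.act_sl2Hom h1 h2 ha hbb g' ((b ^ q)⁻¹ • r)
    rw [← hφ, hg', Matrix.SpecialLinearGroup.coe_one, Matrix.one_mulVec, h1, hbb] at hv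
    rw [← hφ, hg', Matrix.SpecialLinearGroup.coe_one, Matrix.one_mulVec, ha, h2] at hw
    have e1 := congrArg (fun x => ((ε * b)⁻¹ • bar q r) ⬝ᵥ x) hv
    have e2 := congrArg (fun x => bar q p ⬝ᵥ x) hv
    have e3 := congrArg (fun x => ((ε * b)⁻¹ • bar q r) ⬝ᵥ x) hw
    have e4 := congrArg (fun x => bar q p ⬝ᵥ x) hw
    rw [dotProduct_add, dotProduct_add, dotProduct_smul _ _ (ε • p), dotProduct_smul _ _ ((b ^ q)⁻¹ • r)] at e1 e2 e3 e4
    simp only [smul_eq_mul, h1, h2, ha, hbb] at e1 e2 e3 e4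
    have hj' : ∀ a b, (g' : Matrix (Fin 2) (Fin 2) F) a b = j ((g : Matrix (Fin 2) (Fin 2) L) a b) := fun _ _ => rfl
    simp only [hj'] at e1 e2 e3 e4
    have : g = 1 := by
      refine Subtype.ext (Matrix.ext fun a c => hjinj ?_)
      fin_cases a <;> fin_cases c <;> simp [-map_eq_zero]
      · linear_combination -e1
      · linear_combination -e3
      · linear_combination -e2
      · linear_combination -e4
    rw [this]
    exact one_mem _

theorem not_comm_case (hF : Fintype.card F = q ^ 2) (hp : Cfsg.hermForm N F q p p = 0)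
    (hr : Cfsg.hermForm N F q r r = 0) (hp0 : p ≠ 0) (hr0 : r ≠ 0)
    {t : Fin N → F} (ht : Cfsg.hermForm N F q t t = 0) (ht0 : t ≠ 0)
    (e : ⁅P q p, P q r⁆ = P q t)
    (hc : ∀ z ∈ ⁅P q p, P q r⁆, ∀ x ∈ P q p ⊔ P q r, z * x = x * z) : False := by
  obtain ⟨ε, hε, hεs⟩ := exists_skew hF
  have htm : el q t ε ∈ ⁅P q p, P q r⁆ := e ▸ (mem_P hF ht).2 ⟨ε, hεs, rfl⟩
  have h1 : Cfsg.hermForm N F q p t = 0 := form_zero_of_commute hF hp ht hp0 hε
    (hc _ htm _ (Subgroup.mem_sup_left ((mem_P hF hp).2 ⟨ε, hεs, rfl⟩)))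
  have h2 : Cfsg.hermForm N F q r t = 0 := form_zero_of_commute hF hr ht hr0 hε
    (hc _ htm _ (Subgroup.mem_sup_right ((mem_P hF hr).2 ⟨ε, hεs, rfl⟩)))
  by_cases hpr : Cfsg.hermForm N F q p r = 0
  · exact P_ne_bot hF ht ht0 (e.symm.trans (P_commute hF hp hr hpr))
  have hrp : Cfsg.hermForm N F q r p ≠ 0 := fun e => hpr (form_zero_symm hF e)
  have hfix : ∀ x, Cfsg.hermForm N F q x p = 0 → Cfsg.hermForm N F q x r = 0 → Cfsg.hermForm N F q x t = 0 := by
    intro x hxp hxr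
    let Fx : Subgroup (Matrix.SpecialLinearGroup (Fin N) F) :=
      { carrier := {g | (g : Matrix (Fin N) (Fin N) F) *ᵥ x = x}
        one_mem' := Matrix.one_mulVec x
        mul_mem' := fun {a b} ha hb => by
          show ((a * b : Matrix.SpecialLinearGroup (Fin N) F) : Matrix (Fin N) (Fin N) F) *ᵥ x = x
          rw [Matrix.SpecialLinearGroup.coe_mul, ← Matrix.mulVec_mulVec, hb, ha]
        inv_mem' := fun {a} ha => by
          show ((a⁻¹ : Matrix.SpecialLinearGroup (Fin N) F) : Matrix (Fin N) (Fin N) F) *ᵥ x = x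
          conv_lhs => rw [← ha]
          rw [Matrix.mulVec_mulVec, ← Matrix.SpecialLinearGroup.coe_mul, inv_mul_cancel,
            Matrix.SpecialLinearGroup.coe_one, Matrix.one_mulVec] }
    have hle : ∀ w, Cfsg.hermForm N F q w w = 0 → Cfsg.hermForm N F q x w = 0 → P q w ≤ Fx := by
      intro w hw hxw g hg
      obtain ⟨c, -, rfl⟩ := (mem_P hF hw).1 hg
      show _ *ᵥ x = x
      rw [el_act hw, hxw, mul_zero, zero_smul, add_zero]
    have h3 : (el q t ε : Matrix (Fin N) (Fin N) F) *ᵥ x = x :=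
      Subgroup.commutator_le_self Fx (Subgroup.commutator_mono (hle p hp hxp) (hle r hr hxr) htm)
    rw [el_act ht, add_eq_left, smul_eq_zero, mul_eq_zero] at h3
    exact (h3.resolve_right ht0).resolve_left hε
  obtain ⟨s, hs⟩ := TSL.exists_dot_one (bar_ne (q := q) ht0)
  rw [bar_dot] at hs
  set x := s + (-(Cfsg.hermForm N F q s r / Cfsg.hermForm N F q p r)) • p +
    (-(Cfsg.hermForm N F q s p / Cfsg.hermForm N F q r p)) • r with hx
  have hxp : Cfsg.hermForm N F q x p = 0 := by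
    rw [hx, form_add_left, form_add_left, form_smul_left, form_smul_left, hp]
    field_simp; ring
  have hxr : Cfsg.hermForm N F q x r = 0 := by
    rw [hx, form_add_left, form_add_left, form_smul_left, form_smul_left, hr]
    field_simp; ring
  have h4 := hfix x hxp hxr
  rw [hx, form_add_left, form_add_left, form_smul_left, form_smul_left, h1, h2, hs] at h4
  simp at h4

theorem exists_trace (hF : Fintype.card F = q ^ 2) : ∃ ν : F, ν + ν ^ q = 1 := by
  obtain ⟨a, ha⟩ : ∃ a : F, a ^ q ≠ a := by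
    by_contra hall
    push Not at hall
    exact conj_ne_id hF (RingHom.ext fun x => hall x)
  refine ⟨a / (a - a ^ q), ?_⟩
  rw [← conj_apply hF (a / (a - a ^ q)), map_div₀, map_sub, conj_apply, conj_apply, pow_pow_q hF]
  have h1 : a - a ^ q ≠ 0 := sub_ne_zero.2 ha.symm
  have h2 : a ^ q - a ≠ 0 := sub_ne_zero.2 ha
  field_simp
  ring

theorem exists_middle (hF : Fintype.card F = q ^ 2) (hp : Cfsg.hermForm N F q p p = 0)
    (hr : Cfsg.hermForm N F q r r = 0) (hp0 : p ≠ 0) (hr0 : r ≠ 0) (hpr : Cfsg.hermForm N F q p r = 0) :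
    ∃ t, t ≠ 0 ∧ Cfsg.hermForm N F q t t = 0 ∧ Cfsg.hermForm N F q p t ≠ 0 ∧ Cfsg.hermForm N F q t r ≠ 0 := by
  obtain ⟨x, h1, h2⟩ := TSL.exists_both (bar_ne (q := q) hp0) (bar_ne (q := q) hr0)
  rw [bar_dot] at h1 h2
  obtain ⟨ν, hν⟩ := exists_trace hF
  have hpx : Cfsg.hermForm N F q p x ≠ 0 := fun e => h1 (form_zero_symm hF e)
  set w := Cfsg.hermForm N F q x x with hw
  set c := -(ν * w) / Cfsg.hermForm N F q p x with hc
  have hwq : w ^ q = w := form_comm hF x x
  have hcq : c ^ q = -(ν ^ q * w) / Cfsg.hermForm N F q x p := by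
    rw [hc, ← conj_apply hF, map_div₀, map_neg, map_mul, conj_apply, conj_apply, conj_apply, hwq, form_comm hF p x]
  have hiso : Cfsg.hermForm N F q (x + c • p) (x + c • p) = 0 := by
    simp only [form_add_left, form_add_right hF, form_smul_left, form_smul_right, hp, hcq, ← hw]
    rw [hc]
    field_simp
    linear_combination (-(w * Cfsg.hermForm N F q p x * Cfsg.hermForm N F q x p)) * hν
  have hp' : Cfsg.hermForm N F q p (x + c • p) = Cfsg.hermForm N F q p x := by
    rw [form_add_right hF, form_smul_right, hp, mul_zero, add_zero]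
  have hr' : Cfsg.hermForm N F q (x + c • p) r = Cfsg.hermForm N F q x r := by
    rw [form_add_left, form_smul_left, hpr, mul_zero, add_zero]
  refine ⟨x + c • p, fun e => hpx ?_, hiso, by rwa [hp'], by rwa [hr']⟩
  rw [← hp', e, Cfsg.hermForm]
  simp [zero_pow (show q ≠ 0 by have := two_le hF; omega)]

theorem set_eq (hF : Fintype.card F = q ^ 2) (hp : Cfsg.hermForm N F q p p = 0) (hp0 : p ≠ 0) :
    Subgroup.closure {g : Cfsg.SU N F q |
      (∀ v : Fin N → F, ∃ c : F, ((g : Matrix.SpecialLinearGroup (Fin N) F) : Matrix (Fin N) (Fin N) F) *ᵥ v = v + c • p) ∧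
      ∀ v : Fin N → F, Cfsg.hermForm N F q v p = 0 →
        ((g : Matrix.SpecialLinearGroup (Fin N) F) : Matrix (Fin N) (Fin N) F) *ᵥ v = v} =
      (P q p).subgroupOf (Cfsg.SU N F q) := by
  refine le_antisymm ((Subgroup.closure_le _).2 ?_) fun g hg => ?_
  · rintro g ⟨h1, h2⟩
    obtain ⟨x0, hx0⟩ := TSL.exists_dot_one (bar_ne (q := q) hp0)
    rw [bar_dot] at hx0
    obtain ⟨c, hc⟩ := h1 x0
    have hel : (g : Matrix.SpecialLinearGroup (Fin N) F) = el q p c := by
      refine TSL.ext_mulVec fun x => ?_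
      have := h2 (x + (-Cfsg.hermForm N F q x p) • x0) (by rw [form_add_left, form_smul_left, hx0]; ring)
      rw [Matrix.mulVec_add, Matrix.mulVec_smul, hc] at this
      rw [el_act hp]
      ext i
      have hi := congrFun this i
      simp at hi ⊢
      linear_combination hi
    refine (mem_P hF hp).2 ⟨c, ?_, hel⟩
    obtain ⟨x1, hx1⟩ : ∃ x1, x1 = x0 := ⟨x0, rfl⟩
    have hiso := mem_SU.1 g.2 x0 x1
    rw [hel, hx1, el_act hp, form_add_left, form_add_right hF, form_add_right hF, form_smul_left,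
      form_smul_left, form_smul_right, form_smul_right, hp, mul_pow, hx0, one_pow, ← form_comm hF x0 p, hx0,
      one_pow] at hiso
    linear_combination hiso
  · obtain ⟨c, hc, e⟩ := (mem_P hF hp).1 (Subgroup.mem_subgroupOf.1 hg)
    refine Subgroup.subset_closure ⟨fun v => ⟨c * Cfsg.hermForm N F q v p, by rw [e, el_act hp]⟩, fun v hv => ?_⟩
    rw [e, el_act hp, hv, mul_zero, zero_smul, add_zero]

end CfsgLib.Inv.TSU
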