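import Cfsg.Agent.Solv.Basic
import Mathlib.GroupTheory.Sylow
import Mathlib.GroupTheory.Perm.Basic
import Mathlib.Data.Fintype.Perm

/-!
A subgroup whose normalizer permutes three lines with prescribed kernel.
-/

set_option autoImplicit false

namespace CfsgLib.Inv

open scoped Pointwise

variable {G : Type*} [Group G]

/-- `N(U)` permutes the three subgroups `A`, `B`, `C`, with kernel `K`. -/
structure Tri (U K : Subgroup G) where
  A : Subgroup G
  B : Subgroup G
  C : Subgroup G
  hAB : A ≠ B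
  hAC : A ≠ C
  hBC : B ≠ C
  himg : ∀ n ∈ Subgroup.normalizer (U : Set G), ∀ L ∈ ({A, B, C} : Set (Subgroup G)),
    MulAut.conj n • L ∈ ({A, B, C} : Set (Subgroup G))
  hker : ∀ n ∈ Subgroup.normalizer (U : Set G),
    MulAut.conj n • A = A → MulAut.conj n • B = B → MulAut.conj n • C = C → n ∈ K
  hKN : K ≤ Subgroup.normalizer (U : Set G)
  hfix : ∀ n ∈ K, ∀ L ∈ ({A, B, C} : Set (Subgroup G)), MulAut.conj n • L = L

namespace Tri

variable {U K : Subgroup G} (T : Tri U K)

/-- Some element of odd order in the normalizer lies outside the kernel. -/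
def Fused (_T : Tri U K) : Prop :=
  ∃ g ∈ Subgroup.normalizer (U : Set G), Odd (orderOf g) ∧ g ∉ K

theorem lines_finite : ({T.A, T.B, T.C} : Set (Subgroup G)).Finite := Set.toFinite _

theorem card_lines : Nat.card ({T.A, T.B, T.C} : Set (Subgroup G)) = 3 := by
  rw [Nat.card_coe_set_eq, Set.ncard_insert_of_notMem (by simp [T.hAB, T.hAC]),
    Set.ncard_insert_of_notMem (by simp [T.hBC]), Set.ncard_singleton]

/-- The permutation action on the three lines. -/
noncomputable def perm : Subgroup.normalizer (U : Set G) →* Equiv.Perm ({T.A, T.B, T.C} : Set (Subgroup G)) where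
  toFun n :=
    { toFun := fun L => ⟨MulAut.conj (n : G) • L.1, T.himg n n.2 L.1 L.2⟩
      invFun := fun L => ⟨MulAut.conj (n : G)⁻¹ • L.1, T.himg _ (inv_mem n.2) L.1 L.2⟩
      left_inv := fun L => Subtype.ext (by
        show MulAut.conj (n : G)⁻¹ • (MulAut.conj (n : G) • L.1) = L.1
        rw [← mul_smul, ← map_mul, inv_mul_cancel, map_one, one_smul])
      right_inv := fun L => Subtype.ext (by
        show MulAut.conj (n : G) • (MulAut.conj (n : G)⁻¹ • L.1) = L.1
        rw [← mul_smul, ← map_mul, mul_inv_cancel, map_one, one_smul]) }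
  map_one' := by
    apply Equiv.ext
    intro L
    exact Subtype.ext (by show MulAut.conj (1 : G) • L.1 = L.1; rw [map_one, one_smul])
  map_mul' a b := by
    apply Equiv.ext
    intro L
    exact Subtype.ext (by
      show MulAut.conj ((a : G) * b) • L.1 = MulAut.conj (a : G) • (MulAut.conj (b : G) • L.1)
      rw [map_mul, mul_smul])

theorem perm_eq_one_iff {n : Subgroup.normalizer (U : Set G)} :
    T.perm n = 1 ↔ ∀ L ∈ ({T.A, T.B, T.C} : Set (Subgroup G)), MulAut.conj (n : G) • L = L := by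
  constructor
  · intro h L hL
    exact congrArg Subtype.val (Equiv.ext_iff.1 h ⟨L, hL⟩)
  · intro h
    exact Equiv.ext fun L => Subtype.ext (h L.1 L.2)

theorem ker_perm : T.perm.ker = K.subgroupOf (Subgroup.normalizer (U : Set G)) := by
  ext n
  rw [MonoidHom.mem_ker, T.perm_eq_one_iff, Subgroup.mem_subgroupOf]
  constructor
  · intro h
    exact T.hker n n.2 (h _ (by simp)) (h _ (by simp)) (h _ (by simp))
  · exact fun h => T.hfix n h

include T in
theorem normal_subgroupOf : (K.subgroupOf (Subgroup.normalizer (U : Set G))).Normal :=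
  T.ker_perm ▸ inferInstance

variable [Finite G]

include T in
theorem index_dvd_six : K.relIndex (Subgroup.normalizer (U : Set G)) ∣ 6 := by
  show (K.subgroupOf _).index ∣ 6
  rw [← T.ker_perm, Subgroup.index_ker]
  refine (Subgroup.card_subgroup_dvd_card _).trans (dvd_of_eq ?_)
  rw [Nat.card_perm, T.card_lines]
  rfl

theorem three_dvd_iff : 3 ∣ K.relIndex (Subgroup.normalizer (U : Set G)) ↔ T.Fused := by
  set N := Subgroup.normalizer (U : Set G) with hN
  haveI : (K.subgroupOf N).Normal := T.normal_subgroupOf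
  show 3 ∣ (K.subgroupOf N).index ↔ _
  haveI : Fact (Nat.Prime 3) := ⟨Nat.prime_three⟩
  constructor
  · intro h
    obtain ⟨q, hq⟩ := exists_prime_orderOf_dvd_card' (G := N ⧸ K.subgroupOf N) 3 h
    obtain ⟨n, rfl⟩ := QuotientGroup.mk_surjective q
    refine ⟨((n ^ (2 ^ (orderOf n).factorization 2) : N) : G), Subtype.mem _, ?_, ?_⟩
    · rw [Subgroup.orderOf_coe, orderOf_pow_of_dvd (pow_ne_zero _ two_ne_zero) (Nat.ordProj_dvd _ _)]
      exact Nat.coprime_two_left.1 (Nat.coprime_ordCompl Nat.prime_two (orderOf_pos n).ne')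
    · intro hmem
      have h1 : (QuotientGroup.mk n : N ⧸ K.subgroupOf N) ^ (2 ^ (orderOf n).factorization 2) = 1 := by
        rw [← QuotientGroup.mk_pow, QuotientGroup.eq_one_iff]
        exact Subgroup.mem_subgroupOf.2 hmem
      have h2 := orderOf_dvd_of_pow_eq_one h1
      rw [hq] at h2
      have := Nat.prime_three.dvd_of_dvd_pow h2
      omega
  · rintro ⟨g, hg, hodd, hgc⟩
    have h1 : (QuotientGroup.mk (⟨g, hg⟩ : N) : N ⧸ K.subgroupOf N) ≠ 1 := fun h =>
      hgc (Subgroup.mem_subgroupOf.1 ((QuotientGroup.eq_one_iff (N := K.subgroupOf N) (⟨g, hg⟩ : N)).1 h))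
    set o := orderOf (QuotientGroup.mk (⟨g, hg⟩ : N) : N ⧸ K.subgroupOf N) with ho
    have ho1 : o ≠ 1 := fun h => h1 (orderOf_eq_one_iff.1 h)
    have hd : o ∣ (K.subgroupOf N).index := orderOf_dvd_natCard _
    have hoo : o ∣ orderOf g := by
      have := orderOf_map_dvd (QuotientGroup.mk' (K.subgroupOf N)) (⟨g, hg⟩ : N)
      rwa [Subgroup.orderOf_mk] at this
    have h6 : o ∣ 6 := hd.trans T.index_dvd_six
    have hodd' : Odd o := hodd.of_dvd_nat hoo
    have : o = 3 := by
      have := Nat.le_of_dvd (by norm_num) h6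
      interval_cases o
      all_goals first
        | omega
        | (exfalso; revert hodd' h6; decide)
    rwa [this] at hd

variable {s : G}

theorem fix_of_not_fused (hs : s ∈ Subgroup.normalizer (U : Set G)) (hsK : s ∉ K)
    (hsA : MulAut.conj s • T.A = T.A) (hnf : ¬ T.Fused) {n : G}
    (hn : n ∈ Subgroup.normalizer (U : Set G)) : MulAut.conj n • T.A = T.A := by
  set N := Subgroup.normalizer (U : Set G) with hN
  have hidx : (K.subgroupOf N).index ∣ 2 :=
    ((Nat.prime_three.coprime_iff_not_dvd.2 fun h => hnf (T.three_dvd_iff.1 h)).symm).dvd_of_dvd_mul_right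
      (T.index_dvd_six : (K.subgroupOf N).index ∣ 2 * 3)
  by_cases hnK : n ∈ K
  · exact T.hfix n hnK _ (by simp)
  have hidx2 : (K.subgroupOf N).index = 2 :=
    (Nat.dvd_prime Nat.prime_two).1 hidx |>.resolve_left fun h =>
      hnK (Subgroup.mem_subgroupOf.1 ((Subgroup.index_eq_one.1 h).ge (Subgroup.mem_top (⟨n, hn⟩ : N))))
  have hmem : (⟨n, hn⟩ : N) * ⟨s, hs⟩ ∈ K.subgroupOf N := by
    rw [Subgroup.mul_mem_iff_of_index_two hidx2]
    exact iff_of_false (fun h => hnK (Subgroup.mem_subgroupOf.1 h)) (fun h => hsK (Subgroup.mem_subgroupOf.1 h))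
  have h := T.hfix _ (Subgroup.mem_subgroupOf.1 hmem) T.A (by simp)
  rw [Subgroup.coe_mul, map_mul, mul_smul, hsA] at h
  exact h

/-- An odd element outside the kernel permutes the lines cyclically. -/
theorem cycle {g : G} (hg : g ∈ Subgroup.normalizer (U : Set G)) (hodd : Odd (orderOf g)) (hgK : g ∉ K) :
    (MulAut.conj g • T.A = T.B ∧ MulAut.conj g • T.B = T.C ∧ MulAut.conj g • T.C = T.A) ∨
    (MulAut.conj g • T.A = T.C ∧ MulAut.conj g • T.C = T.B ∧ MulAut.conj g • T.B = T.A) := by
  obtain ⟨r, hr⟩ := hodd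
  have hsq : ∀ L : Subgroup G, MulAut.conj g • (MulAut.conj g • L) = L → MulAut.conj g • L = L := by
    intro L hL
    have h2 : MulAut.conj (g ^ 2) • L = L := by rw [pow_two, map_mul, mul_smul, hL]
    have hfix : ∀ k : ℕ, MulAut.conj ((g ^ 2) ^ k) • L = L := by
      intro k
      induction k with
      | zero => rw [pow_zero, map_one, one_smul]
      | succ k ih => rw [pow_succ', map_mul, mul_smul, ih, h2]
    have e : g = (g ^ 2) ^ (r + 1) := by
      rw [← pow_mul, show 2 * (r + 1) = orderOf g + 1 by omega, pow_succ, pow_orderOf_eq_one, one_mul]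
    rw [e]
    exact hfix _
  have inj : ∀ L M : Subgroup G, MulAut.conj g • L = MulAut.conj g • M → L = M :=
    fun L M h => MulAction.injective (MulAut.conj g) h
  have cases3 : ∀ L ∈ ({T.A, T.B, T.C} : Set (Subgroup G)),
      MulAut.conj g • L = T.A ∨ MulAut.conj g • L = T.B ∨ MulAut.conj g • L = T.C := fun L hL => by
    simpa using T.himg g hg L hL
  have hswap : ∀ L ∈ ({T.A, T.B, T.C} : Set (Subgroup G)), ∀ M ∈ ({T.A, T.B, T.C} : Set (Subgroup G)),
      MulAut.conj g • L = M → MulAut.conj g • M = L → L = M := fun L _ M _ h1 h2 => by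
    have := hsq L (by rw [h1, h2])
    rw [h1] at this
    exact this.symm
  rcases cases3 T.A (by simp) with hA | hA | hA
  · exfalso
    rcases cases3 T.B (by simp) with hB | hB | hB
    · exact T.hAB (inj _ _ (hA.trans hB.symm))
    · rcases cases3 T.C (by simp) with hC | hC | hC
      · exact T.hAC (inj _ _ (hA.trans hC.symm))
      · exact T.hBC (inj _ _ (hB.trans hC.symm))
      · exact hgK (T.hker g hg hA hB hC)
    · rcases cases3 T.C (by simp) with hC | hC | hC
      · exact T.hAC (inj _ _ (hA.trans hC.symm))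
      · exact T.hBC (hswap _ (by simp) _ (by simp) hB hC)
      · exact T.hBC (inj _ _ (hB.trans hC.symm))
  · rcases cases3 T.B (by simp) with hB | hB | hB
    · exact absurd (hswap _ (by simp) _ (by simp) hA hB) T.hAB
    · exact absurd (inj _ _ (hA.trans hB.symm)) T.hAB
    · rcases cases3 T.C (by simp) with hC | hC | hC
      · exact Or.inl ⟨hA, hB, hC⟩
      · exact absurd (inj _ _ (hA.trans hC.symm)) T.hAC
      · exact absurd (inj _ _ (hB.trans hC.symm)) T.hBC
  · rcases cases3 T.C (by simp) with hC | hC | hC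
    · exact absurd (hswap _ (by simp) _ (by simp) hA hC) T.hAC
    · rcases cases3 T.B (by simp) with hB | hB | hB
      · exact Or.inr ⟨hA, hC, hB⟩
      · exact absurd (inj _ _ (hB.trans hC.symm)) T.hBC
      · exact absurd (inj _ _ (hA.trans hB.symm)) T.hAB
    · exact absurd (inj _ _ (hA.trans hC.symm)) T.hAC

/-- A subgroup normalized by a fusing element contains all three lines once it contains one. -/
theorem all_le {g : G} (hg : g ∈ Subgroup.normalizer (U : Set G)) (hodd : Odd (orderOf g)) (hgK : g ∉ K)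
    {L : Subgroup G} (hL : ∀ x ∈ L, g * x * g⁻¹ ∈ L) (h : T.A ≤ L ∨ T.B ≤ L ∨ T.C ≤ L) :
    T.A ≤ L ∧ T.B ≤ L ∧ T.C ≤ L := by
  have step : ∀ M N : Subgroup G, MulAut.conj g • M = N → M ≤ L → N ≤ L := by
    intro M N h hM x hx
    rw [← h, CfsgLib.Solv.mem_conj_smul_iff] at hx
    have := hL _ (hM hx)
    simpa [mul_assoc] using this
  rcases T.cycle hg hodd hgK with ⟨h1, h2, h3⟩ | ⟨h1, h2, h3⟩ <;> rcases h with h | h | h
  · exact ⟨h, step _ _ h1 h, step _ _ h2 (step _ _ h1 h)⟩
  · exact ⟨step _ _ h3 (step _ _ h2 h), h, step _ _ h2 h⟩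
  · exact ⟨step _ _ h3 h, step _ _ h1 (step _ _ h3 h), h⟩
  · exact ⟨h, step _ _ h2 (step _ _ h1 h), step _ _ h1 h⟩
  · exact ⟨step _ _ h3 h, h, step _ _ h1 (step _ _ h3 h)⟩
  · exact ⟨step _ _ h3 (step _ _ h2 h), step _ _ h2 h, h⟩

end Tri

end CfsgLib.Inv
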