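import Cfsg.Agent.Inv.TriFusion
import Mathlib.GroupTheory.SpecificGroups.KleinFour

/-!
Four groups and quaternion groups of order eight given by a pair of generators.
-/

set_option autoImplicit false

namespace CfsgLib.Inv

open scoped Pointwise
open CfsgLib.Solv

variable {G : Type*} [Group G]

omit [Group G] in
theorem mem_triple {L A B C : G} : L ∈ ({A, B, C} : Set G) ↔ L = A ∨ L = B ∨ L = C := Iff.rfl

theorem conj_smul_zpowers (n e : G) :
    MulAut.conj n • Subgroup.zpowers e = Subgroup.zpowers (n * e * n⁻¹) := by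
  rw [conj_smul_eq_map, MonoidHom.map_zpowers]
  rfl

theorem conj_smul_eq_self_iff {n : G} {L : Subgroup G} :
    MulAut.conj n • L = L ↔ n ∈ Subgroup.normalizer (L : Set G) := by
  constructor
  · intro h
    refine Subgroup.mem_normalizer_iff.2 fun x => ?_
    conv_rhs => rw [← h, mem_conj_smul_iff]
    simp [mul_assoc]
  · intro h
    ext x
    rw [mem_conj_smul_iff]
    exact ((Subgroup.mem_normalizer_iff''.1 h) x).symm

/-- Generators of a subgroup `⟨c⟩ ⟨b⟩` with `b` inverting `c` and `b ^ 2 ∈ ⟨c⟩`. -/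
structure InvPair (c b : G) : Prop where
  inv : b * c * b⁻¹ = c⁻¹
  sq : b * b ∈ Subgroup.zpowers c

namespace InvPair

variable {c b : G} (h : InvPair c b)

include h in
theorem flip (i : ℤ) : b * c ^ i = c ^ (-i) * b := by
  have : b * c ^ i * b⁻¹ = c ^ (-i) := by rw [← conj_zpow, h.inv, inv_zpow, zpow_neg]
  rw [← this, inv_mul_cancel_right]

/-- The subgroup `⟨c⟩ ∪ ⟨c⟩ b`. -/
def sub (h : InvPair c b) : Subgroup G where
  carrier := {g | ∃ i : ℤ, g = c ^ i ∨ g = c ^ i * b}
  one_mem' := ⟨0, Or.inl (by simp)⟩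
  mul_mem' := by
    obtain ⟨m, hm⟩ := Subgroup.mem_zpowers_iff.1 h.sq
    rintro x y ⟨i, rfl | rfl⟩ ⟨j, rfl | rfl⟩
    · exact ⟨i + j, Or.inl (zpow_add c i j).symm⟩
    · exact ⟨i + j, Or.inr (by rw [zpow_add, mul_assoc])⟩
    · exact ⟨i - j, Or.inr (by rw [mul_assoc, h.flip, ← mul_assoc, ← zpow_add, sub_eq_add_neg])⟩
    · refine ⟨i - j + m, Or.inl ?_⟩
      calc c ^ i * b * (c ^ j * b) = c ^ i * (b * c ^ j) * b := by group
        _ = c ^ i * c ^ (-j) * (b * b) := by rw [h.flip]; group
        _ = c ^ (i - j + m) := by rw [← hm, ← zpow_add, ← zpow_add, sub_eq_add_neg]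
  inv_mem' := by
    obtain ⟨m, hm⟩ := Subgroup.mem_zpowers_iff.1 h.sq
    rintro x ⟨i, rfl | rfl⟩
    · exact ⟨-i, Or.inl (zpow_neg c i).symm⟩
    · refine ⟨i + m, Or.inr (inv_eq_of_mul_eq_one_right ?_)⟩
      calc c ^ i * b * (c ^ (i + m) * b) = c ^ i * (b * c ^ (i + m)) * b := by group
        _ = c ^ i * c ^ (-(i + m)) * (b * b) := by rw [h.flip]; group
        _ = 1 := by rw [← hm, ← zpow_add, ← zpow_add]; simp

theorem left_mem : c ∈ h.sub := ⟨1, Or.inl (zpow_one c).symm⟩

theorem right_mem : b ∈ h.sub := ⟨0, Or.inr (by simp)⟩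

theorem prod_mem : c * b ∈ h.sub := mul_mem h.left_mem h.right_mem

theorem sub_le {H : Subgroup G} (hc : c ∈ H) (hb : b ∈ H) : h.sub ≤ H := by
  rintro x ⟨i, rfl | rfl⟩
  · exact zpow_mem hc i
  · exact mul_mem (zpow_mem hc i) hb

end InvPair

/-! ### Four groups -/

variable {c b : G}

theorem invPair_of_commute (hc : c * c = 1) (hb : b * b = 1) (hcb : Commute c b) : InvPair c b :=
  ⟨by rw [← hcb.eq, mul_inv_cancel_right, inv_eq_of_mul_eq_one_right hc], by rw [hb]; exact one_mem _⟩

theorem four_cases (hc : c * c = 1) {h : InvPair c b} {g : G} (hg : g ∈ h.sub) :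
    g = 1 ∨ g = c ∨ g = b ∨ g = c * b := by
  have hp : ∀ i : ℤ, c ^ i = 1 ∨ c ^ i = c := by
    intro i
    rcases Int.even_or_odd i with ⟨r, rfl⟩ | ⟨r, rfl⟩
    · left; rw [← two_mul, zpow_mul, zpow_two, hc, one_zpow]
    · right; rw [zpow_add_one, zpow_mul, zpow_two, hc, one_zpow, one_mul]
  obtain ⟨i, rfl | rfl⟩ := hg <;> rcases hp i with e | e <;> rw [e] <;> simp

/-- The action of the normalizer of a four group on its three lines. -/
noncomputable def triKlein (hc : c * c = 1) (hb : b * b = 1) (hcb : Commute c b) (hc1 : c ≠ 1)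
    (hb1 : b ≠ 1) (hne : c ≠ b) :
    Tri (invPair_of_commute hc hb hcb).sub
      (Subgroup.centralizer ((invPair_of_commute hc hb hcb).sub : Set G)) :=
  let h := invPair_of_commute hc hb hcb
  have hci : c⁻¹ = c := inv_eq_of_mul_eq_one_right hc
  have hd : (c * b) * (c * b) = 1 := by rw [hcb.symm.mul_mul_mul_comm, hc, hb, one_mul]
  have hd1 : c * b ≠ 1 := fun e => hne (by rw [eq_inv_of_mul_eq_one_right e, hci])
  have line : ∀ u v : G, u * u = 1 → v * v = 1 → u ≠ 1 → v ≠ 1 →
      Subgroup.zpowers u = Subgroup.zpowers v → u = v := by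
    intro u v _ hv hu1 _ heq
    obtain ⟨i, hi⟩ := Subgroup.mem_zpowers_iff.1 (heq ▸ Subgroup.mem_zpowers u : u ∈ Subgroup.zpowers v)
    rcases Int.even_or_odd i with ⟨r, rfl⟩ | ⟨r, rfl⟩
    · rw [← two_mul, zpow_mul, zpow_two, hv, one_zpow] at hi
      exact absurd hi.symm hu1
    · rw [zpow_add_one, zpow_mul, zpow_two, hv, one_zpow, one_mul] at hi
      exact hi.symm
  { A := Subgroup.zpowers c
    B := Subgroup.zpowers b
    C := Subgroup.zpowers (c * b)
    hAB := fun e => hne (line c b hc hb hc1 hb1 e)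
    hAC := fun e => hb1 (mul_eq_left.1 (line c (c * b) hc hd hc1 hd1 e).symm)
    hBC := fun e => hc1 (mul_eq_right.1 (line b (c * b) hb hd hb1 hd1 e).symm)
    himg := by
      intro n hn L hL
      have key : ∀ u ∈ h.sub, u ≠ 1 → MulAut.conj n • Subgroup.zpowers u ∈
          ({Subgroup.zpowers c, Subgroup.zpowers b, Subgroup.zpowers (c * b)} : Set (Subgroup G)) := by
        intro u hu hu1
        rw [conj_smul_zpowers, mem_triple]
        rcases four_cases hc ((Subgroup.mem_normalizer_iff.1 hn u).1 hu : n * u * n⁻¹ ∈ h.sub) with e | e | e | e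
        · exact absurd (conj_eq_one_iff.1 e) hu1
        · exact Or.inl (by rw [e])
        · exact Or.inr (Or.inl (by rw [e]))
        · exact Or.inr (Or.inr (by rw [e]))
      rcases mem_triple.1 hL with rfl | rfl | rfl
      · exact key c h.left_mem hc1
      · exact key b h.right_mem hb1
      · exact key (c * b) h.prod_mem hd1
    hker := by
      intro n hn hA hB _
      rw [conj_smul_zpowers] at hA hB
      have hnc := line _ c (by rw [conj_mul, hc, mul_one, mul_inv_cancel]) hc
        (fun e => hc1 (conj_eq_one_iff.1 e)) hc1 hA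
      have hnb := line _ b (by rw [conj_mul, hb, mul_one, mul_inv_cancel]) hb
        (fun e => hb1 (conj_eq_one_iff.1 e)) hb1 hB
      refine Subgroup.mem_centralizer_iff.2 fun u hu => ?_
      have hle : h.sub ≤ Subgroup.centralizer ({n} : Set G) :=
        h.sub_le (Subgroup.mem_centralizer_singleton_iff.2 (mul_inv_eq_iff_eq_mul.1 hnc).symm)
          (Subgroup.mem_centralizer_singleton_iff.2 (mul_inv_eq_iff_eq_mul.1 hnb).symm)
      exact Subgroup.mem_centralizer_singleton_iff.1 (hle hu)
    hKN := Subgroup.centralizer_le_normalizer _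
    hfix := by
      intro n hn L hL
      rw [conj_smul_eq_self_iff]
      refine (Subgroup.centralizer_le_normalizer _) (Subgroup.centralizer_le (SetLike.coe_subset_coe.2 ?_) hn)
      rcases mem_triple.1 hL with rfl | rfl | rfl
      · exact Subgroup.zpowers_le.2 h.left_mem
      · exact Subgroup.zpowers_le.2 h.right_mem
      · exact Subgroup.zpowers_le.2 h.prod_mem }

/-! ### Quaternion groups -/

/-- A pair generating a quaternion group of order eight. -/
structure QuatPair (c b : G) : Prop extends InvPair c b where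
  c_order : orderOf c = 4
  b_sq : b * b = c * c
  b_not_mem : b ∉ Subgroup.zpowers c

namespace QuatPair

variable (h : QuatPair c b)

include h in
theorem c4 : c ^ (4 : ℤ) = 1 := by
  have := pow_orderOf_eq_one c
  rw [h.c_order, ← zpow_natCast] at this
  exact this

include h in
theorem cc_ne : c * c ≠ 1 := by
  intro e
  have := orderOf_dvd_of_pow_eq_one (show c ^ 2 = 1 by rw [pow_two, e])
  rw [h.c_order] at this
  omega

include h in
theorem pow_cases (i : ℤ) : c ^ i = 1 ∨ c ^ i = c ∨ c ^ i = c * c ∨ c ^ i = c⁻¹ := by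
  rw [← zpow_mod_orderOf, h.c_order]
  have h1 := Int.emod_nonneg i (show ((4 : ℕ) : ℤ) ≠ 0 by norm_num)
  have h2 := Int.emod_lt_of_pos i (show (0 : ℤ) < ((4 : ℕ) : ℤ) by norm_num)
  generalize i % ((4 : ℕ) : ℤ) = r at h1 h2 ⊢
  push_cast at h2
  interval_cases r
  · simp
  · simp
  · exact Or.inr (Or.inr (Or.inl (zpow_two c)))
  · refine Or.inr (Or.inr (Or.inr ?_))
    rw [eq_inv_iff_mul_eq_one, ← zpow_add_one]
    exact h.c4

include h in
theorem cinv_eq : c⁻¹ = c * c * c := by
  refine inv_eq_of_mul_eq_one_right ?_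
  have := h.c4
  rw [show (4 : ℤ) = 1 + 1 + 1 + 1 by norm_num, zpow_add, zpow_add, zpow_add, zpow_one] at this
  rw [← this]; group

include h in
theorem b_inv : b⁻¹ = c * c * b := by
  refine inv_eq_of_mul_eq_one_left ?_
  rw [mul_assoc, h.b_sq, ← mul_assoc, ← h.cinv_eq, inv_mul_cancel]

include h in
theorem prod_sq : c * b * (c * b) = c * c := by
  calc c * b * (c * b) = c * (b * c * b⁻¹) * (b * b) := by group
    _ = c * c := by rw [h.inv, h.b_sq, mul_inv_cancel, one_mul]

include h in
theorem prod_inv : (c * b)⁻¹ = c⁻¹ * b := by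
  refine inv_eq_of_mul_eq_one_left ?_
  calc c⁻¹ * b * (c * b) = c⁻¹ * (b * c * b⁻¹) * (b * b) := by group
    _ = c⁻¹ * c⁻¹ * (c * c) := by rw [h.inv, h.b_sq]
    _ = 1 := by group

include h in
theorem cases8 {g : G} (hg : g ∈ h.sub) : g = 1 ∨ g = c * c ∨
    g = c ∨ g = c⁻¹ ∨ g = b ∨ g = b⁻¹ ∨ g = c * b ∨ g = (c * b)⁻¹ := by
  obtain ⟨i, rfl | rfl⟩ := hg <;> rcases h.pow_cases i with e | e | e | e <;> rw [e]
  · simp
  · simp
  · simp
  · simp
  · simp
  · simp
  · rw [← h.b_inv]; simp
  · rw [h.prod_inv]; simp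

include h in
theorem card_sub [Finite G] : Nat.card h.sub = 8 := by
  have hset : (h.sub : Set G) = (Subgroup.zpowers c : Set G) ∪ (fun x => x * b) '' (Subgroup.zpowers c : Set G) := by
    ext g
    constructor
    · rintro ⟨i, rfl | rfl⟩
      · exact Or.inl (Subgroup.zpow_mem_zpowers c i)
      · exact Or.inr ⟨c ^ i, Subgroup.zpow_mem_zpowers c i, rfl⟩
    · rintro (⟨i, rfl⟩ | ⟨_, ⟨i, rfl⟩, rfl⟩)
      · exact ⟨i, Or.inl rfl⟩
      · exact ⟨i, Or.inr rfl⟩
  have hd : Disjoint (Subgroup.zpowers c : Set G) ((fun x => x * b) '' (Subgroup.zpowers c : Set G)) := by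
    rw [Set.disjoint_left]
    rintro g hg ⟨u, hu, rfl⟩
    exact h.b_not_mem (by simpa using mul_mem (inv_mem hu) hg)
  show Nat.card (h.sub : Set G) = 8
  rw [Nat.card_coe_set_eq, hset, Set.ncard_union_eq hd, Set.ncard_image_of_injective _ (mul_left_injective b),
    ← Nat.card_coe_set_eq]
  simp only [SetLike.coe_sort_coe, Nat.card_zpowers, h.c_order]

/-- The action of the normalizer of a quaternion group of order 8 on its three cyclic subgroups of order 4. -/
noncomputable def tri :
    Tri h.sub (h.sub ⊔ Subgroup.centralizer (h.sub : Set G)) :=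
  have hbne : b ≠ 1 := fun e => h.b_not_mem (e ▸ one_mem _)
  have hbb : b * b ≠ 1 := by rw [h.b_sq]; exact h.cc_ne
  have hdd : c * b * (c * b) ≠ 1 := by rw [h.prod_sq]; exact h.cc_ne
  have hcb_not : c * b ∉ Subgroup.zpowers c := fun e =>
    h.b_not_mem (by simpa using mul_mem (inv_mem (Subgroup.mem_zpowers c)) e)
  have hb4 : ∀ x ∈ Subgroup.zpowers b, x ∈ Subgroup.zpowers c ∨ x = b ∨ x = b⁻¹ := by
    intro x hx
    obtain ⟨i, rfl⟩ := Subgroup.mem_zpowers_iff.1 hx
    have h2 : b * b ∈ Subgroup.zpowers c := h.sq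
    rcases Int.even_or_odd i with ⟨r, rfl⟩ | ⟨r, rfl⟩
    · left; rw [← two_mul, zpow_mul, zpow_two]; exact zpow_mem h2 r
    · have h4 : (b * b) * (b * b) = 1 := by
        rw [h.b_sq]
        calc c * c * (c * c) = c * c * c * c := by group
          _ = 1 := by rw [← h.cinv_eq, inv_mul_cancel]
      rcases Int.even_or_odd r with ⟨q, rfl⟩ | ⟨q, rfl⟩
      · right; left
        rw [zpow_add_one, zpow_mul, ← two_mul, zpow_mul, zpow_two, zpow_two, h4, one_zpow, one_mul]
      · right; right
        rw [show 2 * (2 * q + 1) + 1 = 2 * 2 * q + 3 by ring, zpow_add, zpow_mul, zpow_mul, zpow_two, zpow_two, h4,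
          one_zpow, one_mul, eq_inv_iff_mul_eq_one, ← zpow_add_one, show (3 : ℤ) + 1 = 2 * 2 by norm_num,
          zpow_mul, zpow_two, zpow_two, h4]
  { A := Subgroup.zpowers c
    B := Subgroup.zpowers b
    C := Subgroup.zpowers (c * b)
    hAB := fun e => h.b_not_mem (e ▸ Subgroup.mem_zpowers b)
    hAC := fun e => hcb_not (e ▸ Subgroup.mem_zpowers (c * b))
    hBC := fun e => by
      rcases hb4 (c * b) (e ▸ Subgroup.mem_zpowers (c * b)) with h1 | h1 | h1
      · exact hcb_not h1
      · exact h.cc_ne (by rw [mul_eq_right.1 h1, one_mul])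
      · refine h.cc_ne ?_
        have h2 : c = (c * c) := by
          calc c = (c * b) * b⁻¹ := by group
            _ = b⁻¹ * b⁻¹ := by rw [h1]
            _ = (b * b)⁻¹ := by group
            _ = (c * c)⁻¹ := by rw [h.b_sq]
            _ = c * c := inv_eq_of_mul_eq_one_right (by
              calc c * c * (c * c) = c * c * c * c := by group
                _ = 1 := by rw [← h.cinv_eq, inv_mul_cancel])
        rw [← h2]
        exact mul_eq_left.1 h2.symm
    himg := by
      intro n hn L hL
      have key : ∀ u ∈ h.sub, u * u ≠ 1 → MulAut.conj n • Subgroup.zpowers u ∈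
          ({Subgroup.zpowers c, Subgroup.zpowers b, Subgroup.zpowers (c * b)} : Set (Subgroup G)) := by
        intro u hu hu1
        rw [conj_smul_zpowers, mem_triple]
        have hsq : ∀ v : G, n * u * n⁻¹ = v → v * v ≠ 1 := by
          intro v hv e
          rw [← hv, conj_mul, conj_eq_one_iff] at e
          exact hu1 e
        have hc4 : c * c * (c * c) = 1 := by
          calc c * c * (c * c) = c * c * c * c := by group
            _ = 1 := by rw [← h.cinv_eq, inv_mul_cancel]
        rcases h.cases8 ((Subgroup.mem_normalizer_iff.1 hn u).1 hu : n * u * n⁻¹ ∈ h.sub) with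
          e | e | e | e | e | e | e | e
        · exact absurd (one_mul 1) (hsq 1 e)
        · exact absurd hc4 (hsq _ e)
        · exact Or.inl (by rw [e])
        · exact Or.inl (by rw [e, Subgroup.zpowers_inv])
        · exact Or.inr (Or.inl (by rw [e]))
        · exact Or.inr (Or.inl (by rw [e, Subgroup.zpowers_inv]))
        · exact Or.inr (Or.inr (by rw [e]))
        · exact Or.inr (Or.inr (by rw [e, Subgroup.zpowers_inv]))
      rcases mem_triple.1 hL with rfl | rfl | rfl
      · exact key c h.left_mem h.cc_ne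
      · exact key b h.right_mem hbb
      · exact key (c * b) h.prod_mem hdd
    hker := by
      intro n hn hA hB _
      rw [conj_smul_zpowers] at hA hB
      have hc' : n * c * n⁻¹ = c ∨ n * c * n⁻¹ = c⁻¹ := by
        obtain ⟨i, hi⟩ := Subgroup.mem_zpowers_iff.1 (hA ▸ Subgroup.mem_zpowers (n * c * n⁻¹) : n * c * n⁻¹ ∈ Subgroup.zpowers c)
        have hne : n * c * n⁻¹ * (n * c * n⁻¹) ≠ 1 := by
          rw [conj_mul]; exact fun e => h.cc_ne (conj_eq_one_iff.1 e)
        rcases h.pow_cases i with e | e | e | e <;> rw [hi] at e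
        · exact absurd (by rw [e, one_mul]) hne
        · exact Or.inl e
        · refine absurd ?_ hne
          rw [e]
          calc c * c * (c * c) = c * c * c * c := by group
            _ = 1 := by rw [← h.cinv_eq, inv_mul_cancel]
        · exact Or.inr e
      have hb' : n * b * n⁻¹ = b ∨ n * b * n⁻¹ = b⁻¹ := by
        rcases hb4 _ (hB ▸ Subgroup.mem_zpowers (n * b * n⁻¹) : n * b * n⁻¹ ∈ Subgroup.zpowers b) with h1 | h1
        · exfalso
          have h2 : MulAut.conj n • Subgroup.zpowers b ≤ Subgroup.zpowers c := by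
            rw [conj_smul_zpowers]; exact Subgroup.zpowers_le.2 h1
          rw [conj_smul_zpowers, hB] at h2
          exact h.b_not_mem (h2 (Subgroup.mem_zpowers b))
        · exact h1
      have cen : ∀ q ∈ h.sub, n * c * n⁻¹ = q * c * q⁻¹ → n * b * n⁻¹ = q * b * q⁻¹ →
          n ∈ h.sub ⊔ Subgroup.centralizer (h.sub : Set G) := by
        intro q hq h1 h2
        have hfix : ∀ v : G, n * v * n⁻¹ = q * v * q⁻¹ → v * (q⁻¹ * n) = q⁻¹ * n * v := by
          intro v hv
          calc v * (q⁻¹ * n) = q⁻¹ * (q * v * q⁻¹) * n := by group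
            _ = q⁻¹ * n * v := by rw [← hv]; group
        have hle : h.sub ≤ Subgroup.centralizer ({q⁻¹ * n} : Set G) :=
          h.sub_le (Subgroup.mem_centralizer_singleton_iff.2 (hfix c h1))
            (Subgroup.mem_centralizer_singleton_iff.2 (hfix b h2))
        have e : n = q * (q⁻¹ * n) := by group
        rw [e]
        exact mul_mem (Subgroup.mem_sup_left hq) (Subgroup.mem_sup_right (Subgroup.mem_centralizer_iff.2 fun u hu =>
          Subgroup.mem_centralizer_singleton_iff.1 (hle hu)))
      have ecb : c * b * c⁻¹ = b⁻¹ := by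
        rw [h.b_inv, mul_assoc c b, ← zpow_neg_one c, h.flip, zpow_neg, zpow_neg_one, inv_inv, mul_assoc]
      rcases hc' with e1 | e1 <;> rcases hb' with e2 | e2
      · exact cen 1 (one_mem _) (by simpa using e1) (by simpa using e2)
      · exact cen c h.left_mem (by rw [e1]; group) (by rw [e2, ecb])
      · exact cen b h.right_mem (by rw [e1, h.inv]) (by rw [e2]; group)
      · refine cen (c * b) h.prod_mem ?_ ?_
        · rw [e1, ← h.inv]
          calc b * c * b⁻¹ = c⁻¹ := h.inv
            _ = c * c⁻¹ * c⁻¹ := by group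
            _ = c * (b * c * b⁻¹) * c⁻¹ := by rw [h.inv]
            _ = _ := by group
        · rw [e2, ← ecb]; group
    hKN := sup_le Subgroup.le_normalizer (Subgroup.centralizer_le_normalizer _)
    hfix := by
      intro n hn L hL
      rw [conj_smul_eq_self_iff]
      revert n hn
      show h.sub ⊔ Subgroup.centralizer (h.sub : Set G) ≤ Subgroup.normalizer (L : Set G)
      have hmem : ∀ q u : G, q * u * q⁻¹ = u ∨ q * u * q⁻¹ = u⁻¹ → q ∈ Subgroup.normalizer (Subgroup.zpowers u : Set G) := by
        intro q u hq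
        rw [← conj_smul_eq_self_iff, conj_smul_zpowers]
        rcases hq with e | e <;> rw [e]
        exact Subgroup.zpowers_inv
      have ecb : c * b * c⁻¹ = b⁻¹ := by
        rw [h.b_inv, mul_assoc c b, ← zpow_neg_one c, h.flip, zpow_neg, zpow_neg_one, inv_inv, mul_assoc]
      have hL' : L ≤ h.sub := by
        rcases mem_triple.1 hL with rfl | rfl | rfl
        · exact Subgroup.zpowers_le.2 h.left_mem
        · exact Subgroup.zpowers_le.2 h.right_mem
        · exact Subgroup.zpowers_le.2 h.prod_mem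
      refine sup_le (h.sub_le ?_ ?_)
        ((Subgroup.centralizer_le (SetLike.coe_subset_coe.2 hL')).trans (Subgroup.centralizer_le_normalizer _))
      · rcases mem_triple.1 hL with rfl | rfl | rfl
        · exact hmem c c (Or.inl (by group))
        · exact hmem c b (Or.inr ecb)
        · refine hmem c (c * b) (Or.inr ?_)
          calc c * (c * b) * c⁻¹ = c * (c * b * c⁻¹) := by group
            _ = c * b⁻¹ := by rw [ecb]
            _ = c * c * c * b := by rw [h.b_inv]; group
            _ = (c * b)⁻¹ := by rw [← h.cinv_eq, h.prod_inv]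
      · rcases mem_triple.1 hL with rfl | rfl | rfl
        · exact hmem b c (Or.inr h.inv)
        · exact hmem b b (Or.inl (by group))
        · refine hmem b (c * b) (Or.inr ?_)
          calc b * (c * b) * b⁻¹ = b * c := by group
            _ = c⁻¹ * b := by rw [← zpow_one c, h.flip, zpow_neg]
            _ = (c * b)⁻¹ := h.prod_inv.symm }

end QuatPair

end CfsgLib.Inv
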