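import Cfsg.Agent.Inv.WreathClasses
import Cfsg.Agent.Inv.QDClasses
import Cfsg.Agent.Inv.CyclicSylow
import Cfsg.Agent.S0721

/-!
Groups with quasi-dihedral or wreathed Sylow 2-subgroups.
-/

set_option autoImplicit false

namespace CfsgLib.Inv

open scoped Pointwise

/-! ### Transport of data -/

/-- Data of a quasi-dihedral group along an isomorphism. -/
def QDData.map {T T' : Type*} [Group T] [Group T'] {d : ℕ} (D : QDData T d) (e : T ≃* T') : QDData T' d where
  x := e D.x
  y := e D.y
  card_eq := (Nat.card_congr e.toEquiv).symm.trans D.card_eq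
  order_x := (MulEquiv.orderOf_eq e D.x).trans D.order_x
  order_y := (MulEquiv.orderOf_eq e D.y).trans D.order_y
  rel := by rw [← map_inv, ← map_mul, ← map_mul, D.rel, map_zpow]

/-- Data of a wreathed group along an isomorphism. -/
def WData.map {T T' : Type*} [Group T] [Group T'] {n : ℕ} (D : WData T n) (e : T ≃* T') : WData T' n where
  x := e D.x
  y := e D.y
  z := e D.z
  two_le := D.two_le
  card_eq := (Nat.card_congr e.toEquiv).symm.trans D.card_eq
  order_x := (MulEquiv.orderOf_eq e D.x).trans D.order_x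
  comm := by rw [← map_mul, D.comm, map_mul]
  inter := by
    rw [show Subgroup.zpowers (e D.x) = (Subgroup.zpowers D.x).map e.toMonoidHom from
        (MonoidHom.map_zpowers e.toMonoidHom D.x).symm,
      show Subgroup.zpowers (e D.y) = (Subgroup.zpowers D.y).map e.toMonoidHom from
        (MonoidHom.map_zpowers e.toMonoidHom D.y).symm,
      ← Subgroup.map_inf _ _ _ e.injective, D.inter, Subgroup.map_bot]
  order_z := (MulEquiv.orderOf_eq e D.z).trans D.order_z
  swap := by rw [← map_inv, ← map_mul, ← map_mul, D.swap]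

theorem WData.map_el {T T' : Type*} [Group T] [Group T'] {n : ℕ} (D : WData T n) (e : T ≃* T')
    (a b : ZMod (2 ^ n)) : (D.map e).el a b = e (D.el a b) := by
  simp [WData.el, WData.map]

theorem WData.map_ot {T T' : Type*} [Group T] [Group T'] {n : ℕ} (D : WData T n) (e : T ≃* T')
    (a b : ZMod (2 ^ n)) : (D.map e).ot a b = e (D.ot a b) := by
  simp [WData.el, WData.ot, WData.map]

/-! ### Structure of the Sylow subgroup -/

theorem three_invol {T : Type*} [Group T] {u v a b c : T} (hu : u * u = 1) (hv : v * v = 1)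
    (huv : u * v = v * u) (ha : a = u ∨ a = v ∨ a = u * v) (hb : b = u ∨ b = v ∨ b = u * v)
    (hc : c = u ∨ c = v ∨ c = u * v) (hab : a ≠ b) : c = a ∨ c = b ∨ c = a * b := by
  have e1 : u * (u * v) = v := by rw [← mul_assoc, hu, one_mul]
  have e2 : u * v * u = v := by rw [huv, mul_assoc, hu, mul_one]
  have e3 : v * (u * v) = u := by rw [← mul_assoc, ← huv, mul_assoc, hv, mul_one]
  have e4 : u * v * v = u := by rw [mul_assoc, hv, mul_one]
  have e5 : v * u = u * v := huv.symm
  rcases ha with rfl | rfl | rfl <;> rcases hb with rfl | rfl | rfl <;> rcases hc with rfl | rfl | rfl <;>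
    first
    | exact absurd rfl hab
    | exact Or.inl rfl
    | exact Or.inr (Or.inl rfl)
    | exact Or.inr (Or.inr (by simp only [e1, e2, e3, e4, e5]))

theorem qdw_struct {T : Type*} [Group T] [Finite T] (hS : Cfsg.IsQuasiDihedral T ∨ Cfsg.IsWreathed T) :
    (∃ u v : T, orderOf u = 2 ∧ orderOf v = 2 ∧ u * v ≠ v * u) ∧
    (∃ s : T, Subgroup.closure {g : T | orderOf g = 2} ⊔ Subgroup.zpowers s = ⊤) ∧
    ∀ a b c : T, orderOf a = 2 → orderOf b = 2 → orderOf c = 2 → a * b = b * a → a * c = c * a → b * c = c * b →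
      a ≠ b → c = a ∨ c = b ∨ c = a * b := by
  rcases hS with hQ | hW
  · obtain ⟨d, ⟨D⟩⟩ := QDData.of_qd hQ
    refine ⟨⟨D.x ^ (2 : ℤ) * D.y, D.x ^ (0 : ℤ) * D.y, D.out_sq_even even_two, D.out_sq_even (by simp), ?_⟩,
      ⟨D.x, ?_⟩, ?_⟩
    · intro h
      rcases D.mem_commute_out.1 h with e | e | e | e
      · exact D.out_not_mem 2 (e ▸ one_mem _)
      · exact D.out_not_mem 2 (e ▸ Subgroup.zpow_mem_zpowers _ _)
      · have := D.zpow_x_eq.1 (mul_right_cancel e)
        rw [show d + 3 = 2 + (d + 1) by omega, pow_add] at this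
        have h4 : (2 : ℤ) ^ 2 ∣ 2 - 0 := (dvd_mul_right _ _).trans this
        norm_num at h4
      · rw [← mul_assoc, QDData.z, ← zpow_add] at e
        have := D.zpow_x_eq.1 (mul_right_cancel e)
        have h4 : (2 : ℤ) ^ 2 ∣ 2 - ((2 : ℤ) ^ (d + 2) + 0) := (pow_dvd_pow 2 (by omega : 2 ≤ d + 3)).trans this
        have h5 : (2 : ℤ) ^ 2 ∣ (2 : ℤ) ^ (d + 2) := pow_dvd_pow 2 (by omega)
        norm_num at h4 h5
        omega
    · rw [D.closure_invol, eq_top_iff]
      intro g _
      rcases D.cases g with ⟨i, rfl⟩ | ⟨i, rfl⟩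
      · exact Subgroup.mem_sup_right (Subgroup.zpow_mem_zpowers _ _)
      · refine mul_mem (Subgroup.mem_sup_right (Subgroup.zpow_mem_zpowers _ _)) (Subgroup.mem_sup_left ?_)
        simpa using D.mem_outSub_out 0 (i := 0) (by simp)
    · intro a b c ha hb hc hab hac hbc hne
      have hz : D.z * D.z = 1 := invol_mul_self D.z_order
      have key : ∀ t : T, ∀ i : ℤ, t = D.x ^ i * D.y → Even i → ∀ g, orderOf g = 2 → g * t = t * g →
          g = D.z ∨ g = t ∨ g = D.z * t := by
        rintro t i rfl _ g hg hcm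
        rcases D.mem_commute_out.1 hcm with e | e | e | e
        · rw [e, orderOf_one] at hg; omega
        · exact Or.inl e
        · exact Or.inr (Or.inl e)
        · exact Or.inr (Or.inr e)
      rcases D.cases_order ha with ha' | ⟨i, hi, ha'⟩
      · rcases D.cases_order hb with hb' | ⟨j, hj, hb'⟩
        · exact absurd (ha'.trans hb'.symm) hne
        · exact three_invol hz (invol_mul_self hb) (Subgroup.mem_center_iff.1 D.z_central b).symm
            (key _ j hb' hj a ha hab) (Or.inr (Or.inl rfl)) (key _ j hb' hj c hc hbc.symm) hne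
      · exact three_invol hz (invol_mul_self ha) (Subgroup.mem_center_iff.1 D.z_central a).symm
          (Or.inr (Or.inl rfl)) (key _ i ha' hi b hb hab.symm) (key _ i ha' hi c hc hac.symm) hne
  · obtain ⟨n, ⟨D⟩⟩ := WData.of_wreathed hW
    refine ⟨⟨D.ot 0 0, D.el D.hh 0, D.ot_zero_order, D.el_hh_order,
      fun h => D.hh_ne (D.el_commute_ot.1 h.symm)⟩, D.invol_closure.2, ?_⟩
    intro a b c ha hb hc hab hac hbc hne
    have hsq : ∀ {g : T}, orderOf g = 2 → g * g = 1 := fun hg => invol_mul_self hg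
    have hzc : ∀ g : T, g * D.zc = D.zc * g := Subgroup.mem_center_iff.1 (D.mem_center_iff.2 ⟨_, rfl⟩)
    have key : ∀ t r, t = D.ot r (-r) → ∀ g, orderOf g = 2 → g * t = t * g → g = D.zc ∨ g = t ∨ g = D.zc * t := by
      rintro t r rfl g hg hcm
      rcases D.invol_cases hg with rfl | rfl | rfl | ⟨p, rfl⟩
      · exact Or.inl rfl
      · exact absurd (D.el_commute_ot.1 hcm) D.hh_ne
      · exact absurd (D.el_commute_ot.1 hcm).symm D.hh_ne
      · rcases D.double_zero (show (p - r) + (p - r) = 0 by linear_combination D.ot_commute_ot.1 hcm) with e | e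
        · exact Or.inr (Or.inl (by rw [sub_eq_zero.1 e]))
        · refine Or.inr (Or.inr ?_)
          rw [WData.zc, WData.el_mul_ot, ← e]
          congr 1
          · ring
          · linear_combination -(2 : ZMod (2 ^ n)) * e - D.hh_add
    have inU : ∀ g, orderOf g = 2 → (∀ r, g ≠ D.ot r (-r)) → g = D.zc ∨ g = D.el D.hh 0 ∨ g = D.zc * D.el D.hh 0 := by
      intro g hg hno
      rcases D.invol_cases hg with e | e | e | ⟨p, e⟩
      · exact Or.inl e
      · exact Or.inr (Or.inl e)
      · refine Or.inr (Or.inr ?_)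
        rw [e, WData.zc, WData.el_mul, D.hh_add, add_zero]
      · exact absurd e (hno p)
    by_cases h : ∃ t r, (t = a ∨ t = b ∨ t = c) ∧ t = D.ot r (-r)
    · obtain ⟨t, r, ht, htr⟩ := h
      have ht2 : t * t = 1 := by rcases ht with rfl | rfl | rfl <;> [exact hsq ha; exact hsq hb; exact hsq hc]
      have hca : a * t = t * a := by rcases ht with rfl | rfl | rfl <;> [rfl; exact hab; exact hac]
      have hcb : b * t = t * b := by rcases ht with rfl | rfl | rfl <;> [exact hab.symm; rfl; exact hbc]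
      have hcc : c * t = t * c := by rcases ht with rfl | rfl | rfl <;> [exact hac.symm; exact hbc.symm; rfl]
      exact three_invol (hsq D.zc_order) ht2 (hzc t).symm (key t r htr a ha hca) (key t r htr b hb hcb)
        (key t r htr c hc hcc) hne
    · have hno : ∀ g, (g = a ∨ g = b ∨ g = c) → ∀ r, g ≠ D.ot r (-r) := fun g hg r e => h ⟨g, r, hg, e⟩
      exact three_invol (hsq D.zc_order) (hsq D.el_hh_order) (hzc _).symm (inU a ha (hno a (Or.inl rfl)))
        (inU b hb (hno b (Or.inr (Or.inl rfl)))) (inU c hc (hno c (Or.inr (Or.inr rfl)))) hne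

/-! ### Fusion without subgroups of index two -/

variable {G : Type*} [Group G] [Finite G]

theorem fusT_of_no_index_two (S : Sylow 2 G) {d : ℕ} (D : QDData (S : Subgroup G) d)
    (hG : ∀ H : Subgroup G, H.index ≠ 2) : FusT S D := by
  by_contra h
  obtain ⟨K, -, hK, -⟩ := exists_quaternion_subgroup S D h
  exact hG K hK

theorem fusQ_of_no_index_two (S : Sylow 2 G) {d : ℕ} (D : QDData (S : Subgroup G) d)
    (hG : ∀ H : Subgroup G, H.index ≠ 2) : FusQ S D := by
  by_contra h
  obtain ⟨K, -, hK, -⟩ := exists_dihedral_subgroup S D h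
  exact hG K hK

theorem fusV_of_no_index_two (S : Sylow 2 G) {n : ℕ} (D : WData (S : Subgroup G) n)
    (hG : ∀ H : Subgroup G, H.index ≠ 2) : FusV S D := by
  by_contra h
  obtain ⟨K, -, hK, -⟩ := exists_abelian_kernel S D h
  exact hG K hK

theorem fusU_of_no_index_two (S : Sylow 2 G) {n : ℕ} (D : WData (S : Subgroup G) n)
    (hG : ∀ H : Subgroup G, H.index ≠ 2) : FusU S D := by
  by_contra h
  have hn : (2 : ℕ) ∣ 2 ^ n := dvd_pow_self 2 (by have := D.two_le; omega)
  let ψ : ↥(S : Subgroup G) →* Multiplicative (ZMod 2) :=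
    (AddMonoidHom.toMultiplicative (ZMod.castHom hn (ZMod 2)).toAddMonoidHom).comp D.sgh
  have hψ : Function.Surjective ψ := fun t => by
    obtain ⟨a, ha⟩ := ZMod.castHom_surjective hn t.toAdd
    obtain ⟨u, hu⟩ := D.sgh_surjective (Multiplicative.ofAdd a)
    refine ⟨u, ?_⟩
    show Multiplicative.ofAdd (ZMod.castHom hn (ZMod 2) (D.sgh u).toAdd) = t
    rw [hu, toAdd_ofAdd, ha, ofAdd_toAdd]
  obtain ⟨K, -, hK, -⟩ := exists_normal_kernel S ψ hψ (a := 1)
    (by rw [Nat.card_congr Multiplicative.toAdd, Nat.card_zmod, pow_one])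
    fun u g hh => congrArg (AddMonoidHom.toMultiplicative (ZMod.castHom hn (ZMod 2)).toAddMonoidHom) (inv_sgh S D h rfl)
  exact hG K (hK.trans (pow_one 2))

theorem qdw_one_class (S : Sylow 2 G)
    (hS : Cfsg.IsQuasiDihedral (S : Subgroup G) ∨ Cfsg.IsWreathed (S : Subgroup G))
    (hG : ∀ H : Subgroup G, H.index ≠ 2) {a b : G} (ha : orderOf a = 2) (hb : orderOf b = 2) : IsConj a b := by
  rcases hS with hQ | hW
  · obtain ⟨d, ⟨D⟩⟩ := QDData.of_qd hQ
    have key : ∀ t : G, orderOf t = 2 → IsConj t (qz S D) := fun t ht =>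
      (invol_class S D ht).elim id fun h' => h'.trans (fusT_of_no_index_two S D hG).symm
    exact (key a ha).trans (key b hb).symm
  · obtain ⟨n, ⟨D⟩⟩ := WData.of_wreathed hW
    have hzh := isConj_zc_wh S D (fusU_of_no_index_two S D hG)
    have key : ∀ t : G, orderOf t = 2 → IsConj t (D.zc : G) := fun t ht => by
      rcases winvol_class S D ht with h | h | h
      · exact h
      · exact h.trans hzh.symm
      · exact h.trans ((isConj_wh_wt S D (fusV_of_no_index_two S D hG)).symm.trans hzh.symm)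
    exact (key a ha).trans (key b hb).symm

/-- The reduced group has a simple normal subgroup of odd index. -/
theorem qdw_simple_socle (S : Sylow 2 G)
    (hS : Cfsg.IsQuasiDihedral (S : Subgroup G) ∨ Cfsg.IsWreathed (S : Subgroup G))
    (hG : ∀ H : Subgroup G, H.index ≠ 2) :
    ∃ L : Subgroup (G ⧸ Cfsg.oddCore G), L.Normal ∧ Odd L.index ∧ IsSimpleGroup L ∧ ¬ IsMulCommutative L := by
  haveI : Fact (Nat.Prime 2) := ⟨Nat.prime_two⟩
  obtain ⟨⟨u, v, hu, hv, huv⟩, ⟨s, hs⟩, hrank⟩ := qdw_struct hS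
  haveI hn : (Cfsg.oddCore G).Normal := CfsgLib.Solv.pPrimeCore_normal G 2
  have hoddO : ¬ 2 ∣ Nat.card (Cfsg.oddCore G) := CfsgLib.Solv.not_dvd_card_pPrimeCore
  set π := QuotientGroup.mk' (Cfsg.oddCore G) with hπ
  have hπs : Function.Surjective π := QuotientGroup.mk'_surjective _
  have hinjS : ∀ p q : (S : Subgroup G), π p = π q → p = q := by
    intro p q h
    have hm : ((p⁻¹ * q : (S : Subgroup G)) : G) ∈ Cfsg.oddCore G := (QuotientGroup.eq).1 h
    obtain ⟨k, hk⟩ := IsPGroup.iff_orderOf.1 S.2 (p⁻¹ * q)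
    have h1 : orderOf ((p⁻¹ * q : (S : Subgroup G)) : G) ∣ Nat.card (Cfsg.oddCore G) := by
      rw [← Subgroup.orderOf_mk _ hm]; exact orderOf_dvd_natCard _
    rw [Subgroup.orderOf_coe, hk] at h1
    rcases k with _ | k
    · exact inv_mul_eq_one.1 (orderOf_eq_one_iff.1 hk)
    · exact absurd ((dvd_pow_self 2 k.succ_ne_zero).trans h1) hoddO
  have hord : ∀ p : (S : Subgroup G), orderOf p = 2 → orderOf (π p) = 2 := by
    intro p hp
    refine WData.orderOf_two_iff.2 ⟨?_, fun h => ?_⟩
    · rw [← map_mul, ← Subgroup.coe_mul, invol_mul_self hp, OneMemClass.coe_one, map_one]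
    · rw [hinjS p 1 (h.trans (map_one π).symm), orderOf_one] at hp
      omega
  let S' : Sylow 2 (G ⧸ Cfsg.oddCore G) := S.mapSurjective hπs
  have hlift : ∀ a : G ⧸ Cfsg.oddCore G, a ∈ (S' : Subgroup _) → ∃ p : (S : Subgroup G), π p = a := by
    intro a ha
    rw [Sylow.coe_mapSurjective] at ha
    obtain ⟨p, hp, e⟩ := ha
    exact ⟨⟨p, hp⟩, e⟩
  have hliftord : ∀ p : (S : Subgroup G), orderOf (π p) = 2 → orderOf p = 2 := by
    intro p hp
    refine WData.orderOf_two_iff.2 ⟨hinjS _ 1 ?_, ?_⟩
    · rw [Subgroup.coe_mul, map_mul, invol_mul_self hp, OneMemClass.coe_one, map_one]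
    · rintro rfl
      rw [OneMemClass.coe_one, map_one, orderOf_one] at hp
      omega
  have hone : ∀ t : G ⧸ Cfsg.oddCore G, orderOf t = 2 → IsConj t (π u) := by
    intro t ht
    obtain ⟨c, hc⟩ := exists_conj_mem S' (k := 1) (by simpa using ht)
    obtain ⟨p, hp⟩ := hlift _ hc
    have hp2 : orderOf p = 2 := hliftord p (by rw [hp]; exact invol_conj ht c)
    have h1 : IsConj t (π p) := isConj_iff.2 ⟨c, hp.symm⟩
    exact h1.trans (MonoidHom.map_isConj π (qdw_one_class S hS hG
      ((Subgroup.orderOf_coe _).trans hp2) ((Subgroup.orderOf_coe _).trans hu)))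
  haveI : Nontrivial (G ⧸ Cfsg.oddCore G) := ⟨π u, 1, fun h => by
    have := hord u hu
    rw [h, orderOf_one] at this
    omega⟩
  obtain ⟨L, hL⟩ := CfsgLib.Solv.exists_isMinimalNormal (G := G ⧸ Cfsg.oddCore G)
  obtain ⟨hLn, hLne, hLmin⟩ := hL
  haveI := hLn
  have hLeven : 2 ∣ Nat.card L := by
    by_contra h
    apply hLne
    have hK : L.comap π ≤ Cfsg.oddCore G := by
      refine @CfsgLib.Solv.le_pPrimeCore G _ 2 _ (Subgroup.Normal.comap hLn π) ?_
      have hc : Nat.card (L.comap π) ∣ Nat.card (Cfsg.oddCore G) * Nat.card L := by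
        let f := π.subgroupComap L
        have h1 : Nat.card f.ker ∣ Nat.card (Cfsg.oddCore G) := by
          refine Subgroup.card_dvd_of_injective
            ((((L.comap π).subtype.comp f.ker.subtype).codRestrict _ fun x => ?_) : f.ker →* Cfsg.oddCore G) ?_
          · show ((x : L.comap π) : G) ∈ Cfsg.oddCore G
            exact (QuotientGroup.eq_one_iff _).1 (congrArg Subtype.val x.2)
          · intro p q h
            exact Subtype.ext (Subtype.ext (congrArg Subtype.val h :))
        rw [← Subgroup.card_mul_index f.ker, Subgroup.index_ker]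
        exact mul_dvd_mul h1 (Subgroup.card_subgroup_dvd_card _)
      exact (Nat.Coprime.coprime_dvd_left hc (Nat.Coprime.mul_left
        ((Nat.prime_two.coprime_iff_not_dvd.2 hoddO).symm) ((Nat.prime_two.coprime_iff_not_dvd.2 h).symm)))
    rw [eq_bot_iff]
    intro a ha
    obtain ⟨g, rfl⟩ := hπs a
    exact Subgroup.mem_bot.2 ((QuotientGroup.eq_one_iff g).2 (hK ha))
  obtain ⟨t, ht⟩ := exists_prime_orderOf_dvd_card' (G := L) 2 hLeven
  have hall : ∀ a : G ⧸ Cfsg.oddCore G, orderOf a = 2 → a ∈ L := by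
    intro a ha
    obtain ⟨c, rfl⟩ := isConj_iff.1 (((hone (t : G ⧸ Cfsg.oddCore G) ((Subgroup.orderOf_coe t).trans ht))).trans
      (hone a ha).symm)
    exact hLn.conj_mem _ t.2 c
  have hLnc : ¬ IsMulCommutative L := fun h => huv (hinjS _ _ (by
    simpa only [Subgroup.coe_mul, map_mul] using
      congrArg Subtype.val (h.is_comm.comm (⟨_, hall _ (hord u hu)⟩ : L) ⟨_, hall _ (hord v hv)⟩)))
  refine ⟨L, hLn, ?_, ?_, hLnc⟩
  · -- odd index
    rw [← Nat.not_even_iff_odd]
    intro heven
    let φ : G →* (G ⧸ Cfsg.oddCore G) ⧸ L := (QuotientGroup.mk' L).comp π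
    have hφ : Function.Surjective φ := (QuotientGroup.mk'_surjective L).comp hπs
    have hcyc : IsCyclic ((S.mapSurjective hφ : Sylow 2 _) : Subgroup ((G ⧸ Cfsg.oddCore G) ⧸ L)) := by
      have hle : ((S.mapSurjective hφ : Sylow 2 _) : Subgroup ((G ⧸ Cfsg.oddCore G) ⧸ L)) ≤
          Subgroup.zpowers (φ s) := by
        rw [Sylow.coe_mapSurjective]
        rintro _ ⟨p, hp, rfl⟩
        have hsub : (⊤ : Subgroup (S : Subgroup G)) ≤
            (Subgroup.zpowers (φ s)).comap (φ.comp (S : Subgroup G).subtype) := by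
          rw [← hs]
          refine sup_le ((Subgroup.closure_le _).2 fun w hw => ?_) (Subgroup.zpowers_le.2 (Subgroup.mem_zpowers _))
          show φ (w : G) ∈ Subgroup.zpowers (φ s)
          rw [show φ (w : G) = 1 from (QuotientGroup.eq_one_iff _).2 (hall _ (hord w hw))]
          exact one_mem _
        exact hsub (Subgroup.mem_top ⟨p, hp⟩)
      exact Subgroup.isCyclic_of_le hle
    obtain ⟨H, hH⟩ := exists_index_two_of_cyclic_sylow heven _ hcyc
    exact hG (H.comap φ) (by rw [Subgroup.index_comap_of_surjective _ hφ, hH])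
  · obtain ⟨T, hTg, m, hT, hm, ⟨e⟩⟩ := Cfsg.Agent.S0721.result L hLne hLmin
    haveI := hT
    rcases Nat.lt_or_ge m 2 with hm2 | hm2
    · obtain rfl : m = 1 := by omega
      haveI : Nontrivial L := (Subgroup.nontrivial_iff_ne_bot L).2 hLne
      have e' : L ≃* T := e.trans
        { toFun := fun f => f 0
          invFun := fun t _ => t
          left_inv := fun f => funext fun i => congrArg f (Subsingleton.elim 0 i)
          right_inv := fun _ => rfl
          map_mul' := fun _ _ => rfl }
      exact MulEquiv.isSimpleGroup e'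
    exfalso
    classical
    have hTnc : ¬ IsMulCommutative T := fun h => hLnc
      ⟨⟨fun a b => e.injective (by rw [map_mul, map_mul]; funext i; exact h.is_comm.comm _ _)⟩⟩
    haveI : Finite T := by
      haveI : Finite (Fin m → T) := Finite.of_equiv L e.toEquiv
      exact Finite.of_injective (fun t : T => (fun _ => t : Fin m → T)) fun a b h => congrFun h ⟨0, hm⟩
    have hTeven : 2 ∣ Nat.card T := by
      have h := hLeven
      rw [Nat.card_congr e.toEquiv, Nat.card_pi, Finset.prod_const] at h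
      exact Nat.prime_two.dvd_of_dvd_pow h
    -- two commuting involutions in `T`
    obtain ⟨p, q, hp, hq, hpq, hcpq⟩ : ∃ p q : T, orderOf p = 2 ∧ orderOf q = 2 ∧ p ≠ q ∧ p * q = q * p := by
      by_contra hcon
      let R : Sylow 2 T := default
      obtain ⟨p0, hp0⟩ := exists_prime_orderOf_dvd_card' (G := T) 2 hTeven
      obtain ⟨c, hc⟩ := exists_conj_mem R (k := 1) (by simpa using hp0)
      have hp1 : orderOf (c * p0 * c⁻¹) = 2 := invol_conj hp0 c
      set p := c * p0 * c⁻¹ with hpdef
      have hiso : ∀ g : T, g * p * g⁻¹ ∈ (R : Subgroup T) → g * p * g⁻¹ = p := by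
        intro g hg
        by_contra hne
        have hsub : Nontrivial (R : Subgroup T) := ⟨⟨⟨p, hc⟩, 1, fun h => invol_ne_one hp1 (congrArg Subtype.val h)⟩⟩
        haveI := hsub
        obtain ⟨z, hz⟩ := exists_prime_orderOf_dvd_card' (G := Subgroup.center (R : Subgroup T)) 2
          (by
            obtain ⟨k, hk0, hk⟩ := IsPGroup.nontrivial_iff_card (R.2.to_subgroup (Subgroup.center _)) |>.1
              (IsPGroup.center_nontrivial R.2)
            rw [hk]; exact dvd_pow_self 2 hk0.ne')
        have hz2 : orderOf (((z : (R : Subgroup T)) : T)) = 2 := by rw [Subgroup.orderOf_coe, Subgroup.orderOf_coe, hz]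
        have hcz : ∀ w ∈ (R : Subgroup T), ((z : (R : Subgroup T)) : T) * w = w * ((z : (R : Subgroup T)) : T) :=
          fun w hw => congrArg Subtype.val (Subgroup.mem_center_iff.1 z.2 ⟨w, hw⟩).symm
        by_cases hzp : ((z : (R : Subgroup T)) : T) = p
        · exact hcon ⟨_, _, hz2, invol_conj hp1 g, fun e' => hne (e'.symm.trans hzp), hcz _ hg⟩
        · exact hcon ⟨_, _, hz2, hp1, hzp, hcz _ hc⟩
      have hO : Cfsg.oddCore T = ⊥ := by
        rcases (CfsgLib.Solv.pPrimeCore_normal T 2).eq_bot_or_eq_top with h | h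
        · exact h
        · have h2 := CfsgLib.Solv.not_dvd_card_pPrimeCore (G := T) (p := 2)
          rw [h, Subgroup.card_top] at h2
          exact absurd hTeven h2
      have hcen := CfsgLib.Base.ZStar.weaklyClosed_central CfsgLib.Base.ZStar.holds _ T R p le_rfl hc hO hiso
      rcases (Subgroup.instNormalCenter : (Subgroup.center T).Normal).eq_bot_or_eq_top with h | h
      · rw [h, Subgroup.mem_bot] at hcen
        exact invol_ne_one hp1 hcen
      · exact hTnc ⟨⟨fun a b => (Subgroup.mem_center_iff.1 (h.ge (Subgroup.mem_top b)) a)⟩⟩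
    set i0 : Fin m := ⟨0, hm⟩
    set i1 : Fin m := ⟨1, hm2⟩
    have hi : i0 ≠ i1 := by simp [i0, i1, Fin.ext_iff]
    let A : G ⧸ Cfsg.oddCore G := (e.symm (Pi.mulSingle i0 p) : L)
    let B : G ⧸ Cfsg.oddCore G := (e.symm (Pi.mulSingle i0 q) : L)
    let C : G ⧸ Cfsg.oddCore G := (e.symm (Pi.mulSingle i1 p) : L)
    have hsing : ∀ (i : Fin m) (r : T), orderOf r = 2 → orderOf ((e.symm (Pi.mulSingle i r) : L) : G ⧸ Cfsg.oddCore G) = 2 :=
      fun i r hr => by
        rw [Subgroup.orderOf_coe, MulEquiv.orderOf_eq, ← MonoidHom.mulSingle_apply,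
          orderOf_injective (MonoidHom.mulSingle (fun _ : Fin m => T) i) (fun a b h => by simpa using congrFun h i) r, hr]
    have hcom : ∀ f f' : Fin m → T, Commute f f' →
        ((e.symm f : L) : G ⧸ Cfsg.oddCore G) * (e.symm f' : L) = (e.symm f' : L) * (e.symm f : L) := fun f f' h => by
      rw [← Subgroup.coe_mul, ← map_mul, h.eq, map_mul, Subgroup.coe_mul]
    have hAB : A * B = B * A := hcom _ _ (by
      show (Pi.mulSingle i0 p : Fin m → T) * Pi.mulSingle i0 q = Pi.mulSingle i0 q * Pi.mulSingle i0 p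
      rw [← Pi.mulSingle_mul (f := fun _ : Fin m => T), ← Pi.mulSingle_mul (f := fun _ : Fin m => T), hcpq])
    have hAC : A * C = C * A := hcom _ _ (Pi.mulSingle_commute (f := fun _ : Fin m => T) hi p p)
    have hBC : B * C = C * B := hcom _ _ (Pi.mulSingle_commute (f := fun _ : Fin m => T) hi q p)
    -- move the three involutions into the Sylow subgroup
    set E := Subgroup.closure ({A, B, C} : Set (G ⧸ Cfsg.oddCore G))
    have hEab : IsMulCommutative E := Subgroup.isMulCommutative_closure fun x hx y hy => by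
      rcases hx with rfl | rfl | rfl <;> rcases hy with rfl | rfl | rfl <;>
        first | rfl | exact hAB | exact hAB.symm | exact hAC | exact hAC.symm | exact hBC | exact hBC.symm
    have hEp : IsPGroup 2 E := by
      intro x
      refine ⟨1, Subtype.ext ?_⟩
      obtain ⟨x, hx⟩ := x
      show x ^ 2 ^ 1 = 1
      rw [pow_one]
      induction hx using Subgroup.closure_induction with
      | mem y hy =>
        rcases hy with rfl | rfl | rfl
        · rw [pow_two]; exact invol_mul_self (hsing i0 p hp)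
        · rw [pow_two]; exact invol_mul_self (hsing i0 q hq)
        · rw [pow_two]; exact invol_mul_self (hsing i1 p hp)
      | one => exact one_pow 2
      | mul y z hy hz ihy ihz =>
        rw [Commute.mul_pow (congrArg Subtype.val (hEab.is_comm.comm (⟨y, hy⟩ : E) ⟨z, hz⟩)), ihy, ihz, mul_one]
      | inv y _ ih => rw [inv_pow, ih, inv_one]
    obtain ⟨c, -, hc⟩ := exists_sylow_conj_le S' (C := ⊤) le_top le_top hEp
    have hmemc : ∀ w ∈ ({A, B, C} : Set (G ⧸ Cfsg.oddCore G)), c * w * c⁻¹ ∈ (S' : Subgroup _) := fun w hw => hc (by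
      rw [CfsgLib.Solv.mem_conj_smul_iff]
      simpa [mul_assoc] using Subgroup.subset_closure hw)
    obtain ⟨a', ha'⟩ := hlift _ (hmemc A (Or.inl rfl))
    obtain ⟨b', hb'⟩ := hlift _ (hmemc B (Or.inr (Or.inl rfl)))
    obtain ⟨c', hc'⟩ := hlift _ (hmemc C (Or.inr (Or.inr rfl)))
    have oA : orderOf a' = 2 := hliftord _ (ha' ▸ invol_conj (hsing i0 p hp) c)
    have oB : orderOf b' = 2 := hliftord _ (hb' ▸ invol_conj (hsing i0 q hq) c)
    have oC : orderOf c' = 2 := hliftord _ (hc' ▸ invol_conj (hsing i1 p hp) c)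
    have cm : ∀ (x y : (S : Subgroup G)) (X Y : G ⧸ Cfsg.oddCore G), π x = c * X * c⁻¹ → π y = c * Y * c⁻¹ →
        X * Y = Y * X → x * y = y * x := fun x y X Y hx hy h => hinjS _ _ (by
      rw [Subgroup.coe_mul, Subgroup.coe_mul, map_mul, map_mul, hx, hy, conj_mul, conj_mul, h])
    have hABne : a' ≠ b' := by
      intro h
      rw [h, hb'] at ha'
      have h1 : B = A := mul_left_cancel (mul_right_cancel ha')
      exact hpq (Pi.mulSingle_injective i0 (e.symm.injective (Subtype.ext h1))).symm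
    have h0 : ∀ f : Fin m → T, ((e.symm f : L) : G ⧸ Cfsg.oddCore G) = C → f i0 = 1 := fun f hf => by
      rw [e.symm.injective (Subtype.ext hf)]; exact Pi.mulSingle_eq_of_ne hi p
    have cancel : ∀ X : G ⧸ Cfsg.oddCore G, c * C * c⁻¹ = c * X * c⁻¹ → X = C := fun X h =>
      (mul_left_cancel (mul_right_cancel h)).symm
    rcases hrank a' b' c' oA oB oC (cm _ _ _ _ ha' hb' hAB) (cm _ _ _ _ ha' hc' hAC) (cm _ _ _ _ hb' hc' hBC) hABne
      with h | h | h
    · rw [h, ha'] at hc'
      have := h0 _ (cancel A hc'.symm)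
      rw [Pi.mulSingle_eq_same] at this
      exact invol_ne_one hp this
    · rw [h, hb'] at hc'
      have := h0 _ (cancel B hc'.symm)
      rw [Pi.mulSingle_eq_same] at this
      exact invol_ne_one hq this
    · rw [h, Subgroup.coe_mul, map_mul, ha', hb', conj_mul] at hc'
      have h1 := cancel (A * B) hc'.symm
      rw [← Subgroup.coe_mul, ← map_mul, ← Pi.mulSingle_mul] at h1
      have := h0 _ h1
      rw [Pi.mulSingle_eq_same] at this
      exact hpq ((eq_inv_of_mul_eq_one_left this).trans (invol_inv hq))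

end CfsgLib.Inv
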