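import Cfsg.Agent.Inv.TwoRankTwo

/-!
Centralizers of involutions in groups with quasi-dihedral or wreathed Sylow 2-subgroups.
-/

set_option autoImplicit false

namespace CfsgLib.Inv

open scoped Pointwise

variable {G : Type*} [Group G] [Finite G]

/-- The shape of the centralizer `C` of an involution. -/
def CentConcl (S : Sylow 2 G) (C : Subgroup G) : Prop :=
  ∃ R : Sylow 2 ↥C, Nat.card R = Nat.card S ∧
    (∃ K : Subgroup ↥C, K.Normal ∧ (∃ a : ℕ, K.index = 2 ^ a) ∧ (∀ H : Subgroup ↥K, H.index ≠ 2) ∧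
      (∀ P : Sylow 2 ↥K, ∃ m : ℕ, 1 ≤ m ∧ Nonempty ((P : Subgroup ↥K) ≃* QuaternionGroup (2 ^ m)))) ∧
    (∀ Z₀ : Subgroup ↥C, Z₀ ≤ ((Subgroup.center (R : Subgroup ↥C)).map (R : Subgroup ↥C).subtype) →
      Cfsg.IsWeaklyClosed Z₀ (R : Subgroup ↥C))

omit [Finite G] in
theorem weaklyClosed_of_central {Z₀ P : Subgroup G} (h : Z₀ ≤ P) (hc : ∀ z ∈ Z₀, ∀ g : G, g * z * g⁻¹ = z) :
    Cfsg.IsWeaklyClosed Z₀ P := by
  refine ⟨h, fun g _ => ?_⟩
  ext y
  exact ⟨fun ⟨z, hz, e⟩ => e ▸ (show g * z * g⁻¹ ∈ Z₀ by rwa [hc z hz g]), fun hy => ⟨y, hy, hc y hy g⟩⟩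

/-- The isomorphism of a Sylow subgroup contained in `C` with its counterpart in `C`. -/
noncomputable def subSylowEquiv (S : Sylow 2 G) {C : Subgroup G} (hSC : (S : Subgroup G) ≤ C) :
    ((S.subtype hSC : Sylow 2 C) : Subgroup C) ≃* (S : Subgroup G) :=
  (MulEquiv.subgroupCongr (Sylow.coe_subtype S hSC)).trans (Subgroup.subgroupOfEquivOfLe hSC)

theorem subSylowEquiv_symm_coe (S : Sylow 2 G) {C : Subgroup G} (hSC : (S : Subgroup G) ≤ C)
    (u : (S : Subgroup G)) : ((((subSylowEquiv S hSC).symm u) : C) : G) = (u : G) := rfl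

theorem qd_centConcl (S : Sylow 2 G) {d : ℕ} (D : QDData (S : Subgroup G) d) (hQ : FusQ S D) :
    CentConcl S (Subgroup.centralizer ({qz S D} : Set G)) := by
  have hSC : (S : Subgroup G) ≤ Subgroup.centralizer ({qz S D} : Set G) := fun g hg =>
    Subgroup.mem_centralizer_singleton_iff.2 (qz_commute S D hg).eq
  set R := S.subtype hSC with hR
  set D' := D.map (subSylowEquiv S hSC).symm with hD'
  have hz : ((qz R D' : Subgroup.centralizer ({qz S D} : Set G)) : G) = qz S D := by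
    simp only [qz, QDData.z, hD', QDData.map, ← map_zpow]
    rfl
  have hw : ((qw R D' : Subgroup.centralizer ({qz S D} : Set G)) : G) = qw S D := by
    simp only [qw, QDData.w, hD', QDData.map, ← map_zpow]
    rfl
  have ho : ((qo R D' 1 : Subgroup.centralizer ({qz S D} : Set G)) : G) = qo S D 1 := by
    simp only [qo, hD', QDData.map, ← map_zpow, ← map_mul]
    rfl
  have hzc : ∀ c : Subgroup.centralizer ({qz S D} : Set G), c * qz R D' * c⁻¹ = qz R D' := fun c => by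
    refine mul_inv_eq_iff_eq_mul.2 (Subtype.ext ?_)
    rw [Subgroup.coe_mul, Subgroup.coe_mul, hz]
    exact Subgroup.mem_centralizer_singleton_iff.1 c.2
  have hT' : ¬ FusT R D' := fun h => by
    obtain ⟨c, hc⟩ := isConj_iff.1 h
    rw [hzc] at hc
    exact qo_not_mem_pow R D' 0 (qz_mem_pow R D') hc.symm
  have hQ' : FusQ R D' := by
    obtain ⟨g, hg⟩ := isConj_iff.1 hQ
    have h1 : g * qz S D * g⁻¹ = qz S D := by
      have e1 : qw S D * qw S D = qz S D := congrArg Subtype.val D.w_sq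
      have e2 : qo S D 1 * qo S D 1 = qz S D := congrArg Subtype.val (D.odd_out_sq (i := 1) odd_one)
      rw [← e1, ← conj_mul, hg, e2, e1]
    have hgC : g ∈ Subgroup.centralizer ({qz S D} : Set G) :=
      Subgroup.mem_centralizer_singleton_iff.2 (mul_inv_eq_iff_eq_mul.1 h1)
    refine isConj_iff.2 ⟨⟨g, hgC⟩, Subtype.ext ?_⟩
    rw [Subgroup.coe_mul, Subgroup.coe_mul, hw, ho]
    exact hg
  refine ⟨R, Nat.card_congr (subSylowEquiv S hSC).toEquiv, ?_, fun Z₀ hZ₀ => ?_⟩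
  · obtain ⟨K, hn, hidx, hKM⟩ := exists_quaternion_subgroup R D' hT'
    obtain ⟨e⟩ := D'.quaternion_equiv
    obtain ⟨T₀, -, hT₀⟩ := sylow_index_two R hidx (D'.index_outSub 1) hKM
    exact ⟨K, hn, ⟨1, by rw [hidx, pow_one]⟩, no_index_two_quaternion R D' hQ' hidx hKM,
      fun P' => ⟨d + 1, Nat.le_add_left 1 d, ⟨(hT₀ P').some.trans e⟩⟩⟩
  · refine weaklyClosed_of_central (hZ₀.trans (Subgroup.map_subtype_le _)) fun z hzZ g => ?_
    obtain ⟨u, hu, rfl⟩ := hZ₀ hzZ
    have hc : Subgroup.center (R : Subgroup (Subgroup.centralizer ({qz S D} : Set G))) = Subgroup.zpowers D'.z :=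
      (Subgroup.eq_of_le_of_card_ge (Subgroup.zpowers_le.2 D'.z_central)
        (by rw [Nat.card_zpowers, D'.z_order, D'.card_center])).symm
    rw [hc] at hu
    obtain ⟨k, rfl⟩ := hu
    rw [map_zpow, ← conj_zpow]
    exact congrArg (· ^ k) (hzc g)

theorem w_centConcl (S : Sylow 2 G) {n : ℕ} (D : WData (S : Subgroup G) n) (hV : FusV S D) :
    CentConcl S (Subgroup.centralizer ({(D.zc : G)} : Set G)) := by
  have hSC : (S : Subgroup G) ≤ Subgroup.centralizer ({(D.zc : G)} : Set G) := fun g hg =>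
    Subgroup.mem_centralizer_singleton_iff.2
      (congrArg Subtype.val (Subgroup.mem_center_iff.1 (D.mem_center_iff.2 ⟨_, rfl⟩) (⟨g, hg⟩ : (S : Subgroup G))))
  set R := S.subtype hSC with hR
  set D' := D.map (subSylowEquiv S hSC).symm with hD'
  have hel : ∀ a b, (D'.el a b).1.1 = (D.el a b : G) :=
    fun a b => by rw [hD', WData.map_el, subSylowEquiv_symm_coe]
  have hot : ∀ a b, (D'.ot a b).1.1 = (D.ot a b : G) :=
    fun a b => by rw [hD', WData.map_ot, subSylowEquiv_symm_coe]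
  have hhh : D'.hh = D.hh := rfl
  have hU' : ¬ FusU R D' := fun h => by
    obtain ⟨c, hc⟩ := isConj_iff.1 (isConj_zc_wh R D' h)
    have h2 : c * (D'.zc).1 * c⁻¹ = (D'.zc).1 := by
      refine mul_inv_eq_iff_eq_mul.2 (Subtype.ext ?_)
      show (c : G) * (D'.el D'.hh D'.hh).1.1 = (D'.el D'.hh D'.hh).1.1 * (c : G)
      rw [hel, hhh]
      exact Subgroup.mem_centralizer_singleton_iff.1 c.2
    rw [h2] at hc
    exact D'.hh_ne (D'.el_inj (Subtype.ext hc)).2
  have hV' : FusV R D' := by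
    obtain ⟨g, hg, hodd, hgK⟩ := hV
    have hgC : g ∈ Subgroup.centralizer ({(D.zc : G)} : Set G) :=
      Subgroup.mem_centralizer_singleton_iff.2 (mul_inv_eq_iff_eq_mul.1 (normalizer_fix_wZ S D hg D.hh))
    have key : ∀ y : Subgroup.centralizer ({(D.zc : G)} : Set G), y ∈ wV R D' ↔ (y : G) ∈ wV S D := by
      intro y
      constructor
      · rintro ⟨u, hu, rfl⟩
        rcases hu with ⟨a, b, h, rfl⟩ | ⟨a, b, h, rfl⟩
        · exact ⟨D.el a b, D.el_mem_V.2 h, (hel a b).symm⟩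
        · exact ⟨D.ot a b, D.ot_mem_V.2 h, (hot a b).symm⟩
      · rintro ⟨u, hu, e⟩
        rcases hu with ⟨a, b, h, rfl⟩ | ⟨a, b, h, rfl⟩
        · exact ⟨D'.el a b, D'.el_mem_V.2 h, Subtype.ext ((hel a b).trans e)⟩
        · exact ⟨D'.ot a b, D'.ot_mem_V.2 h, Subtype.ext ((hot a b).trans e)⟩
    refine ⟨⟨g, hgC⟩, ?_, by rwa [Subgroup.orderOf_mk], fun h => hgK ?_⟩
    · exact Subgroup.mem_normalizer_iff.2 fun y => by
        rw [key, key]; exact Subgroup.mem_normalizer_iff.1 hg y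
    · have hle : (wV R D' ⊔ Subgroup.centralizer (wV R D' : Set _)).map (Subgroup.centralizer ({(D.zc : G)} : Set G)).subtype ≤
          wV S D ⊔ Subgroup.centralizer (wV S D : Set G) := by
        rw [Subgroup.map_sup]
        refine sup_le_sup ?_ ?_
        · rintro _ ⟨y, hy, rfl⟩
          exact (key y).1 hy
        · rintro _ ⟨y, hy, rfl⟩ v hv
          have hvC : v ∈ Subgroup.centralizer ({(D.zc : G)} : Set G) := hSC (Subgroup.map_subtype_le _ hv)
          exact congrArg Subtype.val (hy ⟨v, hvC⟩ ((key ⟨v, hvC⟩).2 hv))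
      exact hle ⟨_, h, rfl⟩
  refine ⟨R, Nat.card_congr (subSylowEquiv S hSC).toEquiv, ?_, fun Z₀ hZ₀ => center_weakly_closed R D' hU' hZ₀⟩
  obtain ⟨K, hK, hidx, hKM⟩ := exists_quat_kernel R D' hU'
  haveI := hK
  obtain ⟨T, -, hT⟩ := sylow_inter R ((index_ker_sgh R D').trans hidx.symm) hKM
  obtain ⟨e⟩ := D'.ker_sgh_equiv
  exact ⟨K, hK, ⟨n, hidx⟩, no_two_quat R D' hV' hidx hKM,
    fun P => ⟨n - 1, by have := D.two_le; omega, ⟨(hT P).some.trans e⟩⟩⟩

/-- Centralizers of involutions when there is no subgroup of index two. -/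
theorem qdw_centConcl (S : Sylow 2 G)
    (hS : Cfsg.IsQuasiDihedral (S : Subgroup G) ∨ Cfsg.IsWreathed (S : Subgroup G))
    (hG : ∀ H : Subgroup G, H.index ≠ 2) {x : G} (hx : orderOf x = 2) :
    CentConcl S (Subgroup.centralizer ({x} : Set G)) := by
  have hone := fun {a b : G} => qdw_one_class S hS hG (a := a) (b := b)
  have hcard : ∀ c : G, Nat.card ((c • S : Sylow 2 G) : Subgroup G) = Nat.card (S : Subgroup G) := fun c =>
    Subgroup.card_map_of_injective (MulAut.conj c).injective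
  rcases hS with hQ | hW
  · obtain ⟨d, ⟨D⟩⟩ := QDData.of_qd hQ
    obtain ⟨c, hc⟩ := isConj_iff.1 (hone (qz_order S D) hx)
    let e : (S : Subgroup G) ≃* ((c • S : Sylow 2 G) : Subgroup G) := Subgroup.equivSMul (MulAut.conj c) (S : Subgroup G)
    have hxe : qz (c • S) (D.map e) = x := by
      rw [← hc, qz, qz, QDData.z, QDData.z, QDData.map, ← map_zpow]
      rfl
    have h := qd_centConcl (c • S) (D.map e) (fusQ_of_no_index_two _ _ hG)
    rw [hxe] at h
    obtain ⟨R, hR, h'⟩ := h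
    exact ⟨R, hR.trans (hcard c), h'⟩
  · obtain ⟨n, ⟨D⟩⟩ := WData.of_wreathed hW
    obtain ⟨c, hc⟩ := isConj_iff.1 (hone ((Subgroup.orderOf_coe _).trans D.zc_order) hx)
    let e : (S : Subgroup G) ≃* ((c • S : Sylow 2 G) : Subgroup G) := Subgroup.equivSMul (MulAut.conj c) (S : Subgroup G)
    have hxe : ((D.map e).zc : G) = x := by
      rw [← hc, WData.zc, WData.map_el]
      rfl
    have h := w_centConcl (c • S) (D.map e) (fusV_of_no_index_two _ _ hG)
    rw [hxe] at h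
    obtain ⟨R, hR, h'⟩ := h
    exact ⟨R, hR.trans (hcard c), h'⟩

end CfsgLib.Inv
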