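import Cfsg.Agent.Inv.TwoRankTwoCent

/-!
The odd core times the centralizer of the centre of a quasi-dihedral or wreathed Sylow subgroup.
-/

set_option autoImplicit false

namespace CfsgLib.Inv

open scoped Pointwise

theorem WData.oddAut_top_center {T : Type*} [Group T] [Finite T] {n : ℕ} (D : WData T n) {f : T → T}
    (hf : OddAut ⊤ f) (x : T) : f x = x := by
  by_contra hne
  rcases D.centric_cases (X := ⊤) le_top hf ⟨x, Subgroup.mem_top x, hne⟩ with hU | ⟨-, c, hc⟩
  · exact D.ot_not_mem_U 0 0 (hU ▸ Subgroup.mem_top _)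
  · have h := (hc (D.el 1 0)).1 (Subgroup.mem_top _)
    rw [WData.el_inv, WData.el_mul, WData.el_mul, WData.el_mem_V] at h
    have h2 : ((2 : ℕ) : ZMod (2 ^ n)) = 0 := by
      have h' : (-c + 1 + c - (-0 + 0 + 0)) + (-c + 1 + c - (-0 + 0 + 0)) = 0 := h
      rw [Nat.cast_two]
      linear_combination h'
    rw [ZMod.natCast_eq_zero_iff] at h2
    have h4 : 2 ^ 2 ∣ 2 := (pow_dvd_pow 2 D.two_le).trans h2
    norm_num at h4

variable {G : Type*} [Group G] [Finite G]

theorem normalizer_le_cent_center (S : Sylow 2 G)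
    (hS : Cfsg.IsQuasiDihedral (S : Subgroup G) ∨ Cfsg.IsWreathed (S : Subgroup G)) :
    Subgroup.normalizer ((S : Subgroup G) : Set G) ≤ Subgroup.centralizer (wZ S : Set G) := by
  have hconj : ∀ c ∈ Subgroup.normalizer ((S : Subgroup G) : Set G), ∀ z ∈ wZ S, c⁻¹ * z * c ∈ wZ S := by
    intro c hc z hz
    obtain ⟨u, hu, rfl⟩ := hz
    have hm : c⁻¹ * (u : G) * c ∈ (S : Subgroup G) := by
      have := (Subgroup.mem_normalizer_iff.1 (inv_mem hc) u).1 u.2
      rwa [inv_inv] at this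
    refine ⟨⟨_, hm⟩, Subgroup.mem_center_iff.2 fun w => Subtype.ext ?_, rfl⟩
    have hw : c * (w : G) * c⁻¹ ∈ (S : Subgroup G) := (Subgroup.mem_normalizer_iff.1 hc w).1 w.2
    have e : (c * (w : G) * c⁻¹) * u = u * (c * (w : G) * c⁻¹) :=
      congrArg Subtype.val (Subgroup.mem_center_iff.1 hu ⟨_, hw⟩)
    show (w : G) * (c⁻¹ * u * c) = c⁻¹ * u * c * (w : G)
    calc (w : G) * (c⁻¹ * u * c) = c⁻¹ * ((c * (w : G) * c⁻¹) * u) * c := by group
      _ = c⁻¹ * (u * (c * (w : G) * c⁻¹)) * c := by rw [e]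
      _ = c⁻¹ * u * c * (w : G) := by group
  refine le_of_odd_sylow S (Subgroup.le_normalizer) le_rfl
    (fun c hc k hk => mul_mem (mul_mem hc hk) (inv_mem hc)) (fun c hc k hk => ?_) (fun k hk hodd => ?_)
    (fun k hk _ => ?_)
  · intro z hz
    have h := hk _ (hconj c hc z hz)
    calc z * (c * k * c⁻¹) = c * (c⁻¹ * z * c * k) * c⁻¹ := by group
      _ = c * (k * (c⁻¹ * z * c)) * c⁻¹ := by rw [h]
      _ = c * k * c⁻¹ * z := by group
  · rintro _ ⟨u, hu, rfl⟩
    have hk' : k ∈ Subgroup.normalizer (((⊤ : Subgroup (S : Subgroup G)).map (S : Subgroup G).subtype : Subgroup G) : Set G) := by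
      rwa [← MonoidHom.range_eq_map, Subgroup.range_subtype]
    have hf := oddAut_gFun S hk' hodd
    have hspec := (gFun_spec S hk' (Subgroup.mem_top u)).2
    suffices h : gFun S k u = u by
      rw [h] at hspec
      exact (mul_inv_eq_iff_eq_mul.1 hspec.symm).symm
    rcases hS with hQ | hW
    · obtain ⟨d, ⟨D⟩⟩ := QDData.of_qd hQ
      have hc : Subgroup.center (S : Subgroup G) = Subgroup.zpowers D.z :=
        (Subgroup.eq_of_le_of_card_ge (Subgroup.zpowers_le.2 D.z_central)
          (by rw [Nat.card_zpowers, D.z_order, D.card_center])).symm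
      have hz : ∀ v ∈ Subgroup.center (S : Subgroup G), v = 1 ∨ v = D.z := by
        intro v hv
        rw [hc] at hv
        obtain ⟨i, rfl⟩ := hv
        show D.z ^ i = 1 ∨ D.z ^ i = D.z
        rw [← zpow_mod_orderOf, D.z_order]
        rcases Int.emod_two_eq_zero_or_one i with h | h <;> simp [h]
      have hmem : gFun S k u ∈ Subgroup.center (S : Subgroup G) := by
        have hm := hconj k⁻¹ (inv_mem hk) _ ⟨u, hu, rfl⟩
        rw [inv_inv] at hm
        obtain ⟨w, hw, e⟩ := hm
        have : gFun S k u = w := Subtype.ext (hspec.trans e.symm)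
        rw [this]; exact hw
      rcases hz u hu with rfl | rfl
      · exact Subtype.ext (hspec.trans (by simp))
      · rcases hz _ hmem with e | e
        · rw [e, OneMemClass.coe_one] at hspec
          exact absurd (conj_eq_one_iff.1 hspec.symm) (invol_ne_one (qz_order S D))
        · exact e
    · obtain ⟨n, ⟨D⟩⟩ := WData.of_wreathed hW
      exact D.oddAut_top_center hf u
  · rintro _ ⟨u, hu, rfl⟩
    exact congrArg Subtype.val (Subgroup.mem_center_iff.1 hu ⟨k, hk⟩).symm

/-- If the centre of the Sylow subgroup is weakly closed, every element is the product of an element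
of the odd core and an element centralizing it. -/
theorem qdw_core_mul_centralizer (S : Sylow 2 G)
    (hS : Cfsg.IsQuasiDihedral (S : Subgroup G) ∨ Cfsg.IsWreathed (S : Subgroup G))
    (hQ : ∀ Z₀ : Subgroup G, Z₀ ≤ wZ S → Cfsg.IsWeaklyClosed Z₀ (S : Subgroup G)) (h : G) :
    ∃ o ∈ Cfsg.oddCore G, ∃ c ∈ Subgroup.centralizer (wZ S : Set G), h = o * c := by
  haveI : Fact (Nat.Prime 2) := ⟨Nat.prime_two⟩
  have hZS : wZ S ≤ (S : Subgroup G) := Subgroup.map_subtype_le _
  have hSC : (S : Subgroup G) ≤ Subgroup.centralizer (wZ S : Set G) :=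
    Subgroup.le_normalizer.trans (normalizer_le_cent_center S hS)
  have hfix : ∀ x ∈ wZ S, ∀ g : G, g * x * g⁻¹ ∈ (S : Subgroup G) → g * x * g⁻¹ = x := by
    intro x hx g hg
    have hw := (hQ (Subgroup.zpowers x) (Subgroup.zpowers_le.2 hx)).2 g (by
      rw [MonoidHom.map_zpowers, Subgroup.zpowers_le]; exact hg)
    have hy : g * x * g⁻¹ ∈ wZ S :=
      Subgroup.zpowers_le.2 hx (hw.le ⟨x, Subgroup.mem_zpowers x, rfl⟩)
    have hcent : ∀ y ∈ wZ S, y ∈ Subgroup.centralizer ((S : Subgroup G) : Set G) := fun y hy w hw =>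
      (hSC hw y hy).symm
    obtain ⟨m, hm, e⟩ := S.conj_eq_normalizer_conj_of_mem_centralizer x g⁻¹ (hcent x hx)
      (by rw [inv_inv]; exact hcent _ hy)
    have hm1 := normalizer_le_cent_center S hS hm x hx
    rw [inv_inv] at e
    rw [e, mul_assoc, hm1, inv_mul_cancel_left]
  haveI hn : (Cfsg.oddCore G).Normal := CfsgLib.Solv.pPrimeCore_normal G 2
  haveI hM := sup_normal_of_fixed S hZS hfix
  set M := Cfsg.oddCore G ⊔ wZ S
  have hZM : wZ S ≤ M := le_sup_right
  have hp : IsPGroup 2 ((wZ S).subgroupOf M) :=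
    (S.2.to_le hZS).of_equiv (Subgroup.subgroupOfEquivOfLe hZM).symm
  have hidx : ¬ 2 ∣ ((wZ S).subgroupOf M).index := by
    intro hd
    have h1 := Subgroup.card_mul_index ((wZ S).subgroupOf M)
    rw [Nat.card_congr (Subgroup.subgroupOfEquivOfLe hZM).toEquiv] at h1
    have h2 : Nat.card M ∣ Nat.card (wZ S) * Nat.card (Cfsg.oddCore G) := by
      have := CfsgLib.Solv.card_sup_dvd_mul (wZ S) (Cfsg.oddCore G)
      rwa [sup_comm] at this
    rw [← h1] at h2
    exact CfsgLib.Solv.not_dvd_card_pPrimeCore (G := G) (p := 2)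
      (hd.trans (Nat.dvd_of_mul_dvd_mul_left Nat.card_pos h2))
  have hF := Sylow.normalizer_sup_eq_top (hp.toSylow hidx)
  have hmap : ((hp.toSylow hidx : Sylow 2 M) : Subgroup M).map M.subtype = wZ S := by
    rw [IsPGroup.toSylow_coe, Subgroup.map_subgroupOf_eq_of_le hZM]
  rw [hmap] at hF
  have htop : Cfsg.oddCore G ⊔ Subgroup.normalizer (wZ S : Set G) = ⊤ := by
    rw [eq_top_iff, ← hF]
    exact sup_le le_sup_right (sup_le le_sup_left (Subgroup.le_normalizer.trans le_sup_right))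
  obtain ⟨o, ho, c, hc, e⟩ := Subgroup.mem_sup_of_normal_left.1 (htop.ge (Subgroup.mem_top h))
  refine ⟨o, ho, c, fun z hz => ?_, e.symm⟩
  exact (mul_inv_eq_iff_eq_mul.1 (hfix z hz c (hZS ((Subgroup.mem_normalizer_iff.1 hc z).1 hz)))).symm

end CfsgLib.Inv
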