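import Cfsg.Agent.Inv.QuadUnip
import Cfsg.Agent.Inv.RankOne

/-!
A conjugation invariant family of subgroups that is pairwise unipotent generates a unipotent group.
-/

set_option autoImplicit false

namespace CfsgLib.Inv.Quad

open Cfsg
open scoped commutatorElement Pointwise

variable {k : Type*} [Field k] {M : Type*} [AddCommGroup M] [Module k M]

local notation "GL'" => LinearMap.GeneralLinearGroup k M

/-- The span of the maps `g - 1`. -/
noncomputable def aug (H : Subgroup GL') : Submodule k (Module.End k M) :=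
  Submodule.span k ((fun g => dif g) '' (H : Set GL'))

theorem dif_mem_aug {H : Subgroup GL'} {g : GL'} (hg : g ∈ H) : dif g ∈ aug H :=
  Submodule.subset_span ⟨g, hg, rfl⟩

theorem dif_mul (g h : GL') : dif (g * h) = dif g + dif h + dif g * dif h := by
  have e : (((g * h : GL')) : M →ₗ[k] M) = (1 + dif g) * (1 + dif h) := by
    rw [← coe_eq, ← coe_eq]; rfl
  show (((g * h : GL')) : M →ₗ[k] M) - 1 = _
  rw [e, mul_add, mul_one, add_mul, one_mul]
  abel

theorem aug_mul (H : Subgroup GL') : aug H * aug H ≤ aug H := by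
  rw [aug, Submodule.span_mul_span, Submodule.span_le]
  rintro _ ⟨_, ⟨g, hg, rfl⟩, _, ⟨h, hh, rfl⟩, rfl⟩
  show dif g * dif h ∈ aug H
  rw [show dif g * dif h = dif (g * h) - dif g - dif h by rw [dif_mul]; abel]
  exact sub_mem (sub_mem (dif_mem_aug (mul_mem hg hh)) (dif_mem_aug hg)) (dif_mem_aug hh)

theorem list_prod_mem {H : Subgroup GL'} : ∀ l : List GL', (∀ g ∈ l, g ∈ H) →
    (l.map fun g => dif g).prod ∈ aug H ^ l.length
  | [], _ => by rw [List.map_nil, List.prod_nil, List.length_nil, pow_zero]; exact Submodule.one_le.1 le_rfl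
  | g :: l, h => by
    rw [List.map_cons, List.prod_cons, List.length_cons, pow_succ']
    exact Submodule.mul_mem_mul (dif_mem_aug (h g (by simp))) (list_prod_mem l fun x hx => h x (by simp [hx]))

theorem map_dif (l : List GL') :
    ((l.map fun g => (g : M →ₗ[k] M) - 1) : List (M →ₗ[k] M)) = l.map fun g => dif g := by
  induction l with
  | nil => rfl
  | cons a l ih => simp_all [dif]

theorem unip_iff {H : Subgroup GL'} : IsUnipotentOn H ↔ ∃ n : ℕ, aug H ^ n = ⊥ := by
  constructor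
  · rintro ⟨n, hn⟩
    refine ⟨n, ?_⟩
    rw [aug, Submodule.span_pow, Submodule.span_eq_bot]
    intro x hx
    obtain ⟨f, rfl⟩ := Set.mem_pow.1 hx
    choose g hg he using fun i => (f i).2
    rw [show (List.ofFn fun i => ((f i : Module.End k M))) = (List.ofFn g).map fun g => dif g by
      rw [List.map_ofFn]; congr 1; funext i; exact (he i).symm]
    rw [← map_dif]
    refine hn _ (fun x hx => ?_) (List.length_ofFn)
    obtain ⟨i, rfl⟩ := List.mem_ofFn.1 hx
    exact hg i
  · rintro ⟨n, hn⟩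
    exact ⟨n, fun l hl hlen => (Submodule.mem_bot k).1 (hn ▸ hlen ▸ (map_dif l).symm ▸ list_prod_mem l hl)⟩

theorem unip_of_le {H : Subgroup GL'} {T : Submodule k (Module.End k M)} (hle : aug H ≤ T) {n : ℕ} (hn : T ^ n = ⊥) :
    IsUnipotentOn H :=
  unip_iff.2 ⟨n, eq_bot_iff.2 (hn ▸ pow_le_pow_left' hle n)⟩

theorem unip_mono {H K : Subgroup GL'} (hle : H ≤ K) (h : IsUnipotentOn K) : IsUnipotentOn H := by
  obtain ⟨n, hn⟩ := unip_iff.1 h
  exact unip_of_le (Submodule.span_mono (Set.image_mono hle)) hn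

/-- A unipotent group extended by a normalizing unipotent group. -/
theorem unip_sup {D E : Subgroup GL'} (hD : IsUnipotentOn D) (hE : IsUnipotentOn E)
    (hN : E ≤ Subgroup.normalizer (D : Set GL')) : IsUnipotentOn (D ⊔ E) := by
  obtain ⟨na, ha⟩ := unip_iff.1 hD
  obtain ⟨nb, hb⟩ := unip_iff.1 hE
  set a := aug D
  set b := aug E
  have haa : a * a ≤ a := aug_mul D
  have hbb : b * b ≤ b := aug_mul E
  have hba : b * a ≤ a * b + a := by
    show aug E * aug D ≤ _
    rw [aug, aug, Submodule.span_mul_span, Submodule.span_le]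
    rintro _ ⟨_, ⟨e, he, rfl⟩, _, ⟨d, hd, rfl⟩, rfl⟩
    have hd' : e * d * e⁻¹ ∈ D := (Subgroup.mem_normalizer_iff.1 (hN he) d).1 hd
    have h1 := dif_mul e d
    have h2 := dif_mul (e * d * e⁻¹) e
    rw [inv_mul_cancel_right, h1] at h2
    have h3 : dif e * dif d = dif (e * d * e⁻¹) * dif e + (dif (e * d * e⁻¹) - dif d) := by
      have h4 := congrArg (fun z => z - dif e - dif d) h2
      calc dif e * dif d = dif e + dif d + dif e * dif d - dif e - dif d := by abel
        _ = _ := h4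
        _ = _ := by abel
    show dif e * dif d ∈ a * b + a
    rw [h3]
    exact Submodule.add_mem_sup (Submodule.mul_mem_mul (dif_mem_aug hd') (dif_mem_aug he))
      (sub_mem (dif_mem_aug hd') (dif_mem_aug hd))
  set J := a + a * b with hJ
  have hab : a * b * b ≤ a * b := by rw [mul_assoc]; exact mul_le_mul' le_rfl hbb
  have hJb : J * b ≤ J := by
    rw [hJ, add_mul]
    exact sup_le le_sup_right (hab.trans le_sup_right)
  have haJ : a * J ≤ J := by
    rw [hJ, mul_add, ← mul_assoc]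
    exact sup_le (haa.trans le_sup_left) ((mul_le_mul' haa le_rfl).trans le_sup_right)
  have hbJ : b * J ≤ J := by
    have h2 : (a * b + a) * b ≤ J := by
      rw [add_mul]; exact sup_le (hab.trans le_sup_right) le_sup_right
    rw [hJ, mul_add, ← mul_assoc]
    exact sup_le (hba.trans (sup_le le_sup_right le_sup_left)) ((mul_le_mul' hba le_rfl).trans h2)
  have hJJ : J * J ≤ J := by
    nth_rewrite 1 [hJ]
    rw [add_mul, mul_assoc]
    exact sup_le haJ ((mul_le_mul' le_rfl hbJ).trans haJ)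
  set T := b + J with hT
  have hJT : J * T ≤ J := by rw [hT, mul_add]; exact sup_le hJb hJJ
  have hTJ : T * J ≤ J := by rw [hT, add_mul]; exact sup_le hbJ hJJ
  have hTT : T * T ≤ T := by
    nth_rewrite 1 [hT]
    rw [add_mul]
    refine sup_le ?_ (hJT.trans le_sup_right)
    rw [hT, mul_add]
    exact sup_le (hbb.trans le_sup_left) (hbJ.trans le_sup_right)
  have hTpow : ∀ m : ℕ, T ^ (m + 1) ≤ b ^ (m + 1) + J := by
    intro m
    induction m with
    | zero => rw [pow_one, pow_one]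
    | succ m ih =>
      rw [pow_succ T (m + 1)]
      refine (mul_le_mul' ih le_rfl).trans ?_
      rw [add_mul]
      refine sup_le ?_ (hJT.trans le_sup_right)
      rw [hT, mul_add, ← pow_succ]
      refine sup_le le_sup_left ?_
      have : ∀ i : ℕ, b ^ (i + 1) * J ≤ J := by
        intro i
        induction i with
        | zero => rw [pow_one]; exact hbJ
        | succ i ih' => rw [pow_succ, mul_assoc]; exact (mul_le_mul' le_rfl hbJ).trans ih'
      exact (this m).trans le_sup_right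
  have hJpow : ∀ m : ℕ, J ^ (m + 1) ≤ a ^ (m + 1) + a ^ (m + 1) * b := by
    intro m
    induction m with
    | zero => rw [pow_one, pow_one]
    | succ m ih =>
      rw [pow_succ J (m + 1)]
      refine (mul_le_mul' ih le_rfl).trans ?_
      rw [add_mul]
      refine sup_le ?_ ?_
      · rw [hJ, mul_add, ← mul_assoc, ← pow_succ]
      · rw [mul_assoc]
        have hbJ' : b * J ≤ a + a * b := hbJ
        refine (mul_le_mul' le_rfl hbJ').trans ?_
        rw [mul_add, ← mul_assoc, ← pow_succ]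
  have hJbot : J ^ (na + 1) = ⊥ := by
    refine eq_bot_iff.2 ((hJpow na).trans (le_of_eq ?_))
    rw [pow_succ, ha]
    simp
  have hTbot : T ^ ((nb + 1) * (na + 1)) = ⊥ := by
    rw [pow_mul]
    refine eq_bot_iff.2 (hJbot ▸ pow_le_pow_left' ((hTpow nb).trans ?_) _)
    rw [pow_succ, hb]
    simp
  refine unip_of_le ?_ hTbot
  refine Submodule.span_le.2 ?_
  rintro _ ⟨g, hg, rfl⟩
  have hgset : g ∈ (D : Set GL') * (E : Set GL') := by
    rw [← Subgroup.coe_mul_of_right_le_normalizer_left D E hN]; exact hg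
  obtain ⟨d, hd, e, he, rfl⟩ := hgset
  show dif (d * e) ∈ T
  rw [dif_mul, hT, hJ]
  refine add_mem (add_mem ?_ (Submodule.mem_sup_left (dif_mem_aug he))) ?_
  · exact Submodule.mem_sup_right (Submodule.mem_sup_left (dif_mem_aug hd))
  · exact Submodule.mem_sup_right (Submodule.mem_sup_right (Submodule.mul_mem_mul (dif_mem_aug hd) (dif_mem_aug he)))

/-- Unipotent groups are nilpotent. -/
theorem unip_nilpotent {H : Subgroup GL'} (h : IsUnipotentOn H) : Group.IsNilpotent H := by
  obtain ⟨n, hn⟩ := unip_iff.1 h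
  set a := aug H with ha
  have hanti : ∀ j : ℕ, a ^ (j + 2) ≤ a ^ (j + 1) := fun j => by
    rw [pow_succ a (j + 1), pow_succ a j, mul_assoc]
    exact mul_le_mul' le_rfl (aug_mul H)
  have hright : ∀ (j : ℕ), ∀ z ∈ a ^ (j + 1), ∀ g : GL', g ∈ H → z * (g : M →ₗ[k] M) ∈ a ^ (j + 1) :=
    fun j z hz g hg => by
      rw [coe_eq g, mul_add, mul_one]
      refine add_mem hz (hanti j ?_)
      rw [pow_succ a (j + 1)]
      exact Submodule.mul_mem_mul hz (dif_mem_aug hg)
  let P : ℕ → Subgroup ↥H := fun j =>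
    { carrier := {g | dif (g : GL') ∈ a ^ (j + 1)}
      one_mem' := by simp only [Set.mem_setOf_eq, OneMemClass.coe_one, dif_one]; exact Submodule.zero_mem _
      mul_mem' := fun {x y} hx hy => by
        simp only [Set.mem_setOf_eq, Subgroup.coe_mul]
        rw [show dif ((x : GL') * (y : GL')) = dif (y : GL') + dif (x : GL') * ((y : GL') : M →ₗ[k] M) by
          rw [coe_eq (y : GL'), mul_add, mul_one, dif_mul]; abel]
        exact add_mem hy (hright j _ hx _ y.2)
      inv_mem' := fun {x} hx => by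
        simp only [Set.mem_setOf_eq, Subgroup.coe_inv]
        rw [show dif (x : GL')⁻¹ = -(dif (x : GL') * (((x : GL')⁻¹ : GL') : M →ₗ[k] M)) by
          have h0 := dif_mul (x : GL') (x : GL')⁻¹
          rw [mul_inv_cancel, dif_one] at h0
          rw [coe_eq ((x : GL')⁻¹), mul_add, mul_one, ← sub_eq_zero]
          rw [h0]; abel]
        exact neg_mem (hright j _ hx _ (inv_mem x.2)) }
  refine (Subgroup.nilpotent_iff_finite_descending_central_series _).2 ⟨n, P, ⟨?_, fun x j hx g => ?_⟩, ?_⟩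
  · refine eq_top_iff.2 fun g _ => ?_
    show dif (g : GL') ∈ a ^ (0 + 1)
    rw [pow_one]; exact dif_mem_aug g.2
  · show dif (⁅(x : GL'), (g : GL')⁆) ∈ a ^ (j + 1 + 1)
    have hx' : dif (x : GL') ∈ a ^ (j + 1) := hx
    have e : dif (⁅(x : GL'), (g : GL')⁆) =
        (dif (x : GL') * dif (g : GL') - dif (g : GL') * dif (x : GL')) * ((((g : GL') * x)⁻¹ : GL') : M →ₗ[k] M) := by
      rw [commutatorElement_def, show (x : GL') * g * (x : GL')⁻¹ * (g : GL')⁻¹ = (x : GL') * g * ((g : GL') * x)⁻¹ by group]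
      show ((((x : GL') * g) * ((g : GL') * x)⁻¹ : GL') : M →ₗ[k] M) - 1 = _
      have h1 : (((g : GL') * x : GL') : M →ₗ[k] M) * ((((g : GL') * x)⁻¹ : GL') : M →ₗ[k] M) = 1 := Units.mul_inv _
      conv_lhs => rw [← h1]
      rw [Units.val_mul, ← sub_mul]
      congr 1
      rw [Units.val_mul, Units.val_mul, coe_eq (x : GL'), coe_eq (g : GL')]
      simp only [mul_add, mul_one, add_mul, one_mul]
      abel
    rw [e]
    refine hright (j + 1) _ (sub_mem ?_ ?_) _ (inv_mem (mul_mem g.2 x.2))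
    · rw [pow_succ a (j + 1)]; exact Submodule.mul_mem_mul hx' (dif_mem_aug g.2)
    · rw [pow_succ' a (j + 1)]; exact Submodule.mul_mem_mul (dif_mem_aug g.2) hx'
  · refine (Subgroup.eq_bot_iff_forall _).2 fun g hg => Subtype.ext (dif_eq_zero.1 ?_)
    have hg' : dif (g : GL') ∈ a ^ (n + 1) := hg
    rw [pow_succ, hn] at hg'
    simpa using hg'

variable [FiniteDimensional k M]

/-- A conjugation invariant family of pairwise unipotent subgroups generates a unipotent group. -/
theorem unip_iSup {G : Subgroup GL'} {W : Set (Subgroup GL')} (hWG : ∀ A ∈ W, A ≤ G)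
    (hWW : ∀ A ∈ W, ∀ B ∈ W, IsUnipotentOn (A ⊔ B)) (hWconj : ∀ A ∈ W, ∀ g ∈ G, conjBy A g ∈ W) :
    IsUnipotentOn (⨆ A ∈ W, A) := by
  classical
  let span : Set (Subgroup GL') → Subgroup GL' := fun U => ⨆ A ∈ U, A
  let rk : Set (Subgroup GL') → ℕ := fun U => Module.finrank k (aug (span U))
  let clo : Set (Subgroup GL') → Set (Subgroup GL') := fun U => {A | A ∈ W ∧ ∀ g ∈ A, dif g ∈ aug (span U)}
  have hbound : ∀ U, rk U ≤ Module.finrank k (Module.End k M) := fun U => Submodule.finrank_le _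
  have hsub : ∀ {U}, U ⊆ W → U ⊆ clo U := fun {U} hU A hA => ⟨hU hA, fun g hg =>
    dif_mem_aug (le_iSup₂ (f := fun (A : Subgroup GL') (_ : A ∈ U) => A) A hA hg)⟩
  have haug : ∀ {U}, aug (span (clo U)) ≤ aug (span U) := by
    intro U
    let Hs : Subgroup GL' :=
      { carrier := {g | dif g ∈ aug (span U) ∧ dif g⁻¹ ∈ aug (span U)}
        one_mem' := ⟨by rw [dif_one]; exact Submodule.zero_mem _, by rw [inv_one, dif_one]; exact Submodule.zero_mem _⟩
        mul_mem' := fun {x y} hx hy => by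
          refine ⟨?_, ?_⟩
          · rw [dif_mul]
            exact add_mem (add_mem hx.1 hy.1) (aug_mul _ (Submodule.mul_mem_mul hx.1 hy.1))
          · rw [mul_inv_rev, dif_mul]
            exact add_mem (add_mem hy.2 hx.2) (aug_mul _ (Submodule.mul_mem_mul hy.2 hx.2))
        inv_mem' := fun {x} hx => ⟨hx.2, by rw [inv_inv]; exact hx.1⟩ }
    refine Submodule.span_le.2 ?_
    rintro _ ⟨g, hg, rfl⟩
    have : span (clo U) ≤ Hs := iSup₂_le fun A hA x hx => ⟨hA.2 x hx, hA.2 _ (inv_mem hx)⟩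
    exact (this hg).1
  have hclo : ∀ {U}, IsUnipotentOn (span U) → IsUnipotentOn (span (clo U)) := fun {U} h => by
    obtain ⟨n, hn⟩ := unip_iff.1 h
    exact unip_of_le haug hn
  have hle : ∀ {U V}, U ⊆ V → aug (span U) ≤ aug (span V) := fun {U V} h =>
    Submodule.span_mono (Set.image_mono (SetLike.coe_subset_coe.2 (biSup_mono h)))
  -- maximal closed unipotent families
  let IsMaxU : Set (Subgroup GL') → Prop := fun P => P ⊆ W ∧ IsUnipotentOn (span P) ∧
    ∀ V ⊆ W, P ⊆ V → IsUnipotentOn (span V) → V = P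
  have hext : ∀ U ⊆ W, IsUnipotentOn (span U) → ∃ P, U ⊆ P ∧ IsMaxU P := by
    intro U hU hu
    have hex : ∃ m, ∃ V ⊆ W, U ⊆ V ∧ IsUnipotentOn (span V) ∧ Module.finrank k (Module.End k M) - rk V = m :=
      ⟨_, U, hU, subset_rfl, hu, rfl⟩
    obtain ⟨V, hV, hUV, huV, hm⟩ := Nat.find_spec hex
    refine ⟨clo V, hUV.trans (hsub hV), fun A hA => hA.1, hclo huV, fun V' hV' hsubV hu' => ?_⟩
    refine Set.Subset.antisymm (fun A hA => ⟨hV' hA, fun g hg => ?_⟩) hsubV
    have h1 : aug (span V) ≤ aug (span V') := hle ((hsub hV).trans hsubV)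
    have h2 := Nat.find_min' hex ⟨V', hV', hUV.trans ((hsub hV).trans hsubV), hu', rfl⟩
    have h3 := hbound V
    have h4 := hbound V'
    have h5 : rk V' ≤ rk V := by omega
    rw [Submodule.eq_of_le_of_finrank_le h1 h5]
    exact dif_mem_aug (le_iSup₂ (f := fun (A : Subgroup GL') (_ : A ∈ V') => A) A hA hg)
  by_contra hcon
  -- two different maximal families with the largest common part
  have hempty : IsUnipotentOn (span (∅ : Set (Subgroup GL'))) :=
    ⟨1, fun l hl hlen => by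
      obtain ⟨x, rfl⟩ := List.length_eq_one_iff.1 hlen
      have hx : x ∈ (⊥ : Subgroup GL') := by simpa [span] using hl x (by simp)
      rw [Subgroup.mem_bot.1 hx]
      simp⟩
  obtain ⟨P0, -, hP0⟩ := hext ∅ (Set.empty_subset _) hempty
  have hP0ne : ∃ A ∈ W, A ∉ P0 := by
    by_contra h
    push Not at h
    exact hcon (Set.Subset.antisymm hP0.1 h ▸ hP0.2.1)
  obtain ⟨A0, hA0, hA0'⟩ := hP0ne
  obtain ⟨Q0, hAQ0, hQ0⟩ := hext {A0} (Set.singleton_subset_iff.2 hA0) (by
    have := hWW A0 hA0 A0 hA0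
    rw [sup_idem] at this
    simpa [span] using this)
  have hex : ∃ m, ∃ P Q, IsMaxU P ∧ IsMaxU Q ∧ P ≠ Q ∧ Module.finrank k (Module.End k M) - rk (P ∩ Q) = m :=
    ⟨_, P0, Q0, hP0, hQ0, fun e => hA0' (e ▸ hAQ0 rfl), rfl⟩
  obtain ⟨P, Q, hP, hQ, hPQ, hm⟩ := Nat.find_spec hex
  set D := P ∩ Q with hDdef
  have hDW : D ⊆ W := fun A hA => hP.1 hA.1
  have hDuni : IsUnipotentOn (span D) := unip_mono (biSup_mono Set.inter_subset_left) hP.2.1
  have hclosed : ∀ {R}, IsMaxU R → clo R = R := fun {R} hR =>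
    hR.2.2 _ (fun A hA => hA.1) (hsub hR.1) (hclo hR.2.1)
  have hnormal : ∀ R, IsMaxU R → D ⊆ R → D ≠ R →
      ∃ A ∈ R, A ∉ D ∧ A ≤ Subgroup.normalizer (span D : Set GL') := by
    intro R hR hDR hne
    by_cases hall : span R ≤ Subgroup.normalizer (span D : Set GL')
    · obtain ⟨A, hA, hA'⟩ := Set.exists_of_ssubset (hDR.ssubset_of_ne hne)
      exact ⟨A, hA, hA', (le_iSup₂ (f := fun (A : Subgroup GL') (_ : A ∈ R) => A) A hA).trans hall⟩
    haveI := unip_nilpotent hR.2.1
    set R' := span R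
    set N := Subgroup.normalizer (span D : Set GL') ⊓ R' with hN
    have hlt : N.subgroupOf R' < ⊤ := lt_top_iff_ne_top.2 fun e => hall (fun x hx => by
      have : (⟨x, hx⟩ : R') ∈ N.subgroupOf R' := e.ge (Subgroup.mem_top _)
      exact (Subgroup.mem_subgroupOf.1 this).1)
    obtain ⟨g, hg, hgN⟩ := SetLike.exists_of_lt (Group.normalizerCondition_of_isNilpotent _ hlt)
    have hgR : (g : GL') ∈ R' := g.2
    have hgnN : (g : GL') ∉ Subgroup.normalizer (span D : Set GL') := fun h => hgN (Subgroup.mem_subgroupOf.2 ⟨h, hgR⟩)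
    have hDD : span D ≤ R' := biSup_mono hDR
    have hgconj : ∀ x ∈ span D, (g : GL') * x * (g : GL')⁻¹ ∈ N := fun x hx => by
      have := (Subgroup.mem_normalizer_iff.1 hg ⟨x, hDD hx⟩).1 (Subgroup.mem_subgroupOf.2 ⟨Subgroup.le_normalizer hx, hDD hx⟩)
      exact Subgroup.mem_subgroupOf.1 this
    have hgG : (g : GL') ∈ G := (iSup₂_le fun A hA => hWG A (hR.1 hA) : R' ≤ G) hgR
    by_cases hsubD : ∀ A ∈ D, conjBy A (g : GL') ∈ D ∧ conjBy A (g : GL')⁻¹ ∈ D
    · exfalso
      refine hgnN (Subgroup.mem_normalizer_iff.2 fun x => ⟨fun hx => ?_, fun hx => ?_⟩)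
      · have hle' : span D ≤ conjBy (span D) (g : GL')⁻¹ := iSup₂_le fun A hA => by
          refine (le_of_eq (RankOne.cj_inv_cj (g : GL')).symm).trans (Subgroup.map_mono ?_)
          exact le_iSup₂ (f := fun (A : Subgroup GL') (_ : A ∈ D) => A) _ (hsubD A hA).1
        have := RankOne.mem_cj.1 (hle' hx)
        rwa [inv_inv] at this
      · have hle' : span D ≤ conjBy (span D) (g : GL') := iSup₂_le fun A hA => by
          refine (le_of_eq (RankOne.cj_cj_inv (g : GL')).symm).trans (Subgroup.map_mono ?_)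
          exact le_iSup₂ (f := fun (A : Subgroup GL') (_ : A ∈ D) => A) _ (hsubD A hA).2
        have := RankOne.mem_cj.1 (hle' hx)
        simpa [mul_assoc] using this
    push Not at hsubD
    obtain ⟨A, hA, hA'⟩ := hsubD
    have hinR : ∀ {g' : GL'}, g' ∈ R' → conjBy A g' ∈ R := fun {g'} hg' => by
      rw [← hclosed hR]
      refine ⟨hWconj A (hDW hA) g' ((iSup₂_le fun A hA => hWG A (hR.1 hA) : R' ≤ G) hg'), ?_⟩
      rintro _ ⟨a, ha, rfl⟩
      exact dif_mem_aug (mul_mem (mul_mem hg' (le_iSup₂ (f := fun (A : Subgroup GL') (_ : A ∈ R) => A) A (hDR hA) ha)) (inv_mem hg'))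
    have hgconj' : ∀ x ∈ span D, (g : GL')⁻¹ * x * (g : GL')⁻¹⁻¹ ∈ N := fun x hx => by
      have := (Subgroup.mem_normalizer_iff.1 (inv_mem hg) ⟨x, hDD hx⟩).1 (Subgroup.mem_subgroupOf.2 ⟨Subgroup.le_normalizer hx, hDD hx⟩)
      exact Subgroup.mem_subgroupOf.1 this
    by_cases h1 : conjBy A (g : GL') ∈ D
    · refine ⟨_, hinR (inv_mem hgR), hA' h1, ?_⟩
      rintro _ ⟨a, ha, rfl⟩
      exact (hgconj' a (le_iSup₂ (f := fun (A : Subgroup GL') (_ : A ∈ D) => A) A hA ha)).1
    · refine ⟨_, hinR hgR, h1, ?_⟩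
      rintro _ ⟨a, ha, rfl⟩
      exact (hgconj a (le_iSup₂ (f := fun (A : Subgroup GL') (_ : A ∈ D) => A) A hA ha)).1
  obtain ⟨A, hAP, hAD, hAn⟩ := hnormal P hP Set.inter_subset_left fun e =>
    hPQ (hP.2.2 Q hQ.1 (fun X hX => (e ▸ hX : X ∈ D).2) hQ.2.1).symm
  obtain ⟨B, hBQ, hBD, hBn⟩ := hnormal Q hQ Set.inter_subset_right fun e =>
    hPQ (hQ.2.2 P hP.1 (fun X hX => (e ▸ hX : X ∈ D).1) hP.2.1)
  have hR : IsUnipotentOn (span (insert A (insert B D))) := by
    have h := unip_sup hDuni (hWW A (hP.1 hAP) B (hQ.1 hBQ)) (sup_le hAn hBn)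
    have e : span (insert A (insert B D)) = span D ⊔ (A ⊔ B) := by
      show (⨆ X ∈ insert A (insert B D), X) = _
      rw [iSup_insert, iSup_insert, sup_comm (⨆ X ∈ D, X) (A ⊔ B), sup_assoc]
    rw [e]; exact h
  obtain ⟨P', hsubP', hP'⟩ := hext _ (Set.insert_subset (hP.1 hAP) (Set.insert_subset (hQ.1 hBQ) hDW)) hR
  have hmeas : ∀ {R R'}, IsMaxU R → IsMaxU R' → D ⊆ R → D ⊆ R' → ∀ X, X ∈ R → X ∈ R' → X ∉ D → R = R' := by
    intro R R' hR' hR'' hDR hDR' X hX hX' hXD
    by_contra hne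
    have h1 : aug (span D) ≤ aug (span (R ∩ R')) := hle (Set.subset_inter hDR hDR')
    have h2 := Nat.find_min' hex ⟨R, R', hR', hR'', hne, rfl⟩
    have h3 := hbound D
    have h4 := hbound (R ∩ R')
    have h5 : rk (R ∩ R') ≤ rk D := by omega
    have hXc : X ∈ clo D := by
      refine ⟨hR'.1 hX, fun g hg => ?_⟩
      rw [Submodule.eq_of_le_of_finrank_le h1 h5]
      exact dif_mem_aug (le_iSup₂ (f := fun (A : Subgroup GL') (_ : A ∈ R ∩ R') => A) X ⟨hX, hX'⟩ hg)
    refine hXD ⟨?_, ?_⟩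
    · exact (hclosed hP).le ⟨hXc.1, fun g hg => hle Set.inter_subset_left (hXc.2 g hg)⟩
    · exact (hclosed hQ).le ⟨hXc.1, fun g hg => hle Set.inter_subset_right (hXc.2 g hg)⟩
  have hDP' : D ⊆ P' := fun X hX => hsubP' (Or.inr (Or.inr hX))
  have e1 : P = P' := hmeas hP hP' Set.inter_subset_left hDP' A hAP (hsubP' (Or.inl rfl)) hAD
  have e2 : Q = P' := hmeas hQ hP' Set.inter_subset_right hDP' B hBQ (hsubP' (Or.inr (Or.inl rfl))) hBD
  exact hPQ (e1.trans e2.symm)

end CfsgLib.Inv.Quad
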