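import Cfsg.Agent.Inv.ModuleFixed
import Cfsg.Agent.Inv.ThompsonA
import Cfsg.Agent.Fus.Saturation

/-!
Glauberman: central elements of `N(J(S))` are weakly closed.
-/

set_option autoImplicit false
set_option linter.style.haveILetI false
set_option linter.deprecated false
set_option linter.unusedSectionVars false

open scoped Pointwise

namespace CfsgLib.Inv.WC

open CfsgLib.Solv CfsgLib.Inv.ZJ

universe u

section Abstract

variable {X W : Type*} [Group X] [CommGroup W] {p : ℕ}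

/-- The fixed points of a subgroup. -/
def fixA (θ : X →* MulAut W) (A : Subgroup X) : Subgroup W where
  carrier := {w | ∀ a ∈ A, θ a w = w}
  one_mem' := fun a _ => map_one _
  mul_mem' := fun {v w} hv hw a ha => by rw [map_mul, hv a ha, hw a ha]
  inv_mem' := fun {v} hv a ha => by rw [map_inv, hv a ha]

theorem Quad.mono {θ : X →* MulAut W} {A B : Subgroup X} (h : Quad p θ A) (hle : B ≤ A) : Quad p θ B :=
  ⟨fun a ha b hb => h.comm a (hle ha) b (hle hb), fun a ha b hb => h.quad a (hle ha) b (hle hb),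
    fun a ha => h.expp a (hle ha)⟩

theorem apply_inv_apply (θ : X →* MulAut W) (g : X) (w : W) : θ g (θ g⁻¹ w) = w := by
  rw [map_inv, MulAut.apply_inv_self]

theorem inv_apply_apply (θ : X →* MulAut W) (g : X) (w : W) : θ g⁻¹ (θ g w) = w := by
  rw [map_inv, MulAut.inv_apply_self]

theorem conj_apply' (θ : X →* MulAut W) (g a : X) (w : W) : θ (g * a * g⁻¹) w = θ g (θ a (θ g⁻¹ w)) := by
  rw [map_mul, map_mul, MulAut.mul_apply, MulAut.mul_apply]

theorem Quad.conj {θ : X →* MulAut W} {A : Subgroup X} (h : Quad p θ A) (g : X) :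
    Quad p θ (MulAut.conj g • A) := by
  have e : ∀ (a : X) (w : W), θ (g * a * g⁻¹) w = θ g (θ a (θ g⁻¹ w)) := fun a w => by
    simp [map_mul, MulAut.mul_apply]
  have e2 : ∀ (a : X) (w : W), w⁻¹ * θ (g * a * g⁻¹) w = θ g ((θ g⁻¹ w)⁻¹ * θ a (θ g⁻¹ w)) := fun a w => by
    rw [e, map_mul (θ g), map_inv (θ g), apply_inv_apply]
  refine ⟨?_, ?_, ?_⟩
  · rintro _ ⟨a, ha, rfl⟩ _ ⟨b, hb, rfl⟩
    show MulAut.conj g a * MulAut.conj g b = MulAut.conj g b * MulAut.conj g a
    rw [← map_mul, ← map_mul, h.comm a ha b hb]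
  · rintro _ ⟨a, ha, rfl⟩ _ ⟨b, hb, rfl⟩ w
    show θ (g * b * g⁻¹) (w⁻¹ * θ (g * a * g⁻¹) w) = w⁻¹ * θ (g * a * g⁻¹) w
    rw [e2, e, inv_apply_apply, h.quad a ha b hb]
  · rintro _ ⟨a, ha, rfl⟩ w
    show (w⁻¹ * θ (g * a * g⁻¹) w) ^ p = 1
    rw [e2, ← map_pow, h.expp a ha, map_one]

theorem card_fixA_conj [Finite W] (θ : X →* MulAut W) (A : Subgroup X) (g : X) :
    Nat.card (fixA θ (MulAut.conj g • A)) = Nat.card (fixA θ A) := by
  have h : fixA θ (MulAut.conj g • A) = (fixA θ A).map (θ g).toMonoidHom := by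
    ext w
    constructor
    · intro hw
      refine ⟨θ g⁻¹ w, fun a ha => ?_, apply_inv_apply θ g w⟩
      have h1 : θ (g * a * g⁻¹) w = w := hw _ ⟨a, ha, rfl⟩
      have h2 := congrArg (θ g⁻¹) h1
      rwa [conj_apply', inv_apply_apply] at h2
    · rintro ⟨v, hv, rfl⟩ _ ⟨a, ha, rfl⟩
      show θ (g * a * g⁻¹) (θ g v) = θ g v
      rw [conj_apply', inv_apply_apply, hv a ha]
  rw [h, Subgroup.card_map_of_injective (θ g).injective]

/-- A transvection produces an inverted element of order three. -/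
theorem no_transvection [Finite X] [Finite W] (θ : X →* MulAut W) (hθ : Function.Injective θ)
    (hW2 : ∀ w : W, w ^ 2 = 1) (hO : ∀ N : Subgroup X, N.Normal → IsPGroup 2 N → N = ⊥)
    (h3 : ∀ y a : X, y ^ 3 = 1 → y ≠ 1 → a ^ 2 = 1 → a * y * a = y⁻¹ → False)
    (t : X) (ht2 : t * t = 1) (ht1 : t ≠ 1) (C : Subgroup W) (hC : ∀ w ∈ C, θ t w = w) (hidx : C.index ≤ 2) :
    False := by
  classical
  haveI : Fact (Nat.Prime 2) := ⟨Nat.prime_two⟩
  have hinv : ∀ w : W, w⁻¹ = w := fun w => inv_eq_of_mul_eq_one_right (by rw [← pow_two, hW2])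
  have hidx2 : C.index = 2 := by
    rcases Nat.lt_or_ge C.index 2 with h | h
    · exfalso
      have h1 : C = ⊤ := Subgroup.index_eq_one.1 (by
        have := Subgroup.FiniteIndex.index_ne_zero (H := C); omega)
      exact ht1 (hθ (MulEquiv.ext fun w => by rw [map_one, MulAut.one_apply]; exact hC w (h1 ▸ Subgroup.mem_top w)))
    · omega
  obtain ⟨u, hu⟩ : ∃ u : W, ∀ w, θ t w = w ∨ θ t w = w * u := by
    obtain ⟨w₀, hw₀⟩ : ∃ w₀, w₀ ∉ C := by
      by_contra hcon
      push Not at hcon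
      rw [(Subgroup.eq_top_iff' C).2 hcon, Subgroup.index_top] at hidx2
      omega
    refine ⟨w₀⁻¹ * θ t w₀, fun w => ?_⟩
    by_cases hw : w ∈ C
    · exact .inl (hC w hw)
    · right
      have h1 : w * w₀ ∈ C := (Subgroup.mul_mem_iff_of_index_two hidx2).2 (iff_of_false hw hw₀)
      have h2 := hC _ h1
      rw [map_mul] at h2
      rw [hinv w₀, eq_mul_inv_of_mul_eq h2, hinv (θ t w₀)]
      ac_rfl
  -- two conjugates not generating a 2-group
  obtain ⟨g, hg⟩ : ∃ g : X, ¬ IsPGroup 2 ↥(Subgroup.zpowers t ⊔ Subgroup.zpowers (g * t * g⁻¹)) := by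
    by_contra hcon
    push Not at hcon
    set Ω : Set (Subgroup X) := {Y | ∃ g : X, Y = Subgroup.zpowers (g * t * g⁻¹)} with hΩ
    have hmap : ∀ (g : X) (s : X), (Subgroup.zpowers s).map (MulAut.conj g).toMonoidHom =
        Subgroup.zpowers (g * s * g⁻¹) := fun g s => MonoidHom.map_zpowers _ s
    have hB : IsPGroup 2 ↥(sSup Ω) := by
      refine CfsgLib.Inv.baer_suzuki Ω ?_ ?_
      · rintro _ ⟨a, rfl⟩ b
        exact ⟨b * a, by rw [hmap]; group⟩
      · rintro _ ⟨a, rfl⟩ _ ⟨b, rfl⟩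
        have h1 := (hcon (a⁻¹ * b)).map (MulAut.conj a).toMonoidHom
        rw [Subgroup.map_sup, hmap, hmap] at h1
        rwa [show a * (a⁻¹ * b * t * (a⁻¹ * b)⁻¹) * a⁻¹ = b * t * b⁻¹ by group] at h1
    haveI hn : (sSup Ω).Normal := by
      refine ⟨fun y hy b => ?_⟩
      have : (sSup Ω).map (MulAut.conj b).toMonoidHom ≤ sSup Ω := by
        rw [Subgroup.map_le_iff_le_comap]
        refine sSup_le ?_
        rintro _ ⟨a, rfl⟩
        rw [← Subgroup.map_le_iff_le_comap, hmap]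
        exact le_sSup ⟨b * a, by group⟩
      exact this ⟨y, hy, rfl⟩
    have h1 : t ∈ sSup Ω := (le_sSup (show Subgroup.zpowers t ∈ Ω from ⟨1, by simp⟩)) (Subgroup.mem_zpowers t)
    rw [hO _ hn hB, Subgroup.mem_bot] at h1
    exact ht1 h1
  set t' := g * t * g⁻¹ with ht'
  set u' := θ g u with hu'
  have ht'2 : t' * t' = 1 := by rw [ht']; simp [mul_assoc, ← mul_assoc t t, ht2]
  have hu'' : ∀ w, θ t' w = w ∨ θ t' w = w * u' := by
    intro w
    have e : θ g (θ g⁻¹ w) = w := by rw [← MulAut.mul_apply, ← map_mul, mul_inv_cancel, map_one, MulAut.one_apply]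
    rcases hu (θ g⁻¹ w) with h | h
    · left; rw [ht', map_mul, map_mul, MulAut.mul_apply, MulAut.mul_apply, h, e]
    · right; rw [ht', map_mul, map_mul, MulAut.mul_apply, MulAut.mul_apply, h, map_mul, e]
  set y := t * t' with hy
  have hty : t * y * t⁻¹ = y⁻¹ := by
    rw [hy, mul_inv_rev, inv_eq_of_mul_eq_one_right ht2, inv_eq_of_mul_eq_one_right ht'2, ← mul_assoc t t, ht2, one_mul]
  -- the order is not a power of two
  obtain ⟨j, n, hn, hjn⟩ := Nat.exists_eq_two_pow_mul_odd (orderOf_pos y).ne'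
  have hn1 : n ≠ 1 := by
    intro hn1
    apply hg
    have hyp : IsPGroup 2 ↥(Subgroup.zpowers y) := by
      refine IsPGroup.of_card (n := j) ?_
      rw [Nat.card_zpowers, hjn, hn1, mul_one]
    have htp : IsPGroup 2 ↥(Subgroup.zpowers t) := by
      refine IsPGroup.of_card (n := 1) ?_
      rw [Nat.card_zpowers, orderOf_eq_prime (by rw [pow_two, ht2]) ht1, pow_one]
    have hnorm : Subgroup.zpowers t ≤ Subgroup.normalizer (Subgroup.zpowers y : Set X) := by
      rw [Subgroup.zpowers_le]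
      refine Subgroup.mem_normalizer_fintype fun z hz => ?_
      obtain ⟨i, rfl⟩ := Subgroup.mem_zpowers_iff.1 hz
      rw [← conj_zpow, hty]
      exact Subgroup.zpow_mem _ (Subgroup.inv_mem _ (Subgroup.mem_zpowers y)) i
    refine ((hyp.to_sup_of_normal_left' htp hnorm)).to_le (sup_le le_sup_right ?_)
    rw [Subgroup.zpowers_le, show t' = t * y by rw [hy, ← mul_assoc, ht2, one_mul]]
    exact mul_mem (Subgroup.mem_sup_right (Subgroup.mem_zpowers t)) (Subgroup.mem_sup_left (Subgroup.mem_zpowers y))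
  set y' := y ^ 2 ^ j with hy'
  have hy'n : y' ^ n = 1 := by rw [hy', ← pow_mul, ← hjn, pow_orderOf_eq_one]
  have hy'1 : y' ≠ 1 := by
    intro h
    have h1 := Nat.le_of_dvd (by positivity) (orderOf_dvd_of_pow_eq_one h)
    rw [hjn] at h1
    have h3 : 2 ^ j * 2 ≤ 2 ^ j * n := Nat.mul_le_mul_left _ (by have := hn.pos; omega)
    have : 0 < 2 ^ j := by positivity
    omega
  -- the subgroup moved into
  let L : Subgroup W :=
    { carrier := {w | w = 1 ∨ w = u ∨ w = u' ∨ w = u * u'}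
      one_mem' := .inl rfl
      mul_mem' := by
        have h2u : u * u = 1 := by rw [← pow_two, hW2]
        have h2u' : u' * u' = 1 := by rw [← pow_two, hW2]
        have e1 : u * (u * u') = u' := by rw [← mul_assoc, h2u, one_mul]
        have e2 : u' * (u * u') = u := by rw [mul_left_comm, h2u', mul_one]
        have e3 : u * u' * u = u' := by rw [mul_comm, ← mul_assoc, h2u, one_mul]
        have e4 : u * u' * u' = u := by rw [mul_assoc, h2u', mul_one]
        have e5 : u * u' * (u * u') = 1 := by rw [mul_mul_mul_comm, h2u, h2u', mul_one]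
        rintro a b (ha | ha | ha | ha) (hb | hb | hb | hb) <;> subst a <;> subst b <;>
          simp only [Set.mem_setOf_eq, one_mul, mul_one, true_or, or_true, h2u, h2u', e1, e2, e3, e4, e5,
            mul_comm u' u]
      inv_mem' := fun {w} hw => by
        show w⁻¹ = 1 ∨ w⁻¹ = u ∨ w⁻¹ = u' ∨ w⁻¹ = u * u'
        rwa [hinv] }
  have huL : u ∈ L := .inr (.inl rfl)
  have hu'L : u' ∈ L := .inr (.inr (.inl rfl))
  have hstep : ∀ (w : W), w⁻¹ * θ y w ∈ L := by
    intro w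
    rw [hy, map_mul, MulAut.mul_apply]
    rcases hu'' w with h | h <;> rw [h]
    · rcases hu w with h1 | h1 <;> rw [h1] <;> simp [L.one_mem, huL]
    · rw [map_mul]
      have hA : u'⁻¹ * θ t u' ∈ L := by rcases hu u' with h1 | h1 <;> rw [h1] <;> simp [L.one_mem, huL]
      have hB : w⁻¹ * θ t w ∈ L := by rcases hu w with h1 | h1 <;> rw [h1] <;> simp [L.one_mem, huL]
      have := L.mul_mem (L.mul_mem hB hA) hu'L
      rwa [show w⁻¹ * θ t w * (u'⁻¹ * θ t u') * u' = w⁻¹ * (θ t w * θ t u') by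
        rw [mul_comm u'⁻¹]; simp [mul_assoc]] at this
  have hstepn : ∀ (i : ℕ) (w : W), w⁻¹ * θ (y ^ i) w ∈ L ∧ (w ∈ L → θ (y ^ i) w ∈ L) := by
    intro i
    induction i with
    | zero => intro w; simp [L.one_mem]
    | succ i ih =>
      intro w
      have hyL : ∀ v ∈ L, θ y v ∈ L := fun v hv => by
        have := L.mul_mem hv (hstep v)
        rwa [mul_inv_cancel_left] at this
      rw [pow_succ', map_mul, MulAut.mul_apply]
      refine ⟨?_, fun hw => hyL _ ((ih w).2 hw)⟩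
      have := L.mul_mem (ih w).1 (hstep (θ (y ^ i) w))
      rwa [mul_assoc, mul_inv_cancel_left] at this
  -- the sixth power fixes `L`
  let σ : Equiv.Perm {v : W // v ∈ L ∧ v ≠ 1} :=
    { toFun := fun v => ⟨θ y' v, ((hstepn _ v).2 v.2.1), fun h => v.2.2 ((θ y').injective (h.trans (map_one _).symm))⟩
      invFun := fun v => ⟨θ y'⁻¹ v, by
        have h1 : y'⁻¹ = y ^ (2 ^ j * (n - 1)) := by
          refine inv_eq_of_mul_eq_one_right ?_
          rw [hy', ← pow_add]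
          rw [show 2 ^ j + 2 ^ j * (n - 1) = 2 ^ j * n by
            rw [Nat.mul_sub, mul_one]; have := Nat.le_mul_of_pos_right (2 ^ j) hn.pos; omega]
          rw [← hjn, pow_orderOf_eq_one]
        rw [h1]
        exact (hstepn _ v).2 v.2.1, fun h => v.2.2 ((θ y'⁻¹).injective (h.trans (map_one _).symm))⟩
      left_inv := fun v => Subtype.ext (inv_apply_apply θ y' v)
      right_inv := fun v => Subtype.ext (apply_inv_apply θ y' v) }
  have hσ6 : σ ^ 6 = 1 := by
    have hc : Nat.card {v : W // v ∈ L ∧ v ≠ 1} ≤ 3 := by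
      refine (Nat.card_le_card_of_injective (fun v => (⟨v.1, by
        rcases v.2.1 with h | h | h | h
        · exact absurd h v.2.2
        all_goals (simp only [Finset.mem_insert, Finset.mem_singleton]; tauto)⟩ : ({u, u', u * u'} : Finset W))) fun a b hab => by simpa [Subtype.ext_iff] using hab).trans ?_
      rw [Nat.card_eq_finsetCard]
      exact Finset.card_le_three
    have h6 : Nat.card (Equiv.Perm {v : W // v ∈ L ∧ v ≠ 1}) ∣ 6 := by
      rw [Nat.card_perm]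
      exact Nat.factorial_dvd_factorial hc
    exact orderOf_dvd_iff_pow_eq_one.1 (orderOf_dvd_natCard σ |>.trans h6)
  have hσi : ∀ (i : ℕ) (v : {v : W // v ∈ L ∧ v ≠ 1}), ((σ ^ i) v : W) = θ (y' ^ i) v := by
    intro i
    induction i with
    | zero => simp
    | succ i ih => intro v; rw [pow_succ', Equiv.Perm.mul_apply, pow_succ', map_mul, MulAut.mul_apply, ← ih]; rfl
  have hfixL : ∀ v ∈ L, θ (y' ^ 6) v = v := by
    intro v hv
    by_cases hv1 : v = 1
    · rw [hv1, map_one]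
    · have := hσi 6 ⟨v, hv, hv1⟩
      rw [hσ6] at this
      exact this.symm
  have h61 : y' ^ 6 = 1 := by
    refine hθ (MulEquiv.ext fun w => ?_)
    rw [map_one, MulAut.one_apply]
    refine CfsgLib.Fus.aut_fix_of_step hW2 hn (y := θ (y' ^ 6)) ?_ (w := w⁻¹ * θ (y' ^ 6) w) (mul_inv_cancel_left _ _).symm
      (hfixL _ ?_)
    · rw [← map_pow, ← pow_mul, mul_comm, pow_mul, hy'n, one_pow, map_one]
    · rw [hy', ← pow_mul]; exact (hstepn _ w).1
  have h31 : y' ^ 3 = 1 :=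
    CfsgLib.Fus.eq_one_of_sq_of_odd_pow (by rw [← pow_mul]; exact h61) hn
      (by rw [← pow_mul, mul_comm, pow_mul, hy'n, one_pow])
  refine h3 y' t h31 hy'1 (by rw [pow_two, ht2]) ?_
  have : t * y' * t⁻¹ = y'⁻¹ := by rw [hy', ← conj_pow, hty, inv_pow]
  rwa [inv_eq_of_mul_eq_one_right ht2] at this

end Abstract

section Groups

variable {G : Type u} [Group G] {p : ℕ}

/-- The general form of `no_inverted_three`. -/
theorem no_inverted_three' [Finite G] (hS4 : ¬ Cfsg.Involves (Equiv.Perm (Fin 4)) G) {W : Subgroup G} [W.Normal]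
    (hW : ∀ u ∈ W, ∀ v ∈ W, u * v = v * u) (hW2 : ∀ v ∈ W, v ^ 2 = 1) (θ : G →* MulAut W)
    (hθ : ∀ (g : G) (v : W), ((θ g v : W) : G) = g * v * g⁻¹) :
    ∀ y ∈ θ.range, ∀ a ∈ θ.range, y ^ 3 = 1 → y ≠ 1 → a ^ 2 = 1 → a * y * a = y⁻¹ → False := by
  rintro _ ⟨y₁, rfl⟩ _ ⟨a₁, rfl⟩ hy3 hy1 ha2 hay
  haveI h2f : Fact (Nat.Prime 2) := ⟨Nat.prime_two⟩
  haveI h3f : Fact (Nat.Prime 3) := ⟨Nat.prime_three⟩
  have hθ1 : ∀ g, θ g = 1 ↔ ∀ v ∈ W, g * v = v * g := by
    intro g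
    constructor
    · intro h v hv
      have h1 := congrArg (fun α : MulAut W => ((α ⟨v, hv⟩ : W) : G)) h
      simp only [hθ, MulAut.one_apply] at h1
      exact mul_inv_eq_iff_eq_mul.1 h1
    · intro h
      refine MulEquiv.ext fun v => Subtype.ext ?_
      rw [hθ, h v v.2, mul_inv_cancel_right]
      rfl
  set L₀ := (Subgroup.zpowers (θ y₁)).comap θ with hL₀
  set L := (Subgroup.normalizer (Subgroup.zpowers (θ y₁) : Set (MulAut W))).comap θ with hL
  obtain ⟨T, -, hT⟩ := CfsgLib.Glau.exists_syl (p := 3) L₀ (bot_le : ⊥ ≤ L₀) IsPGroup.of_bot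
  -- a lift of order a power of three
  obtain ⟨y₀, hy₀T, hy₀⟩ : θ y₁ ∈ T.map θ := by
    have hrange : L₀.map θ = Subgroup.zpowers (θ y₁) := by
      rw [hL₀, Subgroup.map_comap_eq_self]
      rw [Subgroup.zpowers_le]
      exact ⟨y₁, rfl⟩
    have h1 := hT.map θ
    rw [hrange] at h1
    have hp : IsPGroup 3 ↥(Subgroup.zpowers (θ y₁)) := IsPGroup.of_card (n := 1)
      (by rw [Nat.card_zpowers, CfsgLib.Fus.orderOf_three hy3 hy1, pow_one])
    rw [← h1.eq_of_le h1.le le_rfl hp]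
    exact Subgroup.mem_zpowers _
  have ha₁L : a₁ ∈ L := by
    show θ a₁ ∈ Subgroup.normalizer _
    refine Subgroup.mem_normalizer_fintype fun z hz => ?_
    obtain ⟨i, rfl⟩ := Subgroup.mem_zpowers_iff.1 hz
    rw [← conj_zpow, inv_eq_of_mul_eq_one_right (show θ a₁ * θ a₁ = 1 by rw [← pow_two, ha2]), hay]
    exact Subgroup.zpow_mem _ (Subgroup.inv_mem _ (Subgroup.mem_zpowers _)) i
  -- Frattini
  obtain ⟨k, hkT, hθk⟩ : ∃ k ∈ Subgroup.normalizer (T : Set G), ∃ i : ℤ, θ k = θ y₁ ^ i * θ a₁ := by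
    have hTn : Subgroup.normalizer (T : Set G) = Subgroup.normalizer (T : Set G) := rfl
    have h1 : CfsgLib.Glau.cj a₁ T ≤ L₀ := by
      rintro _ ⟨t, ht, rfl⟩
      show θ (a₁ * t * a₁⁻¹) ∈ Subgroup.zpowers (θ y₁)
      rw [map_mul, map_mul, map_inv]
      exact (Subgroup.mem_normalizer_iff.1 (show θ a₁ ∈ Subgroup.normalizer _ from ha₁L) _).1 (hT.le ht)
    obtain ⟨c, hc, hcT⟩ := hT.exists_conj_le h1 (CfsgLib.Glau.isPGroup_cj _ hT.pg)
    rw [← CfsgLib.Glau.cj_mul] at hcT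
    refine ⟨c * a₁, CfsgLib.Glau.mem_normalizer_iff_cj.2
      (Subgroup.eq_of_le_of_card_ge hcT (CfsgLib.Glau.card_cj _ _).ge), ?_⟩
    obtain ⟨i, hi⟩ := Subgroup.mem_zpowers_iff.1 (show θ c ∈ Subgroup.zpowers (θ y₁) from hc)
    exact ⟨i, by rw [map_mul, hi]⟩
  obtain ⟨i, hi⟩ := hθk
  have hconj : θ k * θ y₁ * (θ k)⁻¹ = (θ y₁)⁻¹ := by
    have ha1 : θ a₁ * θ y₁ * (θ a₁)⁻¹ = (θ y₁)⁻¹ := by
      rw [inv_eq_of_mul_eq_one_right (show θ a₁ * θ a₁ = 1 by rw [← pow_two, ha2]), hay]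
    rw [hi, mul_inv_rev, show θ y₁ ^ i * θ a₁ * θ y₁ * ((θ a₁)⁻¹ * (θ y₁ ^ i)⁻¹)
        = θ y₁ ^ i * (θ a₁ * θ y₁ * (θ a₁)⁻¹) * (θ y₁ ^ i)⁻¹ by group, ha1]
    group
  have hk2 : θ k ^ 2 = 1 := by
    have h2 : θ a₁ * θ y₁ ^ i * (θ a₁)⁻¹ = (θ y₁ ^ i)⁻¹ := by
      rw [← conj_zpow, inv_eq_of_mul_eq_one_right (show θ a₁ * θ a₁ = 1 by rw [← pow_two, ha2]), hay, inv_zpow]
    rw [hi, pow_two, show θ y₁ ^ i * θ a₁ * (θ y₁ ^ i * θ a₁)
        = θ y₁ ^ i * (θ a₁ * θ y₁ ^ i * (θ a₁)⁻¹) * (θ a₁ ^ 2) by group, h2, ha2]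
    group
  -- make the inverting element a two-element
  obtain ⟨j, n, hn, hjn⟩ := Nat.exists_eq_two_pow_mul_odd (orderOf_pos k).ne'
  set a₀ := k ^ n with ha₀
  have hθa₀ : θ a₀ = θ k := by
    obtain ⟨m, rfl⟩ := hn
    rw [ha₀, map_pow, pow_succ, pow_mul, hk2, one_pow, one_mul]
  have ha₀T : a₀ ∈ Subgroup.normalizer (T : Set G) := Subgroup.pow_mem _ hkT n
  have ha₀p : a₀ ^ 2 ^ j = 1 := by rw [ha₀, ← pow_mul, mul_comm, ← hjn, pow_orderOf_eq_one]
  -- the section
  set R := T ⊓ θ.ker with hR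
  set Y := T ⊔ Subgroup.zpowers a₀ with hY
  set H := W ⊔ Y with hH
  have hYH : Y ≤ H := le_sup_right
  have hRH : R ≤ H := inf_le_left.trans (le_sup_left.trans hYH)
  have hRn : H ≤ Subgroup.normalizer (R : Set G) := by
    refine sup_le ?_ (sup_le ?_ ?_)
    · refine fun w hw => Subgroup.mem_normalizer_fintype fun r hr => ?_
      have h1 : r * w = w * r := (hθ1 r).1 hr.2 w hw
      rwa [← h1, mul_inv_cancel_right]
    · exact fun t ht => Subgroup.mem_normalizer_fintype fun r hr =>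
        ⟨T.mul_mem (T.mul_mem ht hr.1) (T.inv_mem ht), (θ.normal_ker).conj_mem r hr.2 t⟩
    · rw [Subgroup.zpowers_le]
      exact Subgroup.mem_normalizer_fintype fun r hr =>
        ⟨(Subgroup.mem_normalizer_iff.1 ha₀T r).1 hr.1, (θ.normal_ker).conj_mem r hr.2 a₀⟩
  haveI : (R.subgroupOf H).Normal := Subgroup.normal_subgroupOf_of_le_normalizer hRn
  set q := QuotientGroup.mk' (R.subgroupOf H) with hq
  haveI : ((W.subgroupOf H).map q).Normal :=
    (Subgroup.normal_subgroupOf_of_le_normalizer (Subgroup.normalizer_eq_top W ▸ le_top)).map q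
      (QuotientGroup.mk'_surjective _)
  set W' := (W.subgroupOf H).map q with hW'
  have hqeq : ∀ (g g' : H), q g = q g' → (g : G)⁻¹ * g' ∈ R := fun g g' h =>
    Subgroup.mem_subgroupOf.1 (QuotientGroup.eq.1 h)
  have hWR : ∀ v, v ∈ W → v ∈ R → v = 1 := by
    intro v hv hvR
    obtain ⟨l, hl⟩ := hT.pg ⟨v, hvR.1⟩
    exact orderOf_eq_one_iff.1 (Nat.eq_one_of_dvd_coprimes
      (Nat.Coprime.pow_right l (by decide : Nat.Coprime 2 3))
      (orderOf_dvd_of_pow_eq_one (hW2 v hv)) (orderOf_dvd_of_pow_eq_one (congrArg Subtype.val hl)))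
  let θ' : ↥H ⧸ R.subgroupOf H →* MulAut W' := MulAut.conjNormal
  have hθ' : ∀ (g : ↥H ⧸ R.subgroupOf H) (v : W'), ((θ' g v : W') : ↥H ⧸ R.subgroupOf H) = g * v * g⁻¹ :=
    fun g v => MulAut.conjNormal_apply _ _
  have hθiff : ∀ g : H, θ' (q g) = 1 ↔ θ (g : G) = 1 := by
    intro g
    rw [hθ1]
    constructor
    · intro h v hv
      have hvH : v ∈ H := le_sup_left (a := W) hv
      have h1 := congrArg (fun α : MulAut W' => ((α ⟨q ⟨v, hvH⟩, ⟨_, hv, rfl⟩⟩ : W') : ↥H ⧸ R.subgroupOf H)) h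
      simp only [hθ', MulAut.one_apply, ← map_mul, ← map_inv] at h1
      have h2 := hqeq _ _ h1.symm
      simp only [Subgroup.coe_mul, Subgroup.coe_inv] at h2
      have h3 := hWR _ (W.mul_mem (W.inv_mem hv) ((inferInstance : W.Normal).conj_mem v hv (g : G))) h2
      rw [inv_mul_eq_one] at h3
      exact (mul_inv_eq_iff_eq_mul.1 h3.symm)
    · intro h
      refine MulEquiv.ext fun v => Subtype.ext ?_
      obtain ⟨_, ⟨v', hv', rfl⟩⟩ := v
      rw [hθ', MulAut.one_apply]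
      show q g * q v' * (q g)⁻¹ = q v'
      rw [← map_inv, ← map_mul, ← map_mul]
      exact congrArg q (Subtype.ext (by simp [h (v' : G) hv']))
  set U := θ'.ker with hUdef
  have hU : IsPGroup 2 U := by
    rintro ⟨u, hu⟩
    obtain ⟨⟨g, hgH⟩, rfl⟩ := QuotientGroup.mk'_surjective _ u
    have hg1 : θ g = 1 := (hθiff _).1 (MonoidHom.mem_ker.1 hu)
    obtain ⟨w, hw, s, hs, rfl⟩ := Subgroup.mem_sup_of_normal_left.1 (show g ∈ W ⊔ Y from hgH)
    have hθs : θ s = 1 := by rwa [map_mul, (hθ1 w).2 (fun v hv => hW w hw v hv), one_mul] at hg1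
    have hsN : Subgroup.zpowers a₀ ≤ Subgroup.normalizer (T : Set G) := by
      rw [Subgroup.zpowers_le]; exact ha₀T
    obtain ⟨t, ht, b, hb, rfl⟩ : ∃ t ∈ T, ∃ b ∈ Subgroup.zpowers a₀, t * b = s := by
      have : s ∈ ((T : Subgroup G) : Set G) * (Subgroup.zpowers a₀ : Set G) := by
        rw [← Subgroup.coe_mul_of_right_le_normalizer_left T _ hsN]; exact hs
      exact Set.mem_mul.1 this
    have hbp : b ^ 2 ^ j = 1 := by
      obtain ⟨l, rfl⟩ := Subgroup.mem_zpowers_iff.1 hb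
      rw [← zpow_natCast, ← zpow_mul, mul_comm, zpow_mul, zpow_natCast, ha₀p, one_zpow]
    have htR : t ∈ R := by
      refine ⟨ht, MonoidHom.mem_ker.2 ?_⟩
      obtain ⟨l, hl⟩ := hT.pg ⟨t, ht⟩
      have e : θ t = (θ b)⁻¹ := eq_inv_of_mul_eq_one_left (by rw [← map_mul, hθs])
      refine orderOf_eq_one_iff.1 (Nat.eq_one_of_dvd_coprimes
        (Nat.Coprime.pow j l (by decide : Nat.Coprime 2 3)) (orderOf_dvd_of_pow_eq_one ?_)
        (orderOf_dvd_of_pow_eq_one (by rw [← map_pow, show t ^ 3 ^ l = 1 from congrArg Subtype.val hl, map_one])))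
      rw [e, inv_pow, ← map_pow, hbp, map_one, inv_one]
    refine ⟨j + 1, Subtype.ext ?_⟩
    show (q ⟨w * (t * b), hgH⟩) ^ 2 ^ (j + 1) = 1
    have hbH : b ∈ H := hYH ((le_sup_right : Subgroup.zpowers a₀ ≤ Y) hb)
    have hwH : w ∈ H := le_sup_left (a := W) hw
    have htH : t ∈ H := hYH ((le_sup_left : T ≤ Y) ht)
    rw [show (⟨w * (t * b), hgH⟩ : H) = ⟨w, hwH⟩ * (⟨t, htH⟩ * ⟨b, hbH⟩) from rfl, map_mul, map_mul,
      show q ⟨t, htH⟩ = 1 from (QuotientGroup.eq_one_iff _).2 htR, one_mul, ← map_mul, ← map_pow]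
    have hθb : θ b = 1 := by rwa [map_mul, MonoidHom.mem_ker.1 htR.2, one_mul] at hθs
    have hc : Commute (⟨w, hwH⟩ : H) ⟨b, hbH⟩ := Subtype.ext ((hθ1 b).1 hθb w hw).symm
    rw [show ((⟨w, hwH⟩ : H) * ⟨b, hbH⟩) ^ 2 ^ (j + 1) = 1 from by
      rw [hc.mul_pow]
      refine Subtype.ext ?_
      show w ^ 2 ^ (j + 1) * b ^ 2 ^ (j + 1) = 1
      rw [pow_succ', pow_mul w, hW2 w hw, one_pow, mul_comm 2, pow_mul b, hbp, one_pow, one_mul], map_one]
  have hker : ∀ g, g ∈ U ↔ ∀ v ∈ W', g * v = v * g := by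
    intro g
    rw [hUdef, MonoidHom.mem_ker]
    constructor
    · intro h v hv
      have h1 := congrArg (fun α : MulAut W' => ((α ⟨v, hv⟩ : W') : ↥H ⧸ R.subgroupOf H)) h
      simp only [hθ', MulAut.one_apply] at h1
      exact mul_inv_eq_iff_eq_mul.1 h1
    · intro h
      refine MulEquiv.ext fun v => Subtype.ext ?_
      rw [hθ', h v v.2, mul_inv_cancel_right]
      rfl
  have hyH : y₀ ∈ H := hYH ((le_sup_left : T ≤ Y) hy₀T)
  have haH : a₀ ∈ H := hYH ((le_sup_right : Subgroup.zpowers a₀ ≤ Y) (Subgroup.mem_zpowers a₀))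
  refine no_inverted_three (fun h' => not_involves_subgroup H hS4 (CfsgLib.Fus.involves_comap (QuotientGroup.mk'_surjective (R.subgroupOf H)) h')) hU ?_ ?_ hker θ' hθ'
    (θ' (q ⟨y₀, hyH⟩)) ⟨_, rfl⟩ (θ' (q ⟨a₀, haH⟩)) ⟨_, rfl⟩ ?_ ?_ ?_ ?_
  · rintro _ ⟨u, hu, rfl⟩ _ ⟨v, hv, rfl⟩
    rw [← map_mul, ← map_mul]
    exact congrArg q (Subtype.ext (hW _ hu _ hv))
  · rintro _ ⟨u, hu, rfl⟩
    rw [← map_pow, show u ^ 2 = 1 from Subtype.ext (hW2 _ hu), map_one]
  · rw [← map_pow, ← map_pow, hθiff]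
    show θ (y₀ ^ 3) = 1
    rw [map_pow, hy₀, hy3]
  · rw [Ne, hθiff]
    show θ y₀ ≠ 1
    rwa [hy₀]
  · rw [← map_pow, ← map_pow, hθiff]
    show θ (a₀ ^ 2) = 1
    rw [map_pow, hθa₀, hk2]
  · rw [eq_inv_iff_mul_eq_one, ← map_mul, ← map_mul, ← map_mul, ← map_mul, ← map_mul, ← map_mul, hθiff]
    show θ (a₀ * y₀ * a₀ * y₀) = 1
    have hk1 : (θ k)⁻¹ = θ k := inv_eq_of_mul_eq_one_right (by rw [← pow_two, hk2])
    rw [map_mul, map_mul, map_mul, hθa₀, hy₀]
    calc θ k * θ y₁ * θ k * θ y₁ = (θ k * θ y₁ * (θ k)⁻¹) * θ y₁ := by rw [hk1]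
      _ = 1 := by rw [hconj, inv_mul_cancel]

theorem card_map_mul {H : Type*} [Group H] [Finite G] (f : G →* H) (N : Subgroup G) :
    Nat.card N = Nat.card (N.map f) * Nat.card ↥(N ⊓ f.ker) := by
  let g := f.comp N.subtype
  have h1 : g.range = N.map f := by rw [MonoidHom.range_comp, N.range_subtype]
  rw [← g.ker.card_mul_index, Subgroup.index_ker, h1, mul_comm]
  congr 1
  have h2 : g.ker = (N ⊓ f.ker).subgroupOf N := by
    ext a
    simp [g, Subgroup.mem_subgroupOf]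
  rw [h2]
  exact Nat.card_congr (Subgroup.subgroupOfEquivOfLe inf_le_left).toEquiv

theorem mem_zOf_comm {S : Subgroup G} {z : G} (hz : z ∈ S ⊓ Subgroup.centralizer (S : Set G)) :
    ∀ s ∈ S, s * z = z * s := fun s hs => hz.2 s hs

set_option maxHeartbeats 1000000 in
/-- The constrained case. -/
theorem central_core [Finite G] [hp : Fact p.Prime] (S : Sylow p G) {x : G} (hxS : x ∈ (S : Subgroup G))
    (hxZ : ∀ s ∈ (S : Subgroup G), s * x = x * s) (hxO : x ∈ Cfsg.pCore p G)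
    (hJ : ∀ g ∈ Subgroup.normalizer (jOf 0 (S : Subgroup G) : Set G), g * x = x * g)
    (hover : ∀ H : Subgroup G, (S : Subgroup G) ≤ H → H ≠ ⊤ → ∀ h ∈ H, h * x = x * h)
    (hxp : x ^ p ∈ Subgroup.center G)
    (hcase : p ≠ 2 ∨ (∃ z ∈ (S : Subgroup G), (∀ s ∈ (S : Subgroup G), s * z = z * s) ∧ z ^ p = x) ∨
      ¬ Cfsg.Involves (Equiv.Perm (Fin 4)) G) : x ∈ Subgroup.center G := by
  classical
  by_contra hxc
  set Sg := (S : Subgroup G) with hSg
  set O := Cfsg.pCore p G with hOdef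
  haveI hOn : O.Normal := CfsgLib.Solv.pCore_normal G p
  have hOS : O ≤ Sg := pCore_le_sylow S
  have hOp : IsPGroup p O := pCore_isPGroup G p
  have hOc : ∀ w ∈ Sg, (∀ s ∈ Sg, s * w = w * s) → w ∈ O → w ∈ O ⊓ Subgroup.centralizer (O : Set G) :=
    fun w _ hw hwO => ⟨hwO, fun o ho => hw o (hOS ho)⟩
  -- a commutator in the center gives a central element
  have hkey : (∀ g : G, g * x * g⁻¹ * x⁻¹ ∈ Subgroup.center G) → False := by
    intro hall
    refine hxc (Subgroup.mem_center_iff.2 fun g => ?_)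
    let φ : G →* Subgroup.center G :=
      { toFun := fun g => ⟨g * x * g⁻¹ * x⁻¹, hall g⟩
        map_one' := Subtype.ext (by simp)
        map_mul' := fun a b => Subtype.ext (by
          show a * b * x * (a * b)⁻¹ * x⁻¹ = a * x * a⁻¹ * x⁻¹ * (b * x * b⁻¹ * x⁻¹)
          have hb := Subgroup.mem_center_iff.1 (hall b) a
          calc a * b * x * (a * b)⁻¹ * x⁻¹ = (a * (b * x * b⁻¹ * x⁻¹)) * x * a⁻¹ * x⁻¹ := by group
            _ = (b * x * b⁻¹ * x⁻¹) * (a * x * a⁻¹ * x⁻¹) := by rw [hb]; group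
            _ = _ := (Subgroup.mem_center_iff.1 (hall b) (a * x * a⁻¹ * x⁻¹)).symm) }
    have hφS : Sg ≤ φ.ker := fun s hs => MonoidHom.mem_ker.2 (Subtype.ext (by
      show s * x * s⁻¹ * x⁻¹ = 1
      rw [hxZ s hs, mul_inv_cancel_right, mul_inv_cancel]))
    have hr : IsPGroup p φ.range := by
      rintro ⟨_, a, rfl⟩
      obtain ⟨l, hl⟩ := hOp ⟨_, O.mul_mem (hOn.conj_mem x hxO a) (O.inv_mem hxO)⟩
      refine ⟨l, Subtype.ext (Subtype.ext ?_)⟩
      show (a * x * a⁻¹ * x⁻¹) ^ p ^ l = 1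
      exact congrArg Subtype.val hl
    obtain ⟨l, hl⟩ := hr.exists_card_eq
    have h1 : φ.ker.index ∣ Sg.index := Subgroup.index_dvd_of_le hφS
    rw [Subgroup.index_ker, hl] at h1
    rcases Nat.eq_zero_or_pos l with rfl | hl0
    · have h2 : φ g ∈ φ.range := ⟨g, rfl⟩
      rw [Subgroup.card_eq_one.1 (hl.trans (pow_zero p)), Subgroup.mem_bot] at h2
      exact mul_inv_eq_iff_eq_mul.1 (mul_inv_eq_one.1 (congrArg Subtype.val h2))
    · exact (S.not_dvd_index ((dvd_pow_self p hl0.ne').trans h1)).elim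
  -- normal subgroups fixing `x` modulo the center have normal Sylow subgroups
  have hnorm : ∀ N : Subgroup G, N.Normal → (∀ n ∈ N, n * x * n⁻¹ * x⁻¹ ∈ Subgroup.center G) →
      (Sg ⊓ N).Normal := by
    intro N hNn hN
    by_contra hnn
    refine hkey fun g => ?_
    obtain ⟨n, hn, k, hk, rfl⟩ := CfsgLib.Glau.frattini (H := ⊤) (CfsgLib.Glau.syl_top S)
      (N := N) (Subgroup.normalizer_eq_top_iff.2 hNn).ge (Subgroup.mem_top g)
    have hkx := hover (Subgroup.normalizer ((Sg ⊓ N : Subgroup G) : Set G)) (fun s hs => Subgroup.mem_normalizer_fintype fun y hy =>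
        ⟨Sg.mul_mem (Sg.mul_mem hs hy.1) (Sg.inv_mem hs), hNn.conj_mem y hy.2 s⟩)
      (fun h => hnn (Subgroup.normalizer_eq_top_iff.1 h)) k hk.2
    rw [show n * k * x * (n * k)⁻¹ * x⁻¹ = n * (k * x * k⁻¹) * n⁻¹ * x⁻¹ by group, hkx, mul_inv_cancel_right]
    exact hN n hn.2
  have hnO : ∀ N : Subgroup G, N.Normal → (∀ n ∈ N, n * x * n⁻¹ * x⁻¹ ∈ Subgroup.center G) → Sg ⊓ N ≤ O :=
    fun N hNn hN => haveI := hnorm N hNn hN; le_pCore (S.isPGroup'.to_le inf_le_left)
  -- the element to average over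
  obtain ⟨z, k, hzS, hzZ, hzx, hk⟩ : ∃ z k, z ∈ Sg ∧ (∀ s ∈ Sg, s * z = z * s) ∧ z ^ k = x ∧
      (p ∣ p.choose 2 * k ∨ (p = 2 ∧ k = 1 ∧ ¬ Cfsg.Involves (Equiv.Perm (Fin 4)) G)) ∧ (k = 1 ∨ (p = 2 ∧ k = 2)) := by
    by_cases hp2 : p = 2
    · rcases hcase with h | ⟨z, hz, hzc, hzx⟩ | h
      · exact absurd hp2 h
      · refine ⟨z, p, hz, hzc, hzx, .inl (dvd_mul_left _ _), .inr ⟨hp2, hp2⟩⟩
      · exact ⟨x, 1, hxS, hxZ, pow_one x, .inr ⟨hp2, rfl, h⟩, .inl rfl⟩
    · refine ⟨x, 1, hxS, hxZ, pow_one x, .inl ?_, .inl rfl⟩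
      rw [mul_one]
      exact hp.out.dvd_choose_self two_ne_zero (lt_of_le_of_ne hp.out.two_le (Ne.symm hp2))
  set V₀ := Subgroup.normalClosure ({x} : Set G) with hV₀
  have hV₀O : V₀ ≤ O ⊓ Subgroup.centralizer (O : Set G) :=
    Subgroup.normalClosure_le_normal (Set.singleton_subset_iff.2 (hOc x hxS hxZ hxO))
  have hxV₀ : x ∈ V₀ := Subgroup.subset_normalClosure rfl
  set C := Subgroup.centralizer (V₀ : Set G) with hC
  haveI : V₀.Normal := Subgroup.normalClosure_normal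
  have hCx : ∀ c ∈ C, c * x * c⁻¹ * x⁻¹ ∈ Subgroup.center G := fun c hc => by
    rw [show c * x = x * c from (hc x hxV₀).symm, mul_inv_cancel_right, mul_inv_cancel]
    exact one_mem _
  have hCn : C.Normal := inferInstance
  have hUO : Sg ⊓ C ≤ O := hnO C hCn hCx
  have hzO : z ∈ O := hUO ⟨hzS, fun v hv => hzZ v (hOS (hV₀O hv).1)⟩
  set V := Subgroup.normalClosure ({z} : Set G) with hV
  haveI hVn : V.Normal := Subgroup.normalClosure_normal
  have hVO : V ≤ O ⊓ Subgroup.centralizer (O : Set G) :=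
    Subgroup.normalClosure_le_normal (Set.singleton_subset_iff.2 (hOc z hzS hzZ hzO))
  have hVc : ∀ u ∈ V, ∀ v ∈ V, u * v = v * u := fun u hu v hv => (hVO hv).2 u (hVO hu).1
  have hOV : ∀ o ∈ O, ∀ v ∈ V, o * v = v * o := fun o ho v hv => (hVO hv).2 o ho
  have hzV : z ∈ V := Subgroup.subset_normalClosure rfl
  have hxV : x ∈ V := hzx ▸ V.pow_mem hzV k
  have hVS : V ≤ Sg := fun v hv => hOS (hVO hv).1
  -- exponent modulo the center
  have hVe : ∀ v ∈ V, v ^ (p * k) ∈ Subgroup.center G := by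
    let K : Subgroup G :=
      { carrier := {v | v ∈ V ∧ v ^ (p * k) ∈ Subgroup.center G}
        one_mem' := ⟨V.one_mem, by simp⟩
        mul_mem' := fun {a b} ha hb => ⟨V.mul_mem ha.1 hb.1, by
          rw [(show Commute a b from hVc a ha.1 b hb.1).mul_pow]; exact mul_mem ha.2 hb.2⟩
        inv_mem' := fun {a} ha => ⟨V.inv_mem ha.1, by rw [inv_pow]; exact inv_mem ha.2⟩ }
    haveI : K.Normal := ⟨fun a ha g => ⟨hVn.conj_mem a ha.1 g, by
      rw [conj_pow]; exact Subgroup.Normal.conj_mem inferInstance _ ha.2 g⟩⟩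
    intro v hv
    exact (Subgroup.normalClosure_le_normal (N := K) (Set.singleton_subset_iff.2
      ⟨hzV, by rw [mul_comm, pow_mul, hzx]; exact hxp⟩) hv).2
  -- the quotient
  set Zc := V ⊓ Subgroup.center G with hZc
  haveI : Zc.Normal := inferInstance
  set π := QuotientGroup.mk' Zc with hπ
  set W := V.map π with hW
  haveI hWn : W.Normal := hVn.map π (QuotientGroup.mk'_surjective _)
  letI : CommGroup W :=
    { (inferInstance : Group W) with
      mul_comm := by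
        rintro ⟨_, u, hu, rfl⟩ ⟨_, v, hv, rfl⟩
        refine Subtype.ext ?_
        show π u * π v = π v * π u
        rw [← map_mul, ← map_mul, hVc u hu v hv] }
  let θ : G →* MulAut W := (MulAut.conjNormal (H := W)).comp π
  have hθ : ∀ (g : G) (v : G) (hv : v ∈ V),
      ((θ g ⟨π v, ⟨v, hv, rfl⟩⟩ : W) : G ⧸ Zc) = π (g * v * g⁻¹) := fun g v hv => by
    simp only [θ, MonoidHom.comp_apply, MulAut.conjNormal_apply, map_mul, map_inv]
  have hπeq : ∀ u v : G, u ∈ V → v ∈ V → (π u = π v ↔ u * v⁻¹ ∈ Subgroup.center G) := by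
    intro u v hu hv
    rw [show (π u = π v ↔ π (u * v⁻¹) = 1) by rw [map_mul, map_inv, mul_inv_eq_one]]
    exact (QuotientGroup.eq_one_iff _).trans ⟨fun h => h.2, fun h => ⟨V.mul_mem hu (V.inv_mem hv), h⟩⟩
  have hθ1 : ∀ g, θ g = 1 ↔ ∀ v ∈ V, g * v * g⁻¹ * v⁻¹ ∈ Subgroup.center G := by
    intro g
    constructor
    · intro h v hv
      refine (hπeq _ _ (hVn.conj_mem v hv g) hv).1 ?_
      rw [← hθ g v hv, h]; rfl
    · intro h
      refine MulEquiv.ext fun w => Subtype.ext ?_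
      obtain ⟨_, v, hv, rfl⟩ := w
      rw [hθ g v hv]
      exact (hπeq _ _ (hVn.conj_mem v hv g) hv).2 (h v hv)
  set φ := θ.rangeRestrict with hφ
  have hφs : Function.Surjective φ := θ.rangeRestrict_surjective
  have hφ1 : ∀ g, φ g = 1 ↔ θ g = 1 := fun g => by rw [← Subtype.coe_inj]; rfl
  have hN1x : ∀ g ∈ φ.ker, g * x * g⁻¹ * x⁻¹ ∈ Subgroup.center G := fun g hg =>
    (hθ1 g).1 ((hφ1 g).1 (MonoidHom.mem_ker.1 hg)) x hxV
  set P := S.mapSurjective hφs with hP
  have hPmap : (P : Subgroup θ.range) = Sg.map φ := Sylow.coe_mapSurjective hφs S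
  have hO1 : ∀ N : Subgroup θ.range, N.Normal → IsPGroup p N → N = ⊥ := by
    intro N hNn hNp
    set N' := N.comap φ with hN'
    haveI : N'.Normal := hNn.comap φ
    have hmap : (Sg ⊓ N').map φ = N := by
      have h1 := ((CfsgLib.Glau.syl_top S).inf_normal (N := N')
        (Subgroup.normalizer_eq_top N').ge).map φ
      rw [top_inf_eq, hN', Subgroup.map_comap_eq_self_of_surjective hφs] at h1
      exact (h1.eq_of_le h1.le le_rfl hNp).symm
    have hNx : ∀ n ∈ N', n * x * n⁻¹ * x⁻¹ ∈ Subgroup.center G := by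
      intro n hn
      have h1 : φ n ∈ (Sg ⊓ N').map φ := hmap.symm ▸ hn
      obtain ⟨s, hs, he⟩ := h1
      have h2 : n * s⁻¹ ∈ φ.ker := by rw [MonoidHom.mem_ker, map_mul, map_inv, he, mul_inv_cancel]
      have h3 := hN1x _ h2
      rwa [show n * s⁻¹ * x * (n * s⁻¹)⁻¹ = n * (s⁻¹ * x * s⁻¹⁻¹) * n⁻¹ by group,
        hxZ _ (Sg.inv_mem hs.1), mul_inv_cancel_right] at h3
    rw [← hmap, eq_bot_iff]
    rintro _ ⟨s, hs, rfl⟩
    rw [Subgroup.mem_bot, hφ1, hθ1]
    intro v hv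
    rw [hOV s (hnO N' inferInstance hNx hs) v hv, mul_inv_cancel_right, mul_inv_cancel]
    exact one_mem _
  set N₁ := φ.ker with hN₁
  have hU₁ : ∀ b ∈ Sg ⊓ N₁, ∀ v ∈ V, b * v = v * b := fun b hb =>
    hOV b (hnO N₁ inferInstance hN1x hb)
  -- a maximal abelian subgroup outside
  have hex : ∃ A, MaxA 0 Sg A ∧ ¬ A ≤ N₁ := by
    by_contra hne
    push Not at hne
    haveI := hnorm N₁ inferInstance hN1x
    have hJU : jOf 0 Sg ≤ Sg ⊓ N₁ := le_inf (jOf_le Sg) (iSup₂_le hne)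
    refine hkey fun g => ?_
    have hg : g ∈ Subgroup.normalizer (jOf 0 Sg : Set G) := by
      rw [← jOf_eq_of_le inf_le_left hJU]
      exact normalizer_le_jOf _ ((Subgroup.normalizer_eq_top (Sg ⊓ N₁)).symm ▸ Subgroup.mem_top g)
    rw [hJ g hg, mul_inv_cancel_right, mul_inv_cancel]
    exact one_mem _
  obtain ⟨A, ⟨hA, hAN₁⟩, hmax⟩ := Set.exists_max_image {A : Subgroup G | MaxA 0 Sg A ∧ ¬ A ≤ N₁}
    (fun A => Nat.card (A ⊓ V : Subgroup G)) (Set.toFinite _) hex
  have hVA : V ≤ Subgroup.normalizer (A : Set G) := by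
    by_contra hnot
    have hmem : A.subgroupOf Sg ∈ Cfsg.maxAbelianSubgroups ↥Sg := by
      refine ⟨(hA.2.1.comap Sg.subtype_injective).1, fun B hB => ?_⟩
      rw [← Subgroup.card_map_of_injective Sg.subtype_injective (K := B),
        ← Subgroup.card_map_of_injective Sg.subtype_injective (K := A.subgroupOf Sg),
        Subgroup.map_subgroupOf_eq_of_le hA.1]
      exact hA.2.2 _ (Subgroup.map_subtype_le B) (Abel.map (f := Sg.subtype) ⟨hB, fun a _ => pow_zero a⟩)
    obtain ⟨A', hA', hA'N, -, hlt⟩ := CfsgLib.Inv.replacement S.isPGroup' (D := V.subgroupOf Sg) inferInstance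
      ⟨⟨fun a b => Subtype.ext (Subtype.ext (hVc _ a.2 _ b.2))⟩⟩ hmem (fun hle => hnot fun v hv => by
        have h1 := hle (show (⟨v, hVS hv⟩ : ↥Sg) ∈ V.subgroupOf Sg from hv)
        rw [← Subgroup.subgroupOf_normalizer_eq hA.1] at h1
        exact h1)
    set B := A'.map Sg.subtype with hBdef
    have hB : MaxA 0 Sg B := ⟨Subgroup.map_subtype_le A', Abel.map ⟨hA'.1, fun a _ => pow_zero a⟩, fun X hX hXe => by
      have h1 := hA'.2 (X.subgroupOf Sg) (hXe.comap Sg.subtype_injective).1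
      rw [← Subgroup.card_map_of_injective Sg.subtype_injective (K := X.subgroupOf Sg),
        Subgroup.map_subgroupOf_eq_of_le hX,
        ← Subgroup.card_map_of_injective Sg.subtype_injective (K := A')] at h1
      exact h1⟩
    have hlt' : Nat.card (A ⊓ V : Subgroup G) < Nat.card (B ⊓ V : Subgroup G) := by
      have e1 : ∀ X : Subgroup ↥Sg, (X ⊓ V.subgroupOf Sg).map Sg.subtype = X.map Sg.subtype ⊓ V := fun X => by
        rw [Subgroup.map_inf _ _ _ Sg.subtype_injective, Subgroup.map_subgroupOf_eq_of_le hVS]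
      have e2 := e1 (A.subgroupOf Sg)
      rw [Subgroup.map_subgroupOf_eq_of_le hA.1] at e2
      rw [← e2, hBdef, ← e1, Subgroup.card_map_of_injective Sg.subtype_injective,
        Subgroup.card_map_of_injective Sg.subtype_injective]
      exact lt_of_le_of_ne (Subgroup.card_le_of_le hlt.le) fun he =>
        hlt.ne (Subgroup.eq_of_le_of_card_ge hlt.le he.ge)
    have hBN : B ≤ N₁ := by
      by_contra hBN
      exact absurd (hmax B ⟨hB, hBN⟩) (not_le.2 hlt')
    refine hnot fun v hv => ?_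
    have hvB : v ∈ B := hB.mem (hVS hv) (pow_zero v) fun b hb => (hU₁ b ⟨hB.1 hb, hBN hb⟩ v hv).symm
    obtain ⟨v', hv', rfl⟩ := hvB
    have h1 := hA'N hv'
    rw [← Subgroup.subgroupOf_normalizer_eq hA.1] at h1
    exact h1
  -- commutators of `V` and `A`
  have hδA : ∀ a ∈ A, ∀ v ∈ V, v⁻¹ * (a * v * a⁻¹) ∈ A := by
    intro a ha v hv
    rw [show v⁻¹ * (a * v * a⁻¹) = (v⁻¹ * a * v⁻¹⁻¹) * a⁻¹ by group]
    exact A.mul_mem ((Subgroup.mem_normalizer_iff.1 (hVA (V.inv_mem hv)) a).1 ha) (A.inv_mem ha)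
  have hstep : ∀ a ∈ A, ∀ v ∈ V, ∀ i : ℕ, a ^ i * v * (a ^ i)⁻¹ = v * (v⁻¹ * (a * v * a⁻¹)) ^ i := by
    intro a ha v hv i
    induction i with
    | zero => simp
    | succ i ih =>
      set d := v⁻¹ * (a * v * a⁻¹) with hd
      have hc : Commute a d := hA.2.1.comm ha (hδA a ha v hv)
      calc a ^ (i + 1) * v * (a ^ (i + 1))⁻¹ = a * (a ^ i * v * (a ^ i)⁻¹) * a⁻¹ := by
            rw [pow_succ']; group
        _ = (a * v * a⁻¹) * (a * d ^ i * a⁻¹) := by rw [ih]; group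
        _ = v * d * d ^ i := by rw [(hc.pow_right i).eq, mul_inv_cancel_right, hd, mul_inv_cancel_left]
        _ = v * d ^ (i + 1) := by rw [mul_assoc, ← pow_succ']
  have hexp : ∀ a ∈ A, ∀ v ∈ V, (v⁻¹ * (a * v * a⁻¹)) ^ p ∈ Subgroup.center G := by
    intro a ha v hv
    set d := v⁻¹ * (a * v * a⁻¹) with hd
    have hdV : d ∈ V := V.mul_mem (V.inv_mem hv) (hVn.conj_mem v hv a)
    rcases hk.2 with hk1 | ⟨rfl, rfl⟩
    · have := hVe d hdV
      rwa [hk1, mul_one] at this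
    · -- squares centralize the conjugates of `x`
      have ha2C : a ^ 2 ∈ C := by
        rw [hC, hV₀, Subgroup.normalClosure, Subgroup.centralizer_closure, Subgroup.mem_centralizer_iff]
        intro y hy
        obtain ⟨_, hx1, hy1⟩ := Group.mem_conjugatesOfSet_iff.1 hy
        rw [Set.mem_singleton_iff.1 hx1, isConj_iff] at hy1
        obtain ⟨g, rfl⟩ := hy1
        have huV : g * z * g⁻¹ ∈ V := hVn.conj_mem z hzV g
        set u := g * z * g⁻¹ with hu
        set e := u⁻¹ * (a * u * a⁻¹) with he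
        have heV : e ∈ V := V.mul_mem (V.inv_mem huV) (hVn.conj_mem u huV a)
        have hyu : g * x * g⁻¹ = u ^ 2 := by rw [hu, conj_pow, hzx]
        have hcu : Commute (a * u * a⁻¹) u⁻¹ := hVc _ (hVn.conj_mem u huV a) _ (V.inv_mem huV)
        have he4 : e ^ 4 = 1 := by
          have h4 := hVe u huV
          rw [he, hcu.symm.mul_pow, conj_pow, Subgroup.mem_center_iff.1 h4 a, mul_inv_cancel_right, inv_pow,
            inv_mul_cancel]
        have h1 : a ^ 2 * (g * x * g⁻¹) * (a ^ 2)⁻¹ = g * x * g⁻¹ := by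
          rw [hyu, ← conj_pow, hstep a ha u huV 2, ← he,
            (show Commute u (e ^ 2) from hVc u huV _ (V.pow_mem heV 2)).mul_pow, ← pow_mul, he4, mul_one]
        exact (mul_inv_eq_iff_eq_mul.1 h1).symm
      have h2 := hOV _ (hUO ⟨Sg.pow_mem (hA.1 ha) 2, ha2C⟩) v hv
      have h3 := hstep a ha v hv 2
      rw [h2, mul_inv_cancel_right, left_eq_mul] at h3
      rw [h3]
      exact one_mem _
  set A₀ := A.map φ with hA₀
  have hA₀P : A₀ ≤ (P : Subgroup θ.range) := hPmap ▸ Subgroup.map_mono hA.1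
  let ι : θ.range →* MulAut W := θ.range.subtype
  have hι : Function.Injective ι := Subtype.val_injective
  have hιφ : ∀ g, ι (φ g) = θ g := fun g => rfl
  have hA₀Q : Quad p ι A₀ := by
    refine ⟨?_, ?_, ?_⟩
    · rintro _ ⟨a, ha, rfl⟩ _ ⟨b, hb, rfl⟩
      rw [← map_mul, ← map_mul, hA.2.1.comm ha hb]
    · rintro _ ⟨a, ha, rfl⟩ _ ⟨b, hb, rfl⟩ ⟨_, v, hv, rfl⟩
      simp only [hιφ]
      have hd : v⁻¹ * (a * v * a⁻¹) ∈ V := V.mul_mem (V.inv_mem hv) (hVn.conj_mem v hv a)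
      have e : (⟨π v, ⟨v, hv, rfl⟩⟩ : W)⁻¹ * θ a ⟨π v, ⟨v, hv, rfl⟩⟩ = ⟨π (v⁻¹ * (a * v * a⁻¹)), ⟨_, hd, rfl⟩⟩ :=
        Subtype.ext (by rw [Subgroup.coe_mul, Subgroup.coe_inv, hθ a v hv]; simp only [map_mul, map_inv])
      rw [e]
      refine Subtype.ext ?_
      rw [hθ b _ hd, hA.2.1.comm hb (hδA a ha v hv), mul_inv_cancel_right]
    · rintro _ ⟨a, ha, rfl⟩ ⟨_, v, hv, rfl⟩
      simp only [hιφ]
      refine Subtype.ext ?_
      rw [Subgroup.coe_pow, Subgroup.coe_mul, Subgroup.coe_inv, hθ a v hv, ← map_inv, ← map_mul, ← map_pow]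
      exact (QuotientGroup.eq_one_iff _).2 ⟨V.pow_mem (V.mul_mem (V.inv_mem hv) (hVn.conj_mem v hv a)) p, hexp a ha v hv⟩
  have hA₀1 : A₀ ≠ ⊥ := fun h => hAN₁ ((Subgroup.map_eq_bot_iff _).1 h)
  have hineq : Nat.card W ≤ Nat.card A₀ * Nat.card (fixA ι A₀) := by
    have hAg : Nat.card A = Nat.card A₀ * Nat.card ↥(A ⊓ N₁) := card_map_mul φ A
    have h1 := card_sup_mul_card_inf (A ⊓ N₁) V
    have e : A ⊓ N₁ ⊓ V = A ⊓ V := le_antisymm (inf_le_inf_right _ inf_le_left)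
      (le_inf (le_inf inf_le_left (fun v hv => by
        rw [hN₁, MonoidHom.mem_ker, hφ1, hθ1]
        intro w hw
        rw [hVc v hv.2 w hw, mul_inv_cancel_right, mul_inv_cancel]
        exact one_mem _)) inf_le_right)
    rw [e] at h1
    have h2 : Nat.card ↥((A ⊓ N₁) ⊔ V) ≤ Nat.card A := by
      refine hA.2.2 _ (sup_le (inf_le_left.trans hA.1) hVS) (abel_of_commute ?_ fun x _ => pow_zero x)
      intro x hx y hy
      obtain ⟨a, ha, u, hu, rfl⟩ := Subgroup.mem_sup_of_normal_right.1 hx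
      obtain ⟨b, hb, v, hv, rfl⟩ := Subgroup.mem_sup_of_normal_right.1 hy
      have c1 : Commute a b := hA.2.1.comm ha.1 hb.1
      have c2 : Commute a v := hU₁ a ⟨hA.1 ha.1, ha.2⟩ v hv
      have c3 : Commute b u := hU₁ b ⟨hA.1 hb.1, hb.2⟩ u hu
      have c4 : Commute u v := hVc u hu v hv
      exact ((c1.mul_right c2).mul_left ((c3.symm).mul_right c4)).eq
    set Cf := V ⊓ Subgroup.centralizer (A : Set G) with hCf
    have h3 : Nat.card ↥(A ⊓ V) ≤ Nat.card Cf :=
      Subgroup.card_le_of_le (le_inf inf_le_right fun v hv a ha => hA.2.1.comm ha hv.1)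
    have h4 := card_map_mul π Cf
    have h5 := card_map_mul π V
    rw [hπ, QuotientGroup.ker_mk'] at h4 h5
    have hZf : Cf ⊓ Zc = Zc := inf_eq_right.2 (le_inf inf_le_left fun c hc a _ => Subgroup.mem_center_iff.1 hc.2 a)
    rw [hZf] at h4
    rw [inf_eq_right.2 inf_le_left] at h5
    rw [← hπ] at h4 h5
    have h6 : Nat.card ↥(Cf.map π) ≤ Nat.card (fixA ι A₀) := by
      have hle : Cf.map π ≤ W := Subgroup.map_mono inf_le_left
      refine Nat.card_le_card_of_injective (fun c => (⟨⟨c, hle c.2⟩, ?_⟩ : fixA ι A₀)) fun a b hab =>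
        Subtype.ext (congrArg (fun z : fixA ι A₀ => ((z : W) : G ⧸ Zc)) hab)
      rintro _ ⟨a, ha, rfl⟩
      obtain ⟨_, c, hc, rfl⟩ := c
      rw [hιφ]
      refine Subtype.ext ?_
      rw [hθ a c hc.1, hc.2 a ha, mul_inv_cancel_right]
    have hpos : 0 < Nat.card ↥(A ⊓ N₁) := Nat.card_pos
    have hV1 : Nat.card V ≤ Nat.card A₀ * Nat.card Cf := by
      refine Nat.le_of_mul_le_mul_left ?_ hpos
      rw [← h1]
      calc Nat.card ↥((A ⊓ N₁) ⊔ V) * Nat.card ↥(A ⊓ V)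
          ≤ (Nat.card A₀ * Nat.card ↥(A ⊓ N₁)) * Nat.card Cf := Nat.mul_le_mul (hAg ▸ h2) h3
        _ = Nat.card ↥(A ⊓ N₁) * (Nat.card A₀ * Nat.card Cf) := by ring
    rw [h4, h5, ← mul_assoc] at hV1
    exact (Nat.le_of_mul_le_mul_right hV1 Nat.card_pos).trans (Nat.mul_le_mul_left _ h6)
  -- the module argument
  set z' : W := ⟨π z, ⟨z, hzV, rfl⟩⟩ with hz'
  set x' : W := ⟨π x, ⟨x, hxV, rfl⟩⟩ with hx'
  let M : Subgroup θ.range :=
    { carrier := {g | ι g z' = z'}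
      one_mem' := rfl
      mul_mem' := fun {a b} (ha : ι a z' = z') (hb : ι b z' = z') => by
        show ι (a * b) z' = z'
        rw [map_mul, MulAut.mul_apply, hb, ha]
      inv_mem' := fun {a} (ha : ι a z' = z') => by
        show ι a⁻¹ z' = z'
        conv_lhs => rw [← ha]
        rw [← MulAut.mul_apply, ← map_mul, inv_mul_cancel, map_one, MulAut.one_apply] }
  have hPM : (P : Subgroup θ.range) ≤ M := by
    rw [hPmap]
    rintro _ ⟨s, hs, rfl⟩
    show ι (φ s) z' = z'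
    rw [hιφ]
    refine Subtype.ext ?_
    rw [hz', hθ s z hzV, hzZ s hs, mul_inv_cancel_right]
  have hW' : ∀ w : W, w ^ (p * k) = 1 := by
    rintro ⟨_, v, hv, rfl⟩
    refine Subtype.ext ?_
    rw [Subgroup.coe_pow, ← map_pow]
    exact (QuotientGroup.eq_one_iff _).2 ⟨V.pow_mem hv _, hVe v hv⟩
  have hzk : z' ^ k = x' := Subtype.ext (by rw [Subgroup.coe_pow, hz', hx', ← map_pow, hzx])
  have hxp' : x' ^ p = 1 := Subtype.ext (by
    rw [Subgroup.coe_pow, hx', ← map_pow]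
    exact (QuotientGroup.eq_one_iff _).2 ⟨V.pow_mem hxV p, hxp⟩)
  have hfin : (∀ g : θ.range, ι g x' = x') → False := by
    intro h
    refine hkey fun g => (hπeq _ _ (hVn.conj_mem x hxV g) hxV).1 ?_
    rw [← hθ g x hxV, ← hιφ, ← hx', h]
  -- the normalizer of a conjugation invariant family
  have hnormJ : ∀ D : Set (Subgroup θ.range), (∀ B ∈ D, B ≤ (P : Subgroup θ.range)) → (∃ B ∈ D, B ≠ ⊥) →
      (∀ B ∈ D, ∀ g : θ.range, MulAut.conj g • B ≤ (P : Subgroup θ.range) → MulAut.conj g • B ∈ D) →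
      ∀ g ∈ Subgroup.normalizer ((⨆ B, ⨆ _ : B ∈ D, B : Subgroup θ.range) : Set θ.range), ι g x' = x' := by
    intro D hD ⟨B₁, hB₁, hB₁ne⟩ hconj g hg
    set J : Subgroup θ.range := ⨆ B, ⨆ _ : B ∈ D, B with hJdef
    have hJP : J ≤ P := iSup₂_le hD
    set L := (Subgroup.normalizer (J : Set θ.range)).comap φ with hL
    have hSL : Sg ≤ L := by
      intro s hs
      refine Subgroup.mem_normalizer_fintype fun y hy => ?_
      suffices h : J.map (MulAut.conj (φ s)).toMonoidHom ≤ J from h ⟨y, hy, rfl⟩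
      rw [hJdef, Subgroup.map_iSup]
      refine iSup_le fun B => ?_
      rw [Subgroup.map_iSup]
      refine iSup_le fun hB => le_iSup₂_of_le (MulAut.conj (φ s) • B) (hconj B hB _ ?_) le_rfl
      have hsP : φ s ∈ (P : Subgroup θ.range) := hPmap ▸ ⟨s, hs, rfl⟩
      rintro _ ⟨b, hb, rfl⟩
      exact mul_mem (mul_mem hsP (hD B hB hb)) (inv_mem hsP)
    obtain ⟨g₀, rfl⟩ := hφs g
    rw [hιφ]
    have hne : L ≠ ⊤ := by
      intro htop
      have hJn : J.Normal := Subgroup.normalizer_eq_top_iff.1 (eq_top_iff.2 fun y _ => by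
        obtain ⟨y₀, rfl⟩ := hφs y
        exact (htop.ge (Subgroup.mem_top y₀) : y₀ ∈ L))
      have hJb := hO1 J hJn (P.isPGroup'.to_le hJP)
      exact hB₁ne (le_bot_iff.1 (hJb ▸ le_iSup₂_of_le B₁ hB₁ le_rfl))
    refine Subtype.ext ?_
    rw [hx', hθ g₀ x hxV, hover L hSL hne g₀ hg, mul_inv_cancel_right]
  rcases hk.1 with hdvd | ⟨hp2, hk1, hS4⟩
  · let D : Set (Subgroup θ.range) := {B | B ≤ (P : Subgroup θ.range) ∧ Quad p ι B}
    have hconj : ∀ B ∈ D, ∀ g : θ.range, MulAut.conj g • B ≤ (P : Subgroup θ.range) → MulAut.conj g • B ∈ D :=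
      fun B hB g hg => ⟨hg, hB.2.conj g⟩
    exact hfin (module_fixed ι hι P M hPM z' x' k (fun m hm => hm) hzk hxp' hW' D (fun B hB => hB.1) hconj
      (fun B hB => hB.2) (.inl hdvd) (hnormJ D (fun B hB => hB.1) ⟨A₀, ⟨hA₀P, hA₀Q⟩, hA₀1⟩ hconj))
  · subst hp2 hk1
    let Off : Subgroup θ.range → Prop := fun B =>
      Quad 2 ι B ∧ B ≠ ⊥ ∧ Nat.card W ≤ Nat.card B * Nat.card (fixA ι B)
    let D : Set (Subgroup θ.range) :=
      {B | B ≤ (P : Subgroup θ.range) ∧ Off B ∧ ∀ B' ≤ B, Off B' → B' = B}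
    have hOffc : ∀ (B : Subgroup θ.range) (g : θ.range), Off B → Off (MulAut.conj g • B) := by
      intro B g hB
      refine ⟨hB.1.conj g, fun h => hB.2.1 ?_, ?_⟩
      · rw [← inv_smul_smul (MulAut.conj g) B, h, Subgroup.smul_bot]
      · rw [card_fixA_conj, Subgroup.equivSMul (MulAut.conj g) B |>.toEquiv |> Nat.card_congr |>.symm]
        exact hB.2.2
    have hconj : ∀ B ∈ D, ∀ g : θ.range, MulAut.conj g • B ≤ (P : Subgroup θ.range) → MulAut.conj g • B ∈ D := by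
      intro B hB g hg
      refine ⟨hg, hOffc B g hB.2.1, fun B' hle hB' => ?_⟩
      have h1 := hB.2.2 (MulAut.conj g⁻¹ • B') ?_ (hOffc B' g⁻¹ hB')
      · rw [← h1, ← mul_smul, ← map_mul, mul_inv_cancel, map_one, one_smul]
      · have h2 : MulAut.conj g⁻¹ • B' ≤ MulAut.conj g⁻¹ • (MulAut.conj g • B) :=
          Subgroup.pointwise_smul_le_pointwise_smul_iff.2 hle
        rwa [← mul_smul, ← map_mul, inv_mul_cancel, map_one, one_smul] at h2
    have hDne : ∃ B ∈ D, B ≠ ⊥ := by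
      obtain ⟨B, ⟨hBle, hB⟩, hmin⟩ := Set.exists_min_image {B | B ≤ A₀ ∧ Off B} (fun B => Nat.card B)
        (Set.toFinite _) ⟨A₀, le_rfl, hA₀Q, hA₀1, hineq⟩
      exact ⟨B, ⟨hBle.trans hA₀P, hB, fun B' hle hB' => Subgroup.eq_of_le_of_card_ge hle
        (hmin B' ⟨hle.trans hBle, hB'⟩)⟩, hB.2.1⟩
    have hW2 : ∀ w : W, w ^ 2 = 1 := fun w => by simpa using hW' w
    refine hfin (module_fixed ι hι P M hPM z' x' 1 (fun m hm => hm) hzk hxp' hW' D (fun B hB => hB.1) hconj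
      (fun B hB => hB.2.1.1) (.inr ⟨rfl, ?_⟩) (hnormJ D (fun B hB => hB.1) hDne hconj))
    intro B hB q a ha hane
    by_contra hno
    push Not at hno
    obtain ⟨g, rfl⟩ := QuotientGroup.mk_surjective q
    have hM' : ∀ c : θ.range, c • (QuotientGroup.mk g : θ.range ⧸ M) = QuotientGroup.mk g ↔
        ι c (ι g z') = ι g z' := by
      intro c
      show (QuotientGroup.mk (c * g) : θ.range ⧸ M) = QuotientGroup.mk g ↔ _
      rw [QuotientGroup.eq]
      constructor
      · intro h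
        have h' : ι ((c * g)⁻¹ * g) z' = z' := h
        have h2 := congrArg (ι (c * g)) h'
        rw [← MulAut.mul_apply, ← map_mul, mul_inv_cancel_left, map_mul, MulAut.mul_apply] at h2
        exact h2.symm
      · intro h
        show ι ((c * g)⁻¹ * g) z' = z'
        rw [map_mul, MulAut.mul_apply, ← h, ← MulAut.mul_apply, ← map_mul, ← MulAut.mul_apply, ← map_mul]
        rw [show (c * g)⁻¹ * c * g = 1 by group, map_one, MulAut.one_apply]
    set B₁ := B ⊓ MulAction.stabilizer θ.range (QuotientGroup.mk g : θ.range ⧸ M) with hB₁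
    have hhalf : Nat.card B ≤ 2 * Nat.card B₁ := by
      have haa : a * a = 1 := by rw [← pow_two]; exact hB.2.1.1.pow_eq_one hι ha
      let F : B → B₁ × Bool := fun b =>
        if hb : (b : θ.range) • (QuotientGroup.mk g : θ.range ⧸ M) = QuotientGroup.mk g then (⟨b, b.2, hb⟩, false)
        else (⟨a * b, B.mul_mem ha b.2, by
          show (a * (b : θ.range)) • (QuotientGroup.mk g : θ.range ⧸ M) = QuotientGroup.mk g
          rw [mul_smul, hno b b.2 hb, ← mul_smul, haa, one_smul]⟩, true)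
      have hF : Function.Injective F := by
        intro b b' h
        simp only [F] at h
        split at h <;> split at h <;>
          simp only [Prod.mk.injEq, Subtype.mk.injEq, reduceCtorEq, and_true, and_false, mul_right_inj] at h
        exacts [Subtype.ext (congrArg (fun z : B₁ => (z : θ.range)) h),
          Subtype.ext (mul_left_cancel (congrArg (fun z : B₁ => (z : θ.range)) h))]
      refine (Nat.card_le_card_of_injective F hF).trans (le_of_eq ?_)
      rw [Nat.card_prod, Nat.card_eq_fintype_card (α := Bool), Fintype.card_bool, mul_comm]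
    by_cases hB₁b : B₁ = ⊥
    · rw [hB₁b, Subgroup.card_bot, mul_one] at hhalf
      have hidx : (fixA ι B).index ≤ 2 := by
        refine Nat.le_of_mul_le_mul_left ?_ (Nat.card_pos (α := fixA ι B))
        rw [Subgroup.card_mul_index]
        calc Nat.card W ≤ Nat.card B * Nat.card (fixA ι B) := hB.2.1.2.2
          _ ≤ 2 * Nat.card (fixA ι B) := Nat.mul_le_mul_right _ hhalf
          _ = _ := mul_comm _ _
      refine no_transvection ι hι hW2 hO1 ?_ a (by rw [← pow_two]; exact hB.2.1.1.pow_eq_one hι ha) ?_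
        (fixA ι B) (fun w hw => hw a ha) hidx
      · intro y b hy3 hy1 hb2 hby
        have hc : θ.range = (MulAut.conjNormal (H := W) : G ⧸ Zc →* MulAut W).range := by
          simp only [θ, MonoidHom.range_comp, hπ, QuotientGroup.range_mk', ← MonoidHom.range_eq_map]
        refine no_inverted_three' (fun h' => hS4 (CfsgLib.Fus.involves_comap (QuotientGroup.mk'_surjective Zc) h'))
          (fun u hu v hv => congrArg Subtype.val (mul_comm (⟨u, hu⟩ : W) ⟨v, hv⟩))
          (fun v hv => congrArg Subtype.val (hW2 ⟨v, hv⟩)) MulAut.conjNormal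
          (fun g v => MulAut.conjNormal_apply _ _) (y : MulAut W) (hc ▸ y.2) (b : MulAut W) (hc ▸ b.2)
          (congrArg Subtype.val hy3) (fun h => hy1 (Subtype.ext h)) (congrArg Subtype.val hb2)
          (congrArg Subtype.val hby)
      · rintro rfl
        exact hane (one_smul _ _)
    · have hB₁Off : Off B₁ := by
        refine ⟨hB.2.1.1.mono inf_le_left, hB₁b, ?_⟩
        have hle : fixA ι B ≤ fixA ι B₁ := fun w hw b hb => hw b hb.1
        have hlt : fixA ι B ≠ fixA ι B₁ := by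
          intro he
          have hmem : ι g z' ∈ fixA ι B₁ := fun b hb => (hM' b).1 hb.2
          rw [← he] at hmem
          exact hane ((hM' a).2 (hmem a ha))
        obtain ⟨c, hc⟩ := Subgroup.card_dvd_of_le hle
        have hc2 : 2 ≤ c := by
          rcases c with - | - | c
          · simp at hc; have := Nat.card_pos (α := fixA ι B₁); omega
          · exact absurd (Subgroup.eq_of_le_of_card_ge hle (by omega)) hlt
          · omega
        calc Nat.card W ≤ Nat.card B * Nat.card (fixA ι B) := hB.2.1.2.2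
          _ ≤ (2 * Nat.card B₁) * Nat.card (fixA ι B) := Nat.mul_le_mul_right _ hhalf
          _ = Nat.card B₁ * (Nat.card (fixA ι B) * 2) := by ring
          _ ≤ Nat.card B₁ * Nat.card (fixA ι B₁) := by rw [hc]; exact Nat.mul_le_mul_left _ (Nat.mul_le_mul_left _ hc2)
      have := hB.2.2 B₁ inf_le_left hB₁Off
      exact hane ((this ▸ ha : a ∈ B₁).2)

/-- A conjugate inside `S` whose normalizer has a large Sylow subgroup. -/
theorem exists_syl_normalizer [Finite G] [Fact p.Prime] (S : Sylow p G) {R : Subgroup G}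
    (hR : R ≤ (S : Subgroup G)) : ∃ a : G, CfsgLib.Glau.cj a R ≤ (S : Subgroup G) ∧
      CfsgLib.Glau.cj a ((S : Subgroup G) ⊓ Subgroup.normalizer (R : Set G)) ≤ (S : Subgroup G) ∧
      CfsgLib.Glau.Syl p ((S : Subgroup G) ⊓ Subgroup.normalizer (CfsgLib.Glau.cj a R : Set G))
        (Subgroup.normalizer (CfsgLib.Glau.cj a R : Set G)) := by
  obtain ⟨T, hST, hT⟩ := CfsgLib.Glau.exists_syl (p := p) (Subgroup.normalizer (R : Set G))
    (inf_le_right : (S : Subgroup G) ⊓ Subgroup.normalizer (R : Set G) ≤ _) (S.isPGroup'.to_le inf_le_left)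
  obtain ⟨a, -, ha⟩ := (CfsgLib.Glau.syl_top S).exists_conj_le (le_top : T ≤ ⊤) hT.pg
  have hRT : R ≤ T := (le_inf hR Subgroup.le_normalizer).trans hST
  refine ⟨a, (CfsgLib.Glau.cj_mono a hRT).trans ha, (CfsgLib.Glau.cj_mono a hST).trans ha, ?_⟩
  have h1 := hT.conj a
  rw [CfsgLib.Glau.cj_normalizer] at h1
  exact h1.of_card_le inf_le_right (S.isPGroup'.to_le inf_le_left) (Subgroup.card_le_of_le (le_inf ha h1.le))

/-- The weak closure statement, by induction on the order of the group. -/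
theorem weakly_closed_aux [hp : Fact p.Prime] : ∀ (N : ℕ) (G : Type u) [Group G] [Finite G] (S : Sylow p G) (x : G),
    Nat.card G = N → x ∈ (S : Subgroup G) →
    (∀ g ∈ Subgroup.normalizer (jOf 0 (S : Subgroup G) : Set G), g * x = x * g) →
    (p ≠ 2 ∨ (∃ z ∈ (S : Subgroup G), (∀ s ∈ (S : Subgroup G), s * z = z * s) ∧ z ^ p = x) ∨
      ¬ Cfsg.Involves (Equiv.Perm (Fin 4)) G) →
    ∀ g : G, g * x * g⁻¹ ∈ (S : Subgroup G) → g * x * g⁻¹ = x := by
  intro N
  induction N using Nat.strong_induction_on with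
  | _ N IHN =>
  intro G _ _ S
  suffices hmain : ∀ (o : ℕ) (x : G), orderOf x = o → x ∈ (S : Subgroup G) → Nat.card G = N →
      (∀ g ∈ Subgroup.normalizer (jOf 0 (S : Subgroup G) : Set G), g * x = x * g) →
      (p ≠ 2 ∨ (∃ z ∈ (S : Subgroup G), (∀ s ∈ (S : Subgroup G), s * z = z * s) ∧ z ^ p = x) ∨
        ¬ Cfsg.Involves (Equiv.Perm (Fin 4)) G) →
      ∀ g : G, g * x * g⁻¹ ∈ (S : Subgroup G) → g * x * g⁻¹ = x from
    fun x hN hxS hJ hc => hmain _ x rfl hxS hN hJ hc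
  intro o
  induction o using Nat.strong_induction_on with
  | _ o IHo =>
  intro x ho hxS hN hJ hcase
  set Sg := (S : Subgroup G) with hSg
  have hSN : Sg ≤ Subgroup.normalizer (jOf 0 Sg : Set G) := Subgroup.le_normalizer.trans (normalizer_le_jOf Sg)
  have hxZ : ∀ s ∈ Sg, s * x = x * s := fun s hs => hJ s (hSN hs)
  -- proper subgroups
  have hlocal : ∀ L : Subgroup G, L ≠ ⊤ → ∀ S₀ : Subgroup G, CfsgLib.Glau.Syl p S₀ L → S₀ ≤ Sg → x ∈ S₀ →
      (∀ z ∈ Sg, (∀ s ∈ Sg, s * z = z * s) → z ∈ S₀) →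
      (∀ g ∈ L, g ∈ Subgroup.normalizer (jOf 0 S₀ : Set G) → g * x = x * g) →
      ∀ g ∈ L, g * x * g⁻¹ ∈ S₀ → g * x = x * g := by
    intro L hL S₀ hS₀ hS₀S hx₀ hz₀ hJ₀ g hg hgx
    have hcoe : (hS₀.toSylow : Subgroup L) = S₀.subgroupOf L := hS₀.coe_toSylow
    have key := IHN _ (hN ▸ card_lt_of_ne_top hL) ↥L hS₀.toSylow ⟨x, hS₀.le hx₀⟩ rfl (by rw [hcoe]; exact hx₀)
      ?_ ?_ ⟨g, hg⟩ (by rw [hcoe]; exact hgx)
    · exact mul_inv_eq_iff_eq_mul.1 (congrArg Subtype.val key)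
    · intro l hl
      refine Subtype.ext (hJ₀ l l.2 ?_)
      rw [hcoe] at hl
      have h1 := Subgroup.le_normalizer_map L.subtype ⟨l, hl, rfl⟩
      rwa [map_jOf L.subtype_injective, Subgroup.map_subgroupOf_eq_of_le hS₀.le] at h1
    · rcases hcase with h | ⟨z, hz, hzc, hzx⟩ | h
      · exact .inl h
      · refine .inr (.inl ⟨⟨z, hS₀.le (hz₀ z hz hzc)⟩, by rw [hcoe]; exact hz₀ z hz hzc, ?_, Subtype.ext hzx⟩)
        intro s hs
        rw [hcoe] at hs
        exact Subtype.ext (hzc _ (hS₀S hs))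
      · exact .inr (.inr (not_involves_subgroup L h))
  -- the constrained case
  by_cases hxO : x ∈ Cfsg.pCore p G
  · have hxc : x ∈ Subgroup.center G := by
      refine central_core S hxS hxZ hxO hJ (fun H hSH hH h hh => ?_) ?_ hcase
      · refine hlocal H hH Sg ((CfsgLib.Glau.syl_top S).mono hSH le_top) le_rfl hxS (fun z hz _ => hz)
          (fun g _ hg => hJ g hg) h hh ?_
        haveI := CfsgLib.Solv.pCore_normal G p
        exact pCore_le_sylow S (Subgroup.Normal.conj_mem inferInstance x hxO h)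
      · rcases eq_or_ne x 1 with rfl | hx1
        · rw [one_pow]; exact one_mem _
        obtain ⟨l, hl⟩ := (IsPGroup.iff_orderOf.1 S.isPGroup') ⟨x, hxS⟩
        rw [Subgroup.orderOf_mk] at hl
        have hl1 : 1 ≤ l := by
          by_contra h
          exact hx1 (orderOf_eq_one_iff.1 (by rw [hl, show l = 0 by omega, pow_zero]))
        have hlt : orderOf (x ^ p) < o := by
          rw [← ho, orderOf_pow' x hp.out.ne_zero, hl, Nat.gcd_eq_right (dvd_pow_self p (by omega))]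
          exact Nat.div_lt_self (pow_pos hp.out.pos l) hp.out.one_lt
        haveI := CfsgLib.Solv.pCore_normal G p
        refine Subgroup.mem_center_iff.2 fun g => mul_inv_eq_iff_eq_mul.1 ?_
        refine IHo _ hlt (x ^ p) rfl (Sg.pow_mem hxS p) hN ?_ ?_ g ?_
        · exact fun g hg => ((show Commute g x from hJ g hg).pow_right p).eq
        · rcases hcase with h | ⟨z, hz, hzc, hzx⟩ | h
          · exact .inl h
          · exact .inr (.inl ⟨z ^ p, Sg.pow_mem hz p, fun s hs =>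
              ((show Commute s z from hzc s hs).pow_right p).eq, by rw [hzx]⟩)
          · exact .inr (.inr h)
        · rw [← conj_pow]
          exact Sg.pow_mem (pCore_le_sylow S (Subgroup.Normal.conj_mem inferInstance x hxO g)) p
    intro g _
    rw [Subgroup.mem_center_iff.1 hxc g, mul_inv_cancel_right]
  -- the fusion induction
  have hproper : ∀ R : Subgroup G, R ≤ Sg → x ∈ R → Subgroup.normalizer (R : Set G) ≠ ⊤ := by
    intro R hR hxR htop
    haveI := Subgroup.normalizer_eq_top_iff.1 htop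
    exact hxO (le_pCore (S.isPGroup'.to_le hR) hxR)
  suffices hW : ∀ (d : ℕ) (R : Subgroup G), Nat.card Sg - Nat.card R = d → R ≤ Sg → x ∈ R →
      ∀ g : G, CfsgLib.Glau.cj g R ≤ Sg → g * x = x * g by
    intro g hg
    rw [hW _ (Subgroup.zpowers x) rfl (by rwa [Subgroup.zpowers_le]) (Subgroup.mem_zpowers x) g (by
      rintro _ ⟨y, hy, rfl⟩
      obtain ⟨i, rfl⟩ := Subgroup.mem_zpowers_iff.1 hy
      show g * x ^ i * g⁻¹ ∈ Sg
      rw [← conj_zpow]
      exact Sg.zpow_mem hg i), mul_inv_cancel_right]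
  intro d
  induction d using Nat.strong_induction_on with
  | _ d IHd =>
  intro R hd hRS hxR g hgR
  by_cases hRSg : R = Sg
  · subst hRSg
    exact hJ g (normalizer_le_jOf _ (CfsgLib.Glau.mem_normalizer_iff_cj.2
      (Subgroup.eq_of_le_of_card_ge hgR (CfsgLib.Glau.card_cj g _).ge)))
  -- elements moving larger subgroups fix `x`
  have hbig : ∀ T : Subgroup G, T ≤ Sg → x ∈ T → Nat.card R < Nat.card T →
      ∀ a : G, CfsgLib.Glau.cj a T ≤ Sg → a * x = x * a := by
    intro T hT hxT hlt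
    refine IHd _ ?_ T rfl hT hxT
    have := Subgroup.card_le_of_le hT
    omega
  have hgrow : ∀ T : Subgroup G, T ≤ Sg → T ≠ Sg →
      Nat.card T < Nat.card ↥(Sg ⊓ Subgroup.normalizer (T : Set G)) := by
    intro T hT hne
    have h1 : T < Sg ⊓ Subgroup.normalizer (T : Set G) :=
      CfsgLib.Fus.lt_normalizerIn (S := Sg) S.isPGroup' (lt_of_le_of_ne hT hne)
    refine lt_of_le_of_ne (Subgroup.card_le_of_le h1.le) fun he => h1.ne (Subgroup.eq_of_le_of_card_ge h1.le he.ge)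
  -- proper local subgroups with larger Sylow subgroups
  have hY : ∀ (d' : ℕ) (U : Subgroup G), Nat.card Sg - Nat.card ↥(Sg ⊓ Subgroup.normalizer (U : Set G)) = d' →
      U ≤ Sg → x ∈ U →
      CfsgLib.Glau.Syl p (Sg ⊓ Subgroup.normalizer (U : Set G)) (Subgroup.normalizer (U : Set G)) →
      Nat.card R < Nat.card ↥(Sg ⊓ Subgroup.normalizer (U : Set G)) →
      ∀ h ∈ Subgroup.normalizer (U : Set G), h * x = x * h := by
    intro d'
    induction d' using Nat.strong_induction_on with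
    | _ d' IHd' =>
    intro U hd' hUS hxU hsyl hRlt h hh
    set S₀ := Sg ⊓ Subgroup.normalizer (U : Set G) with hS₀
    have hUS₀ : U ≤ S₀ := le_inf hUS Subgroup.le_normalizer
    refine hlocal _ (hproper U hUS hxU) S₀ hsyl inf_le_left (hUS₀ hxU) ?_ ?_ h hh
      (hUS₀ ((Subgroup.mem_normalizer_iff.1 hh x).1 hxU))
    · intro z hz hzc
      refine ⟨hz, Subgroup.mem_normalizer_fintype fun u hu => ?_⟩
      rw [← hzc u (hUS hu), mul_inv_cancel_right]
      exact hu
    intro m _ hm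
    by_cases hS₀eq : S₀ = Sg
    · rw [hS₀eq] at hm
      exact hJ m hm
    set J₀ := jOf 0 S₀ with hJ₀
    have hJ₀S : J₀ ≤ Sg := (jOf_le S₀).trans inf_le_left
    have hxJ₀ : x ∈ J₀ := by
      obtain ⟨A, hA⟩ := exists_maxA 0 S₀
      exact hA.le_jOf (hA.mem (hUS₀ hxU) (pow_zero x) fun a ha => (hxZ a (hA.1 ha).1).symm)
    have hlt1 : Nat.card S₀ < Nat.card ↥(Sg ⊓ Subgroup.normalizer (J₀ : Set G)) :=
      (hgrow S₀ inf_le_left hS₀eq).trans_le
        (Subgroup.card_le_of_le (inf_le_inf_left _ (normalizer_le_jOf S₀)))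
    obtain ⟨a, haJ, haN, hsyl'⟩ := exists_syl_normalizer S hJ₀S
    have hxa : a * x = x * a := hbig _ inf_le_left ⟨hxS, Subgroup.le_normalizer hxJ₀⟩ (hRlt.trans hlt1) a haN
    have hle1 : Nat.card ↥(Sg ⊓ Subgroup.normalizer (J₀ : Set G)) ≤
        Nat.card ↥(Sg ⊓ Subgroup.normalizer (CfsgLib.Glau.cj a J₀ : Set G)) := by
      rw [← CfsgLib.Glau.card_cj a]
      refine Subgroup.card_le_of_le (le_inf haN ?_)
      rw [← CfsgLib.Glau.cj_normalizer]
      exact CfsgLib.Glau.cj_mono a inf_le_right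
    have hxU' : x ∈ CfsgLib.Glau.cj a J₀ := ⟨x, hxJ₀, by
      show a * x * a⁻¹ = x
      rw [hxa, mul_inv_cancel_right]⟩
    have hm' : a * m * a⁻¹ ∈ Subgroup.normalizer (CfsgLib.Glau.cj a J₀ : Set G) := by
      rw [← CfsgLib.Glau.cj_normalizer]
      exact ⟨m, hm, rfl⟩
    have h1 : Commute (a * m * a⁻¹) x := IHd' _ (by
      have := Subgroup.card_le_of_le (inf_le_left :
        Sg ⊓ Subgroup.normalizer (CfsgLib.Glau.cj a J₀ : Set G) ≤ Sg)
      omega) _ rfl haJ hxU' hsyl' (by omega) _ hm'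
    have h2 : Commute a x := hxa
    have h3 := ((h2.inv_left.mul_left h1).mul_left h2)
    rwa [show a⁻¹ * (a * m * a⁻¹) * a = m by group] at h3
  obtain ⟨a, haR, haN, hsyl⟩ := exists_syl_normalizer S hRS
  have hR1 : Nat.card R < Nat.card ↥(Sg ⊓ Subgroup.normalizer (R : Set G)) := hgrow R hRS hRSg
  have hxa : a * x = x * a := hbig _ inf_le_left ⟨hxS, Subgroup.le_normalizer hxR⟩ hR1 a haN
  set R₀ := CfsgLib.Glau.cj a R with hR₀
  set R' := CfsgLib.Glau.cj g R with hR'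
  have hR'ne : R' ≠ Sg := fun he => hRSg (Subgroup.eq_of_le_of_card_ge hRS (by
    rw [← he, hR', CfsgLib.Glau.card_cj]))
  -- carry the conjugate to the same subgroup
  obtain ⟨k, hkS, hkR⟩ : ∃ k : G, CfsgLib.Glau.cj k (Sg ⊓ Subgroup.normalizer (R' : Set G)) ≤ Sg ∧
      CfsgLib.Glau.cj k R' = R₀ := by
    set Q := Sg ⊓ Subgroup.normalizer (R' : Set G) with hQ
    have h1 : CfsgLib.Glau.cj (a * g⁻¹) Q ≤ Subgroup.normalizer (R₀ : Set G) := by
      refine (CfsgLib.Glau.cj_mono _ inf_le_right).trans (le_of_eq ?_)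
      rw [CfsgLib.Glau.cj_normalizer, hR', hR₀, ← CfsgLib.Glau.cj_mul, inv_mul_cancel_right]
    obtain ⟨c, hc, hcQ⟩ := hsyl.exists_conj_le h1 (CfsgLib.Glau.isPGroup_cj _ (S.isPGroup'.to_le inf_le_left))
    rw [← CfsgLib.Glau.cj_mul] at hcQ
    refine ⟨c * (a * g⁻¹), hcQ.trans inf_le_left, ?_⟩
    rw [hR', ← CfsgLib.Glau.cj_mul, show c * (a * g⁻¹) * g = c * a by group, CfsgLib.Glau.cj_mul, ← hR₀,
      CfsgLib.Glau.mem_normalizer_iff_cj.1 hc]
  have hxk : k * x = x * k := hbig _ inf_le_left ⟨hxS, Subgroup.mem_normalizer_fintype fun y hy => by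
      rw [← hxZ y (hgR hy), mul_inv_cancel_right]; exact hy⟩
    ((Nat.lt_of_le_of_lt (le_of_eq (CfsgLib.Glau.card_cj g R).symm) (hgrow R' hgR hR'ne))) k hkS
  set m := k * g * a⁻¹ with hm
  have hmN : m ∈ Subgroup.normalizer (R₀ : Set G) := by
    refine CfsgLib.Glau.mem_normalizer_iff_cj.2 ?_
    rw [hm, CfsgLib.Glau.cj_mul, hR₀, CfsgLib.Glau.cj_inv_cj, CfsgLib.Glau.cj_mul, ← hR', hkR, hR₀]
  have hxR₀ : x ∈ R₀ := ⟨x, hxR, by show a * x * a⁻¹ = x; rw [hxa, mul_inv_cancel_right]⟩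
  have hlt0 : Nat.card R < Nat.card ↥(Sg ⊓ Subgroup.normalizer (R₀ : Set G)) := by
    refine hR1.trans_le ?_
    rw [← CfsgLib.Glau.card_cj a]
    refine Subgroup.card_le_of_le (le_inf haN ?_)
    rw [hR₀, ← CfsgLib.Glau.cj_normalizer]
    exact CfsgLib.Glau.cj_mono a inf_le_right
  have h1 : Commute m x := hY _ R₀ rfl haR hxR₀ hsyl hlt0 m hmN
  have h2 : Commute a x := hxa
  have h3 : Commute k x := hxk
  have h4 := ((h3.inv_left.mul_left h1).mul_left h2)
  rwa [show k⁻¹ * m * a = g by rw [hm]; group] at h4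

end Groups

end CfsgLib.Inv.WC
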