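import Cfsg.Prelude.Def_CaseTheorems
import Mathlib.GroupTheory.Index
import Mathlib.GroupTheory.SpecificGroups.Cyclic
import Mathlib.GroupTheory.SpecificGroups.KleinFour
import Mathlib.Data.ZMod.Basic
import Mathlib.Tactic.LinearCombination
import Mathlib.Tactic.Group

/-!
Coordinates in a wreathed 2-group.
-/

set_option autoImplicit false

namespace CfsgLib.Inv

/-- Generators of a wreathed 2-group. -/
structure WData (S : Type*) [Group S] (n : ℕ) where
  x : S
  y : S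
  z : S
  two_le : 2 ≤ n
  card_eq : Nat.card S = 2 ^ (2 * n + 1)
  order_x : orderOf x = 2 ^ n
  comm : x * y = y * x
  inter : Subgroup.zpowers x ⊓ Subgroup.zpowers y = ⊥
  order_z : orderOf z = 2
  swap : z * x * z⁻¹ = y

namespace WData

theorem of_wreathed {S : Type*} [Group S] (hS : Cfsg.IsWreathed S) : ∃ n, Nonempty (WData S n) := by
  obtain ⟨n, hn, hc, x, y, z, h1, h2, h3, h4, h5⟩ := hS
  exact ⟨n, ⟨⟨x, y, z, hn, hc, h1, h2, h3, h4, h5⟩⟩⟩

variable {S : Type*} [Group S] {n : ℕ} (D : WData S n)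

include D in
theorem n_eq {m : ℕ} (hm : Nat.card S = 2 ^ (2 * m + 1)) : n = m := by
  rw [D.card_eq] at hm
  have := Nat.pow_right_injective (le_refl 2) hm
  omega

theorem z_sq : D.z * D.z = 1 := by
  have := pow_orderOf_eq_one D.z
  rwa [D.order_z, pow_two] at this

theorem z_inv : D.z⁻¹ = D.z := inv_eq_of_mul_eq_one_right D.z_sq

theorem swap' : D.z * D.y * D.z⁻¹ = D.x := by
  rw [← D.swap, D.z_inv]
  calc D.z * (D.z * D.x * D.z) * D.z = (D.z * D.z) * D.x * (D.z * D.z) := by group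
    _ = D.x := by rw [D.z_sq, one_mul, mul_one]

theorem order_y : orderOf D.y = 2 ^ n := by
  rw [← D.swap, ← D.order_x]
  exact MulEquiv.orderOf_eq (MulAut.conj D.z) D.x

/-- The element `x ^ a * y ^ b`. -/
def el (a b : ZMod (2 ^ n)) : S := D.x ^ a.val * D.y ^ b.val

/-- The element `x ^ a * y ^ b * z`. -/
def ot (a b : ZMod (2 ^ n)) : S := D.el a b * D.z

theorem el_zero : D.el 0 0 = 1 := by simp [el]

theorem pow_val_add {g : S} (hg : orderOf g = 2 ^ n) (a b : ZMod (2 ^ n)) :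
    g ^ (a + b).val = g ^ a.val * g ^ b.val := by
  rw [ZMod.val_add, ← pow_add]
  exact pow_eq_pow_iff_modEq.2 (hg.symm ▸ Nat.mod_modEq _ _)

theorem el_mul (a b c d : ZMod (2 ^ n)) : D.el a b * D.el c d = D.el (a + c) (b + d) := by
  have hc : Commute (D.y ^ b.val) (D.x ^ c.val) := (Commute.pow_pow D.comm.symm _ _)
  rw [el, el, el, pow_val_add D.order_x, pow_val_add D.order_y, mul_assoc, ← mul_assoc (D.y ^ b.val), hc.eq]
  simp only [mul_assoc]

theorem z_el (a b : ZMod (2 ^ n)) : D.z * D.el a b = D.el b a * D.z := by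
  have h : D.z * D.el a b * D.z⁻¹ = D.el b a := by
    rw [el, el, ← conj_mul, ← conj_pow, ← conj_pow, D.swap, D.swap']
    exact (Commute.pow_pow D.comm.symm _ _).eq
  rw [← h, inv_mul_cancel_right]

theorem el_mul_ot (a b c d : ZMod (2 ^ n)) : D.el a b * D.ot c d = D.ot (a + c) (b + d) := by
  rw [ot, ot, ← mul_assoc, el_mul]

theorem ot_mul_el (a b c d : ZMod (2 ^ n)) : D.ot a b * D.el c d = D.ot (a + d) (b + c) := by
  rw [ot, ot, mul_assoc, z_el, ← mul_assoc, el_mul]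

theorem ot_mul_ot (a b c d : ZMod (2 ^ n)) : D.ot a b * D.ot c d = D.el (a + d) (b + c) := by
  rw [ot, ot, mul_assoc, ← mul_assoc D.z, z_el, mul_assoc, D.z_sq, mul_one, el_mul]

theorem el_inv (a b : ZMod (2 ^ n)) : (D.el a b)⁻¹ = D.el (-a) (-b) :=
  inv_eq_of_mul_eq_one_right (by rw [el_mul, add_neg_cancel, add_neg_cancel, el_zero])

theorem ot_inv (a b : ZMod (2 ^ n)) : (D.ot a b)⁻¹ = D.ot (-b) (-a) :=
  inv_eq_of_mul_eq_one_right (by rw [ot_mul_ot, add_neg_cancel, add_neg_cancel, el_zero])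

theorem el_conj_el (c d a b : ZMod (2 ^ n)) : D.el c d * D.el a b * (D.el c d)⁻¹ = D.el a b := by
  rw [el_inv, el_mul, el_mul]; congr 1 <;> ring

theorem ot_conj_el (c d a b : ZMod (2 ^ n)) : D.ot c d * D.el a b * (D.ot c d)⁻¹ = D.el b a := by
  rw [ot_inv, ot_mul_el, ot_mul_ot]; congr 1 <;> ring

theorem el_conj_ot (c d a b : ZMod (2 ^ n)) :
    D.el c d * D.ot a b * (D.el c d)⁻¹ = D.ot (a + c - d) (b + d - c) := by
  rw [el_inv, el_mul_ot, ot_mul_el]; congr 1 <;> ring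

theorem ot_conj_ot (c d a b : ZMod (2 ^ n)) :
    D.ot c d * D.ot a b * (D.ot c d)⁻¹ = D.ot (b + c - d) (a + d - c) := by
  rw [ot_inv, ot_mul_ot, el_mul_ot]; congr 1 <;> ring

theorem z_eq : D.z = D.ot 0 0 := by rw [ot, el_zero, one_mul]

theorem x_eq : D.x = D.el 1 0 := by
  haveI : Fact (1 < 2 ^ n) := ⟨Nat.one_lt_two_pow (by have := D.two_le; omega)⟩
  simp [el, ZMod.val_one]

theorem y_eq : D.y = D.el 0 1 := by
  haveI : Fact (1 < 2 ^ n) := ⟨Nat.one_lt_two_pow (by have := D.two_le; omega)⟩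
  simp [el, ZMod.val_one]

theorem el_inj {a b c d : ZMod (2 ^ n)} (h : D.el a b = D.el c d) : a = c ∧ b = d := by
  have h0 : D.el (a - c) (b - d) = 1 := by
    rw [sub_eq_add_neg, sub_eq_add_neg, ← el_mul, ← el_inv, h, mul_inv_cancel]
  have h1 : D.x ^ (a - c).val ∈ Subgroup.zpowers D.x ⊓ Subgroup.zpowers D.y := by
    refine Subgroup.mem_inf.2 ⟨pow_mem (Subgroup.mem_zpowers _) _, ?_⟩
    rw [el] at h0
    rw [eq_inv_of_mul_eq_one_left h0]
    exact inv_mem (pow_mem (Subgroup.mem_zpowers _) _)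
  rw [D.inter, Subgroup.mem_bot] at h1
  have hx : ∀ {g : S} (_ : orderOf g = 2 ^ n) {e : ZMod (2 ^ n)}, g ^ e.val = 1 → e = 0 := by
    intro g hg e he
    have := orderOf_dvd_of_pow_eq_one he
    rw [hg] at this
    exact (ZMod.val_eq_zero e).1 (Nat.eq_zero_of_dvd_of_lt this (ZMod.val_lt e))
  have ha := hx D.order_x h1
  rw [el, h1, one_mul] at h0
  exact ⟨sub_eq_zero.1 ha, sub_eq_zero.1 (hx D.order_y h0)⟩

theorem one_ne_zero' (D : WData S n) : (1 : ZMod (2 ^ n)) ≠ 0 := by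
  haveI : Fact (1 < 2 ^ n) := ⟨Nat.one_lt_two_pow (by have := D.two_le; omega)⟩
  exact one_ne_zero

theorem ot_ne_el (a b c d : ZMod (2 ^ n)) : D.ot a b ≠ D.el c d := by
  intro h
  have hz : D.z = D.el (c - a) (d - b) := by
    rw [ot, ← eq_inv_mul_iff_mul_eq, el_inv, el_mul] at h
    rw [h]; congr 1 <;> ring
  have h1 := D.z_el 1 0
  rw [hz, el_mul, el_mul] at h1
  have := (D.el_inj h1).1
  exact D.one_ne_zero' (by linear_combination this)

theorem ot_inj {a b c d : ZMod (2 ^ n)} (h : D.ot a b = D.ot c d) : a = c ∧ b = d :=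
  D.el_inj (mul_right_cancel h)

/-- The coordinate map. -/
def coordMap (t : (ZMod (2 ^ n) × ZMod (2 ^ n)) × Bool) : S :=
  bif t.2 then D.ot t.1.1 t.1.2 else D.el t.1.1 t.1.2

theorem coordMap_bijective [Finite S] : Function.Bijective D.coordMap := by
  rw [Nat.bijective_iff_injective_and_card]
  refine ⟨?_, ?_⟩
  · rintro ⟨⟨a, b⟩, e⟩ ⟨⟨c, d⟩, e'⟩ h
    cases e <;> cases e' <;> simp only [coordMap, cond_true, cond_false] at h
    · obtain ⟨rfl, rfl⟩ := D.el_inj h; rfl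
    · exact absurd h.symm (D.ot_ne_el _ _ _ _)
    · exact absurd h (D.ot_ne_el _ _ _ _)
    · obtain ⟨rfl, rfl⟩ := D.ot_inj h; rfl
  · rw [D.card_eq, Nat.card_prod, Nat.card_prod, Nat.card_zmod, Nat.card_eq_fintype_card, Fintype.card_bool]
    ring

theorem cases [Finite S] (g : S) : (∃ a b, g = D.el a b) ∨ ∃ a b, g = D.ot a b := by
  obtain ⟨⟨⟨a, b⟩, e⟩, rfl⟩ := D.coordMap_bijective.2 g
  cases e
  · exact Or.inl ⟨a, b, rfl⟩
  · exact Or.inr ⟨a, b, rfl⟩

variable [Finite S]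

/-- Define a function on the group by its values in coordinates. -/
noncomputable def lift {β : Type*} (f g : ZMod (2 ^ n) → ZMod (2 ^ n) → β) (s : S) : β :=
  let t := (Equiv.ofBijective _ D.coordMap_bijective).symm s
  bif t.2 then g t.1.1 t.1.2 else f t.1.1 t.1.2

theorem lift_el {β : Type*} (f g : ZMod (2 ^ n) → ZMod (2 ^ n) → β) (a b : ZMod (2 ^ n)) :
    D.lift f g (D.el a b) = f a b := by
  have : (Equiv.ofBijective _ D.coordMap_bijective).symm (D.el a b) = ((a, b), false) := by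
    rw [Equiv.symm_apply_eq]; rfl
  simp only [lift, this, cond_false]

theorem lift_ot {β : Type*} (f g : ZMod (2 ^ n) → ZMod (2 ^ n) → β) (a b : ZMod (2 ^ n)) :
    D.lift f g (D.ot a b) = g a b := by
  have : (Equiv.ofBijective _ D.coordMap_bijective).symm (D.ot a b) = ((a, b), true) := by
    rw [Equiv.symm_apply_eq]; rfl
  simp only [lift, this, cond_true]

end WData

end CfsgLib.Inv
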