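import Cfsg.Agent.Inv.WreathFusion
import Cfsg.Agent.Inv.IsolatedP
import Cfsg.Agent.Base.ZStar.Holds
import Cfsg.Agent.Base.ZStar.App
import Cfsg.Agent.Fus.Control

/-!
Fusion invariants and classes of involutions for wreathed Sylow 2-subgroups.
-/

set_option autoImplicit false

namespace CfsgLib.Inv

open scoped Pointwise

variable {G : Type*} [Group G] [Finite G] (S : Sylow 2 G) {n : ℕ} (D : WData (S : Subgroup G) n)

/-- A class function on the wreathed Sylow subgroup preserved by odd elements of the two local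
subgroups is preserved by fusion. -/
theorem wreath_invariant {α : Type*} (F : ↥(S : Subgroup G) → α)
    (hin : ∀ s u : (S : Subgroup G), F (s * u * s⁻¹) = F u)
    (hU : ∀ g ∈ Subgroup.normalizer (wU S D : Set G), Odd (orderOf g) → g ∉ Subgroup.centralizer (wU S D : Set G) →
      ∀ u ∈ D.U, ∀ v : (S : Subgroup G), g * (u : G) * g⁻¹ = (v : G) → F v = F u)
    (hV : ∀ g ∈ Subgroup.normalizer (wV S D : Set G), Odd (orderOf g) → g ∉ Subgroup.centralizer (wV S D : Set G) →
      ∀ u ∈ D.V, ∀ v : (S : Subgroup G), g * (u : G) * g⁻¹ = (v : G) → F v = F u)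
    {u v : (S : Subgroup G)} {g : G} (e : g * (u : G) * g⁻¹ = (v : G)) : F v = F u := by
  classical
  let χ : G → Option α := fun x => if h : x ∈ (S : Subgroup G) then some (F ⟨x, h⟩) else none
  have hχ : ∀ u : (S : Subgroup G), χ u = some (F u) := fun u => dif_pos u.2
  suffices h : χ (g * (u : G) * g⁻¹) = χ (u : G) by
    rw [e, hχ, hχ] at h
    exact Option.some.inj h
  refine fusion_invariant S χ (fun s hs x hx => ?_) (fun P hPS hcen g hg hodd hc x hx => ?_) u.2 (e ▸ v.2)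
  · show χ ((⟨s, hs⟩ * ⟨x, hx⟩ * ⟨s, hs⟩⁻¹ : (S : Subgroup G)) : G) = χ ((⟨x, hx⟩ : (S : Subgroup G)) : G)
    rw [hχ, hχ, hin]
  set X := P.subgroupOf (S : Subgroup G) with hX
  have hmap : X.map (S : Subgroup G).subtype = P := Subgroup.map_subgroupOf_eq_of_le hPS
  have hCX : Subgroup.centralizer (X : Set (S : Subgroup G)) ≤ X := fun w hw =>
    hcen w w.2 fun y hy => congrArg Subtype.val (hw ⟨y, hPS hy⟩ hy)
  have hgX : g ∈ Subgroup.normalizer ((X.map (S : Subgroup G).subtype : Subgroup G) : Set G) := by rwa [hmap]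
  have hf := oddAut_gFun S hgX hodd
  have hne : ∃ w ∈ X, gFun S g w ≠ w := by
    by_contra hcon
    refine hc fun y hy => ?_
    have h1 : gFun S g ⟨y, hPS hy⟩ = ⟨y, hPS hy⟩ := by_contra fun h => hcon ⟨_, hy, h⟩
    have h2 := (gFun_spec S hgX (u := ⟨y, hPS hy⟩) hy).2
    rw [h1] at h2
    exact (mul_inv_eq_iff_eq_mul.1 h2.symm).symm
  have hgx : g * x * g⁻¹ ∈ (S : Subgroup G) := hPS ((Subgroup.mem_normalizer_iff.1 hg x).1 hx)
  show χ ((⟨_, hgx⟩ : (S : Subgroup G)) : G) = χ ((⟨x, hPS hx⟩ : (S : Subgroup G)) : G)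
  rw [hχ, hχ]
  rcases D.centric_cases hCX hf hne with hXU | ⟨-, c, hc'⟩
  · have hPU : P = wU S D := by rw [← hmap, hXU]; rfl
    subst hPU
    obtain ⟨w, hw, e'⟩ := hx
    rw [congrArg F (Subtype.ext e'.symm : (⟨x, hPS ⟨w, hw, e'⟩⟩ : (S : Subgroup G)) = w)]
    exact congrArg some (hU g hg hodd hc w hw ⟨_, hgx⟩ (congrArg (fun t => g * t * g⁻¹) e'))
  · set s : (S : Subgroup G) := D.el c 0 with hs
    have hmemP : ∀ y : (S : Subgroup G), (y : G) ∈ P ↔ s⁻¹ * y * s ∈ D.V := hc'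
    set g' : G := (s : G)⁻¹ * g * (s : G) with hg'
    have hVP : ∀ y ∈ D.V, (s : G) * (y : G) * (s : G)⁻¹ ∈ P := fun y hy => (hmemP (s * y * s⁻¹)).2 (by
      rw [show s⁻¹ * (s * y * s⁻¹) * s = y by group]; exact hy)
    have hPV : ∀ y ∈ P, (s : G)⁻¹ * y * (s : G) ∈ wV S D := fun y hy =>
      ⟨_, (hmemP ⟨y, hPS hy⟩).1 hy, rfl⟩
    have hg'N : g' ∈ Subgroup.normalizer (wV S D : Set G) := by
      refine Subgroup.mem_normalizer_iff.2 fun y => ⟨?_, fun h => ?_⟩
      · rintro ⟨w, hw, rfl⟩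
        have := hPV _ ((Subgroup.mem_normalizer_iff.1 hg _).1 (hVP w hw))
        convert this using 1
        rw [hg']; simp [mul_assoc]
      · obtain ⟨w, hw, e'⟩ := h
        have := hPV _ ((Subgroup.mem_normalizer_iff.1 (inv_mem hg) _).1 (hVP w hw))
        convert this using 1
        rw [show ((w : G)) = g' * y * g'⁻¹ from e', hg']
        group
    have hg'odd : Odd (orderOf g') := by
      rwa [hg', show (s : G)⁻¹ * g * (s : G) = MulAut.conj (s : G)⁻¹ g by simp, MulEquiv.orderOf_eq]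
    have hg'c : g' ∉ Subgroup.centralizer (wV S D : Set G) := by
      intro h
      refine hc fun y hy => ?_
      have h1 := h _ (hPV y hy)
      rw [hg'] at h1
      calc y * g = (s : G) * ((s : G)⁻¹ * y * (s : G) * ((s : G)⁻¹ * g * (s : G))) * (s : G)⁻¹ := by group
        _ = g * y := by rw [h1]; group
    have hw : s⁻¹ * ⟨x, hPS hx⟩ * s ∈ D.V := (hmemP _).1 hx
    have h2 := hV g' hg'N hg'odd hg'c _ hw (s⁻¹ * ⟨_, hgx⟩ * s) (by
      simp only [Subgroup.coe_mul, Subgroup.coe_inv, hg']; group)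
    have h3 : ∀ y, F (s⁻¹ * y * s) = F y := fun y => by simpa using hin s⁻¹ y
    rw [h3, h3] at h2
    exact congrArg some h2

theorem inv_sgh (h : ¬ FusU S D) {u v : (S : Subgroup G)} {g : G} (e : g * (u : G) * g⁻¹ = (v : G)) :
    D.sgh v = D.sgh u :=
  wreath_invariant S D D.sgh (fun s u => by rw [map_mul, map_mul, map_inv, mul_inv_cancel_comm])
    (fun _ hg hodd hc => absurd (cent_wU_of_not_fused S D h hg hodd) hc)
    (fun _ hg _ _ u hu _ e => sgh_inv S D hg (normalizer_fix_wZ S D hg) hu e) e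

include D in
theorem central_fixed (h : ¬ FusU S D) {u v : (S : Subgroup G)} {g : G} (e : g * (u : G) * g⁻¹ = (v : G))
    (hu : u ∈ Subgroup.center (S : Subgroup G)) : v = u := by
  classical
  let F : ↥(S : Subgroup G) → Option ↥(S : Subgroup G) := fun w =>
    if w ∈ Subgroup.center (S : Subgroup G) then some w else none
  have h1 : F v = F u := by
    refine wreath_invariant S D F (fun s w => ?_)
      (fun _ hg hodd hc => absurd (cent_wU_of_not_fused S D h hg hodd) hc) (fun g hg _ _ u _ v e => ?_) e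
    · by_cases hw : w ∈ Subgroup.center (S : Subgroup G)
      · rw [Subgroup.mem_center_iff.1 hw s, mul_inv_cancel_right]
      · have hw' : s * w * s⁻¹ ∉ Subgroup.center (S : Subgroup G) := fun h => hw (by
          have := (inferInstance : (Subgroup.center (S : Subgroup G)).Normal).conj_mem _ h s⁻¹
          simpa [mul_assoc] using this)
        simp only [F, if_neg hw, if_neg hw']
    · by_cases hu : u ∈ Subgroup.center (S : Subgroup G)
      · obtain ⟨c, rfl⟩ := D.mem_center_iff.1 hu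
        rw [show v = D.el c c from Subtype.ext (e.symm.trans (normalizer_fix_wZ S D hg c))]
      · have hv : v ∉ Subgroup.center (S : Subgroup G) := fun hv => hu (by
          obtain ⟨c, rfl⟩ := D.mem_center_iff.1 hv
          rw [← normalizer_fix_wZ S D hg c] at e
          rwa [show u = D.el c c from Subtype.ext (mul_left_cancel (mul_right_cancel e))])
        simp only [F, if_neg hu, if_neg hv]
  simp only [F, if_pos hu] at h1
  by_cases hv : v ∈ Subgroup.center (S : Subgroup G)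
  · rw [if_pos hv] at h1; exact Option.some.inj h1
  · rw [if_neg hv] at h1; exact absurd h1 (by simp)

theorem inv_memU (h : ¬ FusV S D) {u v : (S : Subgroup G)} {g : G} (e : g * (u : G) * g⁻¹ = (v : G)) :
    v ∈ D.U ↔ u ∈ D.U := by
  have h1 : (fun w => w ∈ D.U) v = (fun w => w ∈ D.U) u := by
    refine wreath_invariant S D (fun w => w ∈ D.U) (fun s w => propext ?_) (fun g hg _ _ u hu v e => ?_)
      (fun g hg hodd hc => absurd (cent_wV_of_not_fused S D h hg hodd) hc) e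
    · haveI := D.U_normal
      exact ⟨fun hw => by simpa [mul_assoc] using (inferInstance : D.U.Normal).conj_mem _ hw s⁻¹,
        fun hw => (inferInstance : D.U.Normal).conj_mem _ hw s⟩
    · exact propext ⟨fun _ => hu, fun _ => (mem_wU S D).1 (e ▸ conj_mem_map S hg hu)⟩
  exact Eq.to_iff h1

include D in
theorem winvol_class {t : G} (ht : orderOf t = 2) :
    IsConj t (D.zc : G) ∨ IsConj t (D.el D.hh 0 : G) ∨ IsConj t (D.ot 0 0 : G) := by
  obtain ⟨c, hc⟩ := exists_conj_mem S (k := 1) (by simpa using ht)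
  have h2 : orderOf (⟨_, hc⟩ : (S : Subgroup G)) = 2 := by
    rw [Subgroup.orderOf_mk]; exact invol_conj ht c
  have key : ∀ w : (S : Subgroup G), (⟨_, hc⟩ : (S : Subgroup G)) = w → IsConj t (w : G) :=
    fun w e => isConj_iff.2 ⟨c, congrArg Subtype.val e⟩
  rcases D.invol_cases h2 with e | e | e | ⟨a, e⟩
  · exact Or.inl (key _ e)
  · exact Or.inr (Or.inl (key _ e))
  · exact Or.inr (Or.inl ((key _ e).trans (isConj_iff.2 ⟨_, congrArg Subtype.val D.conj_zero_hh⟩).symm))
  · exact Or.inr (Or.inr ((key _ e).trans (isConj_iff.2 ⟨_, congrArg Subtype.val (D.ot_conj_zero a)⟩).symm))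

theorem not_conj_zc_wh (h : ¬ FusU S D) : ¬ IsConj (D.zc : G) (D.el D.hh 0 : G) := fun hc => by
  obtain ⟨g, hg⟩ := isConj_iff.1 hc
  exact D.hh_ne (D.el_inj (central_fixed S D h hg (D.mem_center_iff.2 ⟨_, rfl⟩))).2.symm

theorem not_conj_zc_wt (h : ¬ FusU S D) : ¬ IsConj (D.zc : G) (D.ot 0 0 : G) := fun hc => by
  obtain ⟨g, hg⟩ := isConj_iff.1 hc
  exact D.ot_ne_el _ _ _ _ (central_fixed S D h hg (D.mem_center_iff.2 ⟨_, rfl⟩))

theorem not_conj_wh_wt (h : ¬ FusV S D) : ¬ IsConj (D.el D.hh 0 : G) (D.ot 0 0 : G) := fun hc => by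
  obtain ⟨g, hg⟩ := isConj_iff.1 hc
  exact D.ot_not_mem_U _ _ ((inv_memU S D h hg).2 (D.el_mem_U _ _))

theorem w_one (hU : FusU S D) (hV : FusV S D) :
    Nat.card {C : ConjClasses G // ∃ t : G, orderOf t = 2 ∧ ConjClasses.mk t = C} = 1 :=
  classes_card_one ((Subgroup.orderOf_coe _).trans D.zc_order) fun _ ht => by
    rcases winvol_class S D ht with h | h | h
    · exact h
    · exact h.trans (isConj_zc_wh S D hU).symm
    · exact h.trans ((isConj_wh_wt S D hV).symm.trans (isConj_zc_wh S D hU).symm)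

theorem w_two_quat (hU : ¬ FusU S D) (hV : FusV S D) :
    Nat.card {C : ConjClasses G // ∃ t : G, orderOf t = 2 ∧ ConjClasses.mk t = C} = 2 :=
  classes_card_two ((Subgroup.orderOf_coe _).trans D.zc_order) ((Subgroup.orderOf_coe _).trans D.el_hh_order)
    (not_conj_zc_wh S D hU) fun _ ht => by
    rcases winvol_class S D ht with h | h | h
    · exact Or.inl h
    · exact Or.inr h
    · exact Or.inr (h.trans (isConj_wh_wt S D hV).symm)

theorem w_two_ab (hU : FusU S D) (hV : ¬ FusV S D) :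
    Nat.card {C : ConjClasses G // ∃ t : G, orderOf t = 2 ∧ ConjClasses.mk t = C} = 2 :=
  classes_card_two ((Subgroup.orderOf_coe _).trans D.el_hh_order) ((Subgroup.orderOf_coe _).trans D.ot_zero_order)
    (not_conj_wh_wt S D hV) fun _ ht => by
    rcases winvol_class S D ht with h | h | h
    · exact Or.inl (h.trans (isConj_zc_wh S D hU))
    · exact Or.inl h
    · exact Or.inr h

theorem w_three (hU : ¬ FusU S D) (hV : ¬ FusV S D) :
    Nat.card {C : ConjClasses G // ∃ t : G, orderOf t = 2 ∧ ConjClasses.mk t = C} = 3 :=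
  classes_card_three ((Subgroup.orderOf_coe _).trans D.zc_order) ((Subgroup.orderOf_coe _).trans D.el_hh_order)
    ((Subgroup.orderOf_coe _).trans D.ot_zero_order)
    (not_conj_zc_wh S D hU) (not_conj_zc_wt S D hU) (not_conj_wh_wt S D hV) fun _ ht => winvol_class S D ht

include D in
theorem center_weakly_closed (hU : ¬ FusU S D) {Z₀ : Subgroup G} (h : Z₀ ≤ wZ S) :
    Cfsg.IsWeaklyClosed Z₀ (S : Subgroup G) := by
  refine ⟨h.trans (Subgroup.map_subtype_le _), fun g hg => ?_⟩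
  have key : ∀ x ∈ Z₀, g * x * g⁻¹ = x := by
    intro x hx
    obtain ⟨u, hu, rfl⟩ := h hx
    have := central_fixed S D hU (v := ⟨_, hg ⟨_, hx, rfl⟩⟩) (g := g) rfl hu
    exact congrArg Subtype.val this
  ext y
  constructor
  · rintro ⟨x, hx, rfl⟩
    show g * x * g⁻¹ ∈ Z₀
    rwa [key x hx]
  · exact fun hy => ⟨y, hy, key y hy⟩

theorem exists_quat_kernel (hU : ¬ FusU S D) :
    ∃ K : Subgroup G, K.Normal ∧ K.index = 2 ^ n ∧ K.subgroupOf (S : Subgroup G) = D.sgh.ker :=
  exists_normal_kernel S D.sgh D.sgh_surjective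
    (by rw [Nat.card_congr Multiplicative.toAdd, Nat.card_zmod]) fun _ _ _ => inv_sgh S D hU rfl

theorem exists_abelian_kernel (hV : ¬ FusV S D) :
    ∃ K : Subgroup G, K.Normal ∧ K.index = 2 ∧ K.subgroupOf (S : Subgroup G) = D.U := by
  have hidx : D.U.index = 2 := by
    have h := Subgroup.card_mul_index D.U
    rw [D.card_U, D.card_eq, pow_succ] at h
    exact Nat.eq_of_mul_eq_mul_left (by positivity) h
  exact exists_normal_index_two S D.U hidx fun _ _ _ => inv_memU S D hV rfl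

theorem index_ker_sgh : D.sgh.ker.index = 2 ^ n := by
  rw [Subgroup.index_ker, MonoidHom.range_eq_top.2 D.sgh_surjective, Subgroup.card_top,
    Nat.card_congr Multiplicative.toAdd, Nat.card_zmod]

include D in
theorem npc_of_wreath (hU : ¬ FusU S D) (hV : ¬ FusV S D) : Cfsg.HasNormalPComplement 2 G := by
  haveI : Fact (Nat.Prime 2) := ⟨Nat.prime_two⟩
  obtain ⟨K1, hn1, hi1, hK1⟩ := exists_quat_kernel S D hU
  obtain ⟨K2, hn2, hi2, hK2⟩ := exists_abelian_kernel S D hV
  haveI := hn1; haveI := hn2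
  have hd : (K1 ⊓ K2).index ∣ 2 ^ (n + 1) := by
    have h1 := Subgroup.relIndex_mul_index (inf_le_left : K1 ⊓ K2 ≤ K1)
    rw [Subgroup.inf_relIndex_left] at h1
    rw [← h1, hi1, pow_succ']
    exact mul_dvd_mul_right (hi2 ▸ Subgroup.relIndex_dvd_index_of_normal K2 K1) _
  obtain ⟨a, -, hidx⟩ := (Nat.dvd_prime_pow Nat.prime_two).1 hd
  set K := K1 ⊓ K2 with hK
  let T : Sylow 2 K := default
  obtain ⟨c, -, hc⟩ := exists_sylow_conj_le S (C := ⊤) le_top le_top (T.2.map K.subtype)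
  refine npc_of_cyclic_normal hidx T ?_
  let f : (T : Subgroup K) →* (S : Subgroup G) :=
    ((MulAut.conj c).toMonoidHom.comp (K.subtype.comp (T : Subgroup K).subtype)).codRestrict _ fun x => hc (by
      rw [CfsgLib.Solv.mem_conj_smul_iff]
      exact ⟨x.1, x.2, by simp [mul_assoc]⟩)
  have hf : Function.Injective f := fun p q hpq => by
    have := congrArg Subtype.val hpq
    exact Subtype.ext (Subtype.ext ((MulAut.conj c).injective this))
  have hcyc : f.range ≤ D.antidiag.range := by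
    rintro _ ⟨w, rfl⟩
    have hu : (f w : G) ∈ K := (inferInstance : K.Normal).conj_mem _ w.1.2 c
    have h1 : f w ∈ D.sgh.ker := hK1 ▸ Subgroup.mem_subgroupOf.2 hu.1
    have h2 : f w ∈ D.U := hK2 ▸ Subgroup.mem_subgroupOf.2 hu.2
    obtain ⟨p, r, e⟩ := h2
    rw [e] at h1 ⊢
    exact ⟨Multiplicative.ofAdd p, by
      show D.el p (-p) = _
      rw [show r = -p by linear_combination D.el_mem_ker_sgh.1 h1]⟩
  haveI : IsCyclic D.antidiag.range := isCyclic_of_surjective _ D.antidiag.rangeRestrict_surjective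
  haveI : IsCyclic f.range := Subgroup.isCyclic_of_le hcyc
  exact isCyclic_of_surjective _ (MonoidHom.ofInjective hf).symm.surjective

theorem gen_out (hF : FusV S D) {R L : Subgroup G} [R.Normal]
    (hmul : ∀ a ∈ R, ∀ b ∈ R, a ∉ L → b ∉ L → a * b ∈ L) (hodd : ∀ g : G, Odd (orderOf g) → g ∈ L)
    (hc : (D.el D.qq (-D.qq) : G) ∈ R) (hb : (D.ot D.hh 0 : G) ∈ R) (a : ZMod (2 ^ n)) :
    (D.ot (D.hh + a) (-a) : G) ∈ L := by
  obtain ⟨g, hg, hgo, hgK⟩ := hF
  set s : G := (D.el a 0 : G) with hs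
  set L' := L.comap (MulAut.conj s).toMonoidHom with hL'
  have hm : ∀ x, x ∈ L' ↔ s * x * s⁻¹ ∈ L := fun x => Iff.rfl
  have hodd' : ∀ x : G, Odd (orderOf x) → x ∈ L' := fun x hx => hodd _ (by rwa [MulEquiv.toMonoidHom_eq_coe, MonoidHom.coe_coe, MulEquiv.orderOf_eq])
  have hmul' : ∀ x ∈ R, ∀ y ∈ R, x ∉ L' → y ∉ L' → x * y ∈ L' := fun x hx y hy h1 h2 => by
    have := hmul _ ((inferInstance : R.Normal).conj_mem x hx s) _ ((inferInstance : R.Normal).conj_mem y hy s) h1 h2
    rw [conj_mul] at this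
    exact this
  have h := (triV S D).all_le hg hgo hgK (L := L')
    (fun x hx => L'.mul_mem (L'.mul_mem (hodd' g hgo) hx) (L'.inv_mem (hodd' g hgo))) (by
      by_cases h1 : (D.el D.qq (-D.qq) : G) ∈ L'
      · exact Or.inl (Subgroup.zpowers_le.2 h1)
      · by_cases h2 : (D.ot D.hh 0 : G) ∈ L'
        · exact Or.inr (Or.inl (Subgroup.zpowers_le.2 h2))
        · exact Or.inr (Or.inr (Subgroup.zpowers_le.2 (hmul' _ hc _ hb h1 h2))))
  have h2 : (D.ot D.hh 0 : G) ∈ L' := Subgroup.zpowers_le.1 h.2.1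
  have e : s * (D.ot D.hh 0 : G) * s⁻¹ = (D.ot (D.hh + a) (-a) : G) :=
    congrArg Subtype.val (show D.el a 0 * D.ot D.hh 0 * (D.el a 0)⁻¹ = _ by
      rw [WData.el_conj_ot, sub_zero, add_zero, zero_sub])
  rw [← e]
  exact (hm _).1 h2

theorem ker_le_of_fused (hF : FusV S D) {R L : Subgroup G} [R.Normal]
    (hmul : ∀ a ∈ R, ∀ b ∈ R, a ∉ L → b ∉ L → a * b ∈ L) (hodd : ∀ g : G, Odd (orderOf g) → g ∈ L)
    (hc : (D.el D.qq (-D.qq) : G) ∈ R) (hb : (D.ot D.hh 0 : G) ∈ R) :
    D.sgh.ker ≤ L.subgroupOf (S : Subgroup G) := by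
  have hot : ∀ a b, a + b = D.hh → D.ot a b ∈ L.subgroupOf (S : Subgroup G) := by
    intro a b hab
    obtain rfl : b = D.hh - a := by linear_combination hab
    have h := gen_out S D hF hmul hodd hc hb (a - D.hh)
    rw [add_sub_cancel, neg_sub] at h
    exact Subgroup.mem_subgroupOf.2 h
  intro u hu
  rcases D.cases u with ⟨a, b, rfl⟩ | ⟨a, b, rfl⟩
  · have h := Subgroup.mul_mem _ (hot (a + D.hh) b (by linear_combination D.el_mem_ker_sgh.1 hu))
      (hot 0 D.hh (zero_add _))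
    rw [WData.ot_mul_ot, add_assoc, D.hh_add, add_zero, add_zero] at h
    exact h
  · exact hot a b (D.ot_mem_ker_sgh.1 hu)

theorem no_two_top (hU : FusU S D) (hV : FusV S D) (H : Subgroup G) : H.index ≠ 2 := by
  haveI : Fact (Nat.Prime 2) := ⟨Nat.prime_two⟩
  intro hH
  have hodd : ∀ g : G, Odd (orderOf g) → g ∈ H := fun g hg => odd_mem_of_index_two hH hg
  have hmul : ∀ a ∈ (⊤ : Subgroup G), ∀ b ∈ (⊤ : Subgroup G), a ∉ H → b ∉ H → a * b ∈ H := fun a _ b _ ha hb =>
    (Subgroup.mul_mem_iff_of_index_two hH).2 (iff_of_false ha hb)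
  have hk := ker_le_of_fused S D hV hmul hodd (Subgroup.mem_top _) (Subgroup.mem_top _)
  have hUH := wU_le_of_fused S D hU hodd
  have key : ∀ u : (S : Subgroup G), (u : G) ∈ H := by
    intro u
    rcases D.cases u with ⟨a, b, rfl⟩ | ⟨a, b, rfl⟩
    · exact hUH ((mem_wU S D).2 (D.el_mem_U a b))
    · have h1 : (D.el (a - D.hh) b : G) ∈ H := hUH ((mem_wU S D).2 (D.el_mem_U _ _))
      have h2 : (D.ot D.hh 0 : G) ∈ H := hk (D.ot_mem_ker_sgh.2 (add_zero _))
      have h3 := H.mul_mem h1 h2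
      rwa [← Subgroup.coe_mul, WData.el_mul_ot, sub_add_cancel, add_zero] at h3
  have h := Subgroup.index_dvd_of_le (show (S : Subgroup G) ≤ H from fun x hx => key ⟨x, hx⟩)
  rw [hH] at h
  exact S.not_dvd_index h

theorem no_two_quat (hV : FusV S D) {K : Subgroup G} [K.Normal] (hK : K.index = 2 ^ n)
    (hKM : K.subgroupOf (S : Subgroup G) = D.sgh.ker) (H : Subgroup K) : H.index ≠ 2 := by
  refine no_index_two_of_gen S hK ((index_ker_sgh S D).trans hK.symm) hKM (fun L hmul hodd => ?_) H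
  have hin : ∀ {u : (S : Subgroup G)}, u ∈ D.sgh.ker → (u : G) ∈ K := fun {u} hu =>
    Subgroup.mem_subgroupOf.1 ((SetLike.ext_iff.1 hKM u).2 hu)
  exact ker_le_of_fused S D hV hmul hodd (hin (D.el_mem_ker_sgh.2 (add_neg_cancel _)))
    (hin (D.ot_mem_ker_sgh.2 (add_zero _)))

theorem no_two_ab (hU : FusU S D) {K : Subgroup G} [K.Normal] (hK : K.index = 2)
    (hKM : K.subgroupOf (S : Subgroup G) = D.U) (H : Subgroup K) : H.index ≠ 2 := by
  refine no_index_two_of_gen S (a := 1) (by rw [hK, pow_one]) ?_ hKM (fun L _ hodd u hu => ?_) H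
  · have h := Subgroup.card_mul_index D.U
    rw [D.card_U, D.card_eq, pow_succ] at h
    rw [hK]
    exact Nat.eq_of_mul_eq_mul_left (by positivity) h
  · exact Subgroup.mem_subgroupOf.2 (wU_le_of_fused S D hU hodd ((mem_wU S D).2 hu))

theorem wU_eq {U : Subgroup G} (hUS : U ≤ (S : Subgroup G)) (hab : IsMulCommutative U)
    (hc : Nat.card U = 2 ^ (2 * n)) : U = wU S D := by
  haveI := hab
  have h1 : IsMulCommutative (U.subgroupOf (S : Subgroup G)) :=
    ⟨⟨fun a b => Subtype.ext (Subtype.ext (congrArg Subtype.val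
      (hab.is_comm.comm (⟨_, a.2⟩ : U) ⟨_, b.2⟩) : ((a : (S : Subgroup G)) : G) * ((b : (S : Subgroup G)) : G) = _))⟩⟩
  have h2 := D.eq_U h1 (by rw [Nat.card_congr (Subgroup.subgroupOfEquivOfLe hUS).toEquiv, hc])
  rw [← Subgroup.map_subgroupOf_eq_of_le hUS, h2]; rfl

theorem V_idx_of_quat {Q : Subgroup G} (hQS : Q ≤ (S : Subgroup G)) (e : Q ≃* QuaternionGroup 2) :
    ((Q ⊔ wZ S) ⊔ Subgroup.centralizer ((Q ⊔ wZ S : Subgroup G) : Set G)).relIndex
        (Subgroup.normalizer ((Q ⊔ wZ S : Subgroup G) : Set G)) =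
      (wV S D ⊔ Subgroup.centralizer (wV S D : Set G)).relIndex (Subgroup.normalizer (wV S D : Set G)) := by
  obtain ⟨c, hc⟩ := quat_sup_eq S D hQS e
  rw [hc]
  exact relIndex_conj_local _ _

/-- Subgroups of the centre of the Sylow subgroup fixed by fusion are normal modulo the odd core. -/
theorem sup_normal_of_fixed {Z₀ : Subgroup G} (hZ : Z₀ ≤ (S : Subgroup G))
    (h : ∀ x ∈ Z₀, ∀ g : G, g * x * g⁻¹ ∈ (S : Subgroup G) → g * x * g⁻¹ = x) :
    (Cfsg.oddCore G ⊔ Z₀).Normal := by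
  haveI : Fact (Nat.Prime 2) := ⟨Nat.prime_two⟩
  haveI hn : (Cfsg.oddCore G).Normal := CfsgLib.Fus.normal_pPrimeCore 2
  have hcen : Z₀ ≤ (Cfsg.groupFusionSystem (S : Subgroup G)).center := by
    refine le_sSup ((CfsgLib.Fus.central_iff S.isPGroup' (CfsgLib.Fus.group_saturated S) Z₀).2 ⟨hZ, fun x hx y hy => ?_⟩)
    obtain ⟨f, hf, rfl⟩ := CfsgLib.Fus.isConjElt_iff.1 hy
    obtain ⟨-, g, hg⟩ := CfsgLib.Fus.isMap_group_iff.1 hf
    obtain ⟨h1, h2⟩ := hg x (Subgroup.mem_zpowers x)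
    rw [h1]; exact h x hx g h2
  rw [CfsgLib.Base.ZStar.fusion_center CfsgLib.Base.ZStar.holds S] at hcen
  set M := Cfsg.oddCore G ⊔ Z₀
  have hcomm : ∀ z ∈ Z₀, ∀ g : G, g * z * g⁻¹ ∈ M := by
    intro z hz g
    have h1 := Subgroup.mem_center_iff.1 (Subgroup.mem_comap.1 (Subgroup.mem_inf.1 (hcen hz)).2)
    have h2 : g * z * g⁻¹ * z⁻¹ ∈ Cfsg.oddCore G := by
      rw [← QuotientGroup.eq_one_iff]
      have h3 := h1 (QuotientGroup.mk' _ g)
      simp only [QuotientGroup.mk'_apply] at h3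
      simp only [QuotientGroup.mk_mul, QuotientGroup.mk_inv] at h3 ⊢
      rw [h3, mul_inv_cancel_right, mul_inv_cancel]
    have := M.mul_mem (Subgroup.mem_sup_left h2) (Subgroup.mem_sup_right hz)
    rwa [inv_mul_cancel_right] at this
  refine ⟨fun x hx g => ?_⟩
  have hle : M ≤ M.comap (MulAut.conj g).toMonoidHom :=
    sup_le (fun y hy => Subgroup.mem_sup_left (hn.conj_mem y hy g)) fun y hy => hcomm y hy g
  exact hle hx

end CfsgLib.Inv
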