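import Cfsg.Agent.Inv.WreathProps
import Cfsg.Agent.Inv.SylowKernel
import Cfsg.Agent.Inv.TriPair
import Cfsg.Agent.Inv.FusionInvariant

/-!
Fusion in groups with wreathed Sylow 2-subgroups.
-/

set_option autoImplicit false

namespace CfsgLib.Inv

open scoped Pointwise
open CfsgLib.Solv

variable {G : Type*} [Group G] (S : Sylow 2 G)

open scoped Classical in
/-- Conjugation by `g` as a function on the Sylow subgroup. -/
noncomputable def gFun (g : G) (u : (S : Subgroup G)) : (S : Subgroup G) :=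
  if h : g * (u : G) * g⁻¹ ∈ (S : Subgroup G) then ⟨_, h⟩ else u

theorem gFun_coe {g : G} {u : (S : Subgroup G)} (h : g * (u : G) * g⁻¹ ∈ (S : Subgroup G)) :
    ((gFun S g u : (S : Subgroup G)) : G) = g * (u : G) * g⁻¹ := by
  simp only [gFun, dif_pos h]

theorem gFun_eq {g : G} {u v : (S : Subgroup G)} (h : g * (u : G) * g⁻¹ = (v : G)) : gFun S g u = v :=
  Subtype.ext (by rw [gFun_coe S (h ▸ v.2)]; exact h)

theorem conj_mem_map {X : Subgroup (S : Subgroup G)} {g : G}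
    (hg : g ∈ Subgroup.normalizer ((X.map (S : Subgroup G).subtype : Subgroup G) : Set G)) {u : (S : Subgroup G)}
    (hu : u ∈ X) : g * (u : G) * g⁻¹ ∈ X.map (S : Subgroup G).subtype :=
  (Subgroup.mem_normalizer_iff.1 hg _).1 ⟨u, hu, rfl⟩

theorem gFun_spec {X : Subgroup (S : Subgroup G)} {g : G}
    (hg : g ∈ Subgroup.normalizer ((X.map (S : Subgroup G).subtype : Subgroup G) : Set G)) {u : (S : Subgroup G)}
    (hu : u ∈ X) : gFun S g u ∈ X ∧ ((gFun S g u : (S : Subgroup G)) : G) = g * (u : G) * g⁻¹ := by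
  obtain ⟨v, hv, e⟩ := conj_mem_map S hg hu
  rw [gFun_eq S e.symm]
  exact ⟨hv, e⟩

theorem oddAut_gFun [Finite G] {X : Subgroup (S : Subgroup G)} {g : G}
    (hg : g ∈ Subgroup.normalizer ((X.map (S : Subgroup G).subtype : Subgroup G) : Set G))
    (hodd : Odd (orderOf g)) : OddAut X (gFun S g) := by
  obtain ⟨k, hk⟩ := hodd
  refine ⟨fun a ha b hb => ?_, fun a ha => (gFun_spec S hg ha).1, k, fun a ha => ?_⟩
  · refine gFun_eq S ?_
    rw [Subgroup.coe_mul, Subgroup.coe_mul, (gFun_spec S hg ha).2, (gFun_spec S hg hb).2, conj_mul]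
  · have key : ∀ j : ℕ, (gFun S g)^[j] a ∈ X ∧ (((gFun S g)^[j] a : (S : Subgroup G)) : G) = g ^ j * (a : G) * (g ^ j)⁻¹ := by
      intro j
      induction j with
      | zero => exact ⟨ha, by simp⟩
      | succ j ih =>
        rw [Function.iterate_succ_apply']
        refine ⟨(gFun_spec S hg ih.1).1, ?_⟩
        rw [(gFun_spec S hg ih.1).2, ih.2, pow_succ']
        group
    refine Subtype.ext ?_
    rw [(key _).2, ← hk, pow_orderOf_eq_one, one_mul, inv_one, mul_one]

variable [Finite G] {n : ℕ} (D : WData (S : Subgroup G) n)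

/-- The abelian subgroup of index two of the Sylow subgroup. -/
def wU : Subgroup G := D.U.map (S : Subgroup G).subtype

/-- The standard central product of a quaternion group with the centre. -/
def wV : Subgroup G := D.V.map (S : Subgroup G).subtype

/-- The centre of the Sylow subgroup. -/
def wZ : Subgroup G := (Subgroup.center (S : Subgroup G)).map (S : Subgroup G).subtype

omit [Finite G] in
theorem mem_wU {u : (S : Subgroup G)} : (u : G) ∈ wU S D ↔ u ∈ D.U := Subgroup.mem_map_iff_mem (Subgroup.subtype_injective _)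

omit [Finite G] in
theorem mem_wV {u : (S : Subgroup G)} : (u : G) ∈ wV S D ↔ u ∈ D.V := Subgroup.mem_map_iff_mem (Subgroup.subtype_injective _)

include D in
theorem mem_wZ {g : G} : g ∈ wZ S ↔ ∃ c, g = (D.el c c : G) := by
  constructor
  · rintro ⟨u, hu, rfl⟩
    obtain ⟨c, rfl⟩ := D.mem_center_iff.1 hu
    exact ⟨c, rfl⟩
  · rintro ⟨c, rfl⟩
    exact ⟨_, D.mem_center_iff.2 ⟨c, rfl⟩, rfl⟩

omit [Finite G] in
theorem coe_invol {u : (S : Subgroup G)} : (u : G) * (u : G) = 1 ↔ u * u = 1 :=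
  ⟨fun h => Subtype.ext h, fun h => congrArg Subtype.val h⟩

omit [Finite G] in
theorem wU_comm {a b : G} (ha : a ∈ wU S D) (hb : b ∈ wU S D) : a * b = b * a := by
  obtain ⟨u, ⟨p, r, rfl⟩, rfl⟩ := ha
  obtain ⟨v, ⟨p', r', rfl⟩, rfl⟩ := hb
  exact congrArg Subtype.val (D.el_comm _ _ _ _)

theorem S_le_normalizer_wU : (S : Subgroup G) ≤ Subgroup.normalizer (wU S D : Set G) := by
  intro s hs
  haveI := D.U_normal
  refine Subgroup.mem_normalizer_iff.2 fun x => ⟨?_, fun h => ?_⟩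
  · rintro ⟨u, hu, rfl⟩
    exact ⟨_, (inferInstance : D.U.Normal).conj_mem u hu ⟨s, hs⟩, rfl⟩
  · obtain ⟨u, hu, e⟩ := h
    refine ⟨_, (inferInstance : D.U.Normal).conj_mem u hu ⟨s, hs⟩⁻¹, ?_⟩
    show s⁻¹ * (u : G) * s⁻¹⁻¹ = x
    rw [show (u : G) = s * x * s⁻¹ from e]
    group

/-! ### The abelian subgroup -/

theorem cent_wU_of_fix_zc {g : G} (hg : g ∈ Subgroup.normalizer (wU S D : Set G)) (hodd : Odd (orderOf g))
    (hz : g * (D.zc : G) * g⁻¹ = D.zc) : g ∈ Subgroup.centralizer (wU S D : Set G) := by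
  have hf := oddAut_gFun S hg hodd
  have h := D.fix_sub_U hf le_rfl le_rfl hf.maps (D.el_mem_U _ _) (gFun_eq S hz)
  rintro _ ⟨u, hu, rfl⟩
  have := congrArg Subtype.val (h u hu)
  rw [(gFun_spec S hg hu).2] at this
  exact (mul_inv_eq_iff_eq_mul.1 this).symm

theorem invol_img {g : G} (hg : g ∈ Subgroup.normalizer (wU S D : Set G)) {u : (S : Subgroup G)} (hu : u ∈ D.U)
    (ho : orderOf u = 2) : g * (u : G) * g⁻¹ = D.zc ∨ g * (u : G) * g⁻¹ = (D.el D.hh 0 : G) ∨
      g * (u : G) * g⁻¹ = (D.el 0 D.hh : G) := by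
  obtain ⟨v, hv, e⟩ := conj_mem_map S hg hu
  have hv2 : orderOf v = 2 := by
    rw [← Subgroup.orderOf_coe, show (v : G) = MulAut.conj g (u : G) from e, MulEquiv.orderOf_eq,
      Subgroup.orderOf_coe, ho]
  rw [show g * (u : G) * g⁻¹ = (v : G) from e.symm]
  rcases D.invol_cases hv2 with rfl | rfl | rfl | ⟨a, rfl⟩
  · exact Or.inl rfl
  · exact Or.inr (Or.inl rfl)
  · exact Or.inr (Or.inr rfl)
  · exact absurd hv (D.ot_not_mem_U _ _)

omit [Finite G] in
theorem el_hh'_order : orderOf (D.el 0 D.hh) = 2 :=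
  WData.orderOf_two_iff.2 ⟨D.el_invol.2 ⟨by simp [WData.Half], D.half_hh⟩, fun e => D.hh_ne (D.el_eq_one.1 e).2⟩

/-- Some element of odd order acts nontrivially on `U`. -/
def FusU : Prop :=
  ∃ g ∈ Subgroup.normalizer (wU S D : Set G), Odd (orderOf g) ∧ g ∉ Subgroup.centralizer (wU S D : Set G)

theorem cent_wU_of_not_fused (h : ¬ FusU S D) {g : G} (hg : g ∈ Subgroup.normalizer (wU S D : Set G))
    (hodd : Odd (orderOf g)) : g ∈ Subgroup.centralizer (wU S D : Set G) :=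
  by_contra fun hc => h ⟨g, hg, hodd, hc⟩

theorem zc_moved {g : G} (hg : g ∈ Subgroup.normalizer (wU S D : Set G)) (hodd : Odd (orderOf g))
    (hc : g ∉ Subgroup.centralizer (wU S D : Set G)) :
    g * (D.zc : G) * g⁻¹ = (D.el D.hh 0 : G) ∨ g * (D.zc : G) * g⁻¹ = (D.el 0 D.hh : G) :=
  (invol_img S D hg (D.el_mem_U _ _) D.zc_order).resolve_left fun h => hc (cent_wU_of_fix_zc S D hg hodd h)

theorem isConj_zc_wh (h : FusU S D) : IsConj (D.zc : G) (D.el D.hh 0 : G) := by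
  obtain ⟨g, hg, hodd, hc⟩ := h
  rcases zc_moved S D hg hodd hc with e | e
  · exact isConj_iff.2 ⟨g, e⟩
  · exact (isConj_iff.2 ⟨g, e⟩).trans (isConj_iff.2 ⟨_, congrArg Subtype.val D.conj_zero_hh⟩).symm

theorem no_fixed_invol {g : G} (hg : g ∈ Subgroup.normalizer (wU S D : Set G)) (hodd : Odd (orderOf g))
    (hc : g ∉ Subgroup.centralizer (wU S D : Set G)) {u : (S : Subgroup G)} (hu : u ∈ D.U) (ho : orderOf u = 2) :
    g * (u : G) * g⁻¹ ≠ (u : G) := by
  intro hfix
  apply hc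
  refine cent_wU_of_fix_zc S D hg hodd ?_
  have hf := oddAut_gFun S hg hodd
  have hfu := gFun_eq S hfix
  have h2 : gFun S g D.zc = D.zc ∨ gFun S g D.zc = D.el D.hh 0 ∨ gFun S g D.zc = D.el 0 D.hh :=
    (invol_img S D hg (D.el_mem_U _ _) D.zc_order).imp (gFun_eq S) fun h => h.imp (gFun_eq S) (gFun_eq S)
  have key : gFun S g D.zc = D.zc := by
    have third : ∀ v w : (S : Subgroup G), v ∈ D.U → orderOf v = 2 → u = w → v ≠ w →
        (∀ r, r = D.zc ∨ r = D.el D.hh 0 ∨ r = D.el 0 D.hh → r = D.zc ∨ r = v ∨ r = w) →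
        gFun S g D.zc = D.zc := by
      intro v w hv hv2 huw hvw hall
      subst huw
      refine hf.fix_pair (v := v) (D.el_mem_U _ _) ?_ fun e => ?_
      · rcases hall _ h2 with h | h | h
        · exact Or.inl h
        · exact Or.inr h
        · have he : D.zc = u := hf.inj (D.el_mem_U _ _) hu (h.trans hfu.symm)
          exact Or.inl (h.trans he.symm)
      · have h3 : gFun S g v = D.zc ∨ gFun S g v = D.el D.hh 0 ∨ gFun S g v = D.el 0 D.hh :=
          (invol_img S D hg hv hv2).imp (gFun_eq S) fun h => h.imp (gFun_eq S) (gFun_eq S)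
        rcases hall _ h3 with h | h | h
        · exact Or.inl h
        · exact Or.inr h
        · exact absurd (hf.inj hv hu (h.trans hfu.symm)) hvw
    rcases D.invol_cases ho with rfl | rfl | rfl | ⟨a, rfl⟩
    · exact hfu
    · exact third (D.el 0 D.hh) (D.el D.hh 0) (D.el_mem_U _ _) (el_hh'_order S D) rfl
        (fun e => D.hh_ne (D.el_inj e).1.symm) fun r hr => by tauto
    · exact third (D.el D.hh 0) (D.el 0 D.hh) (D.el_mem_U _ _) D.el_hh_order rfl
        (fun e => D.hh_ne (D.el_inj e).1) fun r hr => hr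
    · exact absurd hu (D.ot_not_mem_U _ _)
  have h3 := (gFun_spec S hg (u := D.zc) (D.el_mem_U _ _)).2
  rw [key] at h3
  exact h3.symm

theorem wU_le_of_fused (h : FusU S D) {L : Subgroup G} (hodd : ∀ g : G, Odd (orderOf g) → g ∈ L) :
    wU S D ≤ L := by
  obtain ⟨g, hg, hgo, hc⟩ := h
  have hf := oddAut_gFun S hg hgo
  let τ : D.U → D.U := fun u =>
    ⟨gFun S g u * (u : (S : Subgroup G))⁻¹, D.U.mul_mem (hf.maps _ u.2) (D.U.inv_mem u.2)⟩
  have hcm : ∀ a ∈ D.U, ∀ b ∈ D.U, a * b = b * a := fun a ha b hb =>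
    congrArg Subtype.val (D.U_abelian.is_comm.comm (⟨a, ha⟩ : D.U) ⟨b, hb⟩)
  have hinj : Function.Injective τ := by
    rintro ⟨u, hu⟩ ⟨v, hv⟩ huv
    have e : gFun S g u * u⁻¹ = gFun S g v * v⁻¹ := congrArg Subtype.val huv
    set w := u⁻¹ * v with hw
    have hwU : w ∈ D.U := D.U.mul_mem (D.U.inv_mem hu) hv
    have hfw : gFun S g w = w := by
      rw [hf.mul _ (D.U.inv_mem hu) _ hv, hf.map_inv hu]
      rw [mul_inv_eq_iff_eq_mul] at e
      rw [e, mul_inv_rev, mul_inv_rev, inv_inv, hw]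
      group
    suffices w = 1 from Subtype.ext (inv_mul_eq_one.1 this)
    by_contra hw1
    obtain ⟨k, hk⟩ := IsPGroup.iff_orderOf.1 S.2 w
    obtain ⟨k, rfl⟩ : ∃ k', k = k' + 1 := ⟨k - 1, (Nat.succ_pred_eq_of_ne_zero fun h0 => hw1 (orderOf_eq_one_iff.1 (by rw [hk, h0, pow_zero]))).symm⟩
    have ho : orderOf (w ^ 2 ^ k) = 2 := by
      rw [orderOf_pow_of_dvd (pow_ne_zero _ two_ne_zero) (hk ▸ pow_dvd_pow 2 (Nat.le_succ k)), hk,
        Nat.pow_div (Nat.le_succ k) two_pos, Nat.succ_sub (le_refl k), Nat.sub_self, pow_one]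
    have hfix : g * (w : G) * g⁻¹ = (w : G) := by
      rw [← (gFun_spec S hg hwU).2, hfw]
    refine no_fixed_invol S D hg hgo hc (D.U.pow_mem hwU _) ho ?_
    rw [SubmonoidClass.coe_pow, ← conj_pow, hfix]
  have hsurj : Function.Surjective τ := Finite.surjective_of_injective hinj
  rintro _ ⟨u, hu, rfl⟩
  obtain ⟨⟨v, hv⟩, e⟩ := hsurj ⟨u, hu⟩
  have e' : gFun S g v * v⁻¹ = u := congrArg Subtype.val e
  show (u : G) ∈ L
  rw [← e', Subgroup.coe_mul, Subgroup.coe_inv, (gFun_spec S hg hv).2,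
    show g * (v : G) * g⁻¹ * (v : G)⁻¹ = g * ((v : G) * g⁻¹ * (v : G)⁻¹) by group]
  refine L.mul_mem (hodd g hgo) (hodd _ ?_)
  rwa [show (v : G) * g⁻¹ * (v : G)⁻¹ = MulAut.conj (v : G) g⁻¹ from rfl, MulEquiv.orderOf_eq, orderOf_inv]

/-- The four subgroup of involutions of `U`. -/
theorem omega_pair : InvPair (D.zc : G) (D.el D.hh 0 : G) :=
  invPair_of_commute (congrArg Subtype.val (D.el_invol.2 ⟨D.half_hh, D.half_hh⟩))
    (congrArg Subtype.val (D.el_invol.2 ⟨D.half_hh, by simp [WData.Half]⟩))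
    (congrArg Subtype.val (D.el_comm _ _ _ _))

omit [Finite G] in
theorem omega_prod : (D.zc : G) * (D.el D.hh 0 : G) = (D.el 0 D.hh : G) :=
  congrArg Subtype.val (show D.zc * D.el D.hh 0 = D.el 0 D.hh by
    rw [WData.zc, WData.el_mul, D.hh_add, add_zero])

/-- The action on the four subgroup of involutions of `U`. -/
noncomputable def triU : Tri (wU S D) (Subgroup.centralizer (wU S D : Set G)) :=
  have hc : (D.zc : G) * (D.zc : G) = 1 := congrArg Subtype.val (D.el_invol.2 ⟨D.half_hh, D.half_hh⟩)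
  have hb := congrArg Subtype.val (D.el_invol.2 ⟨D.half_hh, (by simp [WData.Half] : WData.Half (0 : ZMod (2 ^ n)))⟩)
  have hcb : Commute (D.zc : G) (D.el D.hh 0 : G) := congrArg Subtype.val (D.el_comm _ _ _ _)
  let T := triKlein hc hb hcb (fun e => D.hh_ne (D.el_eq_one.1 (Subtype.ext e)).1)
    (fun e => D.hh_ne (D.el_eq_one.1 (Subtype.ext e)).1)
    (fun e => D.hh_ne (D.el_inj (Subtype.ext e)).2)
  have hle : (omega_pair S D).sub ≤ wU S D :=
    InvPair.sub_le _ ((mem_wU S D).2 (D.el_mem_U _ _)) ((mem_wU S D).2 (D.el_mem_U _ _))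
  have hN : Subgroup.normalizer (wU S D : Set G) ≤ Subgroup.normalizer ((omega_pair S D).sub : Set G) := by
    have step : ∀ g ∈ Subgroup.normalizer (wU S D : Set G), ∀ x ∈ (omega_pair S D).sub,
        g * x * g⁻¹ ∈ (omega_pair S D).sub := by
      intro g hg x hx
      have key : ∀ u ∈ D.U, orderOf u = 2 → g * (u : G) * g⁻¹ ∈ (omega_pair S D).sub := by
        intro u hu ho
        rcases invol_img S D hg hu ho with e | e | e <;> rw [e]
        · exact InvPair.left_mem _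
        · exact InvPair.right_mem _
        · rw [← omega_prod]; exact InvPair.prod_mem _
      rcases four_cases hc hx with rfl | rfl | rfl | rfl
      · simp
      · exact key _ (D.el_mem_U _ _) D.zc_order
      · exact key _ (D.el_mem_U _ _) D.el_hh_order
      · rw [omega_prod]; exact key _ (D.el_mem_U _ _) (el_hh'_order S D)
    intro g hg
    exact Subgroup.mem_normalizer_iff.2 fun x =>
      ⟨step g hg x, fun h => by simpa [mul_assoc] using step g⁻¹ (inv_mem hg) _ h⟩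
  { A := T.A
    B := T.B
    C := T.C
    hAB := T.hAB
    hAC := T.hAC
    hBC := T.hBC
    himg := fun g hg => T.himg g (hN hg)
    hker := fun g hg h1 h2 h3 => by
      have h := T.hker g (hN hg) h1 h2 h3
      refine le_of_odd_sylow S (S_le_normalizer_wU S D) (K := Subgroup.normalizer (wU S D : Set G) ⊓
        Subgroup.centralizer ((omega_pair S D).sub : Set G)) inf_le_left ?_ ?_ ?_ ?_ ⟨hg, h⟩
      · intro c hc' k hk
        refine ⟨Subgroup.mul_mem _ (Subgroup.mul_mem _ hc' hk.1) (Subgroup.inv_mem _ hc'), fun x hx => ?_⟩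
        have hx' : c⁻¹ * x * c ∈ (omega_pair S D).sub :=
          (Subgroup.mem_normalizer_iff''.1 (hN hc') x).1 hx
        calc x * (c * k * c⁻¹) = c * (c⁻¹ * x * c * k) * c⁻¹ := by group
          _ = c * k * c⁻¹ * x := by rw [hk.2 _ hx']; group
      · intro c hc' k hk x hx
        calc x * (c * k * c⁻¹) = c * (c⁻¹ * x * c * k) * c⁻¹ := by group
          _ = c * k * c⁻¹ * x := by rw [hk _ ((Subgroup.mem_normalizer_iff''.1 hc' x).1 hx)]; group
      · intro k hk hodd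
        refine cent_wU_of_fix_zc S D hk.1 hodd ?_
        rw [← hk.2 _ (InvPair.left_mem (omega_pair S D)), mul_inv_cancel_right]
      · intro k hkS hk
        rcases D.cases ⟨k, hkS⟩ with ⟨a, b, e⟩ | ⟨a, b, e⟩
        · rintro _ ⟨u, hu, rfl⟩
          exact wU_comm S D ⟨u, hu, rfl⟩ ⟨_, D.el_mem_U a b, (congrArg Subtype.val e).symm⟩
        · exfalso
          have h2 := hk.2 _ (InvPair.right_mem (omega_pair S D))
          rw [show k = (D.ot a b : G) from congrArg Subtype.val e] at h2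
          exact D.hh_ne (D.el_commute_ot.1 (Subtype.ext h2))
    hKN := Subgroup.centralizer_le_normalizer _
    hfix := fun g hg => T.hfix g (Subgroup.centralizer_le (SetLike.coe_subset_coe.2 hle) hg) }

theorem U_idx :
    ((Subgroup.centralizer (wU S D : Set G)).relIndex (Subgroup.normalizer (wU S D : Set G)) = 2 ↔ ¬ FusU S D) ∧
    ((Subgroup.centralizer (wU S D : Set G)).relIndex (Subgroup.normalizer (wU S D : Set G)) = 6 ↔ FusU S D) := by
  haveI : Fact (Nat.Prime 2) := ⟨Nat.prime_two⟩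
  set N := Subgroup.normalizer (wU S D : Set G) with hN
  set C := Subgroup.centralizer (wU S D : Set G) with hC
  refine idx_cases (triU S D).index_dvd_six ?_ (triU S D).three_dvd_iff
  haveI : (C.subgroupOf N).Normal := (triU S D).normal_subgroupOf
  set s : N := ⟨(D.ot 0 0 : G), S_le_normalizer_wU S D (Subtype.mem _)⟩ with hs
  have h1 : (QuotientGroup.mk s : N ⧸ C.subgroupOf N) ≠ 1 := by
    intro h
    have h2 : (D.ot 0 0 : G) ∈ C := Subgroup.mem_subgroupOf.1 ((QuotientGroup.eq_one_iff (N := C.subgroupOf N) s).1 h)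
    exact D.hh_ne (D.el_commute_ot.1 (Subtype.ext (h2 _ ((mem_wU S D).2 (D.el_mem_U D.hh 0)))))
  have h4 : orderOf (QuotientGroup.mk s : N ⧸ C.subgroupOf N) ∣ 2 := by
    have := orderOf_map_dvd (QuotientGroup.mk' (C.subgroupOf N)) s
    rwa [hs, Subgroup.orderOf_mk, Subgroup.orderOf_coe, D.ot_zero_order] at this
  rcases (Nat.dvd_prime Nat.prime_two).1 h4 with h | h
  · exact absurd (orderOf_eq_one_iff.1 h) h1
  · exact h.symm.dvd.trans (orderOf_dvd_natCard _)

/-! ### The central product -/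

theorem wZ_le_wV : wZ S ≤ wV S D := by
  rintro _ hg
  obtain ⟨c, rfl⟩ := (mem_wZ S D).1 hg
  exact (mem_wV S D).2 (D.zc_mem_center_el c)

theorem qo_pair : QuatPair (D.el D.qq (-D.qq) : G) (D.ot D.hh 0 : G) where
  inv := congrArg Subtype.val (show D.ot D.hh 0 * D.el D.qq (-D.qq) * (D.ot D.hh 0)⁻¹ = (D.el D.qq (-D.qq))⁻¹ by
    rw [WData.ot_conj_el, WData.el_inv, neg_neg])
  sq := by
    refine ⟨2, ?_⟩
    show (D.el D.qq (-D.qq) : G) ^ (2 : ℤ) = _
    rw [zpow_two]
    exact congrArg Subtype.val (show D.el D.qq (-D.qq) * D.el D.qq (-D.qq) = D.ot D.hh 0 * D.ot D.hh 0 by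
      rw [WData.el_mul, WData.ot_mul_ot, D.qq_add, ← neg_add, D.qq_add, D.hh_neg, add_zero, zero_add])
  c_order := by
    haveI : Fact (Nat.Prime 2) := ⟨Nat.prime_two⟩
    rw [Subgroup.orderOf_coe, show (4 : ℕ) = 2 ^ (1 + 1) by rfl]
    refine orderOf_eq_prime_pow ?_ ?_
    · rw [pow_one, pow_two, WData.el_mul, D.qq_add]
      exact fun e => D.hh_ne (D.el_eq_one.1 e).1
    · rw [pow_succ 2 1, pow_mul, pow_one, pow_two (D.el D.qq (-D.qq)), WData.el_mul, pow_two, WData.el_mul,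
        ← neg_add, D.qq_add, ← neg_add, D.hh_add, neg_zero, WData.el_zero]
  b_sq := congrArg Subtype.val (show D.ot D.hh 0 * D.ot D.hh 0 = D.el D.qq (-D.qq) * D.el D.qq (-D.qq) by
      rw [WData.el_mul, WData.ot_mul_ot, D.qq_add, ← neg_add, D.qq_add, D.hh_neg, add_zero, zero_add])
  b_not_mem := by
    intro h
    obtain ⟨i, hi⟩ := Subgroup.mem_zpowers_iff.1 h
    refine D.ot_not_mem_U D.hh 0 ?_
    rw [show D.ot D.hh 0 = D.el D.qq (-D.qq) ^ i from Subtype.ext (by rw [SubgroupClass.coe_zpow]; exact hi.symm)]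
    exact D.U.zpow_mem (D.el_mem_U _ _) i

/-- The quaternion subgroup of `V`. -/
def wQ : Subgroup G := (qo_pair S D).sub

theorem mem_wQ_of {u : (S : Subgroup G)} (hu : u ∈ D.V) (hk : u ∈ D.sgh.ker) : (u : G) ∈ wQ S D := by
  have hel : ∀ a, WData.Half (a + a) → (D.el a (-a) : G) ∈ wQ S D := by
    intro a ha
    rcases D.double_zero ha with e | e
    · rcases D.double_zero e with e' | e'
      · rw [e', neg_zero, D.el_zero]; exact one_mem _
      · have h := (wQ S D).mul_mem (InvPair.left_mem (qo_pair S D).toInvPair) (InvPair.left_mem (qo_pair S D).toInvPair)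
        rw [← Subgroup.coe_mul, WData.el_mul, D.qq_add, ← neg_add, D.qq_add] at h
        rwa [e']
    · rcases D.double_zero (show (a - D.qq) + (a - D.qq) = 0 by linear_combination e - D.qq_add) with e' | e'
      · rw [sub_eq_zero.1 e']; exact InvPair.left_mem _
      · have h := (wQ S D).inv_mem (InvPair.left_mem (qo_pair S D).toInvPair)
        rw [← Subgroup.coe_inv, WData.el_inv, neg_neg] at h
        have ha' : a = -D.qq := by linear_combination e' + D.qq_add + D.hh_add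
        rw [ha', neg_neg]; exact h
  rcases D.cases u with ⟨a, b, rfl⟩ | ⟨a, b, rfl⟩
  · obtain rfl : b = -a := by linear_combination D.el_mem_ker_sgh.1 hk
    exact hel a (by have := D.el_mem_V.1 hu; rwa [sub_neg_eq_add] at this)
  · obtain rfl : b = D.hh - a := by linear_combination D.ot_mem_ker_sgh.1 hk
    have h := (wQ S D).mul_mem (hel (a - D.hh) (by
      have := D.ot_mem_V.1 hu
      unfold WData.Half at this ⊢
      linear_combination this - D.hh_add)) (InvPair.right_mem (qo_pair S D).toInvPair)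
    rw [← Subgroup.coe_mul, WData.el_mul_ot, sub_add_cancel, neg_sub, add_zero] at h
    exact h

theorem qc_mem_V : D.el D.qq (-D.qq) ∈ D.V :=
  D.el_mem_V.2 (by unfold WData.Half; rw [sub_neg_eq_add, D.qq_add, D.hh_add])

theorem qb_mem_V : D.ot D.hh 0 ∈ D.V := D.ot_mem_V.2 (by rw [sub_zero]; exact D.half_hh)

theorem wQ_spec {x : G} (hx : x ∈ wQ S D) : ∃ u : (S : Subgroup G), (u : G) = x ∧ u ∈ D.V ∧ u ∈ D.sgh.ker := by
  have hle : wQ S D ≤ (D.V ⊓ D.sgh.ker).map (S : Subgroup G).subtype :=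
    InvPair.sub_le _
      ⟨_, ⟨qc_mem_V S D, D.el_mem_ker_sgh.2 (add_neg_cancel _)⟩, rfl⟩
      ⟨_, ⟨qb_mem_V S D, D.ot_mem_ker_sgh.2 (add_zero _)⟩, rfl⟩
  obtain ⟨u, hu, e⟩ := hle hx
  exact ⟨u, e, hu.1, hu.2⟩

theorem wQ_le : wQ S D ≤ wV S D := fun x hx => by
  obtain ⟨u, rfl, hu, -⟩ := wQ_spec S D hx
  exact (mem_wV S D).2 hu

theorem wV_eq : wV S D = wQ S D ⊔ wZ S := by
  refine le_antisymm ?_ (sup_le (wQ_le S D) (wZ_le_wV S D))
  rintro _ ⟨u, hu, rfl⟩
  show (u : G) ∈ _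
  have hc : ∀ c, (D.el c c : G) ∈ wQ S D ⊔ wZ S := fun c => Subgroup.mem_sup_right ((mem_wZ S D).2 ⟨c, rfl⟩)
  have hhl : (D.el D.hh 0 : G) ∈ wQ S D ⊔ wZ S := by
    have h := mul_mem (Subgroup.mem_sup_left (InvPair.left_mem (qo_pair S D).toInvPair) : _ ∈ wQ S D ⊔ wZ S) (hc D.qq)
    rwa [← Subgroup.coe_mul, WData.el_mul, D.qq_add, neg_add_cancel] at h
  have hel : ∀ a b, WData.Half (a - b) → (D.el a b : G) ∈ wQ S D ⊔ wZ S := by
    intro a b h
    rcases D.double_zero h with e | e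
    · rw [sub_eq_zero.1 e]; exact hc _
    · have h' := mul_mem hhl (hc b)
      rwa [← Subgroup.coe_mul, WData.el_mul, zero_add, ← e, sub_add_cancel] at h'
  rcases D.cases u with ⟨a, b, rfl⟩ | ⟨a, b, rfl⟩
  · exact hel a b (D.el_mem_V.1 hu)
  · have h := mul_mem (hel (a - D.hh) b (by
        rw [show a - D.hh - b = a - b - D.hh by ring]; exact WData.half_sub (D.ot_mem_V.1 hu) D.half_hh))
      (Subgroup.mem_sup_left (InvPair.right_mem (qo_pair S D).toInvPair) : _ ∈ wQ S D ⊔ wZ S)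
    rwa [← Subgroup.coe_mul, WData.el_mul_ot, sub_add_cancel, add_zero] at h

theorem V_not_comm : ¬ ∀ a ∈ D.V, ∀ b ∈ D.V, a * b = b * a := fun h =>
  D.hh_ne (D.el_commute_ot.1 (h (D.el D.hh 0) (D.el_mem_V.2 (by rw [sub_zero]; exact D.half_hh)) (D.ot D.hh 0)
    (qb_mem_V S D)))

theorem wZ_conj {g : G} (hg : g ∈ Subgroup.normalizer (wV S D : Set G)) (c : ZMod (2 ^ n)) :
    ∃ e, g * (D.el c c : G) * g⁻¹ = (D.el e e : G) := by
  obtain ⟨v, hv, e⟩ := conj_mem_map S hg (D.zc_mem_center_el c)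
  obtain ⟨d, hd⟩ := D.center_sub_cases (V_not_comm S D) hv fun a ha => by
    obtain ⟨w, hw, e'⟩ := conj_mem_map S (inv_mem hg) ha
    apply Subtype.ext
    rw [Subgroup.coe_mul, Subgroup.coe_mul, show (v : G) = g * (D.el c c : G) * g⁻¹ from e,
      show (a : G) = g * (w : G) * g⁻¹ by rw [show (w : G) = g⁻¹ * (a : G) * g⁻¹⁻¹ from e']; group,
      conj_mul, conj_mul, ← Subgroup.coe_mul, ← Subgroup.coe_mul,
      Subgroup.mem_center_iff.1 (D.mem_center_iff.2 ⟨c, rfl⟩) w]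
  exact ⟨d, by rw [← hd]; exact e.symm⟩

theorem odd_fix_wZ {g : G} (hg : g ∈ Subgroup.normalizer (wV S D : Set G)) (hodd : Odd (orderOf g))
    (c : ZMod (2 ^ n)) : g * (D.el c c : G) * g⁻¹ = (D.el c c : G) := by
  have hf := oddAut_gFun S hg hodd
  have hmaps : ∀ a ∈ Subgroup.center (S : Subgroup G), gFun S g a ∈ Subgroup.center (S : Subgroup G) := by
    intro a ha
    obtain ⟨d, rfl⟩ := D.mem_center_iff.1 ha
    obtain ⟨e, he⟩ := wZ_conj S D hg d
    exact D.mem_center_iff.2 ⟨e, gFun_eq S he⟩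
  have hZV : Subgroup.center (S : Subgroup G) ≤ D.V := fun a ha => by
    obtain ⟨d, rfl⟩ := D.mem_center_iff.1 ha; exact D.zc_mem_center_el d
  have hZU : Subgroup.center (S : Subgroup G) ≤ D.U := fun a ha => by
    obtain ⟨d, rfl⟩ := D.mem_center_iff.1 ha; exact D.el_mem_U _ _
  have hzc : gFun S g D.zc = D.zc := by
    obtain ⟨e, he⟩ := wZ_conj S D hg D.hh
    have h1 := gFun_eq S he
    have hzV : D.zc ∈ D.V := D.zc_mem_center_el _
    have h2 : D.el e e * D.el e e = 1 := by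
      rw [← h1]
      show gFun S g D.zc * gFun S g D.zc = 1
      rw [← hf.mul _ hzV _ hzV, show D.zc * D.zc = 1 from D.el_invol.2 ⟨D.half_hh, D.half_hh⟩]; exact hf.map_one
    rcases D.double_zero (D.el_invol.1 h2).1 with rfl | rfl
    · exfalso
      rw [D.el_zero] at h1
      exact D.hh_ne (D.el_eq_one.1 (hf.inj hzV D.V.one_mem (h1.trans hf.map_one.symm))).1
    · exact h1
  have h := D.fix_sub_U hf hZV hZU hmaps (D.zc_mem_center_el _) hzc (D.el c c) (D.mem_center_iff.2 ⟨c, rfl⟩)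
  rw [← (gFun_spec S hg (D.zc_mem_center_el c)).2, h]

theorem sgh_inv {g : G} (hg : g ∈ Subgroup.normalizer (wV S D : Set G))
    (hz : ∀ c, g * (D.el c c : G) * g⁻¹ = (D.el c c : G)) {u v : (S : Subgroup G)} (hu : u ∈ D.V)
    (e : g * (u : G) * g⁻¹ = (v : G)) : D.sgh v = D.sgh u := by
  have hv : v ∈ D.V := (mem_wV S D).1 (e ▸ conj_mem_map S hg hu)
  have key : ∀ w : (S : Subgroup G), w ∈ D.V → (∃ c, w = D.el c c) ∨
      ∃ s, w * w = D.el s s ∧ D.sgh w = Multiplicative.ofAdd (s + D.hh) := by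
    intro w hw
    rcases D.cases w with ⟨a, b, rfl⟩ | ⟨a, b, rfl⟩
    · rcases D.double_zero (D.el_mem_V.1 hw) with h | h
      · exact Or.inl ⟨b, by rw [sub_eq_zero.1 h]⟩
      · refine Or.inr ⟨a + a, ?_, ?_⟩
        · rw [WData.el_mul]; congr 1
          linear_combination (-2) * h - D.hh_add
        · rw [WData.sgh_el]; congr 1
          linear_combination -h - D.hh_add
    · exact Or.inr ⟨a + b, by rw [WData.ot_mul_ot, add_comm b a], D.sgh_ot a b⟩
  rcases key u hu with ⟨c, rfl⟩ | ⟨s, hs, hs'⟩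
  · rw [show v = D.el c c from Subtype.ext (e.symm.trans (hz c))]
  rcases key v hv with ⟨c, rfl⟩ | ⟨t, ht, ht'⟩
  · have h : u = D.el c c := Subtype.ext (by
      rw [← hz c] at e
      exact mul_left_cancel (mul_right_cancel e))
    rw [h]
  · have h : v * v = u * u := Subtype.ext (by
      rw [Subgroup.coe_mul, ← e, conj_mul, ← Subgroup.coe_mul, hs, hz s])
    rw [hs, ht] at h
    rw [hs', ht', (D.el_inj h).1]

/-- A quaternion subgroup of order eight of the Sylow subgroup together with the centre is conjugate to `V`. -/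
theorem quat_sup_eq {Q : Subgroup G} (hQ : Q ≤ (S : Subgroup G)) (e : Q ≃* QuaternionGroup 2) :
    ∃ c, Q ⊔ wZ S = (wV S D).map (MulAut.conj (D.el c 0 : G)).toMonoidHom := by
  obtain ⟨c, hc⟩ := D.quat_sup_center ((Subgroup.subgroupOfEquivOfLe hQ).trans e)
  refine ⟨c, ?_⟩
  rw [wV, Subgroup.map_map, show (MulAut.conj (D.el c 0 : G)).toMonoidHom.comp (S : Subgroup G).subtype =
      (S : Subgroup G).subtype.comp (MulAut.conj (D.el c 0)).toMonoidHom from rfl, ← Subgroup.map_map,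
    ← D.eq_map_V hc, Subgroup.map_sup, Subgroup.map_subgroupOf_eq_of_le hQ]
  rfl

theorem conj_wV {c : G} (hc : (wV S D).map (MulAut.conj c).toMonoidHom ≤ (S : Subgroup G)) :
    ∃ s ∈ (S : Subgroup G), (wV S D).map (MulAut.conj c).toMonoidHom = (wV S D).map (MulAut.conj s).toMonoidHom := by
  obtain ⟨Q, ⟨eQ⟩, hV, -⟩ := D.exists_quat
  have hVe : wV S D = Q.map (S : Subgroup G).subtype ⊔ wZ S := by rw [wV, hV, Subgroup.map_sup]; rfl
  set Y := (wV S D).map (MulAut.conj c).toMonoidHom with hY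
  have hmemY : ∀ v ∈ D.V, c * (v : G) * c⁻¹ ∈ Y := fun v hv => ⟨_, (mem_wV S D).2 hv, rfl⟩
  have hnc : ¬ ∀ a ∈ Y.subgroupOf (S : Subgroup G), ∀ b ∈ Y.subgroupOf (S : Subgroup G), a * b = b * a := by
    intro h
    refine V_not_comm S D fun a ha b hb => Subtype.ext ?_
    have := congrArg Subtype.val (h ⟨_, hc (hmemY a ha)⟩ (hmemY a ha) ⟨_, hc (hmemY b hb)⟩ (hmemY b hb))
    simp only [Subgroup.coe_mul, conj_mul] at this
    exact mul_left_cancel (mul_right_cancel this)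
  have hZc : (wZ S).map (MulAut.conj c).toMonoidHom = wZ S := by
    refine Subgroup.eq_of_le_of_card_ge ?_
      (Nat.card_congr ((wZ S).equivMapOfInjective _ (MulAut.conj c).injective).toEquiv).le
    rintro _ ⟨x, hx, rfl⟩
    obtain ⟨d, rfl⟩ := (mem_wZ S D).1 hx
    have hm := hmemY _ (D.zc_mem_center_el d)
    obtain ⟨d', hd'⟩ := D.center_sub_cases hnc (v := ⟨_, hc hm⟩) hm fun a ha => by
      obtain ⟨y, hy, e⟩ := Subgroup.mem_subgroupOf.1 ha
      obtain ⟨v, -, rfl⟩ := hy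
      apply Subtype.ext
      rw [Subgroup.coe_mul, Subgroup.coe_mul, show (a : G) = c * (v : G) * c⁻¹ from e.symm]
      show c * (v : G) * c⁻¹ * (c * (D.el d d : G) * c⁻¹) = c * (D.el d d : G) * c⁻¹ * (c * (v : G) * c⁻¹)
      rw [conj_mul, conj_mul, ← Subgroup.coe_mul, ← Subgroup.coe_mul,
        Subgroup.mem_center_iff.1 (D.mem_center_iff.2 ⟨d, rfl⟩) v]
    exact (mem_wZ S D).2 ⟨d', congrArg Subtype.val hd'⟩
  have hYe : Y = (Q.map (S : Subgroup G).subtype).map (MulAut.conj c).toMonoidHom ⊔ wZ S := by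
    rw [hY, hVe, Subgroup.map_sup, hZc]
  obtain ⟨c', hc'⟩ := quat_sup_eq S D
    (Q := (Q.map (S : Subgroup G).subtype).map (MulAut.conj c).toMonoidHom)
    (le_trans (by rw [hYe]; exact le_sup_left) hc)
    (((Q.map (S : Subgroup G).subtype).equivMapOfInjective _ (MulAut.conj c).injective).symm.trans
      ((Q.equivMapOfInjective _ (Subgroup.subtype_injective _)).symm.trans eQ))
  exact ⟨(D.el c' 0 : G), Subtype.mem _, hYe.trans hc'⟩

theorem normalizer_fix_wZ {g : G} (hg : g ∈ Subgroup.normalizer (wV S D : Set G)) (c : ZMod (2 ^ n)) :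
    g * (D.el c c : G) * g⁻¹ = (D.el c c : G) := by
  haveI : Fact (Nat.Prime 2) := ⟨Nat.prime_two⟩
  set N := Subgroup.normalizer (wV S D : Set G) with hN
  have hle : N ≤ N ⊓ Subgroup.centralizer (wZ S : Set G) := by
    haveI : ((wV S D).subgroupOf N).Normal := Subgroup.normal_in_normalizer
    let R : Sylow 2 N := default
    have hp : IsPGroup 2 ((wV S D).subgroupOf N) :=
      (IsPGroup.map (S.2.to_subgroup D.V) _).comap_of_injective N.subtype N.subtype_injective
    have hVR : (wV S D).subgroupOf N ≤ R := hp.le_sylow_of_normal R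
    obtain ⟨d, -, hd⟩ := exists_sylow_conj_le S (C := ⊤) le_top le_top (R.2.map N.subtype)
    have hVd : (wV S D).map (MulAut.conj d).toMonoidHom ≤ (S : Subgroup G) := by
      rintro _ ⟨x, hx, rfl⟩
      refine hd ?_
      rw [mem_conj_smul_iff]
      exact ⟨⟨x, Subgroup.le_normalizer hx⟩, hVR hx, by simp [mul_assoc]⟩
    obtain ⟨s, hs, hVs⟩ := conj_wV S D hVd
    have hn₀ : s⁻¹ * d ∈ N := by
      rw [hN, ← conj_smul_eq_self_iff, conj_smul_eq_map, map_mul, MulEquiv.toMonoidHom_eq_coe]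
      ext x
      constructor
      · rintro ⟨y, hy, rfl⟩
        obtain ⟨y', hy', e⟩ := hVs.le ⟨y, hy, rfl⟩
        have e' : s * y' * s⁻¹ = d * y * d⁻¹ := e
        show s⁻¹ * (d * y * d⁻¹) * s⁻¹⁻¹ ∈ wV S D
        rw [← e', show s⁻¹ * (s * y' * s⁻¹) * s⁻¹⁻¹ = y' by group]
        exact hy'
      · intro hx
        obtain ⟨y, hy, e⟩ := hVs.ge ⟨x, hx, rfl⟩
        have e' : d * y * d⁻¹ = s * x * s⁻¹ := e
        refine ⟨y, hy, ?_⟩
        show s⁻¹ * (d * y * d⁻¹) * s⁻¹⁻¹ = x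
        rw [e']; group
    intro x hx
    have htop : (Subgroup.centralizer (wZ S : Set G)).subgroupOf N = ⊤ := by
      rw [eq_top_iff, ← closure_odd_sup_sylow R, Subgroup.closure_le]
      rintro r (hr | hr) z hz
      · obtain ⟨e, rfl⟩ := (mem_wZ S D).1 hz
        exact (mul_inv_eq_iff_eq_mul.1 (odd_fix_wZ S D r.2 (by rwa [Subgroup.orderOf_coe]) e)).symm
      · have h1 : d * (r : G) * d⁻¹ ∈ (S : Subgroup G) := hd (by
          rw [mem_conj_smul_iff]; exact ⟨r, hr, by simp [mul_assoc]⟩)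
        have h2 : s⁻¹ * (d * (r : G) * d⁻¹) * s ∈ (S : Subgroup G) := mul_mem (mul_mem (inv_mem hs) h1) hs
        obtain ⟨e, rfl⟩ := (mem_wZ S D).1 hz
        obtain ⟨e', he'⟩ := wZ_conj S D hn₀ e
        have hcm : (s⁻¹ * (d * (r : G) * d⁻¹) * s) * (D.el e' e' : G) =
            (D.el e' e' : G) * (s⁻¹ * (d * (r : G) * d⁻¹) * s) :=
          congrArg Subtype.val (Subgroup.mem_center_iff.1 (D.mem_center_iff.2 ⟨e', rfl⟩) ⟨_, h2⟩)
        rw [← he'] at hcm
        show (D.el e e : G) * (r : G) = (r : G) * (D.el e e : G)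
        calc (D.el e e : G) * (r : G) = (s⁻¹ * d)⁻¹ * (((s⁻¹ * d) * (D.el e e : G) * (s⁻¹ * d)⁻¹) *
              (s⁻¹ * (d * (r : G) * d⁻¹) * s)) * (s⁻¹ * d) := by group
          _ = (r : G) * (D.el e e : G) := by rw [← hcm]; group
    exact ⟨hx, htop.ge (Subgroup.mem_top (⟨x, hx⟩ : N))⟩
  rw [← (hle hg).2 _ ((mem_wZ S D).2 ⟨c, rfl⟩), mul_inv_cancel_right]

theorem normalizer_wV_le : Subgroup.normalizer (wV S D : Set G) ≤ Subgroup.normalizer (wQ S D : Set G) := by
  have step : ∀ g ∈ Subgroup.normalizer (wV S D : Set G), ∀ x ∈ wQ S D, g * x * g⁻¹ ∈ wQ S D := by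
    intro g hg x hx
    obtain ⟨u, rfl, hu, hk⟩ := wQ_spec S D hx
    obtain ⟨v, hv, e⟩ := conj_mem_map S hg hu
    rw [show g * (u : G) * g⁻¹ = (v : G) from e.symm]
    refine mem_wQ_of S D hv ?_
    rw [MonoidHom.mem_ker, sgh_inv S D hg (normalizer_fix_wZ S D hg) hu e.symm]
    exact hk
  intro g hg
  exact Subgroup.mem_normalizer_iff.2 fun x =>
    ⟨step g hg x, fun h => by simpa [mul_assoc] using step g⁻¹ (inv_mem hg) _ h⟩

theorem cent_wV_of {g : G} (hg : g ∈ Subgroup.normalizer (wV S D : Set G))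
    (hq : ∀ q ∈ wQ S D, g * q * g⁻¹ = q) : g ∈ Subgroup.centralizer (wV S D : Set G) := by
  have hle : wV S D ≤ Subgroup.centralizer ({g} : Set G) := by
    rw [wV_eq]
    refine sup_le (fun q hq' => ?_) fun z hz => ?_
    · exact Subgroup.mem_centralizer_singleton_iff.2 (mul_inv_eq_iff_eq_mul.1 (hq q hq')).symm
    · obtain ⟨c, rfl⟩ := (mem_wZ S D).1 hz
      exact Subgroup.mem_centralizer_singleton_iff.2
        (mul_inv_eq_iff_eq_mul.1 (normalizer_fix_wZ S D hg c)).symm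
  exact fun x hx => Subgroup.mem_centralizer_singleton_iff.1 (hle hx)

/-- The action on the three cyclic subgroups of order four of the quaternion part of `V`. -/
noncomputable def triV : Tri (wV S D) (wV S D ⊔ Subgroup.centralizer (wV S D : Set G)) :=
  let T := (qo_pair S D).tri
  { A := T.A
    B := T.B
    C := T.C
    hAB := T.hAB
    hAC := T.hAC
    hBC := T.hBC
    himg := fun g hg => T.himg g (normalizer_wV_le S D hg)
    hker := fun g hg h1 h2 h3 => by
      have h : g ∈ ((wQ S D ⊔ Subgroup.centralizer (wQ S D : Set G) : Subgroup G) : Set G) :=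
        T.hker g (normalizer_wV_le S D hg) h1 h2 h3
      rw [sup_comm, Subgroup.coe_mul_of_right_le_normalizer_left _ _
        ((Subgroup.le_normalizer).trans (CfsgLib.Fus.centralizer_normalized (wQ S D)))] at h
      obtain ⟨c, hc, q, hq, rfl⟩ := h
      have hqN : q ∈ Subgroup.normalizer (wV S D : Set G) := Subgroup.le_normalizer (wQ_le S D hq)
      have hcN : c ∈ Subgroup.normalizer (wV S D : Set G) := by
        simpa [mul_assoc] using mul_mem hg (inv_mem hqN)
      refine mul_mem (Subgroup.mem_sup_right (cent_wV_of S D hcN fun r hr => ?_))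
        (Subgroup.mem_sup_left (wQ_le S D hq))
      rw [← hc r hr, mul_inv_cancel_right]
    hKN := sup_le Subgroup.le_normalizer (Subgroup.centralizer_le_normalizer _)
    hfix := by
      intro g hg
      refine T.hfix g (?_ : g ∈ wQ S D ⊔ Subgroup.centralizer (wQ S D : Set G))
      have hZC : wZ S ≤ Subgroup.centralizer (wQ S D : Set G) := by
        intro z hz q hq
        obtain ⟨c, rfl⟩ := (mem_wZ S D).1 hz
        obtain ⟨u, rfl, -, -⟩ := wQ_spec S D hq
        exact congrArg Subtype.val (Subgroup.mem_center_iff.1 (D.mem_center_iff.2 ⟨c, rfl⟩) u)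
      refine (sup_le ?_ ((Subgroup.centralizer_le (SetLike.coe_subset_coe.2 (wQ_le S D))).trans le_sup_right) :
        wV S D ⊔ Subgroup.centralizer (wV S D : Set G) ≤ _) hg
      rw [wV_eq]
      exact sup_le le_sup_left (hZC.trans le_sup_right) }

/-- Some element of odd order acts nontrivially on `V`. -/
def FusV : Prop :=
  ∃ g ∈ Subgroup.normalizer (wV S D : Set G), Odd (orderOf g) ∧
    g ∉ wV S D ⊔ Subgroup.centralizer (wV S D : Set G)

omit [Finite G] in
theorem gen_pair {Q : Subgroup G} {c : G} (hc4 : orderOf c = 4) {g : G}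
    (hline : MulAut.conj g • Subgroup.zpowers c = Subgroup.zpowers c) (hodd : Odd (orderOf g)) (_hcQ : c ∈ Q) :
    g * c * g⁻¹ = c := by
  rw [conj_smul_zpowers] at hline
  obtain ⟨i, hi⟩ := Subgroup.mem_zpowers_iff.1 (hline ▸ Subgroup.mem_zpowers (g * c * g⁻¹) :
    g * c * g⁻¹ ∈ Subgroup.zpowers c)
  have h4 : orderOf (g * c * g⁻¹) = 4 := by
    rw [show g * c * g⁻¹ = MulAut.conj g c from rfl, MulEquiv.orderOf_eq, hc4]
  have hc : c ^ (4 : ℤ) = 1 := by
    rw [show (4 : ℤ) = ((4 : ℕ) : ℤ) by norm_num, zpow_natCast, ← hc4, pow_orderOf_eq_one]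
  have hcase : g * c * g⁻¹ = c ∨ g * c * g⁻¹ = c⁻¹ := by
    rw [← hi, ← Int.emod_add_mul_ediv i 4, zpow_add, zpow_mul, hc, one_zpow, mul_one]
    have h1 := Int.emod_nonneg i (show (4 : ℤ) ≠ 0 by norm_num)
    have h2 := Int.emod_lt_of_pos i (show (0 : ℤ) < 4 by norm_num)
    have hi' : c ^ (i % 4) = g * c * g⁻¹ := by
      rw [← hi]; conv_rhs => rw [← Int.emod_add_mul_ediv i 4, zpow_add, zpow_mul, hc, one_zpow, mul_one]
    generalize i % 4 = r at h1 h2 hi' ⊢
    interval_cases r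
    · rw [zpow_zero] at hi'; rw [← hi', orderOf_one] at h4; omega
    · exact Or.inl (zpow_one c)
    · exfalso
      have : (g * c * g⁻¹) ^ 2 = 1 := by
        rw [← hi', ← zpow_natCast, ← zpow_mul]; exact hc
      have := orderOf_dvd_of_pow_eq_one this
      rw [h4] at this; omega
    · right
      rw [eq_inv_iff_mul_eq_one, ← zpow_add_one]; exact hc
  rcases hcase with e | e
  · exact e
  exfalso
  obtain ⟨k, hk⟩ := hodd
  have key : ∀ j : ℕ, g ^ (2 * j) * c * (g ^ (2 * j))⁻¹ = c := by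
    intro j
    induction j with
    | zero => simp
    | succ j ih =>
      calc g ^ (2 * (j + 1)) * c * (g ^ (2 * (j + 1)))⁻¹
          = g * (g * (g ^ (2 * j) * c * (g ^ (2 * j))⁻¹) * g⁻¹) * g⁻¹ := by
            rw [mul_add, mul_one, show 2 * j + 2 = 1 + 1 + 2 * j by omega, pow_add, pow_add, pow_one]; group
        _ = c := by rw [ih, e, ← conj_inv, e, inv_inv]
  have h1 := key k
  have h2 : g ^ (2 * k + 1) * c * (g ^ (2 * k + 1))⁻¹ = c := by rw [← hk, pow_orderOf_eq_one]; simp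
  have h3 : g ^ (2 * k + 1) * c * (g ^ (2 * k + 1))⁻¹ = c⁻¹ := by
    calc g ^ (2 * k + 1) * c * (g ^ (2 * k + 1))⁻¹ = g * (g ^ (2 * k) * c * (g ^ (2 * k))⁻¹) * g⁻¹ := by
          rw [pow_succ']; group
      _ = c⁻¹ := by rw [h1, e]
  rw [h2] at h3
  have : c ^ 2 = 1 := by rw [pow_two]; nth_rewrite 1 [h3]; exact inv_mul_cancel c
  have := orderOf_dvd_of_pow_eq_one this
  rw [hc4] at this; omega

theorem cent_wV_of_mem_K {g : G} (hg : g ∈ Subgroup.normalizer (wV S D : Set G)) (hodd : Odd (orderOf g))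
    (hK : g ∈ wV S D ⊔ Subgroup.centralizer (wV S D : Set G)) : g ∈ Subgroup.centralizer (wV S D : Set G) := by
  refine cent_wV_of S D hg fun q hq => ?_
  have hA := (triV S D).hfix g hK _ (Or.inl rfl)
  have hB := (triV S D).hfix g hK _ (Or.inr (Or.inl rfl))
  have hb4 : orderOf (D.ot D.hh 0 : G) = 4 := by
    haveI : Fact (Nat.Prime 2) := ⟨Nat.prime_two⟩
    have hp := qo_pair S D
    rw [show (4 : ℕ) = 2 ^ (1 + 1) by rfl]
    refine orderOf_eq_prime_pow ?_ ?_
    · rw [pow_one, pow_two, hp.b_sq]; exact hp.cc_ne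
    · rw [pow_succ 2 1, pow_mul, pow_one, pow_two (D.ot D.hh 0 : G), hp.b_sq, pow_two]
      calc _ = (D.el D.qq (-D.qq) : G) * (D.el D.qq (-D.qq) : G) * (D.el D.qq (-D.qq) : G) * (D.el D.qq (-D.qq) : G) := by group
        _ = 1 := by rw [← hp.cinv_eq, inv_mul_cancel]
  have e1 := gen_pair (Q := wQ S D) (qo_pair S D).c_order hA hodd (InvPair.left_mem (qo_pair S D).toInvPair)
  have e2 := gen_pair (Q := wQ S D) hb4 hB hodd (InvPair.right_mem (qo_pair S D).toInvPair)
  have hle : wQ S D ≤ Subgroup.centralizer ({g} : Set G) := InvPair.sub_le _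
    (Subgroup.mem_centralizer_singleton_iff.2 (mul_inv_eq_iff_eq_mul.1 e1).symm)
    (Subgroup.mem_centralizer_singleton_iff.2 (mul_inv_eq_iff_eq_mul.1 e2).symm)
  rw [← Subgroup.mem_centralizer_singleton_iff.1 (hle hq), mul_inv_cancel_right]

theorem cent_wV_of_not_fused (h : ¬ FusV S D) {g : G} (hg : g ∈ Subgroup.normalizer (wV S D : Set G))
    (hodd : Odd (orderOf g)) : g ∈ Subgroup.centralizer (wV S D : Set G) :=
  cent_wV_of_mem_K S D hg hodd (by_contra fun hc => h ⟨g, hg, hodd, hc⟩)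

theorem isConj_wh_wt (h : FusV S D) : IsConj (D.el D.hh 0 : G) (D.ot 0 0 : G) := by
  obtain ⟨g, hg, hodd, hK⟩ := h
  have hf := oddAut_gFun S hg hodd
  have hzc : gFun S g D.zc = D.zc := gFun_eq S (normalizer_fix_wZ S D hg _)
  have hcV : D.el D.hh 0 ∈ D.V := D.el_mem_V.2 (by rw [sub_zero]; exact D.half_hh)
  obtain ⟨v, hv, e⟩ := conj_mem_map S hg hcV
  have hv2 : orderOf v = 2 := by
    rw [← Subgroup.orderOf_coe, show (v : G) = MulAut.conj g (D.el D.hh 0 : G) from e, MulEquiv.orderOf_eq,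
      Subgroup.orderOf_coe, D.el_hh_order]
  rcases D.cases v with ⟨a, b, rfl⟩ | ⟨a, b, rfl⟩
  · -- otherwise `g` would centralize `V`
    exfalso
    apply hK
    refine Subgroup.mem_sup_right ?_
    have hA : ∀ u ∈ D.V ⊓ D.U, gFun S g u ∈ D.U := by
      rintro u ⟨hu, p, r, rfl⟩
      have hfd : ∀ d, gFun S g (D.el d d) = D.el d d := fun d => gFun_eq S (normalizer_fix_wZ S D hg d)
      rcases D.double_zero (D.el_mem_V.1 hu) with h' | h'
      · rw [sub_eq_zero.1 h', hfd]; exact D.el_mem_U _ _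
      · have he : D.el p r = D.el D.hh 0 * D.el r r := by rw [WData.el_mul, zero_add, ← h', sub_add_cancel]
        rw [he, hf.mul _ hcV _ (D.zc_mem_center_el r), hfd, gFun_eq S e.symm, WData.el_mul]
        exact D.el_mem_U _ _
    have hfix : ∀ u ∈ D.V ⊓ D.U, gFun S g u = u :=
      D.fix_sub_U hf inf_le_left inf_le_right (fun u hu => ⟨hf.maps u hu.1, hA u hu⟩) (D.zc_mem_center_el _) hzc
    refine cent_wV_of S D hg fun q hq => ?_
    obtain ⟨u, rfl, hu, -⟩ := wQ_spec S D hq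
    suffices hs : gFun S g u = u by rw [← (gFun_spec S hg hu).2, hs]
    by_cases huU : u ∈ D.U
    · exact hfix u ⟨hu, huU⟩
    have hfuU : gFun S g u ∉ D.U := fun hm => huU (by
      rw [← hf.inj (hf.maps _ hu) hu (hfix _ ⟨hf.maps _ hu, hm⟩)]; exact hm)
    rcases D.cases u with ⟨p, r, rfl⟩ | ⟨p, r, eu⟩
    · exact absurd (D.el_mem_U _ _) huU
    rcases D.cases (gFun S g u) with ⟨p', r', e'⟩ | ⟨p', r', e'⟩
    · exact absurd (e' ▸ D.el_mem_U _ _) hfuU
    have hi : gFun S g u * u⁻¹ ∈ D.V ⊓ D.U := ⟨D.V.mul_mem (hf.maps _ hu) (D.V.inv_mem hu), by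
      rw [e', eu, WData.ot_inv, WData.ot_mul_ot]; exact D.el_mem_U _ _⟩
    obtain ⟨k, hk⟩ := D.pow_one_all (gFun S g u * u⁻¹)
    exact hf.fix_step hu hi.1 (hfix _ hi) (inv_mul_cancel_right _ _).symm hk
  · obtain rfl := D.ot_invol.1 (WData.orderOf_two_iff.1 hv2).1
    exact (isConj_iff.2 ⟨g, e.symm⟩).trans (isConj_iff.2 ⟨_, congrArg Subtype.val (D.ot_conj_zero a)⟩).symm

theorem V_idx :
    ((wV S D ⊔ Subgroup.centralizer (wV S D : Set G)).relIndex (Subgroup.normalizer (wV S D : Set G)) = 2 ↔ ¬ FusV S D) ∧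
    ((wV S D ⊔ Subgroup.centralizer (wV S D : Set G)).relIndex (Subgroup.normalizer (wV S D : Set G)) = 6 ↔ FusV S D) := by
  haveI : Fact (Nat.Prime 2) := ⟨Nat.prime_two⟩
  set N := Subgroup.normalizer (wV S D : Set G) with hN
  set K := wV S D ⊔ Subgroup.centralizer (wV S D : Set G) with hK
  refine idx_cases (triV S D).index_dvd_six ?_ (triV S D).three_dvd_iff
  haveI : (K.subgroupOf N).Normal := (triV S D).normal_subgroupOf
  have hwN : (D.el D.qq 0 : G) ∈ N := by
    have hmem : ∀ v ∈ D.V, D.el D.qq 0 * v * (D.el D.qq 0)⁻¹ ∈ D.V ∧ (D.el D.qq 0)⁻¹ * v * D.el D.qq 0 ∈ D.V := by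
      intro v hv
      rcases D.cases v with ⟨a, b, rfl⟩ | ⟨a, b, rfl⟩
      · refine ⟨?_, D.el_conj_mem_V_el.2 (D.el_mem_V.1 hv)⟩
        rw [WData.el_conj_el]; exact hv
      · refine ⟨?_, D.el_conj_mem_V_ot.2 (by rw [D.qq_add]; exact WData.half_sub (D.ot_mem_V.1 hv) D.half_hh)⟩
        rw [WData.el_conj_ot, D.ot_mem_V, show a + D.qq - 0 - (b + 0 - D.qq) = a - b + (D.qq + D.qq) by ring,
          D.qq_add]
        exact WData.half_add (D.ot_mem_V.1 hv) D.half_hh
    refine Subgroup.mem_normalizer_iff.2 fun x => ⟨?_, fun h => ?_⟩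
    · rintro ⟨v, hv, rfl⟩; exact ⟨_, (hmem v hv).1, rfl⟩
    · obtain ⟨v, hv, e⟩ := h
      refine ⟨_, (hmem v hv).2, ?_⟩
      show (D.el D.qq 0 : G)⁻¹ * (v : G) * (D.el D.qq 0 : G) = x
      rw [show (v : G) = (D.el D.qq 0 : G) * x * (D.el D.qq 0 : G)⁻¹ from e]
      group
  set s : N := ⟨_, hwN⟩ with hs
  have h1 : (QuotientGroup.mk s : N ⧸ K.subgroupOf N) ≠ 1 := by
    intro h
    have h2 : (D.el D.qq 0 : G) ∈ ((K : Subgroup G) : Set G) :=
      Subgroup.mem_subgroupOf.1 ((QuotientGroup.eq_one_iff (N := K.subgroupOf N) s).1 h)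
    rw [hK, Subgroup.coe_mul_of_left_le_normalizer_right _ _
      (Subgroup.le_normalizer.trans (CfsgLib.Fus.centralizer_normalized (wV S D)))] at h2
    obtain ⟨x, hx, c, hc, e⟩ := h2
    obtain ⟨v, hv, rfl⟩ := hx
    have hcS : c = ((v⁻¹ * D.el D.qq 0 : (S : Subgroup G)) : G) := by
      rw [Subgroup.coe_mul, Subgroup.coe_inv, ← e]; simp
    rw [hcS] at hc
    set c' := v⁻¹ * D.el D.qq 0
    have hcen : ∀ w ∈ D.V, w * c' = c' * w := fun w hw => Subtype.ext (hc _ ((mem_wV S D).2 hw))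
    have hq : D.el D.qq 0 ∈ D.V := by
      have hcV : c' ∈ D.V := by
        rcases D.cases c' with ⟨a, b, e'⟩ | ⟨a, b, e'⟩
        · have h' := hcen _ (qb_mem_V S D)
          rw [e'] at h'
          rw [e', D.el_commute_ot.1 h'.symm]; exact D.zc_mem_center_el _
        · exfalso
          have h' := hcen (D.el D.hh 0) (D.el_mem_V.2 (by rw [sub_zero]; exact D.half_hh))
          rw [e'] at h'
          exact D.hh_ne (D.el_commute_ot.1 h')
      simpa [c'] using D.V.mul_mem hv hcV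
    have := D.el_mem_V.1 hq
    rw [sub_zero] at this
    exact D.hh_ne (by rw [← D.qq_add]; exact this)
  obtain ⟨k, hk⟩ := IsPGroup.iff_orderOf.1 S.2 (D.el D.qq 0)
  have h4 : orderOf (QuotientGroup.mk s : N ⧸ K.subgroupOf N) ∣ 2 ^ k := by
    have := orderOf_map_dvd (QuotientGroup.mk' (K.subgroupOf N)) s
    rwa [hs, Subgroup.orderOf_mk, Subgroup.orderOf_coe, hk] at this
  obtain ⟨a, -, ha⟩ := (Nat.dvd_prime_pow Nat.prime_two).1 h4
  have ha0 : a ≠ 0 := fun h => h1 (orderOf_eq_one_iff.1 (by rw [ha, h, pow_zero]))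
  exact (dvd_pow_self 2 ha0).trans (ha ▸ orderOf_dvd_natCard _)

end CfsgLib.Inv
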