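import Cfsg.Agent.Inv.WreathStruct
import Mathlib.GroupTheory.SpecificGroups.Quaternion
import Mathlib.GroupTheory.PGroup
import Mathlib.Algebra.Group.Conj

/-!
Classical properties of wreathed 2-groups.
-/

set_option autoImplicit false

open scoped commutatorElement

namespace CfsgLib.Inv

theorem classes_card_three {G : Type*} [Group G] {k : ℕ} {a b c : G} (ha : orderOf a = k) (hb : orderOf b = k)
    (hc : orderOf c = k) (hab : ¬ IsConj a b) (hac : ¬ IsConj a c) (hbc : ¬ IsConj b c)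
    (h : ∀ t : G, orderOf t = k → IsConj t a ∨ IsConj t b ∨ IsConj t c) :
    Nat.card {C : ConjClasses G // ∃ t : G, orderOf t = k ∧ ConjClasses.mk t = C} = 3 := by
  have e : {C : ConjClasses G | ∃ t : G, orderOf t = k ∧ ConjClasses.mk t = C} =
      {ConjClasses.mk a, ConjClasses.mk b, ConjClasses.mk c} := by
    ext C
    constructor
    · rintro ⟨t, ht, rfl⟩
      simp only [Set.mem_insert_iff, Set.mem_singleton_iff, ConjClasses.mk_eq_mk_iff_isConj]
      exact h t ht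
    · rintro (rfl | rfl | rfl)
      exacts [⟨a, ha, rfl⟩, ⟨b, hb, rfl⟩, ⟨c, hc, rfl⟩]
  show Nat.card ({C : ConjClasses G | ∃ t : G, orderOf t = k ∧ ConjClasses.mk t = C} : Set (ConjClasses G)) = 3
  rw [Nat.card_coe_set_eq, e, Set.ncard_insert_of_notMem (by simp only [Set.mem_insert_iff, Set.mem_singleton_iff, ConjClasses.mk_eq_mk_iff_isConj, hab, hac, or_self, not_false_iff]),
    Set.ncard_insert_of_notMem (by simp only [Set.mem_singleton_iff, ConjClasses.mk_eq_mk_iff_isConj, hbc, not_false_iff]), Set.ncard_singleton]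

theorem klein_of_card {G : Type*} [Group G] {K : Subgroup G} (hc : Nat.card K = 4)
    (hsq : ∀ g ∈ K, g * g = 1) : IsKleinFour K := by
  haveI : Finite K := Nat.finite_of_card_ne_zero (by omega)
  refine ⟨hc, ?_⟩
  have h := Monoid.exponent_dvd_of_forall_pow_eq_one (G := K) (n := 2)
    fun g => Subtype.ext (by simpa [pow_two] using hsq g g.2)
  rcases (Nat.dvd_prime Nat.prime_two).1 h with e | e
  · haveI := Monoid.exp_eq_one_iff.1 e
    rw [Nat.card_of_subsingleton (1 : K)] at hc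
    omega
  · exact e

theorem card_of_four {G : Type*} [Group G] {K : Subgroup G} {u v w : G}
    (hset : (K : Set G) = {1, u, v, w}) (h1 : u ≠ 1) (h2 : v ≠ 1) (h3 : w ≠ 1) (h4 : u ≠ v) (h5 : u ≠ w)
    (h6 : v ≠ w) : Nat.card K = 4 := by
  show Nat.card (K : Set G) = 4
  rw [Nat.card_coe_set_eq, hset, Set.ncard_insert_of_notMem (by simp [h1.symm, h2.symm, h3.symm]),
    Set.ncard_insert_of_notMem (by simp [h4, h5]), Set.ncard_insert_of_notMem (by simp [h6]), Set.ncard_singleton]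

namespace WData

variable {S : Type*} [Group S] {n : ℕ} (D : WData S n)

theorem orderOf_two_iff {g : S} : orderOf g = 2 ↔ g * g = 1 ∧ g ≠ 1 := by
  rw [orderOf_eq_prime_iff, pow_two]

theorem zc_order : orderOf D.zc = 2 :=
  orderOf_two_iff.2 ⟨D.el_invol.2 ⟨D.half_hh, D.half_hh⟩, fun e => D.hh_ne (D.el_eq_one.1 e).1⟩

theorem el_hh_order : orderOf (D.el D.hh 0) = 2 :=
  orderOf_two_iff.2 ⟨D.el_invol.2 ⟨D.half_hh, by simp [Half]⟩, fun e => D.hh_ne (D.el_eq_one.1 e).1⟩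

theorem ot_zero_order : orderOf (D.ot 0 0) = 2 :=
  orderOf_two_iff.2 ⟨D.ot_invol.2 neg_zero.symm, D.ot_ne_one _ _⟩

theorem conj_zero_hh : D.ot 0 0 * D.el D.hh 0 * (D.ot 0 0)⁻¹ = D.el 0 D.hh := D.ot_conj_el _ _ _ _

theorem ot_conj_zero (a : ZMod (2 ^ n)) : D.el a 0 * D.ot 0 0 * (D.el a 0)⁻¹ = D.ot a (-a) := by
  rw [el_conj_ot]; congr 1 <;> ring

variable [Finite S]
include D

theorem invol_cases {g : S} (hg : orderOf g = 2) :
    g = D.zc ∨ g = D.el D.hh 0 ∨ g = D.el 0 D.hh ∨ ∃ a, g = D.ot a (-a) := by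
  obtain ⟨h2, h1⟩ := orderOf_two_iff.1 hg
  rcases D.cases g with ⟨a, b, rfl⟩ | ⟨a, b, rfl⟩
  · obtain ⟨ha, hb⟩ := D.el_invol.1 h2
    rcases D.double_zero ha with rfl | rfl <;> rcases D.double_zero hb with rfl | rfl
    · exact absurd D.el_zero h1
    · exact Or.inr (Or.inr (Or.inl rfl))
    · exact Or.inr (Or.inl rfl)
    · exact Or.inl rfl
  · exact Or.inr (Or.inr (Or.inr ⟨a, by rw [D.ot_invol.1 h2]⟩))

theorem three_classes :
    Nat.card {C : ConjClasses S // ∃ t : S, orderOf t = 2 ∧ ConjClasses.mk t = C} = 3 := by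
  have hU : ∀ {u v : S}, IsConj u v → u ∈ D.U → v ∈ D.U := fun {u v} h hu => by
    obtain ⟨g, rfl⟩ := isConj_iff.1 h
    exact D.U_normal.conj_mem u hu g
  refine classes_card_three D.zc_order D.el_hh_order D.ot_zero_order ?_ ?_ ?_ fun t ht => ?_
  · intro h
    obtain ⟨g, hg⟩ := isConj_iff.1 h
    have hc : g * D.zc = D.zc * g := Subgroup.mem_center_iff.1 (D.mem_center_iff.2 ⟨D.hh, rfl⟩) g
    rw [hc, mul_inv_cancel_right] at hg
    exact D.hh_ne (D.el_inj hg).2
  · exact fun h => D.ot_not_mem_U _ _ (hU h (D.el_mem_U _ _))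
  · exact fun h => D.ot_not_mem_U _ _ (hU h (D.el_mem_U _ _))
  · rcases D.invol_cases ht with rfl | rfl | rfl | ⟨a, rfl⟩
    · exact Or.inl (IsConj.refl _)
    · exact Or.inr (Or.inl (IsConj.refl _))
    · exact Or.inr (Or.inl (isConj_iff.2 ⟨_, D.conj_zero_hh⟩).symm)
    · exact Or.inr (Or.inr (isConj_iff.2 ⟨_, D.ot_conj_zero a⟩).symm)

/-- The diagonal. -/
def diag : Multiplicative (ZMod (2 ^ n)) →* S where
  toFun t := D.el t.toAdd t.toAdd
  map_one' := D.el_zero
  map_mul' t u := (D.el_mul _ _ _ _).symm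

/-- The antidiagonal. -/
def antidiag : Multiplicative (ZMod (2 ^ n)) →* S where
  toFun t := D.el t.toAdd (-t.toAdd)
  map_one' := by simp [el_zero]
  map_mul' t u := by rw [el_mul, ← neg_add]; rfl

omit [Finite S] in
theorem range_cyclic {f : Multiplicative (ZMod (2 ^ n)) →* S} (hf : Function.Injective f) :
    IsCyclic f.range ∧ Nat.card f.range = 2 ^ n := by
  refine ⟨isCyclic_of_surjective _ f.rangeRestrict_surjective, ?_⟩
  rw [← Nat.card_congr (MonoidHom.ofInjective hf).toEquiv, Nat.card_congr Multiplicative.toAdd, Nat.card_zmod]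

theorem center_eq : Subgroup.center S = D.diag.range := by
  ext g
  rw [D.mem_center_iff]
  constructor
  · rintro ⟨c, rfl⟩; exact ⟨Multiplicative.ofAdd c, rfl⟩
  · rintro ⟨t, rfl⟩; exact ⟨_, rfl⟩

theorem commutator_eq : commutator S = D.antidiag.range := by
  apply le_antisymm
  · rw [commutator_def, Subgroup.commutator_le]
    intro g _ k _
    have key : ∃ a, ⁅g, k⁆ = D.el a (-a) := by
      rcases D.cases g with ⟨a, b, rfl⟩ | ⟨a, b, rfl⟩ <;> rcases D.cases k with ⟨c, d, rfl⟩ | ⟨c, d, rfl⟩ <;>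
        simp only [commutatorElement_def, el_inv, ot_inv, el_mul, el_mul_ot, ot_mul_el, ot_mul_ot]
      · exact ⟨0, by congr 1 <;> ring⟩
      · exact ⟨a - b, by congr 1 <;> ring⟩
      · exact ⟨d - c, by congr 1 <;> ring⟩
      · exact ⟨a - b + (d - c), by congr 1 <;> ring⟩
    obtain ⟨a, ha⟩ := key
    exact ⟨Multiplicative.ofAdd a, ha.symm⟩
  · rintro _ ⟨t, rfl⟩
    have : D.antidiag t = ⁅D.el t.toAdd 0, D.ot 0 0⁆ := by
      show D.el t.toAdd (-t.toAdd) = _
      simp only [commutatorElement_def, el_inv, ot_inv, el_mul_ot, ot_mul_el, ot_mul_ot]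
      congr 1 <;> ring
    rw [this, commutator_def]
    exact Subgroup.commutator_mem_commutator (Subgroup.mem_top _) (Subgroup.mem_top _)

theorem center_commutator_facts :
    IsCyclic (Subgroup.center S) ∧ Nat.card (Subgroup.center S) = 2 ^ n ∧
      IsCyclic (commutator S) ∧ Nat.card (commutator S) = 2 ^ n := by
  have h1 : Function.Injective D.diag := fun t u h => (D.el_inj h).1
  have h2 : Function.Injective D.antidiag := fun t u h => (D.el_inj h).1
  rw [D.center_eq, D.commutator_eq]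
  exact ⟨(D.range_cyclic h1).1, (D.range_cyclic h1).2, (D.range_cyclic h2).1, (D.range_cyclic h2).2⟩

/-- The map onto the dihedral group. -/
noncomputable def dh : S →* DihedralGroup (2 ^ n) :=
  MonoidHom.mk' (fun g => D.lift (fun a b => DihedralGroup.r (a - b)) (fun a b => DihedralGroup.sr (b - a)) g) (by
    intro g k
    rcases D.cases g with ⟨a, b, rfl⟩ | ⟨a, b, rfl⟩ <;> rcases D.cases k with ⟨c, d, rfl⟩ | ⟨c, d, rfl⟩ <;>
      simp only [el_mul, el_mul_ot, ot_mul_el, ot_mul_ot, lift_el, lift_ot, DihedralGroup.r_mul_r,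
        DihedralGroup.r_mul_sr, DihedralGroup.sr_mul_r, DihedralGroup.sr_mul_sr] <;> congr 1 <;> ring)

theorem quot_center : Nonempty (S ⧸ Subgroup.center S ≃* DihedralGroup (2 ^ n)) := by
  have hk : D.dh.ker = Subgroup.center S := by
    ext g
    rw [MonoidHom.mem_ker, D.mem_center_iff]
    show D.lift (fun a b => DihedralGroup.r (a - b)) (fun a b => DihedralGroup.sr (b - a)) g = 1 ↔ _
    rw [DihedralGroup.one_def]
    rcases D.cases g with ⟨a, b, rfl⟩ | ⟨a, b, rfl⟩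
    · rw [lift_el, DihedralGroup.r.injEq, sub_eq_zero]
      exact ⟨fun h => ⟨a, by rw [h]⟩, fun ⟨c, hc⟩ => (D.el_inj hc).1.trans (D.el_inj hc).2.symm⟩
    · rw [lift_ot]
      exact ⟨fun h => (nomatch h), fun ⟨c, hc⟩ => absurd hc (D.ot_ne_el _ _ _ _)⟩
  have hs : Function.Surjective D.dh := by
    rintro (i | i)
    · exact ⟨D.el i 0, by show D.lift (fun a b => DihedralGroup.r (a - b)) (fun a b => DihedralGroup.sr (b - a)) (D.el i 0) = _; rw [lift_el, sub_zero]⟩
    · exact ⟨D.ot 0 i, by show D.lift (fun a b => DihedralGroup.r (a - b)) (fun a b => DihedralGroup.sr (b - a)) (D.ot 0 i) = _; rw [lift_ot, sub_zero]⟩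
  exact ⟨(QuotientGroup.quotientMulEquivOfEq hk.symm).trans (QuotientGroup.quotientKerEquivOfSurjective D.dh hs)⟩

/-- The normal four subgroup. -/
def omegaU : Subgroup S where
  carrier := {g | ∃ a b, Half a ∧ Half b ∧ g = D.el a b}
  one_mem' := ⟨0, 0, by simp [Half], by simp [Half], D.el_zero.symm⟩
  mul_mem' := by
    rintro _ _ ⟨a, b, ha, hb, rfl⟩ ⟨c, d, hc, hd, rfl⟩
    exact ⟨_, _, half_add ha hc, half_add hb hd, D.el_mul _ _ _ _⟩
  inv_mem' := by
    rintro _ ⟨a, b, ha, hb, rfl⟩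
    refine ⟨_, _, ?_, ?_, D.el_inv _ _⟩ <;> unfold Half at * <;> [linear_combination -ha; linear_combination -hb]

/-- A four subgroup outside `U`. -/
def fourOut : Subgroup S where
  carrier := {g | (∃ c, Half c ∧ g = D.el c c) ∨ ∃ c, Half c ∧ g = D.ot c c}
  one_mem' := Or.inl ⟨0, by simp [Half], D.el_zero.symm⟩
  mul_mem' := by
    rintro _ _ (⟨a, ha, rfl⟩ | ⟨a, ha, rfl⟩) (⟨c, hc, rfl⟩ | ⟨c, hc, rfl⟩)
    · exact Or.inl ⟨_, half_add ha hc, D.el_mul _ _ _ _⟩
    · exact Or.inr ⟨_, half_add ha hc, D.el_mul_ot _ _ _ _⟩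
    · exact Or.inr ⟨_, half_add ha hc, D.ot_mul_el _ _ _ _⟩
    · exact Or.inl ⟨_, half_add ha hc, D.ot_mul_ot _ _ _ _⟩
  inv_mem' := by
    rintro _ (⟨a, ha, rfl⟩ | ⟨a, ha, rfl⟩)
    · exact Or.inl ⟨_, by unfold Half at *; linear_combination -ha, D.el_inv _ _⟩
    · exact Or.inr ⟨_, by unfold Half at *; linear_combination -ha, D.ot_inv _ _⟩

theorem fours : ∃ T : Subgroup S, IsKleinFour T ∧ T.Normal ∧ (∃ T₀ : Subgroup S, IsKleinFour T₀ ∧ T₀ ≠ T) ∧
    ∀ T₁ T₂ : Subgroup S, IsKleinFour T₁ → IsKleinFour T₂ → T₁ ≠ T → T₂ ≠ T →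
      ∃ s : S, T₁.map (MulAut.conj s).toMonoidHom = T₂ := by
  have h0 : Half (0 : ZMod (2 ^ n)) := by simp [Half]
  have hne1 : ∀ {a b : ZMod (2 ^ n)}, D.el a b = 1 → a = 0 ∧ b = 0 := fun h => D.el_eq_one.1 h
  have setU : (D.omegaU : Set S) = {1, D.el D.hh 0, D.el 0 D.hh, D.el D.hh D.hh} := by
    ext g
    constructor
    · rintro ⟨a, b, ha, hb, rfl⟩
      rcases D.double_zero ha with rfl | rfl <;> rcases D.double_zero hb with rfl | rfl <;> simp [el_zero]
    · rintro (rfl | rfl | rfl | rfl)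
      exacts [one_mem _, ⟨_, _, D.half_hh, h0, rfl⟩, ⟨_, _, h0, D.half_hh, rfl⟩, ⟨_, _, D.half_hh, D.half_hh, rfl⟩]
  have cU : Nat.card D.omegaU = 4 := card_of_four setU (fun h => D.hh_ne (hne1 h).1) (fun h => D.hh_ne (hne1 h).2)
    (fun h => D.hh_ne (hne1 h).1) (fun h => D.hh_ne (D.el_inj h).1) (fun h => D.hh_ne (D.el_inj h).2.symm)
    (fun h => D.hh_ne (D.el_inj h).1.symm)
  have setO : (D.fourOut : Set S) = {1, D.el D.hh D.hh, D.ot 0 0, D.ot D.hh D.hh} := by
    ext g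
    constructor
    · rintro (⟨a, ha, rfl⟩ | ⟨a, ha, rfl⟩) <;> rcases D.double_zero ha with rfl | rfl <;> simp [el_zero]
    · rintro (rfl | rfl | rfl | rfl)
      exacts [one_mem _, Or.inl ⟨_, D.half_hh, rfl⟩, Or.inr ⟨_, h0, rfl⟩, Or.inr ⟨_, D.half_hh, rfl⟩]
  have cO : Nat.card D.fourOut = 4 := card_of_four setO (fun h => D.hh_ne (hne1 h).1) (D.ot_ne_one _ _)
    (D.ot_ne_one _ _) (D.ot_ne_el _ _ _ _).symm (D.ot_ne_el _ _ _ _).symm (fun h => D.hh_ne (D.ot_inj h).1.symm)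
  refine ⟨D.omegaU, klein_of_card cU ?_, ⟨?_⟩, ⟨D.fourOut, klein_of_card cO ?_, ?_⟩, ?_⟩
  · rintro _ ⟨a, b, ha, hb, rfl⟩; exact D.el_invol.2 ⟨ha, hb⟩
  · rintro _ ⟨a, b, ha, hb, rfl⟩ g
    rcases D.cases g with ⟨c, d, rfl⟩ | ⟨c, d, rfl⟩
    · rw [el_conj_el]; exact ⟨a, b, ha, hb, rfl⟩
    · rw [ot_conj_el]; exact ⟨b, a, hb, ha, rfl⟩
  · rintro _ (⟨a, ha, rfl⟩ | ⟨a, ha, rfl⟩)
    · exact D.el_invol.2 ⟨ha, ha⟩
    · refine D.ot_invol.2 ?_; unfold Half at ha; linear_combination ha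
  · intro h
    have : D.ot 0 0 ∈ D.omegaU := h ▸ (Or.inr ⟨0, h0, rfl⟩)
    obtain ⟨a, b, -, -, e⟩ := this
    exact D.ot_ne_el _ _ _ _ e
  have key : ∀ T₁ : Subgroup S, IsKleinFour T₁ → T₁ ≠ D.omegaU →
      ∃ a, T₁ = D.fourOut.map (MulAut.conj (D.el a 0)).toMonoidHom := by
    intro T₁ hT hne
    haveI := hT
    have hsq : ∀ u ∈ T₁, u * u = 1 := fun u hu =>
      congrArg Subtype.val (IsKleinFour.mul_self (⟨u, hu⟩ : T₁))
    have hcm : ∀ u ∈ T₁, ∀ v ∈ T₁, u * v = v * u := fun u hu v hv =>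
      congrArg Subtype.val (hT.isMulCommutative.is_comm.comm (⟨u, hu⟩ : T₁) ⟨v, hv⟩)
    obtain ⟨t, ht, htU⟩ : ∃ t ∈ T₁, t ∉ D.U := by
      by_contra hcon
      refine hne (Subgroup.eq_of_le_of_card_ge (fun u hu => ?_) (by rw [cU, IsKleinFour.card_four]))
      obtain ⟨a, b, rfl⟩ : u ∈ D.U := by_contra fun h => hcon ⟨u, hu, h⟩
      obtain ⟨ha, hb⟩ := D.el_invol.1 (hsq _ hu)
      exact ⟨a, b, ha, hb, rfl⟩
    rcases D.cases t with ⟨a, b, rfl⟩ | ⟨a, b, rfl⟩
    · exact absurd (D.el_mem_U _ _) htU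
    obtain rfl := D.ot_invol.1 (hsq _ ht)
    refine ⟨a, Subgroup.eq_of_le_of_card_ge (fun u hu => ?_) ?_⟩
    · refine ⟨(D.el a 0)⁻¹ * u * D.el a 0, ?_, by simp [mul_assoc]⟩
      rcases D.cases u with ⟨c, d, rfl⟩ | ⟨c, d, rfl⟩
      · obtain rfl := D.el_commute_ot.1 (hcm _ hu _ ht)
        refine Or.inl ⟨c, (D.el_invol.1 (hsq _ hu)).1, ?_⟩
        rw [el_inv, el_mul, el_mul]; congr 1 <;> ring
      · obtain rfl := D.ot_invol.1 (hsq _ hu)
        have h2 := D.ot_commute_ot.1 (hcm _ hu _ ht)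
        refine Or.inr ⟨c - a, by unfold Half; linear_combination h2, ?_⟩
        rw [el_inv, el_mul_ot, ot_mul_el]
        congr 1
        · ring
        · linear_combination -h2
    · rw [← Nat.card_congr (Subgroup.equivMapOfInjective _ _ (MulAut.conj (D.el a 0)).injective).toEquiv, cO,
        IsKleinFour.card_four]
  intro T₁ T₂ h₁ h₂ n₁ n₂
  obtain ⟨a₁, rfl⟩ := key T₁ h₁ n₁
  obtain ⟨a₂, rfl⟩ := key T₂ h₂ n₂
  refine ⟨D.el a₂ 0 * (D.el a₁ 0)⁻¹, ?_⟩
  rw [Subgroup.map_map]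
  congr 1
  ext g
  simp [mul_assoc]

/-- A homomorphism from a quaternion group. -/
noncomputable def quatHom {m : ℕ} [NeZero m] (e : ZMod (2 * m) →+ ZMod (2 ^ n)) (he : e m = D.hh) :
    QuaternionGroup m →* S :=
  MonoidHom.mk' (fun t => match t with
    | .a i => D.el (e i) (-(e i))
    | .xa i => D.ot (D.hh - e i) (e i)) (by
    rintro (i | i) (j | j) <;>
      simp only [QuaternionGroup.a_mul_a, QuaternionGroup.a_mul_xa, QuaternionGroup.xa_mul_a,
        QuaternionGroup.xa_mul_xa, el_mul, el_mul_ot, ot_mul_el, ot_mul_ot, map_add, map_sub, he]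
    · congr 1; ring
    · congr 1 <;> ring
    · congr 1 <;> ring
    · congr 1
      · ring
      · linear_combination (-1 : ZMod (2 ^ n)) * D.hh_add)

omit [Finite S] in
theorem quatHom_injective {m : ℕ} [NeZero m] (e : ZMod (2 * m) →+ ZMod (2 ^ n)) (he : e m = D.hh)
    (hinj : Function.Injective e) : Function.Injective (D.quatHom e he) := by
  rintro (i | i) (j | j) h
  · rw [hinj (D.el_inj h).1]
  · exact absurd h.symm (D.ot_ne_el _ _ _ _)
  · exact absurd h (D.ot_ne_el _ _ _ _)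
  · rw [hinj (D.ot_inj h).2]

theorem quatHom_mem_ker {m : ℕ} [NeZero m] (e : ZMod (2 * m) →+ ZMod (2 ^ n)) (he : e m = D.hh)
    (t : QuaternionGroup m) : D.quatHom e he t ∈ D.sgh.ker := by
  rcases t with i | i
  · exact D.el_mem_ker_sgh.2 (add_neg_cancel _)
  · exact D.ot_mem_ker_sgh.2 (sub_add_cancel _ _)

theorem card_ker_sgh : Nat.card D.sgh.ker = 2 ^ (n + 1) := by
  have h := Subgroup.card_mul_index D.sgh.ker
  rw [Subgroup.index_ker, MonoidHom.range_eq_top.2 D.sgh_surjective, Subgroup.card_top,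
    Nat.card_congr Multiplicative.toAdd, Nat.card_zmod, D.card_eq] at h
  refine Nat.eq_of_mul_eq_mul_right (Nat.two_pow_pos n) (h.trans ?_)
  rw [← pow_add]; congr 1; omega

theorem ker_sgh_equiv : Nonempty (D.sgh.ker ≃* QuaternionGroup (2 ^ (n - 1))) := by
  have hm : 2 * 2 ^ (n - 1) = 2 ^ n := by
    rw [← pow_succ', Nat.sub_add_cancel (by have := D.two_le; omega)]
  let r := ZMod.ringEquivCongr hm
  have he : r.toAddEquiv.toAddMonoidHom ((2 ^ (n - 1) : ℕ) : ZMod (2 * 2 ^ (n - 1))) = D.hh := map_natCast r _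
  set φ := D.quatHom r.toAddEquiv.toAddMonoidHom he
  have hinj : Function.Injective φ := D.quatHom_injective _ he r.injective
  have hr : φ.range = D.sgh.ker := by
    refine Subgroup.eq_of_le_of_card_ge (by rintro _ ⟨t, rfl⟩; exact D.quatHom_mem_ker _ _ t) ?_
    rw [D.card_ker_sgh, ← Nat.card_congr (MonoidHom.ofInjective hinj).toEquiv, Nat.card_eq_fintype_card,
      QuaternionGroup.card, pow_succ', ← hm]
    omega
  exact ⟨((MonoidHom.ofInjective hinj).trans (MulEquiv.subgroupCongr hr)).symm⟩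

theorem quat_pair_mem {c b : S} {M : ℕ} (hM : 2 ≤ M) (hc : orderOf c = 2 * M) (hinv : b * c * b⁻¹ = c⁻¹)
    (hb : b * b = c ^ M) : c ∈ D.sgh.ker ∧ b ∈ D.sgh.ker := by
  have hcc : c ^ 2 ≠ 1 := fun e => by
    have := Nat.le_of_dvd two_pos (hc ▸ orderOf_dvd_of_pow_eq_one e)
    omega
  have hw : c ^ M ≠ 1 ∧ c ^ M * c ^ M = 1 := by
    refine ⟨fun e => ?_, by rw [← pow_add, ← two_mul, ← hc, pow_orderOf_eq_one]⟩
    have := Nat.le_of_dvd (by omega) (hc ▸ orderOf_dvd_of_pow_eq_one e)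
    omega
  rcases D.cases c with ⟨p, q, rfl⟩ | ⟨p, q, rfl⟩
  · rcases D.cases b with ⟨r, t, rfl⟩ | ⟨r, t, rfl⟩
    · rw [el_conj_el, el_inv] at hinv
      obtain ⟨h1, h2⟩ := D.el_inj hinv
      exact absurd (by rw [pow_two, el_mul, el_eq_one]; exact ⟨by linear_combination h1, by linear_combination h2⟩) hcc
    · rw [ot_conj_el, el_inv] at hinv
      have hq := (D.el_inj hinv).1
      subst hq
      refine ⟨D.el_mem_ker_sgh.2 (add_neg_cancel _), D.ot_mem_ker_sgh.2 ?_⟩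
      rw [ot_mul_ot, el_pow] at hb
      obtain ⟨h1, h2⟩ := hw
      rw [el_pow] at h1 h2
      rcases D.double_zero (D.el_invol.1 h2).1 with e | e
      · exact absurd (D.el_eq_one.2 ⟨e, by rw [mul_neg, e, neg_zero]⟩) h1
      · rw [← e, (D.el_inj hb).1]
  · have hsq : D.ot p q ^ 2 = D.el (p + q) (p + q) := by rw [pow_two, ot_mul_ot, add_comm q p]
    have h4 : D.ot p q ^ 2 = (D.ot p q ^ 2)⁻¹ := by
      have h := congrArg (fun u => u ^ 2) hinv
      simp only [conj_pow, inv_pow] at h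
      rw [hsq, Subgroup.mem_center_iff.1 (D.mem_center_iff.2 ⟨p + q, rfl⟩) b, mul_inv_cancel_right] at h
      rwa [hsq]
    have hM2 : M = 2 := by
      have : D.ot p q ^ 4 = 1 := by rw [show 4 = 2 + 2 from rfl, pow_add]; nth_rewrite 1 [h4]; exact inv_mul_cancel _
      have := Nat.le_of_dvd (by norm_num) (hc ▸ orderOf_dvd_of_pow_eq_one this)
      omega
    subst hM2
    obtain ⟨h1, h2⟩ := hw
    rw [hsq] at h1 h2 hb
    have hs : p + q = D.hh := by
      rcases D.double_zero (D.el_invol.1 h2).1 with e | e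
      · exact absurd (D.el_eq_one.2 ⟨e, e⟩) h1
      · exact e
    refine ⟨D.ot_mem_ker_sgh.2 hs, ?_⟩
    rcases D.cases b with ⟨r, t, rfl⟩ | ⟨r, t, rfl⟩
    · rw [el_conj_ot, ot_inv] at hinv
      refine D.el_mem_ker_sgh.2 ?_
      rw [el_mul, hs] at hb
      linear_combination (D.ot_inj hinv).1 + (D.el_inj hb).2 - hs
    · rw [ot_mul_ot] at hb
      exact D.ot_mem_ker_sgh.2 ((D.el_inj hb).1.trans hs)

theorem quaternion_le {Y : Subgroup S} {m : ℕ} (hm : 2 ≤ m) (e : Y ≃* QuaternionGroup m) :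
    Y ≤ D.sgh.ker := by
  haveI : NeZero m := ⟨by omega⟩
  set c := ((e.symm (.a 1) : Y) : S) with hc
  set b := ((e.symm (.xa 0) : Y) : S) with hb
  have hco : orderOf c = 2 * m := by
    rw [hc, Subgroup.orderOf_coe, MulEquiv.orderOf_eq, QuaternionGroup.orderOf_a_one]
  have hinv : b * c * b⁻¹ = c⁻¹ := by
    have h : (QuaternionGroup.xa 0 : QuaternionGroup m) * .a 1 * (.xa 0)⁻¹ = (.a 1)⁻¹ := by
      rw [mul_inv_eq_iff_eq_mul]
      show _ = QuaternionGroup.a (-1) * _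
      rw [QuaternionGroup.xa_mul_a, QuaternionGroup.a_mul_xa, sub_neg_eq_add]
    have := congrArg (fun u => ((e.symm u : Y) : S)) h
    simp only [map_mul, map_inv, Subgroup.coe_mul, Subgroup.coe_inv] at this
    exact this
  have hb2 : b * b = c ^ m := by
    have h : (QuaternionGroup.xa 0 : QuaternionGroup m) * .xa 0 = .a 1 ^ m := by
      rw [QuaternionGroup.xa_mul_xa, QuaternionGroup.a_one_pow]; simp
    have := congrArg (fun u => ((e.symm u : Y) : S)) h
    simp only [map_mul, map_pow, Subgroup.coe_mul, SubmonoidClass.coe_pow] at this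
    exact this
  obtain ⟨h1, h2⟩ := D.quat_pair_mem hm hco hinv hb2
  intro y hy
  have hy' : (⟨y, hy⟩ : Y) = e.symm (e ⟨y, hy⟩) := (e.symm_apply_apply _).symm
  have hgen : ∀ q : QuaternionGroup m, ((e.symm q : Y) : S) ∈ D.sgh.ker := by
    intro q
    have ha : ∀ i : ZMod (2 * m), ((e.symm (.a i) : Y) : S) ∈ D.sgh.ker := fun i => by
      have h0 : (QuaternionGroup.a i : QuaternionGroup m) = .a 1 ^ i.val := by
        rw [QuaternionGroup.a_one_pow, ZMod.natCast_zmod_val]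
      rw [h0, map_pow, SubmonoidClass.coe_pow]
      exact pow_mem h1 _
    rcases q with i | i
    · exact ha i
    · have h0 : (QuaternionGroup.xa i : QuaternionGroup m) = .xa 0 * .a i := by
        rw [QuaternionGroup.xa_mul_a, zero_add]
      rw [h0, map_mul, Subgroup.coe_mul]
      exact mul_mem h2 (ha i)
  rw [show y = ((e.symm (e ⟨y, hy⟩) : Y) : S) from congrArg Subtype.val hy']
  exact hgen _

theorem unique_quaternion :
    (∃! Y : Subgroup S, Nat.card Y = 2 ^ (n + 1) ∧ Nonempty (Y ≃* QuaternionGroup (2 ^ (n - 1)))) ∧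
      ∀ Y : Subgroup S, Nat.card Y = 2 ^ (n + 1) → Nonempty (Y ≃* QuaternionGroup (2 ^ (n - 1))) → Y.Normal := by
  have hu : ∀ Y : Subgroup S, Nat.card Y = 2 ^ (n + 1) → Nonempty (Y ≃* QuaternionGroup (2 ^ (n - 1))) →
      Y = D.sgh.ker := fun Y hY ⟨e⟩ =>
    Subgroup.eq_of_le_of_card_ge
      (D.quaternion_le (Nat.le_self_pow (by have := D.two_le; omega) 2) e) (by rw [hY, D.card_ker_sgh])
  exact ⟨⟨D.sgh.ker, ⟨D.card_ker_sgh, D.ker_sgh_equiv⟩, fun Y h => hu Y h.1 h.2⟩,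
    fun Y h1 h2 => hu Y h1 h2 ▸ inferInstance⟩

theorem invol_closure :
    Nat.card (Subgroup.closure {x : S | orderOf x = 2}) = 2 ^ (n + 2) ∧
      ∃ s : S, Subgroup.closure {x : S | orderOf x = 2} ⊔ Subgroup.zpowers s = ⊤ := by
  set W := Subgroup.closure {x : S | orderOf x = 2}
  set Z := Subgroup.zpowers (Multiplicative.ofAdd D.hh)
  have hZ : ∀ t : ZMod (2 ^ n), Multiplicative.ofAdd t ∈ Z → Half t := by
    intro t ht
    obtain ⟨i, hi⟩ := Subgroup.mem_zpowers_iff.1 ht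
    rw [← ofAdd_zsmul] at hi
    rw [← Multiplicative.ofAdd.injective hi]
    show i • D.hh + i • D.hh = 0
    rw [← smul_add, hh_add, smul_zero]
  have hW : ∀ a, D.ot a (-a) ∈ W := fun a =>
    Subgroup.subset_closure (orderOf_two_iff.2 ⟨D.ot_invol.2 rfl, D.ot_ne_one _ _⟩)
  have hel : ∀ a b, Half (a + b) → D.el a b ∈ W := by
    intro a b h
    have h0 : ∀ c, D.el c (-c) ∈ W := fun c => by
      have h1 := mul_mem (hW c) (hW 0)
      rw [ot_mul_ot, neg_zero, add_zero, add_zero] at h1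
      exact h1
    rcases D.double_zero h with e | e
    · rw [show b = -a by linear_combination e]; exact h0 a
    · have h1 := mul_mem (h0 (a - D.hh)) (Subgroup.subset_closure D.el_hh_order : D.el D.hh 0 ∈ W)
      rw [el_mul, sub_add_cancel, add_zero] at h1
      rwa [show b = -(a - D.hh) by linear_combination e]
  have hot : ∀ a b, Half (a + b) → D.ot a b ∈ W := by
    intro a b h
    have h1 := mul_mem (hel a b h) (hW 0)
    rwa [el_mul_ot, neg_zero, add_zero, add_zero] at h1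
  have hcl : W = Z.comap D.sg := by
    apply le_antisymm
    · rw [Subgroup.closure_le]
      intro g hg
      rcases D.invol_cases hg with rfl | rfl | rfl | ⟨a, rfl⟩
      · simp only [SetLike.mem_coe, Subgroup.mem_comap, zc, sg_el, hh_add, ofAdd_zero]; exact one_mem _
      · simp only [SetLike.mem_coe, Subgroup.mem_comap, sg_el, add_zero]; exact Subgroup.mem_zpowers _
      · simp only [SetLike.mem_coe, Subgroup.mem_comap, sg_el, zero_add]; exact Subgroup.mem_zpowers _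
      · simp only [SetLike.mem_coe, Subgroup.mem_comap, sg_ot, add_neg_cancel, ofAdd_zero]; exact one_mem _
    · intro g hg
      rw [Subgroup.mem_comap] at hg
      rcases D.cases g with ⟨a, b, rfl⟩ | ⟨a, b, rfl⟩
      · rw [sg_el] at hg; exact hel a b (hZ _ hg)
      · rw [sg_ot] at hg; exact hot a b (hZ _ hg)
  refine ⟨?_, D.el 1 0, eq_top_iff.2 fun g _ => ?_⟩
  · rw [hcl]
    have h := Subgroup.card_mul_index (Z.comap D.sg)
    rw [Subgroup.index_comap_of_surjective _ D.sg_surjective, D.card_eq] at h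
    have hz := Subgroup.card_mul_index Z
    have ho : orderOf (Multiplicative.ofAdd D.hh) = 2 := orderOf_two_iff.2
      ⟨by rw [← ofAdd_add, hh_add, ofAdd_zero], fun e => D.hh_ne (ofAdd_eq_one.1 e)⟩
    rw [Nat.card_zpowers, ho, Nat.card_congr Multiplicative.toAdd, Nat.card_zmod] at hz
    have hn := D.two_le
    refine Nat.eq_of_mul_eq_mul_right (m := Z.index * 2) (by
      have : 0 < 2 ^ n := by positivity
      omega) ?_
    rw [← mul_assoc, h, mul_comm Z.index 2, hz, ← pow_succ, ← pow_add]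
    congr 1; omega
  · set T := W ⊔ Subgroup.zpowers (D.el 1 0)
    have hx : ∀ a, D.el a 0 ∈ T := fun a => Subgroup.mem_sup_right (by
      have h := Subgroup.npow_mem_zpowers (D.el 1 0) a.val
      rwa [el_pow, ZMod.natCast_zmod_val, mul_one, mul_zero] at h)
    rcases D.cases g with ⟨a, b, rfl⟩ | ⟨a, b, rfl⟩
    · have h1 := T.mul_mem (hx (a + b)) (Subgroup.mem_sup_left (hel (-b) b (by simp [Half])))
      rwa [el_mul, add_neg_cancel_right, zero_add] at h1
    · have h1 := T.mul_mem (hx (a + b)) (Subgroup.mem_sup_left (hot (-b) b (by simp [Half])))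
      rwa [el_mul_ot, add_neg_cancel_right, zero_add] at h1

/-- The standard quaternion subgroup of `V`. -/
theorem exists_quat : ∃ Q : Subgroup S, Nonempty (Q ≃* QuaternionGroup 2) ∧ D.V = Q ⊔ Subgroup.center S ∧
    Q ≤ D.sgh.ker ∧ D.el D.qq (-D.qq) ∈ Q ∧ D.ot D.hh 0 ∈ Q := by
  have h4 : (((2 * 2 : ℕ) : ℤ)) • D.qq = 0 := by
    rw [Nat.cast_smul_eq_nsmul, mul_nsmul, two_nsmul, two_nsmul, qq_add, hh_add]
  let e : ZMod (2 * 2) →+ ZMod (2 ^ n) := ZMod.lift (2 * 2) ⟨zmultiplesHom _ D.qq, h4⟩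
  have ev : ∀ k : ℤ, e (k : ZMod (2 * 2)) = k • D.qq := fun k => ZMod.lift_coe _ _ k
  have he : e ((2 : ℕ) : ZMod (2 * 2)) = D.hh := by
    rw [show ((2 : ℕ) : ZMod (2 * 2)) = ((2 : ℤ) : ZMod (2 * 2)) by norm_num, ev, two_zsmul, qq_add]
  have hinj : Function.Injective e := by
    rw [injective_iff_map_eq_zero]
    intro i hi
    obtain ⟨k, rfl⟩ := ZMod.intCast_surjective i
    rw [ev] at hi
    rw [ZMod.intCast_zmod_eq_zero_iff_dvd]
    have ho : addOrderOf D.qq = 2 ^ (1 + 1) := by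
      haveI : Fact (Nat.Prime 2) := ⟨Nat.prime_two⟩
      refine addOrderOf_eq_prime_pow ?_ ?_
      · rw [pow_one, two_nsmul, qq_add]; exact D.hh_ne
      · rw [pow_succ, pow_one, mul_nsmul, two_nsmul, two_nsmul, qq_add, hh_add]
    have := addOrderOf_dvd_iff_zsmul_eq_zero.2 hi
    rw [ho] at this
    exact_mod_cast this
  set φ := D.quatHom e he
  have hφ : Function.Injective φ := D.quatHom_injective e he hinj
  have h1 : D.el D.qq (-D.qq) ∈ φ.range := ⟨.a 1, by
    show D.el (e 1) (-(e 1)) = _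
    rw [show (1 : ZMod (2 * 2)) = ((1 : ℤ) : ZMod (2 * 2)) by norm_num, ev, one_zsmul]⟩
  have h2 : D.ot D.hh 0 ∈ φ.range := ⟨.xa 0, by
    show D.ot (D.hh - e 0) (e 0) = _
    rw [map_zero, sub_zero]⟩
  refine ⟨φ.range, ⟨(MonoidHom.ofInjective hφ).symm⟩, le_antisymm ?_ (sup_le ?_ ?_),
    (by rintro _ ⟨t, rfl⟩; exact D.quatHom_mem_ker _ _ t), h1, h2⟩
  · set T := φ.range ⊔ Subgroup.center S
    have hc : ∀ c, D.el c c ∈ T := fun c => Subgroup.mem_sup_right (D.mem_center_iff.2 ⟨c, rfl⟩)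
    have hel : ∀ a b, Half (a - b) → D.el a b ∈ T := by
      intro a b hab
      rcases D.double_zero hab with e' | e'
      · rw [sub_eq_zero.1 e']; exact hc _
      · have h := T.mul_mem (T.mul_mem (Subgroup.mem_sup_left h1) (hc D.qq)) (hc b)
        rwa [el_mul, el_mul, qq_add, ← e', sub_add_cancel, neg_add_cancel, zero_add] at h
    rintro _ (⟨a, b, hab, rfl⟩ | ⟨a, b, hab, rfl⟩)
    · exact hel a b hab
    · have h := T.mul_mem (hel (a - D.hh) b (by rw [show a - D.hh - b = a - b - D.hh by ring]; exact half_sub hab D.half_hh))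
        (Subgroup.mem_sup_left h2)
      rwa [el_mul_ot, sub_add_cancel, add_zero] at h
  · rintro _ ⟨t, rfl⟩
    have hk : ∀ i : ZMod (2 * 2), Half (e i + e i) := fun i => by
      obtain ⟨k, rfl⟩ := ZMod.intCast_surjective i
      rw [ev]; unfold Half
      rw [← smul_add, ← smul_add, qq_add, hh_add, smul_zero]
    rcases t with i | i
    · exact D.el_mem_V.2 (by rw [sub_neg_eq_add]; exact hk i)
    · exact D.ot_mem_V.2 (by rw [show D.hh - e i - e i = D.hh - (e i + e i) by ring]; exact half_sub D.half_hh (hk i))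
  · intro g hg
    obtain ⟨c, rfl⟩ := D.mem_center_iff.1 hg
    exact D.zc_mem_center_el c

/-- Any quaternion subgroup of order eight gives a conjugate of `V`. -/
theorem quat_sup_center {Q : Subgroup S} (e : Q ≃* QuaternionGroup 2) :
    ∃ c, ∀ g, g ∈ Q ⊔ Subgroup.center S ↔ (D.el c 0)⁻¹ * g * D.el c 0 ∈ D.V := by
  set T := Q ⊔ Subgroup.center S with hT
  have hcc : ∀ c, D.el c c ∈ T := fun c => Subgroup.mem_sup_right (D.mem_center_iff.2 ⟨c, rfl⟩)
  have hQ := D.quaternion_le le_rfl e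
  have hexp : ∀ u ∈ Q, u ^ 4 = 1 := by
    intro u hu
    have h4 : ∀ q : QuaternionGroup 2, q ^ 4 = 1 := by decide
    exact congrArg Subtype.val (e.injective (by rw [map_pow, h4, map_one]) : (⟨u, hu⟩ : Q) ^ 4 = 1)
  have hU : ∀ p r, D.el p r ∈ Q → Half (p - r) := by
    intro p r h
    have h4 := hexp _ h
    rw [el_pow, el_eq_one] at h4
    have hs := D.el_mem_ker_sgh.1 (hQ h)
    unfold Half
    push_cast at h4
    linear_combination h4.1 - 2 * hs
  have hncomm : ∃ u ∈ Q, ∃ v ∈ Q, u * v ≠ v * u := by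
    by_contra hcon
    have h1 : (e.symm (.a 1) : Q) * e.symm (.xa 0) = e.symm (.xa 0) * e.symm (.a 1) := by
      by_contra hne
      exact hcon ⟨_, SetLike.coe_mem (e.symm (.a 1)), _, SetLike.coe_mem (e.symm (.xa 0)),
        fun h => hne (Subtype.ext h)⟩
    rw [← map_mul, ← map_mul] at h1
    exact absurd (e.symm.injective h1) (by decide)
  obtain ⟨a₀, b₀, hab⟩ : ∃ a b, D.ot a b ∈ Q := by
    by_contra hcon
    obtain ⟨u, hu, v, hv, huv⟩ := hncomm
    rcases D.cases u with ⟨p, r, rfl⟩ | ⟨p, r, rfl⟩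
    · rcases D.cases v with ⟨p', r', rfl⟩ | ⟨p', r', rfl⟩
      · exact huv (D.el_comm _ _ _ _)
      · exact hcon ⟨_, _, hv⟩
    · exact hcon ⟨_, _, hu⟩
  obtain rfl : b₀ = D.hh - a₀ := by linear_combination D.ot_mem_ker_sgh.1 (hQ hab)
  have hotp : ∀ a b, D.ot a b ∈ Q → Half (a - b - (a₀ + a₀)) := by
    intro a b h
    have h1 := hU _ _ (by simpa only [ot_mul_ot] using Q.mul_mem h hab)
    unfold Half at h1 ⊢
    linear_combination h1 - D.hh_add
  have hhT : D.el D.hh 0 ∈ T := by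
    obtain ⟨p, r, hpr, hne⟩ : ∃ p r, D.el p r ∈ Q ∧ p ≠ r := by
      obtain ⟨u, hu, v, hv, huv⟩ := hncomm
      rcases D.cases u with ⟨p, r, rfl⟩ | ⟨p, r, rfl⟩ <;> rcases D.cases v with ⟨p', r', rfl⟩ | ⟨p', r', rfl⟩
      · exact absurd (D.el_comm _ _ _ _) huv
      · exact ⟨p, r, hu, fun h => huv (D.el_commute_ot.2 h)⟩
      · exact ⟨p', r', hv, fun h => huv (D.el_commute_ot.2 h).symm⟩
      · refine ⟨p + r', r + p', by simpa only [ot_mul_ot] using Q.mul_mem hu hv, fun h => huv ?_⟩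
        exact D.ot_commute_ot.2 (by linear_combination h)
    rcases D.double_zero (hU p r hpr) with e' | e'
    · exact absurd (sub_eq_zero.1 e') hne
    · have h := T.mul_mem (Subgroup.mem_sup_left hpr) (hcc (-r))
      rwa [el_mul, add_neg_cancel, ← sub_eq_add_neg, e'] at h
  have mem_el : ∀ a b, Half (a - b) → D.el a b ∈ T := by
    intro a b h
    rcases D.double_zero h with e' | e'
    · rw [sub_eq_zero.1 e']; exact hcc _
    · have h' := T.mul_mem hhT (hcc b)
      rwa [el_mul, zero_add, ← e', sub_add_cancel] at h'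
  refine ⟨a₀, fun g => ⟨fun hg => ?_, fun hg => ?_⟩⟩
  · revert hg g
    let R : Subgroup S := D.V.comap (MulAut.conj (D.el a₀ 0)⁻¹).toMonoidHom
    have hRm : ∀ g, g ∈ R ↔ (D.el a₀ 0)⁻¹ * g * D.el a₀ 0 ∈ D.V := fun g => by
      show (D.el a₀ 0)⁻¹ * g * (D.el a₀ 0)⁻¹⁻¹ ∈ D.V ↔ _
      rw [inv_inv]
    suffices hle : T ≤ R from fun g hg => (hRm g).1 (hle hg)
    refine sup_le (fun g hg => (hRm g).2 ?_) fun g hg => (hRm g).2 ?_
    · rcases D.cases g with ⟨a, b, rfl⟩ | ⟨a, b, rfl⟩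
      · exact D.el_conj_mem_V_el.2 (hU a b hg)
      · exact D.el_conj_mem_V_ot.2 (hotp a b hg)
    · obtain ⟨c, rfl⟩ := D.mem_center_iff.1 hg
      exact D.el_conj_mem_V_el.2 (by simp [Half])
  · rcases D.cases g with ⟨a, b, rfl⟩ | ⟨a, b, rfl⟩
    · exact mem_el a b (D.el_conj_mem_V_el.1 hg)
    · have h := D.el_conj_mem_V_ot.1 hg
      have h' := T.mul_mem (mem_el (a - a₀) (b - (D.hh - a₀)) ?_) (Subgroup.mem_sup_left hab)
      · rwa [el_mul_ot, sub_add_cancel, sub_add_cancel] at h'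
      · rw [show a - a₀ - (b - (D.hh - a₀)) = a - b - (a₀ + a₀) + D.hh by ring]
        exact half_add h D.half_hh

theorem relIndex_U : D.U.relIndex (Subgroup.normalizer (D.U : Set S)) = 2 := by
  haveI := D.U_normal
  rw [Subgroup.normalizer_eq_top D.U, Subgroup.relIndex_top_right]
  have h := Subgroup.card_mul_index D.U
  rw [D.card_U, D.card_eq, pow_succ] at h
  exact Nat.eq_of_mul_eq_mul_left (by positivity) h

theorem relIndex_V : D.V.relIndex (Subgroup.normalizer (D.V : Set S)) = 2 := by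
  set N := Subgroup.normalizer (D.V : Set S)
  show (D.V.subgroupOf N).index = 2
  have helN : D.el D.qq 0 ∈ N := by
    refine Subgroup.mem_normalizer_iff.2 fun g => ?_
    rcases D.cases g with ⟨a, b, rfl⟩ | ⟨a, b, rfl⟩
    · rw [el_conj_el]
    · rw [el_conj_ot, ot_mem_V, ot_mem_V, sub_zero,
        show a + D.qq - (b + 0 - D.qq) = a - b + (D.qq + D.qq) by ring, qq_add]
      exact ⟨fun h => half_add h D.half_hh, fun h => by simpa using half_sub h D.half_hh⟩
  have hN : ∀ p r, (D.el p r ∈ N ∨ D.ot p r ∈ N) → Half ((p - r) + (p - r)) := by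
    intro p r hpr
    have h00 : D.ot 0 0 ∈ D.V := D.ot_mem_V.2 (by simp [Half])
    rcases hpr with h | h
    · have h1 := (Subgroup.mem_normalizer_iff.1 h _).1 h00
      rw [el_conj_ot, ot_mem_V] at h1
      rw [show (p - r) + (p - r) = 0 + p - r - (0 + r - p) by ring]; exact h1
    · have h1 := (Subgroup.mem_normalizer_iff.1 h _).1 h00
      rw [ot_conj_ot, ot_mem_V] at h1
      rw [show (p - r) + (p - r) = 0 + p - r - (0 + r - p) by ring]; exact h1
  have hq : ¬ Half D.qq := fun h => D.hh_ne (by rw [← qq_add]; exact h)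
  have hx : ∀ d : ZMod (2 ^ n), Half (d + d) → Xor (Half (d + D.qq)) (Half d) ∧ Xor (Half (d - D.qq)) (Half d) := by
    intro d hd
    by_cases h : Half d
    · exact ⟨Or.inr ⟨h, fun h' => hq (by simpa using half_sub h' h)⟩,
        Or.inr ⟨h, fun h' => hq (by simpa using half_sub h h')⟩⟩
    · rcases D.double_zero hd with e | e
      · exact absurd e h
      · exact ⟨Or.inl ⟨by unfold Half; linear_combination e + D.qq_add + D.hh_add, h⟩,
          Or.inl ⟨by unfold Half; linear_combination e - D.qq_add, h⟩⟩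
  refine Subgroup.index_eq_two_iff.2 ⟨⟨_, helN⟩, fun b => ?_⟩
  rw [Subgroup.mem_subgroupOf, Subgroup.mem_subgroupOf, Subgroup.coe_mul]
  obtain ⟨b, hb⟩ := b
  rcases D.cases b with ⟨p, r, rfl⟩ | ⟨p, r, rfl⟩
  · rw [el_mul, el_mem_V, el_mem_V, add_zero, show p + D.qq - r = p - r + D.qq by ring]
    exact (hx _ (hN p r (Or.inl hb))).1
  · rw [ot_mul_el, ot_mem_V, ot_mem_V, add_zero, show p - (r + D.qq) = p - r - D.qq by ring]
    exact (hx _ (hN p r (Or.inr hb))).2

omit [Finite S] in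
theorem eq_map_V {X : Subgroup S} {c : ZMod (2 ^ n)}
    (h : ∀ g, g ∈ X ↔ (D.el c 0)⁻¹ * g * D.el c 0 ∈ D.V) :
    X = D.V.map (MulAut.conj (D.el c 0)).toMonoidHom := by
  ext g
  rw [h]
  constructor
  · intro hg; exact ⟨_, hg, by simp [mul_assoc]⟩
  · rintro ⟨v, hv, rfl⟩; simpa [mul_assoc] using hv

theorem odd_aut {X : Subgroup S} (hA : ¬ IsPGroup 2 (MulAut X)) :
    ∃ f : S → S, OddAut X f ∧ ∃ x ∈ X, f x ≠ x := by
  classical
  haveI : Finite (MulAut X) := Finite.of_injective (fun φ : MulAut X => (φ : X → X)) DFunLike.coe_injective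
  obtain ⟨φ, hφ⟩ : ∃ φ : MulAut X, ∀ k, φ ^ 2 ^ k ≠ 1 := by
    by_contra hcon
    exact hA fun φ => by_contra fun h => hcon ⟨φ, fun k hk => h ⟨k, hk⟩⟩
  set k := (orderOf φ).factorization 2
  set ψ := φ ^ 2 ^ k with hψ
  have hodd : Odd (orderOf ψ) := by
    rw [hψ, orderOf_pow_of_dvd (pow_ne_zero _ two_ne_zero) (Nat.ordProj_dvd _ _)]
    exact Nat.coprime_two_left.1 (Nat.coprime_ordCompl Nat.prime_two (orderOf_pos φ).ne')
  let f : S → S := fun u => if hu : u ∈ X then ((ψ ⟨u, hu⟩ : X) : S) else u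
  have hf : ∀ (u : X), f u = ((ψ u : X) : S) := fun u => dif_pos u.2
  have hit : ∀ (j : ℕ) (u : X), f^[j] u = (((ψ ^ j) u : X) : S) := by
    intro j
    induction j with
    | zero => intro u; rfl
    | succ j ih => intro u; rw [Function.iterate_succ_apply', ih, hf, pow_succ']; rfl
  obtain ⟨m, hm⟩ := hodd
  refine ⟨f, ⟨fun a ha b hb => ?_, fun a ha => ?_, m, fun a ha => ?_⟩, ?_⟩
  · show f ((⟨a, ha⟩ * ⟨b, hb⟩ : X) : S) = f (⟨a, ha⟩ : X) * f (⟨b, hb⟩ : X)
    rw [hf, hf, hf, map_mul, Subgroup.coe_mul]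
  · show f (⟨a, ha⟩ : X) ∈ X
    rw [hf]; exact Subtype.mem _
  · show f^[2 * m + 1] (⟨a, ha⟩ : X) = a
    rw [hit, ← hm, pow_orderOf_eq_one]; rfl
  · by_contra hcon
    refine hφ k (MulEquiv.ext fun u => Subtype.ext ?_)
    have : f u = u := by_contra fun h => hcon ⟨u, u.2, h⟩
    rwa [hf] at this

theorem self_centralizing_aut {X : Subgroup S} (hC : Subgroup.centralizer (X : Set S) ≤ X)
    (hA : ¬ IsPGroup 2 (MulAut X)) :
    X.relIndex (Subgroup.normalizer (X : Set S)) = 2 ∧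
      ((IsMulCommutative X ∧ Nat.card X = 2 ^ (2 * n)) ∨
        ∃ Q : Subgroup S, Nonempty (Q ≃* QuaternionGroup 2) ∧ X = Q ⊔ Subgroup.center S) := by
  obtain ⟨f, hf, hne⟩ := D.odd_aut hA
  rcases D.centric_cases hC hf hne with rfl | ⟨-, c, hc⟩
  · exact ⟨D.relIndex_U, Or.inl ⟨D.U_abelian, D.card_U⟩⟩
  · obtain rfl := D.eq_map_V hc
    refine ⟨?_, Or.inr ?_⟩
    · rw [← Subgroup.map_equiv_normalizer_eq]
      exact (Subgroup.relIndex_map_map_of_injective _ _ (MulAut.conj _).injective).trans D.relIndex_V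
    · obtain ⟨Q, ⟨e⟩, hV, -⟩ := D.exists_quat
      refine ⟨Q.map (MulAut.conj (D.el c 0)).toMonoidHom,
        ⟨(Q.equivMapOfInjective _ (MulAut.conj _).injective).symm.trans e⟩, ?_⟩
      rw [hV, Subgroup.map_sup]
      congr 1
      ext g
      constructor
      · rintro ⟨v, hv, rfl⟩
        show D.el c 0 * v * (D.el c 0)⁻¹ ∈ Subgroup.center S
        rwa [Subgroup.mem_center_iff.1 hv (D.el c 0), mul_inv_cancel_right]
      · intro hg
        exact ⟨g, hg, by
          show D.el c 0 * g * (D.el c 0)⁻¹ = g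
          rw [Subgroup.mem_center_iff.1 hg (D.el c 0), mul_inv_cancel_right]⟩

theorem nonabelian_conj {X X' : Subgroup S} (hC : Subgroup.centralizer (X : Set S) ≤ X)
    (hA : ¬ IsPGroup 2 (MulAut X)) (hC' : Subgroup.centralizer (X' : Set S) ≤ X')
    (hA' : ¬ IsPGroup 2 (MulAut X')) (hn : ¬ IsMulCommutative X) (hn' : ¬ IsMulCommutative X') :
    ∃ s : S, X.map (MulAut.conj s).toMonoidHom = X' := by
  obtain ⟨f, hf, hne⟩ := D.odd_aut hA
  obtain ⟨f', hf', hne'⟩ := D.odd_aut hA'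
  rcases D.centric_cases hC hf hne with rfl | ⟨-, c, hc⟩
  · exact absurd D.U_abelian hn
  rcases D.centric_cases hC' hf' hne' with rfl | ⟨-, c', hc'⟩
  · exact absurd D.U_abelian hn'
  obtain rfl := D.eq_map_V hc
  obtain rfl := D.eq_map_V hc'
  refine ⟨D.el c' 0 * (D.el c 0)⁻¹, ?_⟩
  rw [Subgroup.map_map]
  congr 1
  ext g
  simp [mul_assoc]

end WData

end CfsgLib.Inv
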