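import Cfsg.Agent.Inv.Wreath
import Cfsg.Agent.Inv.OddAut
import Mathlib.GroupTheory.QuotientGroup.Basic
import Mathlib.GroupTheory.Commutator.Basic
import Mathlib.GroupTheory.Abelianization.Defs
import Mathlib.GroupTheory.SpecificGroups.Dihedral

/-!
Subgroups of a wreathed 2-group.
-/

set_option autoImplicit false

namespace CfsgLib.Inv.WData

variable {S : Type*} [Group S] {n : ℕ} (D : WData S n)

/-- The element of order two in the coordinate ring. -/
def hh (_D : WData S n) : ZMod (2 ^ n) := ((2 ^ (n - 1) : ℕ) : ZMod (2 ^ n))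

/-- An element whose double is `hh`. -/
def qq (_D : WData S n) : ZMod (2 ^ n) := ((2 ^ (n - 2) : ℕ) : ZMod (2 ^ n))

theorem hh_add : D.hh + D.hh = 0 := by
  rw [hh, ← Nat.cast_add, ZMod.natCast_eq_zero_iff, ← two_mul, ← pow_succ', Nat.sub_add_cancel (by have := D.two_le; omega)]

theorem qq_add : D.qq + D.qq = D.hh := by
  rw [qq, hh, ← Nat.cast_add, ← two_mul, ← pow_succ']
  congr 2
  have := D.two_le
  omega

theorem hh_neg : -D.hh = D.hh := neg_eq_of_add_eq_zero_right D.hh_add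

theorem hh_ne : D.hh ≠ 0 := by
  intro h
  rw [hh, ZMod.natCast_eq_zero_iff] at h
  have := Nat.le_of_dvd (by positivity) h
  have h2 : 2 ^ (n - 1) < 2 ^ n := Nat.pow_lt_pow_right one_lt_two (by have := D.two_le; omega)
  omega

theorem double_zero {a : ZMod (2 ^ n)} (h : a + a = 0) : a = 0 ∨ a = D.hh := by
  have hN : 2 ^ n = 2 * 2 ^ (n - 1) := by
    rw [← pow_succ', Nat.sub_add_cancel (by have := D.two_le; omega)]
  have hv := congrArg ZMod.val h
  rw [ZMod.val_add, ZMod.val_zero] at hv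
  obtain ⟨c, hc⟩ := Nat.dvd_of_mod_eq_zero hv
  have hlt := ZMod.val_lt a
  have hc' : a.val = 2 ^ (n - 1) * c := by
    have : 2 * a.val = 2 * (2 ^ (n - 1) * c) := by rw [← mul_assoc, ← hN, ← hc, two_mul]
    omega
  have hc2 : c < 2 := by
    by_contra hcon
    have : 2 ^ (n - 1) * 2 ≤ 2 ^ (n - 1) * c := Nat.mul_le_mul_left _ (by omega)
    omega
  interval_cases c
  · exact Or.inl ((ZMod.val_eq_zero a).1 (by rw [hc', mul_zero]))
  · right
    rw [mul_one] at hc'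
    rw [hh, ← hc', ZMod.natCast_zmod_val]

/-- The set `{0, h}` of coordinates killed by doubling. -/
def Half (a : ZMod (2 ^ n)) : Prop := a + a = 0

omit [Group S] in
theorem half_add {a b : ZMod (2 ^ n)} (ha : Half a) (hb : Half b) : Half (a + b) := by
  unfold Half at *; linear_combination ha + hb

omit [Group S] in
theorem half_sub {a b : ZMod (2 ^ n)} (ha : Half a) (hb : Half b) : Half (a - b) := by
  unfold Half at *; linear_combination ha - hb

theorem half_hh : Half D.hh := D.hh_add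

/-- `zc`, the central involution. -/
def zc : S := D.el D.hh D.hh

theorem el_pow (a b : ZMod (2 ^ n)) (k : ℕ) : D.el a b ^ k = D.el (k * a) (k * b) := by
  induction k with
  | zero => simp [el_zero]
  | succ k ih => rw [pow_succ, ih, el_mul]; congr 1 <;> push_cast <;> ring

theorem el_pow_order (a b : ZMod (2 ^ n)) : D.el a b ^ 2 ^ n = 1 := by
  rw [el_pow, ZMod.natCast_self, zero_mul, zero_mul, el_zero]

theorem el_comm (a b c d : ZMod (2 ^ n)) : D.el a b * D.el c d = D.el c d * D.el a b := by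
  rw [el_mul, el_mul, add_comm a, add_comm b]

theorem el_eq_one {a b : ZMod (2 ^ n)} : D.el a b = 1 ↔ a = 0 ∧ b = 0 := by
  refine ⟨fun h => D.el_inj (h.trans D.el_zero.symm), ?_⟩
  rintro ⟨rfl, rfl⟩; exact D.el_zero

theorem ot_ne_one (a b : ZMod (2 ^ n)) : D.ot a b ≠ 1 := by
  rw [← D.el_zero]; exact D.ot_ne_el _ _ _ _

theorem el_invol {a b : ZMod (2 ^ n)} : D.el a b * D.el a b = 1 ↔ Half a ∧ Half b := by
  rw [el_mul, el_eq_one]; rfl

theorem ot_invol {a b : ZMod (2 ^ n)} : D.ot a b * D.ot a b = 1 ↔ b = -a := by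
  rw [ot_mul_ot, el_eq_one]
  exact ⟨fun h => by linear_combination h.1, fun h => by subst h; constructor <;> ring⟩

theorem el_commute_ot {c d a b : ZMod (2 ^ n)} : D.el c d * D.ot a b = D.ot a b * D.el c d ↔ c = d := by
  rw [el_mul_ot, ot_mul_el]
  refine ⟨fun h => by linear_combination (D.ot_inj h).1, ?_⟩
  rintro rfl; congr 1 <;> ring

theorem ot_commute_ot {c d a b : ZMod (2 ^ n)} : D.ot c d * D.ot a b = D.ot a b * D.ot c d ↔ c - d = a - b := by
  rw [ot_mul_ot, ot_mul_ot]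
  refine ⟨fun h => by linear_combination (D.el_inj h).1, fun h => ?_⟩
  congr 1
  · linear_combination h
  · linear_combination -h

variable [Finite S]

theorem mem_center_iff {g : S} : g ∈ Subgroup.center S ↔ ∃ c, g = D.el c c := by
  constructor
  · intro hg
    rw [Subgroup.mem_center_iff] at hg
    rcases D.cases g with ⟨a, b, rfl⟩ | ⟨a, b, rfl⟩
    · have := D.el_commute_ot.1 (hg (D.ot 0 0)).symm
      exact ⟨a, by rw [this]⟩
    · exfalso
      have := D.el_commute_ot.1 (hg (D.el 1 0))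
      exact D.one_ne_zero' this
  · rintro ⟨c, rfl⟩
    rw [Subgroup.mem_center_iff]
    intro g
    rcases D.cases g with ⟨a, b, rfl⟩ | ⟨a, b, rfl⟩
    · exact D.el_comm _ _ _ _
    · exact (D.el_commute_ot.2 rfl).symm

/-- The abelian maximal subgroup. -/
def U : Subgroup S where
  carrier := {g | ∃ a b, g = D.el a b}
  one_mem' := ⟨0, 0, D.el_zero.symm⟩
  mul_mem' := by rintro _ _ ⟨a, b, rfl⟩ ⟨c, d, rfl⟩; exact ⟨a + c, b + d, D.el_mul _ _ _ _⟩
  inv_mem' := by rintro _ ⟨a, b, rfl⟩; exact ⟨-a, -b, D.el_inv _ _⟩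

theorem el_mem_U (a b : ZMod (2 ^ n)) : D.el a b ∈ D.U := ⟨a, b, rfl⟩

theorem ot_not_mem_U (a b : ZMod (2 ^ n)) : D.ot a b ∉ D.U := fun ⟨_, _, h⟩ => D.ot_ne_el _ _ _ _ h

theorem U_abelian : IsMulCommutative D.U :=
  ⟨⟨fun ⟨_, a, b, ha⟩ ⟨_, c, d, hc⟩ => Subtype.ext (by subst ha hc; exact D.el_comm _ _ _ _)⟩⟩

theorem U_normal : D.U.Normal := by
  refine ⟨?_⟩
  rintro _ ⟨a, b, rfl⟩ g
  rcases D.cases g with ⟨c, d, rfl⟩ | ⟨c, d, rfl⟩
  · rw [el_conj_el]; exact D.el_mem_U _ _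
  · rw [ot_conj_el]; exact D.el_mem_U _ _

/-- `U` as a product of two cyclic groups. -/
noncomputable def elHom : Multiplicative (ZMod (2 ^ n) × ZMod (2 ^ n)) →* S where
  toFun t := D.el t.toAdd.1 t.toAdd.2
  map_one' := D.el_zero
  map_mul' t u := (D.el_mul _ _ _ _).symm

omit [Finite S] in
theorem elHom_injective : Function.Injective D.elHom := fun t u h => by
  obtain ⟨h1, h2⟩ := D.el_inj h
  exact Multiplicative.toAdd.injective (Prod.ext h1 h2)

theorem U_equiv : Nonempty (D.U ≃* Multiplicative (ZMod (2 ^ n) × ZMod (2 ^ n))) := by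
  have hr : D.elHom.range = D.U := by
    ext g
    constructor
    · rintro ⟨t, rfl⟩; exact ⟨_, _, rfl⟩
    · rintro ⟨a, b, rfl⟩; exact ⟨Multiplicative.ofAdd (a, b), rfl⟩
  exact ⟨((MonoidHom.ofInjective D.elHom_injective).trans (MulEquiv.subgroupCongr hr)).symm⟩

theorem card_U : Nat.card D.U = 2 ^ (2 * n) := by
  obtain ⟨e⟩ := D.U_equiv
  rw [Nat.card_congr e.toEquiv, Nat.card_congr Multiplicative.toAdd, Nat.card_prod, Nat.card_zmod]
  ring

theorem eq_U {V : Subgroup S} (hV : IsMulCommutative V) (hc : Nat.card V = 2 ^ (2 * n)) : V = D.U := by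
  by_cases hle : V ≤ D.U
  · exact Subgroup.eq_of_le_of_card_ge hle (by rw [hc, D.card_U])
  exfalso
  obtain ⟨g, hgV, hgU⟩ := SetLike.not_le_iff_exists.1 hle
  rcases D.cases g with ⟨a, b, rfl⟩ | ⟨a, b, rfl⟩
  · exact hgU (D.el_mem_U _ _)
  have hcm : ∀ v ∈ V, v * D.ot a b = D.ot a b * v := fun v hv =>
    congrArg Subtype.val (hV.is_comm.comm (⟨v, hv⟩ : V) ⟨_, hgV⟩)
  let F : ZMod (2 ^ n) × Bool → S := fun t => bif t.2 then D.ot t.1 (t.1 - (a - b)) else D.el t.1 t.1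
  have hsub : (V : Set S) ⊆ Set.range F := by
    intro v hv
    rcases D.cases v with ⟨c, d, rfl⟩ | ⟨c, d, rfl⟩
    · obtain rfl := D.el_commute_ot.1 (hcm _ hv)
      exact ⟨(c, false), rfl⟩
    · have := D.ot_commute_ot.1 (hcm _ hv)
      refine ⟨(c, true), ?_⟩
      show D.ot c (c - (a - b)) = _
      rw [← this, sub_sub_cancel]
  have h1 : Nat.card V ≤ 2 ^ n * 2 := by
    have h2 := Set.ncard_le_ncard hsub (Set.finite_range F)
    rw [← Nat.card_coe_set_eq, ← Nat.card_coe_set_eq] at h2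
    refine h2.trans ((Finite.card_range_le F).trans ?_)
    rw [Nat.card_prod, Nat.card_zmod, Nat.card_eq_fintype_card, Fintype.card_bool]
  rw [hc, ← pow_succ] at h1
  have := (Nat.pow_le_pow_iff_right one_lt_two).1 h1
  have := D.two_le
  omega

/-- The sum of coordinates. -/
noncomputable def sg : S →* Multiplicative (ZMod (2 ^ n)) :=
  MonoidHom.mk' (fun g => Multiplicative.ofAdd (D.lift (fun a b => a + b) (fun a b => a + b) g)) (by
    intro g k
    rw [← ofAdd_add]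
    congr 1
    rcases D.cases g with ⟨a, b, rfl⟩ | ⟨a, b, rfl⟩ <;> rcases D.cases k with ⟨c, d, rfl⟩ | ⟨c, d, rfl⟩ <;>
      simp only [el_mul, el_mul_ot, ot_mul_el, ot_mul_ot, lift_el, lift_ot] <;> ring)

/-- The sum of coordinates shifted by `hh` outside `U`. -/
noncomputable def sgh : S →* Multiplicative (ZMod (2 ^ n)) :=
  MonoidHom.mk' (fun g => Multiplicative.ofAdd (D.lift (fun a b => a + b) (fun a b => a + b + D.hh) g)) (by
    intro g k
    rw [← ofAdd_add]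
    congr 1
    rcases D.cases g with ⟨a, b, rfl⟩ | ⟨a, b, rfl⟩ <;> rcases D.cases k with ⟨c, d, rfl⟩ | ⟨c, d, rfl⟩ <;>
      simp only [el_mul, el_mul_ot, ot_mul_el, ot_mul_ot, lift_el, lift_ot]
    · ring
    · ring
    · ring
    · linear_combination (-1 : ZMod (2 ^ n)) * D.hh_add)

theorem sg_el (a b : ZMod (2 ^ n)) : D.sg (D.el a b) = Multiplicative.ofAdd (a + b) := by
  show Multiplicative.ofAdd _ = _; rw [lift_el]

theorem sg_ot (a b : ZMod (2 ^ n)) : D.sg (D.ot a b) = Multiplicative.ofAdd (a + b) := by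
  show Multiplicative.ofAdd _ = _; rw [lift_ot]

theorem sgh_el (a b : ZMod (2 ^ n)) : D.sgh (D.el a b) = Multiplicative.ofAdd (a + b) := by
  show Multiplicative.ofAdd _ = _; rw [lift_el]

theorem sgh_ot (a b : ZMod (2 ^ n)) : D.sgh (D.ot a b) = Multiplicative.ofAdd (a + b + D.hh) := by
  show Multiplicative.ofAdd _ = _; rw [lift_ot]

theorem el_mem_ker_sgh {a b : ZMod (2 ^ n)} : D.el a b ∈ D.sgh.ker ↔ a + b = 0 := by
  rw [MonoidHom.mem_ker, sgh_el, ofAdd_eq_one]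

theorem ot_mem_ker_sgh {a b : ZMod (2 ^ n)} : D.ot a b ∈ D.sgh.ker ↔ a + b = D.hh := by
  rw [MonoidHom.mem_ker, sgh_ot, ofAdd_eq_one]
  exact ⟨fun h => by linear_combination h - D.hh_add, fun h => by linear_combination h + D.hh_add⟩

theorem sgh_surjective : Function.Surjective D.sgh := fun t =>
  ⟨D.el t.toAdd 0, by rw [sgh_el, add_zero, ofAdd_toAdd]⟩

theorem sg_surjective : Function.Surjective D.sg := fun t =>
  ⟨D.el t.toAdd 0, by rw [sg_el, add_zero, ofAdd_toAdd]⟩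

/-- The standard central product `Q Z`. -/
def V : Subgroup S where
  carrier := {g | (∃ a b, Half (a - b) ∧ g = D.el a b) ∨ ∃ a b, Half (a - b) ∧ g = D.ot a b}
  one_mem' := Or.inl ⟨0, 0, by simp [Half], D.el_zero.symm⟩
  mul_mem' := by
    rintro _ _ (⟨a, b, h, rfl⟩ | ⟨a, b, h, rfl⟩) (⟨c, d, h', rfl⟩ | ⟨c, d, h', rfl⟩)
    · refine Or.inl ⟨a + c, b + d, ?_, D.el_mul _ _ _ _⟩
      rw [show a + c - (b + d) = a - b + (c - d) by ring]; exact half_add h h'
    · refine Or.inr ⟨a + c, b + d, ?_, D.el_mul_ot _ _ _ _⟩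
      rw [show a + c - (b + d) = a - b + (c - d) by ring]; exact half_add h h'
    · refine Or.inr ⟨a + d, b + c, ?_, D.ot_mul_el _ _ _ _⟩
      rw [show a + d - (b + c) = a - b - (c - d) by ring]; exact half_sub h h'
    · refine Or.inl ⟨a + d, b + c, ?_, D.ot_mul_ot _ _ _ _⟩
      rw [show a + d - (b + c) = a - b - (c - d) by ring]; exact half_sub h h'
  inv_mem' := by
    rintro _ (⟨a, b, h, rfl⟩ | ⟨a, b, h, rfl⟩)
    · refine Or.inl ⟨-a, -b, ?_, D.el_inv _ _⟩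
      unfold Half at *; linear_combination -h
    · refine Or.inr ⟨-b, -a, ?_, D.ot_inv _ _⟩
      unfold Half at *; linear_combination h

omit [Finite S] in
theorem el_mem_V {a b : ZMod (2 ^ n)} : D.el a b ∈ D.V ↔ Half (a - b) := by
  refine ⟨?_, fun h => Or.inl ⟨a, b, h, rfl⟩⟩
  rintro (⟨c, d, h, e⟩ | ⟨c, d, h, e⟩)
  · obtain ⟨rfl, rfl⟩ := D.el_inj e; exact h
  · exact absurd e.symm (D.ot_ne_el _ _ _ _)

omit [Finite S] in
theorem ot_mem_V {a b : ZMod (2 ^ n)} : D.ot a b ∈ D.V ↔ Half (a - b) := by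
  refine ⟨?_, fun h => Or.inr ⟨a, b, h, rfl⟩⟩
  rintro (⟨c, d, h, e⟩ | ⟨c, d, h, e⟩)
  · exact absurd e (D.ot_ne_el _ _ _ _)
  · obtain ⟨rfl, rfl⟩ := D.ot_inj e; exact h

omit [Finite S] in
theorem el_conj_mem_V_el {c a b : ZMod (2 ^ n)} :
    (D.el c 0)⁻¹ * D.el a b * D.el c 0 ∈ D.V ↔ Half (a - b) := by
  rw [el_inv, el_mul, el_mul, el_mem_V]; ring_nf

omit [Finite S] in
theorem el_conj_mem_V_ot {c a b : ZMod (2 ^ n)} :
    (D.el c 0)⁻¹ * D.ot a b * D.el c 0 ∈ D.V ↔ Half (a - b - (c + c)) := by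
  rw [el_inv, el_mul_ot, ot_mul_el, ot_mem_V]; ring_nf

omit [Finite S] in
theorem zc_mem_center_el (c : ZMod (2 ^ n)) : D.el c c ∈ D.V := D.el_mem_V.2 (by simp [Half])

/-! ### Odd automorphisms -/

include D in
theorem pow_one_all (g : S) : ∃ e : ℕ, g ^ 2 ^ e = 1 :=
  ⟨2 * n + 1, by rw [← D.card_eq]; exact pow_card_eq_one'⟩

theorem fix_sub_U {X A : Subgroup S} {f : S → S} (h : OddAut X f) (hA : A ≤ X) (hAU : A ≤ D.U)
    (hfA : ∀ a ∈ A, f a ∈ A) (hzc : D.zc ∈ X) (hfz : f D.zc = D.zc) : ∀ a ∈ A, f a = a := by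
  refine h.fix_abelian hA hfA (fun a ha b hb => ?_) (fun a _ => D.pow_one_all a) ?_
  · exact congrArg Subtype.val (D.U_abelian.is_comm.comm (⟨a, hAU ha⟩ : D.U) ⟨b, hAU hb⟩)
  have cases4 : ∀ a ∈ A, a * a = 1 → a = 1 ∨ a = D.zc ∨ a = D.el D.hh 0 ∨ a = D.el 0 D.hh := by
    intro a ha h2
    obtain ⟨p, r, rfl⟩ := hAU ha
    obtain ⟨hp, hr⟩ := D.el_invol.1 h2
    rcases D.double_zero hp with rfl | rfl <;> rcases D.double_zero hr with rfl | rfl
    · exact Or.inl D.el_zero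
    · exact Or.inr (Or.inr (Or.inr rfl))
    · exact Or.inr (Or.inr (Or.inl rfl))
    · exact Or.inr (Or.inl rfl)
  have img : ∀ a ∈ A, a * a = 1 → a ≠ 1 → a ≠ D.zc → f a = D.el D.hh 0 ∨ f a = D.el 0 D.hh := by
    intro a ha h2 h1 hz
    rcases cases4 (f a) (hfA a ha) (by rw [← h.mul a (hA ha) a (hA ha), h2, h.map_one]) with e | e | e | e
    · exact absurd (h.inj (hA ha) X.one_mem (e.trans h.map_one.symm)) h1
    · exact absurd (h.inj (hA ha) hzc (e.trans hfz.symm)) hz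
    · exact Or.inl e
    · exact Or.inr e
  have hne1 : D.el D.hh 0 ≠ 1 := fun e => D.hh_ne (D.el_eq_one.1 e).1
  have hne2 : D.el 0 D.hh ≠ 1 := fun e => D.hh_ne (D.el_eq_one.1 e).2
  have hne1' : D.el D.hh 0 ≠ D.zc := fun e => D.hh_ne (D.el_inj e).2.symm
  have hne2' : D.el 0 D.hh ≠ D.zc := fun e => D.hh_ne (D.el_inj e).1.symm
  have s1 : D.el D.hh 0 * D.el D.hh 0 = 1 := D.el_invol.2 ⟨D.half_hh, by simp [Half]⟩
  have s2 : D.el 0 D.hh * D.el 0 D.hh = 1 := D.el_invol.2 ⟨by simp [Half], D.half_hh⟩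
  intro a ha h2
  rcases cases4 a ha h2 with rfl | rfl | rfl | rfl
  · exact h.map_one
  · exact hfz
  · exact h.fix_pair (hA ha) (img _ ha s1 hne1 hne1') fun e => img _ (e ▸ hfA _ ha) s2 hne2 hne2'
  · exact h.fix_pair (hA ha) (img _ ha s2 hne2 hne2').symm fun e => (img _ (e ▸ hfA _ ha) s1 hne1 hne1').symm

theorem center_sub_cases {X : Subgroup S} (hX : ¬ ∀ a ∈ X, ∀ b ∈ X, a * b = b * a) {v : S} (_hv : v ∈ X)
    (hc : ∀ a ∈ X, a * v = v * a) : ∃ c, v = D.el c c := by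
  rcases D.cases v with ⟨c, d, rfl⟩ | ⟨c, d, rfl⟩
  · by_cases hcd : c = d
    · exact ⟨c, by rw [hcd]⟩
    exfalso; apply hX
    intro a ha b hb
    rcases D.cases a with ⟨p, r, rfl⟩ | ⟨p, r, rfl⟩
    · rcases D.cases b with ⟨p', r', rfl⟩ | ⟨p', r', rfl⟩
      · exact D.el_comm _ _ _ _
      · exact absurd (D.el_commute_ot.1 (hc _ hb).symm) hcd
    · exact absurd (D.el_commute_ot.1 (hc _ ha).symm) hcd
  · exfalso; apply hX
    intro a ha b hb
    rcases D.cases a with ⟨p, r, rfl⟩ | ⟨p, r, rfl⟩ <;> rcases D.cases b with ⟨p', r', rfl⟩ | ⟨p', r', rfl⟩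
    · exact D.el_comm _ _ _ _
    · exact D.el_commute_ot.2 (D.el_commute_ot.1 (hc _ ha))
    · exact (D.el_commute_ot.2 (D.el_commute_ot.1 (hc _ hb))).symm
    · exact D.ot_commute_ot.2 ((D.ot_commute_ot.1 (hc _ ha)).trans (D.ot_commute_ot.1 (hc _ hb)).symm)

theorem diag_mem_of_centric {X : Subgroup S} (hC : Subgroup.centralizer (X : Set S) ≤ X) (c : ZMod (2 ^ n)) :
    D.el c c ∈ X :=
  hC (Subgroup.center_le_centralizer _ (D.mem_center_iff.2 ⟨c, rfl⟩))

/-- Self-centralizing subgroups with a nontrivial automorphism of odd order. -/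
theorem centric_cases {X : Subgroup S} (hC : Subgroup.centralizer (X : Set S) ≤ X) {f : S → S}
    (h : OddAut X f) (hne : ∃ x ∈ X, f x ≠ x) :
    X = D.U ∨ ((∃ a ∈ X, ∃ b ∈ X, a * b ≠ b * a) ∧
      ∃ c, ∀ g, g ∈ X ↔ (D.el c 0)⁻¹ * g * D.el c 0 ∈ D.V) := by
  by_cases hle : X ≤ D.U
  · left
    refine le_antisymm hle fun u hu => hC (Subgroup.mem_centralizer_iff.2 fun v hv => ?_)
    exact congrArg Subtype.val (D.U_abelian.is_comm.comm (⟨v, hle hv⟩ : D.U) ⟨u, hu⟩)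
  obtain ⟨g, hgX, hgU⟩ := SetLike.not_le_iff_exists.1 hle
  rcases D.cases g with ⟨a, b, rfl⟩ | ⟨a, b, rfl⟩
  · exact absurd (D.el_mem_U _ _) hgU
  have hzc : D.zc ∈ X := D.diag_mem_of_centric hC _
  have hzz : D.zc * D.zc = 1 := D.el_invol.2 ⟨D.half_hh, D.half_hh⟩
  have hzne : D.zc ≠ 1 := fun e => D.hh_ne (D.el_eq_one.1 e).1
  have diag_invol : ∀ u c, u = D.el c c → u * u = 1 → u ≠ 1 → u = D.zc := by
    rintro _ c rfl h2 h1
    rcases D.double_zero (D.el_invol.1 h2).1 with rfl | rfl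
    · exact absurd D.el_zero h1
    · rfl
  by_cases hab : ∀ u ∈ X, ∀ v ∈ X, u * v = v * u
  · exfalso
    obtain ⟨x, hx, hfx⟩ := hne
    apply hfx
    have shape : ∀ u ∈ X, (∃ c, u = D.el c c) ∨ ∃ c d, c - d = a - b ∧ u = D.ot c d := by
      intro u hu
      rcases D.cases u with ⟨c, d, rfl⟩ | ⟨c, d, rfl⟩
      · left
        obtain rfl := D.el_commute_ot.1 (hab _ hu _ hgX)
        exact ⟨c, rfl⟩
      · exact Or.inr ⟨c, d, D.ot_commute_ot.1 (hab _ hu _ hgX), rfl⟩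
    have hfz : f D.zc = D.zc := by
      have hw : D.el D.qq D.qq ∈ X := D.diag_mem_of_centric hC _
      have e : D.zc = D.el D.qq D.qq * D.el D.qq D.qq := by rw [el_mul, qq_add]; rfl
      have hsq : ∀ u ∈ X, ∃ c, u * u = D.el c c := by
        intro u hu
        rcases shape u hu with ⟨c, rfl⟩ | ⟨c, d, -, rfl⟩
        · exact ⟨c + c, D.el_mul _ _ _ _⟩
        · exact ⟨c + d, by rw [ot_mul_ot, add_comm d c]⟩
      obtain ⟨c, hc⟩ := hsq _ (h.maps _ hw)
      refine diag_invol _ c ?_ ?_ ?_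
      · rw [e, h.mul _ hw _ hw]; exact hc
      · rw [← h.mul _ hzc _ hzc, hzz, h.map_one]
      · exact fun e' => hzne (h.inj hzc X.one_mem (e'.trans h.map_one.symm))
    refine h.fix_abelian le_rfl h.maps hab (fun u _ => D.pow_one_all u) ?_ x hx
    intro u hu h2
    rcases shape u hu with ⟨c, hc⟩ | ⟨c, d, hcd, rfl⟩
    · rcases eq_or_ne u 1 with rfl | h1
      · exact h.map_one
      · rw [diag_invol u c hc h2 h1]; exact hfz
    · have hd := D.ot_invol.1 h2
      subst hd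
      have himg : ∀ v ∈ X, v * v = 1 → v ≠ 1 → v ≠ D.zc → v = D.ot c (-c) ∨ v = D.ot (c + D.hh) (-(c + D.hh)) := by
        intro v hv hv2 hv1 hvz
        rcases shape v hv with ⟨e, he⟩ | ⟨e, e', hee, rfl⟩
        · exact absurd (diag_invol v e he hv2 hv1) hvz
        · obtain rfl := D.ot_invol.1 hv2
          rcases D.double_zero (a := e - c) (by linear_combination hee - hcd) with h0 | h0
          · left; rw [sub_eq_zero.1 h0]
          · right; rw [show e = c + D.hh by rw [← h0]; ring]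
      have hnot : ∀ e : ZMod (2 ^ n), D.ot e (-e) ∈ X → f (D.ot e (-e)) * f (D.ot e (-e)) = 1 ∧
          f (D.ot e (-e)) ≠ 1 ∧ f (D.ot e (-e)) ≠ D.zc := fun e he =>
        ⟨by rw [← h.mul _ he _ he, D.ot_invol.2 rfl, h.map_one],
          fun e' => D.ot_ne_one _ _ (h.inj he X.one_mem (e'.trans h.map_one.symm)),
          fun e' => D.ot_ne_el _ _ _ _ (h.inj he hzc (e'.trans hfz.symm))⟩
      refine h.fix_pair hu (himg _ (h.maps _ hu) (hnot c hu).1 (hnot c hu).2.1 (hnot c hu).2.2) fun e => ?_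
      have hmem : D.ot (c + D.hh) (-(c + D.hh)) ∈ X := e ▸ h.maps _ hu
      exact himg _ (h.maps _ hmem) (hnot _ hmem).1 (hnot _ hmem).2.1 (hnot _ hmem).2.2
  right
  refine ⟨?_, ?_⟩
  · by_contra hcon
    exact hab fun u hu v hv => by_contra fun huv => hcon ⟨u, hu, v, hv, huv⟩
  -- the centre is invariant
  have hZf : ∀ c, ∃ e, f (D.el c c) = D.el e e := by
    intro c
    have hc := D.diag_mem_of_centric hC c
    refine D.center_sub_cases hab (h.maps _ hc) fun u hu => ?_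
    obtain ⟨v, hv, rfl⟩ := h.surj hu
    rw [← h.mul _ hv _ hc, ← h.mul _ hc _ hv, (Subgroup.mem_center_iff.1 (D.mem_center_iff.2 ⟨c, rfl⟩) v)]
  have hfz : f D.zc = D.zc := by
    obtain ⟨e, he⟩ := hZf D.hh
    exact diag_invol _ e he (by rw [← h.mul _ hzc _ hzc, hzz, h.map_one])
      fun e' => hzne (h.inj hzc X.one_mem (e'.trans h.map_one.symm))
  by_cases hA : ∀ u ∈ X ⊓ D.U, f u ∈ D.U
  · exfalso
    have hfix : ∀ u ∈ X ⊓ D.U, f u = u := D.fix_sub_U h inf_le_left inf_le_right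
      (fun u hu => ⟨h.maps _ hu.1, hA u hu⟩) hzc hfz
    obtain ⟨x, hx, hfx⟩ := hne
    apply hfx
    by_cases hxU : x ∈ D.U
    · exact hfix x ⟨hx, hxU⟩
    have hfxU : f x ∉ D.U := fun hmem => hxU (by
      rw [← h.inj (h.maps _ hx) hx (hfix _ ⟨h.maps _ hx, hmem⟩)]; exact hmem)
    have hi : f x * x⁻¹ ∈ X ⊓ D.U := by
      refine ⟨X.mul_mem (h.maps _ hx) (X.inv_mem hx), ?_⟩
      rcases D.cases x with ⟨p, r, rfl⟩ | ⟨p, r, e⟩
      · exact absurd (D.el_mem_U _ _) hxU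
      rcases D.cases (f x) with ⟨p', r', e'⟩ | ⟨p', r', e'⟩
      · exact absurd (e' ▸ D.el_mem_U _ _) hfxU
      rw [e', e, ot_inv, ot_mul_ot]
      exact D.el_mem_U _ _
    obtain ⟨e, he⟩ := D.pow_one_all (f x * x⁻¹)
    exact h.fix_step hx hi.1 (hfix _ hi) (inv_mul_cancel_right _ _).symm he
  obtain ⟨u₀, hu₀, hu₀U⟩ : ∃ u ∈ X ⊓ D.U, f u ∉ D.U := by
    by_contra hcon; exact hA fun u hu => by_contra fun h' => hcon ⟨u, hu, h'⟩
  obtain ⟨p₀, r₀, hb⟩ : ∃ p r, f u₀ = D.ot p r := (D.cases (f u₀)).resolve_left fun ⟨_, _, e⟩ => hu₀U (e ▸ D.el_mem_U _ _)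
  have hcomm : ∀ u ∈ X ⊓ D.U, f u * f u₀ = f u₀ * f u := by
    intro u hu
    rw [← h.mul _ hu.1 _ hu₀.1, ← h.mul _ hu₀.1 _ hu.1]
    exact congrArg f (congrArg Subtype.val (D.U_abelian.is_comm.comm (⟨u, hu.2⟩ : D.U) ⟨u₀, hu₀.2⟩))
  have hhalf : ∀ c d, D.el c d ∈ X → Half (c - d) := by
    intro c d hcd
    have hsq : ∃ e, f (D.el c d * D.el c d) = D.el e e := by
      rw [h.mul _ hcd _ hcd]
      have hcm := hcomm _ ⟨hcd, D.el_mem_U c d⟩
      rcases D.cases (f (D.el c d)) with ⟨p, r, e⟩ | ⟨p, r, e⟩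
      · rw [e, hb] at hcm
        obtain rfl := D.el_commute_ot.1 hcm
        exact ⟨p + p, by rw [e, el_mul]⟩
      · exact ⟨p + r, by rw [e, ot_mul_ot, add_comm r p]⟩
    obtain ⟨e, he⟩ := hsq
    obtain ⟨u, hu, hfu⟩ := h.surj (D.diag_mem_of_centric hC e)
    have hu' : ∃ e', u = D.el e' e' := by
      refine D.center_sub_cases hab hu fun v hv => ?_
      refine h.inj (X.mul_mem hv hu) (X.mul_mem hu hv) ?_
      rw [h.mul _ hv _ hu, h.mul _ hu _ hv, hfu]
      exact Subgroup.mem_center_iff.1 (D.mem_center_iff.2 ⟨e, rfl⟩) _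
    obtain ⟨e', he'⟩ := hu'
    have hmem : D.el c d * D.el c d ∈ X := X.mul_mem hcd hcd
    have := h.inj hmem hu (he.trans hfu.symm)
    rw [he', el_mul] at this
    obtain ⟨q1, q2⟩ := D.el_inj this
    unfold Half; linear_combination q1 - q2
  have hh0 : D.el D.hh 0 ∈ X := by
    obtain ⟨c, d, hcd⟩ := hu₀.2
    have hne : c ≠ d := by
      rintro rfl
      obtain ⟨e, he⟩ := hZf c
      rw [← hcd, hb] at he
      exact D.ot_ne_el _ _ _ _ he
    have : D.el c d * D.el (-d) (-d) ∈ X := X.mul_mem (hcd ▸ hu₀.1) (D.diag_mem_of_centric hC _)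
    rw [el_mul, add_neg_cancel] at this
    rcases D.double_zero (hhalf c d (hcd ▸ hu₀.1)) with e | e
    · exact absurd (sub_eq_zero.1 e) hne
    · rwa [show c + -d = D.hh by rw [← e]; ring] at this
  obtain ⟨t, ht⟩ : ∃ t, D.ot t (-t) ∈ X := by
    have hcm := hcomm _ ⟨hh0, D.el_mem_U _ _⟩
    have h2 : f (D.el D.hh 0) * f (D.el D.hh 0) = 1 := by
      rw [← h.mul _ hh0 _ hh0, D.el_invol.2 ⟨D.half_hh, by simp [Half]⟩, h.map_one]
    rcases D.cases (f (D.el D.hh 0)) with ⟨p, r, e⟩ | ⟨p, r, e⟩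
    · exfalso
      rw [e, hb] at hcm
      obtain rfl := D.el_commute_ot.1 hcm
      have h1 : f (D.el D.hh 0) ≠ 1 := fun e' => D.hh_ne
        (D.el_eq_one.1 (h.inj hh0 X.one_mem (e'.trans h.map_one.symm))).1
      have := h.inj hh0 hzc ((diag_invol _ p e h2 h1).trans hfz.symm)
      exact D.hh_ne (D.el_inj this).2.symm
    · rw [e] at h2
      obtain rfl := D.ot_invol.1 h2
      exact ⟨p, e ▸ h.maps _ hh0⟩
  refine ⟨t, fun u => ?_⟩
  have mem_el : ∀ c d, Half (c - d) → D.el c d ∈ X := by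
    intro c d hcd
    rcases D.double_zero hcd with e | e
    · rw [sub_eq_zero.1 e]; exact D.diag_mem_of_centric hC _
    · have : D.el D.hh 0 * D.el d d ∈ X := X.mul_mem hh0 (D.diag_mem_of_centric hC _)
      rwa [el_mul, zero_add, ← e, sub_add_cancel] at this
  rcases D.cases u with ⟨c, d, rfl⟩ | ⟨c, d, rfl⟩
  · rw [el_conj_mem_V_el]
    exact ⟨hhalf c d, mem_el c d⟩
  · rw [el_conj_mem_V_ot]
    constructor
    · intro hu
      have h1 := X.mul_mem hu ht
      rw [ot_mul_ot] at h1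
      have := hhalf _ _ h1
      rwa [show c + -t - (d + t) = c - d - (t + t) by ring] at this
    · intro hu
      have h1 : D.el (c - t) (d + t) ∈ X := mem_el _ _ (by rwa [show c - t - (d + t) = c - d - (t + t) by ring])
      have h2 := X.mul_mem h1 ht
      rw [el_mul_ot] at h2
      rwa [sub_add_cancel, add_assoc, add_neg_cancel, add_zero] at h2

end CfsgLib.Inv.WData
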