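import Cfsg.Agent.Inv.FrakM
import Cfsg.Agent.Solv.Generation
import Mathlib.Tactic

/-! `Y_H` and subnormal subgroups. -/

set_option autoImplicit false
set_option linter.style.haveILetI false

namespace CfsgLib.Inv.FM

open Cfsg CfsgLib.Inv
open scoped commutatorElement

variable {G : Type*} [Group G] [Finite G] {p : ℕ} [hp : Fact p.Prime]

theorem largestPReducedOf_top : largestPReducedOf p (⊤ : Subgroup G) = largestPReduced p G := by
  obtain ⟨hY, hmax⟩ := largestPReduced_spec (G := G) (p := p)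
  obtain ⟨hn, he, hN⟩ := reduced_iff.1 hY
  have h2 : RedIn p ⊤ (largestPReducedOf p (⊤ : Subgroup G)) := red_largest ⊤
  refine le_antisymm (hmax _ (reduced_iff.2 ?_)) (red_le le_top
    ⟨he, by rw [Subgroup.normalizer_eq_top], fun N _ hn' hel =>
      reduced_le hY (Subgroup.normalizer_eq_top_iff.1 (top_le_iff.1 hn')) hel⟩)
  obtain ⟨he', hn', hN'⟩ := h2
  exact ⟨Subgroup.normalizer_eq_top_iff.1 (top_le_iff.1 hn'), he', fun N hNn _ hel =>
    hN' N le_top (by haveI := hNn; rw [Subgroup.normalizer_eq_top]) hel⟩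

theorem exists_fixed_pgroup {V R : Subgroup G} (hV : IsPGroup p V) (hV1 : V ≠ ⊥) (hR : IsPGroup p R)
    (hRV : R ≤ Subgroup.normalizer (V : Set G)) : ∃ v ∈ V, v ≠ 1 ∧ ∀ r ∈ R, r * v = v * r := by
  have hX : IsPGroup p ↥(V ⊔ R) := hV.to_sup_of_normal_left' hR hRV
  haveI : (V.subgroupOf (V ⊔ R)).Normal :=
    (Subgroup.normal_subgroupOf_iff_le_normalizer le_sup_left).2 (sup_le Subgroup.le_normalizer hRV)
  have hne : V.subgroupOf (V ⊔ R) ≠ ⊥ := by
    intro h
    rw [Subgroup.subgroupOf_eq_bot, disjoint_iff, inf_eq_left.2 le_sup_left] at h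
    exact hV1 h
  obtain ⟨⟨⟨v, hvX⟩, hv⟩, hv1⟩ := Subgroup.ne_bot_iff_exists_ne_one.1 (CfsgLib.Perm.inf_center_ne_bot hX _ hne)
  obtain ⟨hvV, hvc⟩ := Subgroup.mem_inf.1 hv
  exact ⟨v, hvV, fun h => hv1 (Subtype.ext (Subtype.ext h)),
    fun r hr => congrArg Subtype.val (Subgroup.mem_center_iff.1 hvc ⟨r, Subgroup.mem_sup_right hr⟩)⟩

/-- Conjugates of `p`-reduced subgroups. -/
theorem largest_conj_le {L M : Subgroup G} (hn : M ≤ Subgroup.normalizer (L : Set G)) :
    M ≤ Subgroup.normalizer (largestPReducedOf p L : Set G) := by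
  rw [CfsgLib.Solv.le_normalizer_iff_forall_conj_mem]
  intro m hm y hy
  set Y := largestPReducedOf p L with hY
  obtain ⟨⟨hc, hexp⟩, hLY, hN⟩ := red_largest (p := p) L
  have hL : ∀ x ∈ L, m * x * m⁻¹ ∈ L ∧ m⁻¹ * x * m ∈ L := fun x hx =>
    ⟨(Subgroup.mem_normalizer_iff.1 (hn hm) x).1 hx, (Subgroup.mem_normalizer_iff''.1 (hn hm) x).1 hx⟩
  refine red_le (L := L) (Y := Y.map (MulAut.conj m).toMonoidHom) ?_ ⟨⟨⟨⟨?_⟩⟩, ?_⟩, ?_, ?_⟩
    ⟨y, hy, by simp⟩
  · rintro _ ⟨v, hv, rfl⟩; exact (hL v (Subgroup.map_subtype_le _ hv)).1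
  · rintro ⟨_, a, ha, rfl⟩ ⟨_, b, hb, rfl⟩
    exact Subtype.ext (by
      simp only [Subgroup.coe_mul, ← map_mul]
      exact congrArg _ (congrArg Subtype.val (hc.is_comm.comm (⟨a, ha⟩ : Y) ⟨b, hb⟩)))
  · rintro _ ⟨a, ha, rfl⟩; rw [← map_pow, hexp a ha, map_one]
  · rw [CfsgLib.Solv.le_normalizer_iff_forall_conj_mem]
    rintro l hl _ ⟨a, ha, rfl⟩
    refine ⟨(m⁻¹ * l * m) * a * (m⁻¹ * l * m)⁻¹,
      (Subgroup.mem_normalizer_iff.1 (hLY (hL l hl).2) a).1 ha, by simp [mul_assoc]⟩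
  · intro N hNL hnN hel x hx
    set N' := N.map (MulAut.conj m⁻¹).toMonoidHom with hN'
    have h1 : N' ≤ Subgroup.centralizer (Y : Set G) := by
      refine hN N' ?_ ?_ ?_
      · rintro _ ⟨n, hnn, rfl⟩; simpa using (hL n (hNL hnn)).2
      · rw [CfsgLib.Solv.le_normalizer_iff_forall_conj_mem]
        rintro l hl _ ⟨n, hnn, rfl⟩
        refine ⟨(m * l * m⁻¹) * n * (m * l * m⁻¹)⁻¹,
          (Subgroup.mem_normalizer_iff.1 (hnN (hL l hl).1) n).1 hnn, by simp [mul_assoc]⟩
      · rintro _ ⟨n, hnn, rfl⟩ hno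
        have hno' : (orderOf n).Coprime p := by
          rwa [MulEquiv.coe_toMonoidHom, MulEquiv.orderOf_eq] at hno
        have h2 := hel n hnn hno'
        refine Subgroup.mem_centralizer_iff.2 fun a ha => ?_
        have h3 := Subgroup.mem_centralizer_iff.1 h2 (m * a * m⁻¹) ⟨a, ha, by simp⟩
        simp only [MulEquiv.coe_toMonoidHom, MulAut.conj_apply, inv_inv]
        calc a * (m⁻¹ * n * m) = m⁻¹ * (m * a * m⁻¹ * n) * m := by group
          _ = m⁻¹ * (n * (m * a * m⁻¹)) * m := by rw [h3]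
          _ = _ := by group
    refine mem_centralizer_conj (h1 ⟨x, hx, ?_⟩)
    simp [mul_assoc]

/-- For `L ⊴ M`, `C_L(Y_M) ≤ C(Y_L)`. -/
theorem normal_step {L M : Subgroup G} (hLM : L ≤ M) (hn : M ≤ Subgroup.normalizer (L : Set G)) :
    L ⊓ Subgroup.centralizer (largestPReducedOf p M : Set G) ≤
      Subgroup.centralizer (largestPReducedOf p L : Set G) := by
  suffices key : ∀ (k : ℕ) (U : Subgroup G), Nat.card U ≤ k → U ≤ largestPReducedOf p L →
      M ≤ Subgroup.normalizer (U : Set G) → RedIn p L U →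
      L ⊓ Subgroup.centralizer (U : Set G) ≤ Subgroup.centralizer (largestPReducedOf p L : Set G) →
      L ⊓ Subgroup.centralizer (largestPReducedOf p M : Set G) ≤
        Subgroup.centralizer (largestPReducedOf p L : Set G) from
    key _ _ le_rfl le_rfl (largest_conj_le hn) (red_largest L) inf_le_right
  intro k
  induction k with
  | zero => intro U hU _ _ _ _; exact absurd hU (not_le.2 Nat.card_pos)
  | succ k ih =>
    intro U hUk hUY hMU hred hU
    by_cases hM : RedIn p M U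
    · refine le_trans (inf_le_inf_left L (Subgroup.centralizer_le (SetLike.coe_subset_coe.2 ?_))) hU
      exact red_le (hUY.trans ((Subgroup.map_subtype_le _).trans hLM)) hM
    obtain ⟨N, hNM, hnN, hel, hNU⟩ : ∃ N : Subgroup G, N ≤ M ∧ M ≤ Subgroup.normalizer (N : Set G) ∧
        (∀ x ∈ N, (orderOf x).Coprime p → x ∈ Subgroup.centralizer (U : Set G)) ∧
        ¬ N ≤ Subgroup.centralizer (U : Set G) := by
      by_contra h
      push Not at h
      exact hM ⟨hred.1, hMU, h⟩
    obtain ⟨hc, hexp⟩ := hred.1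
    set U1 := U ⊓ Subgroup.centralizer (N : Set G) with hU1
    have hlt : Nat.card U1 < Nat.card U := by
      refine lt_of_le_of_ne (Nat.le_of_dvd Nat.card_pos (Subgroup.card_dvd_of_le inf_le_left)) fun e => hNU ?_
      have h := Subgroup.eq_of_le_of_card_ge (inf_le_left : U1 ≤ U) e.ge
      exact Subgroup.le_centralizer_iff.1 (h.ge.trans inf_le_right)
    have hMU1 : M ≤ Subgroup.normalizer (U1 : Set G) :=
      CfsgLib.Solv.le_normalizer_inf_of_le hMU (centralizer_normal_in hnN)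
    have hcom : ∀ n ∈ N, ∀ x ∈ L, ⁅n, x⁆ ∈ Subgroup.centralizer (U : Set G) := by
      intro n hn' x hx
      refine hred.2.2 (L ⊓ N) inf_le_left (CfsgLib.Solv.le_normalizer_inf_of_le Subgroup.le_normalizer (hLM.trans hnN))
        (fun y hy hyo => hel y (Subgroup.mem_inf.1 hy).2 hyo) ?_
      exact Subgroup.mem_inf.2 ⟨comm_mem_right hx (hn (hNM hn')), comm_mem_left hn' (hnN (hLM hx))⟩
    have hkey : ∀ x ∈ L, (orderOf x).Coprime p → x ∈ Subgroup.centralizer (U1 : Set G) →
        x ∈ Subgroup.centralizer (U : Set G) := by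
      intro x hx hxo hxU
      set Z := Subgroup.zpowers x with hZ
      have hZU : Z ≤ Subgroup.normalizer (U : Set G) := Subgroup.zpowers_le.2 (hMU (hLM hx))
      have hUp : IsPGroup p U := fun u => ⟨1, Subtype.ext (by simpa using hexp u u.2)⟩
      have hcop : (Nat.card Z).Coprime (Nat.card U) := by
        obtain ⟨a, ha⟩ := IsPGroup.iff_card.1 hUp
        rw [ha, hZ, Nat.card_zpowers]; exact hxo.pow_right a
      set V := ⁅U, Z⁆ with hV
      by_contra hxC
      have hV1 : V ≠ ⊥ := fun h => hxC (by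
        rw [hV, Subgroup.commutator_eq_bot_iff_le_centralizer, Subgroup.le_centralizer_iff] at h
        exact h (Subgroup.mem_zpowers x))
      have hVU : V ≤ U := CfsgLib.Solv.commutator_le_of_le_normalizer hZU
      obtain ⟨R⟩ : Nonempty (Sylow p N) := inferInstance
      set R' := (R : Subgroup N).map N.subtype with hR'
      have hR'N : R' ≤ N := Subgroup.map_subtype_le _
      have hRV : R' ≤ Subgroup.normalizer (V : Set G) := by
        rw [CfsgLib.Solv.le_normalizer_iff_forall_conj_mem]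
        intro r hr v hv
        suffices h : V ≤ V.comap (MulAut.conj r).toMonoidHom by simpa using h hv
        rw [hV, Subgroup.commutator_le]
        rintro u hu _ ⟨i, rfl⟩
        have hc' := hcom r (hR'N hr) (x ^ i) (zpow_mem hx i)
        have hu' := (Subgroup.mem_normalizer_iff.1 (hMU (hNM (hR'N hr))) u).1 hu
        show r * ⁅u, x ^ i⁆ * r⁻¹ ∈ ⁅U, Z⁆
        have e : r * ⁅u, x ^ i⁆ * r⁻¹ = ⁅r * u * r⁻¹, x ^ i⁆ := by
          have hu'' : x ^ i * (r * u * r⁻¹)⁻¹ * (x ^ i)⁻¹ ∈ U :=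
            (Subgroup.mem_normalizer_iff.1 (hMU (hLM (zpow_mem hx i))) _).1 (inv_mem hu')
          have h2 := Subgroup.mem_centralizer_iff.1 hc' _ hu''
          calc r * ⁅u, x ^ i⁆ * r⁻¹
              = (r * u * r⁻¹) * (⁅r, x ^ i⁆ * (x ^ i * (r * u * r⁻¹)⁻¹ * (x ^ i)⁻¹) * ⁅r, x ^ i⁆⁻¹) := by
                simp only [commutatorElement_def]; group
            _ = (r * u * r⁻¹) * (x ^ i * (r * u * r⁻¹)⁻¹ * (x ^ i)⁻¹) := by rw [← h2, mul_inv_cancel_right]
            _ = _ := by simp only [commutatorElement_def]; group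
        rw [e]
        exact Subgroup.commutator_mem_commutator hu' (Subgroup.mem_zpowers_iff.2 ⟨i, rfl⟩)
      obtain ⟨v, hvV, hv1, hvR⟩ := exists_fixed_pgroup (hUp.to_le hVU) hV1 (R.2.map N.subtype) hRV
      have hvN : v ∈ Subgroup.centralizer (N : Set G) := by
        refine Subgroup.mem_centralizer_iff.2 fun n hn' => ?_
        obtain ⟨s, hs, c, hc', -, hsc⟩ := CfsgLib.Solv.exists_mul_of_pElements R hel hn'
        rw [← hsc]
        exact ((show Commute (s : G) v from hvR _ ⟨s, hs, rfl⟩).mul_left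
          (show Commute c v from (Subgroup.mem_centralizer_iff.1 hc' v (hVU hvV)).symm)).eq
      have h3 := CfsgLib.Solv.abelian_fixed_inf_commutator hc hZU hcop
      have hvx : v ∈ Subgroup.centralizer (Z : Set G) := by
        rw [Subgroup.mem_centralizer_iff]
        rintro _ ⟨i, rfl⟩
        exact ((show Commute v x from
          Subgroup.mem_centralizer_iff.1 hxU v (Subgroup.mem_inf.2 ⟨hVU hvV, hvN⟩)).zpow_right i).symm.eq
      exact hv1 (Subgroup.mem_bot.1 (h3 ▸ Subgroup.mem_inf.2 ⟨Subgroup.mem_inf.2 ⟨hVU hvV, hvx⟩, hvV⟩))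
    have hred1 : RedIn p L U1 := by
      refine ⟨⟨⟨⟨fun a b => Subtype.ext ?_⟩⟩, fun a ha => hexp a (Subgroup.mem_inf.1 ha).1⟩, hLM.trans hMU1,
        fun K hKL hnK helK => ?_⟩
      · have h := hc.is_comm.comm (⟨_, (Subgroup.mem_inf.1 a.2).1⟩ : U) ⟨_, (Subgroup.mem_inf.1 b.2).1⟩
        exact congrArg (Subtype.val : U → G) h
      · exact (hred.2.2 K hKL hnK fun y hy hyo => hkey y (hKL hy) hyo (helK y hy hyo)).trans
          (Subgroup.centralizer_le (SetLike.coe_subset_coe.2 inf_le_left))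
    refine ih U1 (by omega) (inf_le_left.trans hUY) hMU1 hred1 (le_trans (le_inf inf_le_left ?_) hU)
    exact hred.2.2 (L ⊓ Subgroup.centralizer (U1 : Set G)) inf_le_left
      (CfsgLib.Solv.le_normalizer_inf_of_le Subgroup.le_normalizer (centralizer_normal_in (hLM.trans hMU1)))
      fun y hy hyo => hkey y (Subgroup.mem_inf.1 hy).1 hyo (Subgroup.mem_inf.1 hy).2

theorem subnormal_le_centralizer {L : Subgroup G} (hL : L.IsSubnormal) :
    L ⊓ Subgroup.centralizer (largestPReduced p G : Set G) ≤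
      Subgroup.centralizer (largestPReducedOf p L : Set G) := by
  induction hL with
  | top => rw [largestPReducedOf_top]; exact inf_le_right
  | step K M hKM _ hn ih =>
    exact (le_inf inf_le_left ((inf_le_inf_right _ hKM).trans ih)).trans
      (normal_step hKM ((Subgroup.normal_subgroupOf_iff_le_normalizer hKM).1 hn))

theorem reduced_le_subnormal {V N : Subgroup G} (hV : IsPReducedNormal p V) (hN : N.IsSubnormal)
    (hel : ∀ x ∈ N, (orderOf x).Coprime p → x ∈ Subgroup.centralizer (V : Set G)) :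
    N ≤ Subgroup.centralizer (V : Set G) := by
  obtain ⟨hn, -, hCn, hcore⟩ := hV
  haveI := hCn
  set π := QuotientGroup.mk' (Subgroup.centralizer (V : Set G)) with hπ
  have hp' : IsPGroup p (N.map π) := by
    refine isPGroup_of_elements fun y hy hyo => ?_
    obtain ⟨x, hx, rfl⟩ := hy
    set a := (orderOf x).factorization p with ha
    have h1 : x ^ p ^ a ∈ Subgroup.centralizer (V : Set G) := by
      refine hel _ (pow_mem hx _) ?_
      rw [orderOf_pow_of_dvd (pow_ne_zero _ hp.out.ne_zero) (Nat.ordProj_dvd _ _)]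
      exact (Nat.coprime_ordCompl hp.out (orderOf_pos x).ne').symm
    have h2 : (π x) ^ p ^ a = 1 := by
      rw [← map_pow, hπ, QuotientGroup.mk'_apply, QuotientGroup.eq_one_iff]; exact h1
    exact orderOf_eq_one_iff.1 (Nat.eq_one_of_dvd_coprimes (hyo.pow_right a) dvd_rfl
      (orderOf_dvd_of_pow_eq_one h2))
  have hmap : (N.map π).IsSubnormal := hN.map (QuotientGroup.mk'_surjective _)
  have h := subnormal_pgroup_le_pCore hmap hp'
  rw [hcore, le_bot_iff, Subgroup.map_eq_bot_iff, hπ, QuotientGroup.ker_mk'] at h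
  exact h

end CfsgLib.Inv.FM
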