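import Cfsg.Agent.Inv.Replacement
import Cfsg.Agent.Solv.ThompsonSubgroup
import Cfsg.Agent.Solv.PGroups
import Cfsg.Agent.Solv.ClassTwo
import Cfsg.Agent.Fus.FunctorCore
import Cfsg.Prelude.Def_PLocal
import Cfsg.Prelude.Def_TwoFusion

/-!
Glauberman's ZJ theorem: in a group of characteristic `p`, `p` odd, acting `p`-stably on its normal `p`-subgroups, the
center of the Thompson subgroup of a strongly closed subgroup of a Sylow subgroup is normal, for both Thompson
subgroups (abelian `e = 0`, elementary abelian `e = p`).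
-/

set_option autoImplicit false
set_option linter.style.haveILetI false
set_option linter.unusedSectionVars false

open Cfsg

namespace CfsgLib.Inv.ZJ

open scoped commutatorElement Pointwise

variable {G : Type*} [Group G] {e : ℕ}

/-- An abelian subgroup of `D`, of exponent dividing `e`, of largest order. -/
def MaxA (e : ℕ) (D A : Subgroup G) : Prop :=
  A ≤ D ∧ Abel e A ∧ ∀ B : Subgroup G, B ≤ D → Abel e B → Nat.card B ≤ Nat.card A

/-- The subgroup generated by the abelian subgroups of largest order of exponent dividing `e`. -/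
def jOf (e : ℕ) (D : Subgroup G) : Subgroup G := ⨆ A, ⨆ (_ : MaxA e D A), A

/-- The center of `jOf e D`. -/
def zJ (e : ℕ) (D : Subgroup G) : Subgroup G := jOf e D ⊓ Subgroup.centralizer (jOf e D : Set G)

theorem MaxA.le_jOf {D A : Subgroup G} (h : MaxA e D A) : A ≤ jOf e D := le_iSup₂_of_le A h le_rfl

theorem jOf_le (D : Subgroup G) : jOf e D ≤ D := iSup₂_le fun _ h => h.1

theorem zJ_le (D : Subgroup G) : zJ e D ≤ D := inf_le_left.trans (jOf_le D)

theorem zJ_comm {D : Subgroup G} {z w : G} (hz : z ∈ zJ e D) (hw : w ∈ zJ e D) : z * w = w * z := (hz.2 w hw.1).symm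

theorem Abel.map {H : Type*} [Group H] {f : G →* H} {A : Subgroup G} (h : Abel e A) : Abel e (A.map f) := by
  refine abel_of_commute ?_ ?_
  · rintro _ ⟨a, ha, rfl⟩ _ ⟨b, hb, rfl⟩
    rw [← map_mul, h.comm ha hb, map_mul]
  · rintro _ ⟨a, ha, rfl⟩
    rw [← map_pow, h.2 a ha, map_one]

theorem Abel.comap {H : Type*} [Group H] {f : G →* H} (hf : Function.Injective f) {A : Subgroup H}
    (h : Abel e A) : Abel e (A.comap f) :=
  abel_of_commute (fun a ha b hb => hf (by rw [map_mul, h.comm ha hb, map_mul]))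
    fun a ha => hf (by rw [map_pow, h.2 _ ha, map_one])

theorem Abel.bot : Abel e (⊥ : Subgroup G) :=
  abel_of_commute (fun a ha b hb => by rw [Subgroup.mem_bot.1 ha, Subgroup.mem_bot.1 hb])
    fun a ha => by rw [Subgroup.mem_bot.1 ha, one_pow]

theorem exists_maxA [Finite G] (e : ℕ) (D : Subgroup G) : ∃ A, MaxA e D A := by
  obtain ⟨A, ⟨hA1, hA2⟩, hA3⟩ := Set.exists_max_image {A : Subgroup G | A ≤ D ∧ Abel e A} (fun A => Nat.card A)
    (Set.toFinite _) ⟨⊥, bot_le, Abel.bot⟩
  exact ⟨A, hA1, hA2, fun B h1 h2 => hA3 B ⟨h1, h2⟩⟩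

theorem MaxA.map {H : Type*} [Group H] {f : G →* H} (hf : Function.Injective f) {D A : Subgroup G}
    (h : MaxA e D A) : MaxA e (D.map f) (A.map f) := by
  refine ⟨Subgroup.map_mono h.1, h.2.1.map, fun B hB hBe => ?_⟩
  have hB' : (B.comap f).map f = B :=
    Subgroup.map_comap_eq_self (hB.trans (Subgroup.map_le_range f D))
  rw [← hB', Subgroup.card_map_of_injective hf, Subgroup.card_map_of_injective hf]
  refine h.2.2 _ ?_ (hBe.comap hf)
  intro x hx
  obtain ⟨d, hd, he⟩ := hB (show f x ∈ B from hx)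
  exact hf he ▸ hd

theorem map_jOf {H : Type*} [Group H] {f : G →* H} (hf : Function.Injective f) (D : Subgroup G) :
    (jOf e D).map f = jOf e (D.map f) := by
  refine le_antisymm ?_ (iSup₂_le fun B hB => ?_)
  · rw [Subgroup.map_le_iff_le_comap]
    exact iSup₂_le fun A hA => Subgroup.map_le_iff_le_comap.1 (hA.map hf).le_jOf
  · have hB' : (B.comap f).map f = B := Subgroup.map_comap_eq_self (hB.1.trans (Subgroup.map_le_range f D))
    rw [← hB']
    refine Subgroup.map_mono (MaxA.le_jOf ⟨?_, hB.2.1.comap hf, fun A hA hAe => ?_⟩)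
    · intro x hx
      obtain ⟨d, hd, he⟩ := hB.1 (show f x ∈ B from hx)
      exact hf he ▸ hd
    · rw [← Subgroup.card_map_of_injective hf (K := A), ← Subgroup.card_map_of_injective hf (K := B.comap f), hB']
      exact hB.2.2 _ (Subgroup.map_mono hA) hAe.map

theorem map_zJ {H : Type*} [Group H] {f : G →* H} (hf : Function.Injective f) (D : Subgroup G) :
    (zJ e D).map f = zJ e (D.map f) := by
  rw [zJ, zJ, Subgroup.map_inf _ _ _ hf, map_jOf hf]
  refine le_antisymm ?_ ?_
  · rintro _ ⟨h1, z, hz, rfl⟩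
    refine ⟨h1, ?_⟩
    rintro w hw
    rw [SetLike.mem_coe, ← map_jOf hf] at hw
    obtain ⟨a, ha, rfl⟩ := hw
    rw [← map_mul, hz a ha, map_mul]
  · rintro y ⟨h1, h2⟩
    obtain ⟨d, hd, rfl⟩ := jOf_le _ h1
    refine ⟨h1, d, fun w hw => hf ?_, rfl⟩
    rw [map_mul, map_mul]
    exact h2 _ ((map_jOf hf D).le ⟨w, hw, rfl⟩)

/-- An element of exponent dividing `e` commuting with a largest abelian subgroup lies in it. -/
theorem MaxA.mem [Finite G] {D A : Subgroup G} (h : MaxA e D A) {x : G} (hx : x ∈ D) (hxe : x ^ e = 1)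
    (hc : ∀ a ∈ A, x * a = a * x) : x ∈ A := by
  have hxA : ∀ a ∈ A, ∀ y ∈ Subgroup.zpowers x, a * y = y * a := by
    rintro a ha _ ⟨i, rfl⟩
    exact ((show Commute x a from hc a ha).zpow_left i).eq.symm
  have hab : Abel e (A ⊔ Subgroup.zpowers x) := by
    have hmem : ∀ y ∈ A ⊔ Subgroup.zpowers x, ∃ a ∈ A, ∃ w ∈ Subgroup.zpowers x, a * w = y := by
      intro y hy
      have hle : A ≤ Subgroup.normalizer (Subgroup.zpowers x : Set G) := fun a ha =>
        Subgroup.mem_normalizer_fintype fun w hw => by rwa [hxA a ha w hw, mul_inv_cancel_right]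
      have he := Subgroup.coe_mul_of_left_le_normalizer_right A (Subgroup.zpowers x) hle
      obtain ⟨a, ha, w, hw, e'⟩ := Set.mem_mul.1 (show y ∈ (A : Set G) * (Subgroup.zpowers x : Set G) by
        rw [← he]; exact hy)
      exact ⟨a, ha, w, hw, e'⟩
    refine abel_of_commute ?_ ?_
    · intro y hy y' hy'
      obtain ⟨a, ha, w, hw, rfl⟩ := hmem y hy
      obtain ⟨a', ha', w', hw', rfl⟩ := hmem y' hy'
      have hww : w * w' = w' * w := by
        obtain ⟨i, rfl⟩ := hw
        obtain ⟨j, rfl⟩ := hw'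
        exact (((Commute.refl x).zpow_left i).zpow_right j).eq
      calc a * w * (a' * w') = a * (w * a') * w' := by group
        _ = a * (a' * w) * w' := by rw [hxA a' ha' w hw]
        _ = (a * a') * (w * w') := by group
        _ = (a' * a) * (w' * w) := by rw [h.2.1.comm ha ha', hww]
        _ = a' * (a * w') * w := by group
        _ = a' * (w' * a) * w := by rw [hxA a ha w' hw']
        _ = a' * w' * (a * w) := by group
    · intro y hy
      obtain ⟨a, ha, w, hw, rfl⟩ := hmem y hy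
      rw [(show Commute a w from hxA a ha w hw).mul_pow, h.2.1.2 a ha, one_mul]
      obtain ⟨i, rfl⟩ := hw
      rw [← zpow_natCast, ← zpow_mul, mul_comm, zpow_mul, zpow_natCast, hxe, one_zpow]
  have heq := Subgroup.eq_of_le_of_card_ge (le_sup_left (a := A) (b := Subgroup.zpowers x))
    (h.2.2 _ (sup_le h.1 (Subgroup.zpowers_le.2 hx)) hab)
  exact heq.ge (Subgroup.mem_sup_right (Subgroup.mem_zpowers x))

theorem zJ_mem_maxA [Finite G] {D A : Subgroup G} (h : MaxA e D A) {z : G} (hz : z ∈ zJ e D) (hze : z ^ e = 1) :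
    z ∈ A :=
  h.mem (zJ_le D hz) hze fun a ha => (hz.2 a (h.le_jOf ha)).symm

theorem normalizer_le_zJ [Finite G] (D : Subgroup G) :
    Subgroup.normalizer (D : Set G) ≤ Subgroup.normalizer (zJ e D : Set G) := by
  intro g hg
  refine Subgroup.mem_normalizer_fintype fun z hz => ?_
  have hD : D.map (MulAut.conj g).toMonoidHom = D :=
    Subgroup.eq_of_le_of_card_ge (by
      rintro _ ⟨d, hd, rfl⟩
      exact (Subgroup.mem_normalizer_iff.1 hg d).1 hd)
      (Subgroup.card_map_of_injective (MulAut.conj g).injective).ge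
  have h1 : (MulAut.conj g).toMonoidHom z ∈ (zJ e D).map (MulAut.conj g).toMonoidHom := ⟨z, hz, rfl⟩
  rw [map_zJ (MulAut.conj g).injective, hD] at h1
  exact h1

/-- The subgroup generated by the elements of exponent dividing `e`. -/
def omE (e : ℕ) (B : Subgroup G) : Subgroup G := Subgroup.closure {x : G | x ∈ B ∧ x ^ e = 1}

theorem omE_le (B : Subgroup G) : omE e B ≤ B := (Subgroup.closure_le _).2 fun _ h => h.1

theorem omE_normal {B : Subgroup G} (hB : B.Normal) : (omE e B).Normal := by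
  refine ⟨fun x hx g => ?_⟩
  have hle : (omE e B).map (MulAut.conj g).toMonoidHom ≤ omE e B := by
    rw [omE, MonoidHom.map_closure]
    refine Subgroup.closure_mono ?_
    rintro _ ⟨y, ⟨hy, hye⟩, rfl⟩
    exact ⟨hB.conj_mem y hy g, by rw [← map_pow, hye, map_one]⟩
  exact hle ⟨x, hx, rfl⟩

theorem pow_of_omE (he : e = 0 ∨ Odd e) {B : Subgroup G} (h2 : ⁅⁅B, B⁆, B⁆ = ⊥) {x : G} (hx : x ∈ omE e B) :
    x ^ e = 1 := by
  rcases he with rfl | he
  · exact pow_zero x
  have hcen : ∀ a ∈ B, ∀ b ∈ B, ∀ c ∈ B, Commute ⁅a, b⁆ c := fun a ha b hb c hc =>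
    commutatorElement_eq_one_iff_commute.1 (Subgroup.mem_bot.1 (h2 ▸
      Subgroup.commutator_mem_commutator (Subgroup.commutator_mem_commutator ha hb) hc))
  induction hx using Subgroup.closure_induction with
  | mem y hy => exact hy.2
  | one => exact one_pow e
  | mul a b ha hb iha ihb =>
    have haB := omE_le B ha
    have hbB := omE_le B hb
    have hd : ⁅b, a⁆ ^ e = 1 := by
      rw [← CfsgLib.Solv.pow_commutator_left (hcen b hbB a haB b hbB), ihb, commutatorElement_one_left]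
    obtain ⟨m, hm⟩ := he
    have hch : e.choose 2 = e * m := by
      rw [Nat.choose_two_right, Nat.mul_div_assoc _ ⟨m, by omega⟩]; congr 1; omega
    rw [CfsgLib.Solv.pow_mul_of_commutator (hcen b hbB a haB a haB) (hcen b hbB a haB b hbB), hch, pow_mul, hd,
      one_pow, one_mul, iha, ihb, one_mul]
  | inv a _ ih => rw [inv_pow, ih, inv_one]

section Main

variable [Finite G] {p : ℕ} [hp : Fact p.Prime]

/-- A normal `p`-subgroup and the center of the Thompson subgroup of a strongly closed subgroup meet in a normal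
subgroup. -/
theorem inf_zJ_normal (hp2 : p ≠ 2) (he : e = 0 ∨ e = p) (P : Sylow p G) {D : Subgroup G}
    (hD : IsStronglyClosed D (P : Subgroup G))
    (hst : ∀ (V : Subgroup G) [V.Normal], IsPGroup p V → IsPStableOn p V) :
    ∀ B : Subgroup G, B.Normal → IsPGroup p B → (zJ e D ⊓ B).Normal := by
  classical
  suffices key : ∀ (n : ℕ) (B : Subgroup G), Nat.card B = n → B.Normal → IsPGroup p B → (zJ e D ⊓ B).Normal from
    fun B => key _ B rfl
  intro n
  induction n using Nat.strong_induction_on with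
  | _ n ih =>
  intro B hn hBn hBp
  subst hn
  haveI := hBn
  set Z := zJ e D with hZ
  by_cases hbot : B = ⊥
  · rw [hbot, inf_bot_eq]; infer_instance
  set B₀ := Subgroup.normalClosure ((Z ⊓ B : Subgroup G) : Set G) with hB₀
  have hB₀B : B₀ ≤ B := Subgroup.normalClosure_le_normal inf_le_right
  by_cases hlt : B₀ ≠ B
  · have h := ih _ (lt_of_le_of_ne (Subgroup.card_le_of_le hB₀B)
      (fun h => hlt (Subgroup.eq_of_le_of_card_ge hB₀B h.ge))) B₀ rfl Subgroup.normalClosure_normal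
      (hBp.to_le hB₀B)
    rwa [le_antisymm (inf_le_inf_left Z hB₀B) (le_inf inf_le_left Subgroup.subset_normalClosure)] at h
  rw [not_not] at hlt
  have hBP : B ≤ P := (CfsgLib.Solv.le_pCore hBp).trans (CfsgLib.Solv.pCore_le_sylow P)
  have hBD : B ≤ D := by
    rw [← hlt, hB₀, Subgroup.normalClosure, Subgroup.closure_le]
    intro y hy
    obtain ⟨z, hz, hzy⟩ := Group.mem_conjugatesOfSet_iff.1 hy
    obtain ⟨g, rfl⟩ := isConj_iff.1 hzy
    exact hD.2 z (zJ_le D hz.1) g (hBP (hBn.conj_mem z hz.2 g))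
  have hPD : (P : Subgroup G) ≤ Subgroup.normalizer (D : Set G) := fun s hs =>
    Subgroup.mem_normalizer_fintype fun d hd =>
      hD.2 d hd s ((P : Subgroup G).mul_mem ((P : Subgroup G).mul_mem hs (hD.1 hd)) ((P : Subgroup G).inv_mem hs))
  have hPZ : (P : Subgroup G) ≤ Subgroup.normalizer (Z : Set G) := hPD.trans (normalizer_le_zJ D)
  -- the commutator subgroup of `B` lies in `Z` and is central
  have hB'B : ⁅B, B⁆ ≤ B := Subgroup.commutator_le_left B B
  have hB'lt : ⁅B, B⁆ ≠ B := by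
    intro h
    haveI := hBp.isNilpotent
    haveI : Nontrivial B := (Subgroup.nontrivial_iff_ne_bot B).2 hbot
    have h1 : commutator ↥B = ⊤ := by
      refine Subgroup.map_injective B.subtype_injective ?_
      rw [commutator_def, Subgroup.map_commutator, ← MonoidHom.range_eq_map, B.range_subtype, h]
    exact (Group.IsSolvable.commutator_lt_top_of_nontrivial ↥B).ne h1
  haveI hN₁ : (Z ⊓ ⁅B, B⁆).Normal :=
    ih _ (lt_of_le_of_ne (Subgroup.card_le_of_le hB'B)
      (fun h => hB'lt (Subgroup.eq_of_le_of_card_ge hB'B h.ge))) ⁅B, B⁆ rfl inferInstance (hBp.to_le hB'B)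
  have hB'Z : ⁅B, B⁆ ≤ Z := by
    let π := QuotientGroup.mk' (Z ⊓ ⁅B, B⁆)
    haveI : (B.map π).Normal := hBn.map π (QuotientGroup.mk'_surjective _)
    have hle : B₀ ≤ (Subgroup.centralizer (B.map π : Set _)).comap π := by
      refine Subgroup.normalClosure_le_normal ?_
      rintro z ⟨hz, hzB⟩ _ ⟨b, hb, rfl⟩
      refine (commutatorElement_eq_one_iff_mul_comm.1 ?_).symm
      rw [← map_commutatorElement]
      refine (QuotientGroup.eq_one_iff _).2 ⟨?_, Subgroup.commutator_mem_commutator hzB hb⟩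
      rw [commutatorElement_def, show z * b * z⁻¹ * b⁻¹ = z * (b * z⁻¹ * b⁻¹) by group]
      exact Z.mul_mem hz ((Subgroup.mem_normalizer_iff.1 (hPZ (hBP hb)) _).1 (Z.inv_mem hz))
    rw [hlt] at hle
    refine le_trans ?_ (inf_le_left : Z ⊓ ⁅B, B⁆ ≤ Z)
    rw [← QuotientGroup.ker_mk' (Z ⊓ ⁅B, B⁆), ← Subgroup.map_eq_bot_iff, Subgroup.map_commutator,
      Subgroup.commutator_eq_bot_iff_le_centralizer]
    exact Subgroup.map_le_iff_le_comap.2 hle
  have hB2 : ⁅⁅B, B⁆, B⁆ = ⊥ := by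
    rw [Subgroup.commutator_comm, Subgroup.commutator_eq_bot_iff_le_centralizer]
    haveI : (⁅B, B⁆ : Subgroup G).Normal := inferInstance
    refine hlt.ge.trans (Subgroup.normalClosure_le_normal ?_)
    rintro z ⟨hz, -⟩ c hc
    exact zJ_comm (hB'Z hc) hz
  have heo : e = 0 ∨ Odd e := he.imp_right fun (h : e = p) => h.symm ▸ hp.out.odd_of_ne_two hp2
  set B₁ := omE e B with hB₁
  have hB₁B : B₁ ≤ B := omE_le B
  haveI hB₁n : B₁.Normal := omE_normal hBn
  have hB₁2 : ⁅⁅B₁, B₁⁆, B₁⁆ = ⊥ :=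
    eq_bot_iff.2 ((Subgroup.commutator_mono (Subgroup.commutator_mono hB₁B hB₁B) hB₁B).trans hB2.le)
  have hB₁A : ∀ A, MaxA e D A → ⁅B₁, B₁⁆ ≤ A := fun A hA x hx =>
    zJ_mem_maxA hA (hB'Z (Subgroup.commutator_mono hB₁B hB₁B hx))
      (pow_of_omE heo hB2 (Subgroup.commutator_le_left B₁ B₁ hx))
  set C := Subgroup.centralizer (B : Set G) with hC
  haveI : C.Normal := inferInstance
  set π := QuotientGroup.mk' C
  haveI := CfsgLib.Solv.pCore_normal (G ⧸ C) p
  set L := (pCore p (G ⧸ C)).comap π with hL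
  haveI hLn : L.Normal := Subgroup.Normal.comap inferInstance _
  -- quadratic elements lie in `L`
  have hquad : ∀ A, MaxA e D A → B₁ ≤ Subgroup.normalizer (A : Set G) → A ≤ L := by
    intro A hA hBA a ha
    set C₁ := Subgroup.centralizer (B₁ : Set G) with hC₁
    haveI : C₁.Normal := inferInstance
    haveI := CfsgLib.Solv.pCore_normal (G ⧸ C₁) p
    set L₁ := (pCore p (G ⧸ C₁)).comap (QuotientGroup.mk' C₁) with hL₁
    haveI : L₁.Normal := Subgroup.Normal.comap inferInstance _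
    have haL : a ∈ L₁ := by
      refine hst B₁ (hBp.to_le hB₁B) a (eq_bot_iff.2 ?_)
      have h1 : ⁅B₁, Subgroup.zpowers a⁆ ≤ A := Subgroup.commutator_le.2 fun b hb z hz => by
        have hz' : z ∈ A := Subgroup.zpowers_le.2 ha hz
        rw [commutatorElement_def]
        exact A.mul_mem ((Subgroup.mem_normalizer_iff.1 (hBA hb) z).1 hz') (A.inv_mem hz')
      refine (Subgroup.commutator_mono h1 (Subgroup.zpowers_le.2 ha)).trans (le_of_eq ?_)
      exact Subgroup.commutator_eq_bot_iff_le_centralizer.2 fun x hx y hy => (hA.2.1.comm hx hy).symm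
    have hC₁p : ∀ w ∈ C₁, ∃ k : ℕ, w ^ p ^ k ∈ C := by
      intro w hw
      refine ⟨(orderOf w).factorization p, fun b hb => ?_⟩
      set v := w ^ p ^ (orderOf w).factorization p with hv
      have hvc : (orderOf v).Coprime p := by
        rw [hv, orderOf_pow_of_dvd (pow_ne_zero _ hp.out.ne_zero) (Nat.ordProj_dvd _ _)]
        exact (Nat.coprime_ordCompl hp.out (orderOf_pos w).ne').symm
      let f : G →* MulAut B := MulAut.conjNormal
      have hf : f v = 1 := by
        refine CfsgLib.Solv.aut_eq_one_of_fix_omega hp2 hBp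
          (Nat.Coprime.coprime_dvd_left (orderOf_map_dvd f v) hvc) fun x hx => Subtype.ext ?_
        have hx₁ : (x : G) ∈ B₁ := Subgroup.subset_closure ⟨x.2, by
          rcases he with rfl | rfl
          · exact pow_zero _
          · exact congrArg Subtype.val hx⟩
        rw [MulAut.conjNormal_apply, mul_inv_eq_iff_eq_mul]
        exact ((C₁.pow_mem hw _) _ hx₁).symm
      have h := congrArg (fun φ : MulAut B => ((φ ⟨b, hb⟩ : B) : G)) hf
      simp only [f, MulAut.conjNormal_apply, MulAut.one_apply] at h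
      exact (mul_inv_eq_iff_eq_mul.1 h).symm
    have hLp : IsPGroup p (L₁.map π) := by
      rintro ⟨_, y, hy, rfl⟩
      obtain ⟨k, hk⟩ := CfsgLib.Solv.pCore_isPGroup (G ⧸ C₁) p ⟨_, hy⟩
      obtain ⟨m, hm⟩ := hC₁p (y ^ p ^ k) ((QuotientGroup.eq_one_iff _).1 (congrArg Subtype.val hk))
      refine ⟨k + m, Subtype.ext ?_⟩
      show π y ^ p ^ (k + m) = 1
      rw [← map_pow, pow_add, pow_mul]
      exact (QuotientGroup.eq_one_iff _).2 hm
    haveI : (L₁.map π).Normal := (inferInstance : L₁.Normal).map π (QuotientGroup.mk'_surjective _)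
    exact CfsgLib.Solv.le_pCore hLp ⟨a, haL, rfl⟩
  -- every element is a product of one centralizing `B` and one normalizing `P ⊓ L`
  have hfac : ∀ g : G, ∃ n ∈ Subgroup.normalizer (((P : Subgroup G) ⊓ L : Subgroup G) : Set G), ∃ c ∈ C,
      g = n * c := by
    intro g
    obtain ⟨l, hl, k, hk, hg⟩ := CfsgLib.Glau.frattini (CfsgLib.Glau.syl_top P) (N := L)
      (by rw [Subgroup.normalizer_eq_top_iff.2 hLn]) (Subgroup.mem_top g⁻¹)
    obtain ⟨t, ht, hte⟩ : π l⁻¹ ∈ (P : Subgroup G).map π := by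
      rw [← Sylow.coe_mapSurjective (QuotientGroup.mk'_surjective C)]
      exact CfsgLib.Solv.pCore_le_sylow _ (L.inv_mem hl.2 : l⁻¹ ∈ L)
    have htL : t ∈ L := by
      show π t ∈ pCore p (G ⧸ C)
      rw [hte]
      exact (L.inv_mem hl.2 : l⁻¹ ∈ L)
    refine ⟨k⁻¹ * t, mul_mem (inv_mem hk.2) (Subgroup.le_normalizer ⟨ht, htL⟩), t⁻¹ * l⁻¹,
      QuotientGroup.eq.1 hte, ?_⟩
    rw [← inv_inv g, hg]; group
  have hmove : ∀ n ∈ Subgroup.normalizer (((P : Subgroup G) ⊓ L : Subgroup G) : Set G),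
      ∀ A, MaxA e D A → A ≤ L → MaxA e D (A.map (MulAut.conj n).toMonoidHom) ∧
        A.map (MulAut.conj n).toMonoidHom ≤ L := by
    intro n hn A hA hAL
    refine ⟨⟨?_, hA.2.1.map, fun B' h1 h2 => ?_⟩, ?_⟩
    · rintro _ ⟨a, ha, rfl⟩
      exact hD.2 a (hA.1 ha) n ((Subgroup.mem_normalizer_iff.1 hn a).1 ⟨hD.1 (hA.1 ha), hAL ha⟩).1
    · rw [Subgroup.card_map_of_injective (MulAut.conj n).injective]
      exact hA.2.2 B' h1 h2
    · rintro _ ⟨a, ha, rfl⟩
      exact hLn.conj_mem a (hAL ha) n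
  -- `B` centralizes the largest abelian subgroups inside `L`
  have hcent : ∀ A, MaxA e D A → A ≤ L → B ≤ Subgroup.centralizer (A : Set G) := by
    intro A hA hAL
    rw [← hlt, hB₀, Subgroup.normalClosure, Subgroup.closure_le]
    intro y hy
    obtain ⟨z, hz, hzy⟩ := Group.mem_conjugatesOfSet_iff.1 hy
    obtain ⟨g, rfl⟩ := isConj_iff.1 hzy
    obtain ⟨n, hn, c, hc, rfl⟩ := hfac g
    intro a ha
    have hcz : c * z = z * c := (hc z hz.2).symm
    rw [show n * c * z * (n * c)⁻¹ = n * (c * z * c⁻¹) * n⁻¹ by group, hcz, mul_inv_cancel_right]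
    have h1 := (hmove n⁻¹ (inv_mem hn) A hA hAL).1.le_jOf ⟨a, ha, rfl⟩
    have h2 : (n⁻¹ * a * n⁻¹⁻¹) * z = z * (n⁻¹ * a * n⁻¹⁻¹) := hz.1.2 _ h1
    calc a * (n * z * n⁻¹) = n * ((n⁻¹ * a * n⁻¹⁻¹) * z) * n⁻¹ := by group
      _ = n * z * n⁻¹ * a := by rw [h2]; group
  have hB₁le : ∀ A, MaxA e D A → A ≤ L → B₁ ≤ A := fun A hA hAL => (Subgroup.closure_le _).2 fun x hx =>
    hA.mem (hBD hx.1) hx.2 fun a ha => (hcent A hA hAL hx.1 a ha).symm
  have hrep : ∀ A, MaxA e D A → ¬ B₁ ≤ Subgroup.normalizer (A : Set G) →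
      ∃ A', MaxA e D A' ∧ Nat.card (A ⊓ B₁ : Subgroup G) < Nat.card (A' ⊓ B₁ : Subgroup G) ∧
        A' ≤ Subgroup.normalizer (A : Set G) := by
    intro A hA hBA
    obtain ⟨A', h1, h2, h3, -, h5, h6, -⟩ := replacement (p := p) hp2 heo (P.isPGroup') (hA.1.trans hD.1)
      (hB₁B.trans hBP) hA.2.1 hB₁2 (hB₁A A hA) (fun a ha => by
        rw [Subgroup.normalizer_eq_top_iff.2 hB₁n]; trivial) hBA
    refine ⟨A', ⟨h3.trans (sup_le hA.1 (hB₁B.trans hBD)), h1, fun B' hb hb' => h2.symm ▸ hA.2.2 B' hb hb'⟩, ?_, h6⟩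
    exact lt_of_le_of_ne (Subgroup.card_le_of_le h5.le) fun h => h5.ne (Subgroup.eq_of_le_of_card_ge h5.le h.ge)
  -- all largest abelian subgroups lie in `L`
  have hall : ∀ A, MaxA e D A → A ≤ L := by
    by_contra hne
    push_neg at hne
    obtain ⟨A, ⟨hA, hAL⟩, hmax⟩ := Set.exists_max_image {A : Subgroup G | MaxA e D A ∧ ¬ A ≤ L}
      (fun A => Nat.card (A ⊓ B₁ : Subgroup G)) (Set.toFinite _) hne
    obtain ⟨A', hA', hlt', hA'N⟩ := hrep A hA fun h => hAL (hquad A hA h)
    have hA'L : A' ≤ L := by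
      by_contra h
      exact absurd (hmax A' ⟨hA', h⟩) (not_le.2 hlt')
    exact hAL (hquad A hA ((hB₁le A' hA' hA'L).trans hA'N))
  refine ⟨fun z hz g => ⟨?_, hBn.conj_mem z hz.2 g⟩⟩
  obtain ⟨n, hn, c, hc, rfl⟩ := hfac g
  have hcz : c * z = z * c := (hc z hz.2).symm
  rw [show n * c * z * (n * c)⁻¹ = n * (c * z * c⁻¹) * n⁻¹ by group, hcz, mul_inv_cancel_right]
  have hJ : ∀ m ∈ Subgroup.normalizer (((P : Subgroup G) ⊓ L : Subgroup G) : Set G),
      ∀ w ∈ jOf e D, m * w * m⁻¹ ∈ jOf e D := by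
    intro m hm w hw
    have hle : jOf e D ≤ (jOf e D).comap (MulAut.conj m).toMonoidHom :=
      iSup₂_le fun A hA => Subgroup.map_le_iff_le_comap.1 (hmove m hm A hA (hall A hA)).1.le_jOf
    exact hle hw
  refine ⟨hJ n hn z hz.1.1, fun w hw => ?_⟩
  have h2 : (n⁻¹ * w * n⁻¹⁻¹) * z = z * (n⁻¹ * w * n⁻¹⁻¹) := hz.1.2 _ (hJ n⁻¹ (inv_mem hn) w hw)
  calc w * (n * z * n⁻¹) = n * ((n⁻¹ * w * n⁻¹⁻¹) * z) * n⁻¹ := by group
    _ = n * z * n⁻¹ * w := by rw [h2]; group

/-- **Glauberman's ZJ theorem.** -/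
theorem zJ_normal (hp2 : p ≠ 2) (he : e = 0 ∨ e = p) (P : Sylow p G) {D : Subgroup G}
    (hD : IsStronglyClosed D (P : Subgroup G))
    (hst : ∀ (V : Subgroup G) [V.Normal], IsPGroup p V → IsPStableOn p V)
    (hc : Subgroup.centralizer (pCore p G : Set G) ≤ pCore p G) : (zJ e D).Normal := by
  haveI hOn : (pCore p G).Normal := CfsgLib.Solv.pCore_normal G p
  set O := pCore p G with hO
  have hOp : IsPGroup p O := CfsgLib.Solv.pCore_isPGroup G p
  have hOP : O ≤ P := CfsgLib.Solv.pCore_le_sylow P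
  set Z := zJ e D with hZ
  have hPD : (P : Subgroup G) ≤ Subgroup.normalizer (D : Set G) := fun s hs =>
    Subgroup.mem_normalizer_fintype fun d hd =>
      hD.2 d hd s ((P : Subgroup G).mul_mem ((P : Subgroup G).mul_mem hs (hD.1 hd)) ((P : Subgroup G).inv_mem hs))
  have hZO : Z ≤ O := by
    intro a ha
    haveI : (Subgroup.centralizer (O : Set G)).Normal := inferInstance
    have hq : ⁅⁅O, Subgroup.zpowers a⁆, Subgroup.zpowers a⁆ = ⊥ := by
      have h1 : ⁅O, Subgroup.zpowers a⁆ ≤ Z := Subgroup.commutator_le.2 fun o ho z hz => by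
        have hz' : z ∈ Z := Subgroup.zpowers_le.2 ha hz
        rw [commutatorElement_def]
        exact Z.mul_mem ((Subgroup.mem_normalizer_iff.1 (normalizer_le_zJ D (hPD (hOP ho))) z).1 hz')
          (Z.inv_mem hz')
      refine eq_bot_iff.2 ((Subgroup.commutator_mono h1 (Subgroup.zpowers_le.2 ha)).trans (le_of_eq ?_))
      exact Subgroup.commutator_eq_bot_iff_le_centralizer.2 fun x hx y hy => zJ_comm hy hx
    set π := QuotientGroup.mk' (Subgroup.centralizer (O : Set G))
    haveI := CfsgLib.Solv.pCore_normal (G ⧸ Subgroup.centralizer (O : Set G)) p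
    have hK : IsPGroup p ((pCore p (G ⧸ Subgroup.centralizer (O : Set G))).comap π) :=
      (CfsgLib.Solv.pCore_isPGroup (G ⧸ Subgroup.centralizer (O : Set G)) p).comap_of_ker_isPGroup _
        (by rw [QuotientGroup.ker_mk']; exact hOp.to_le hc)
    exact CfsgLib.Solv.le_pCore hK (show a ∈ (pCore p (G ⧸ Subgroup.centralizer (O : Set G))).comap π from
      hst O hOp a hq)
  have h := inf_zJ_normal hp2 he P hD hst O hOn hOp
  rwa [inf_eq_left.2 hZO] at h

end Main

end CfsgLib.Inv.ZJ
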