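import Cfsg.Agent.Inv.ZJApp
import Cfsg.Agent.Fus.QdStable

/-!
Control of fusion by the center of the Thompson subgroup when the normalizers of the subgroups above the center of the
Sylow subgroup are stable.
-/

set_option autoImplicit false
set_option linter.style.haveILetI false
set_option linter.unusedSectionVars false

open Cfsg
open scoped commutatorElement

namespace CfsgLib.Inv.ZJ

open CfsgLib.Glau

variable {G : Type*} [Group G] [Finite G] {p : ℕ} [hp : Fact p.Prime]

/-- A central element of `R` of exponent dividing `e` lies in `zJ e R`. -/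
theorem mem_zJ_of_central {e : ℕ} {R : Subgroup G} {z : G} (hz : z ∈ R) (hze : z ^ e = 1)
    (hc : ∀ r ∈ R, z * r = r * z) : z ∈ zJ e R := by
  obtain ⟨A, hA⟩ := exists_maxA e R
  exact ⟨hA.le_jOf (hA.mem hz hze fun a ha => hc a (hA.1 ha)), fun w hw => (hc w (jOf_le R hw)).symm⟩

/-- Strong fusion is controlled once it is controlled over the center. -/
theorem fus_of_local_center (hp2 : p ≠ 2) (S : Sylow p G)
    (hst : ∀ T : Subgroup G, (S : Subgroup G) ⊓ Subgroup.centralizer ((S : Subgroup G) : Set G) ≤ T →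
      T ≤ (S : Subgroup G) → IsNormalizerPStable p ↥(Subgroup.normalizer (T : Set G))) :
    Fus (S : Subgroup G) ⊤ (Subgroup.normalizer (zJ 0 (S : Subgroup G) : Set G)) := by
  set Sg := (S : Subgroup G) with hSg
  set N := Subgroup.normalizer (zJ 0 Sg : Set G) with hN
  have hS : Syl p Sg ⊤ := syl_top S
  let W : Subgroup G → Subgroup G := fun Q => zJ 0 Q
  have hWc : IsConjugacyFunctor p W := fun Q hQ => ⟨zJ_le Q, fun hne => zJ_ne_bot (Or.inl rfl) hQ hne, fun g => by
    show zJ 0 _ = (zJ 0 Q).map _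
    rw [map_zJ (MulAut.conj g).injective]⟩
  suffices key : ∀ (n : ℕ) (A : Subgroup G), Nat.card Sg - Nat.card A = n → A ≤ Sg → ∀ g : G, cj g A ≤ Sg →
      ∃ x ∈ N, ∀ a ∈ A, x * a * x⁻¹ = g * a * g⁻¹ from fun A hA g _ hg => key _ A rfl hA g hg
  intro n
  induction n using Nat.strong_induction_on with
  | _ n ih =>
  intro A₀ hn hA₀ g₀ hg₀
  have hc := chain_wp hWc hS (Subgroup.mem_top g₀) hA₀ hg₀
  clear hg₀ hA₀
  induction hc with
  | one A => exact ⟨1, one_mem _, fun b _ => rfl⟩
  | @step A T x g hT hx hA _ ihc =>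
    obtain ⟨y, hy, hye⟩ := ihc (by rw [card_cj]; exact hn)
    suffices hs : ∃ z ∈ N, ∀ b ∈ A, z * b * z⁻¹ = x * b * x⁻¹ by
      obtain ⟨z, hz, hze⟩ := hs
      refine ⟨y * z, mul_mem hy hz, fun b hb => ?_⟩
      calc y * z * b * (y * z)⁻¹ = y * (z * b * z⁻¹) * y⁻¹ := by group
        _ = g * x * b * (g * x)⁻¹ := by rw [hze b hb, hye _ (conj_mem_cj hb)]; group
    set C := Subgroup.centralizer (T : Set G) with hC
    by_cases hcen : Sg ⊓ C ≤ T
    · have hZT : Sg ⊓ Subgroup.centralizer (Sg : Set G) ≤ T :=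
        (inf_le_inf_left _ (Subgroup.centralizer_le hT.1)).trans hcen
      have hQ : ∀ i, Sg ⊓ Subgroup.centralizer (Sg : Set G) ≤ functorTower W Sg T i := by
        intro i
        induction i with
        | zero => exact hZT
        | succ i ih2 =>
          rw [tower_succ]
          intro z hz
          refine mem_zJ_of_central ⟨hz.1, Subgroup.le_normalizer (ih2 hz)⟩ (pow_zero z) fun r hr => ?_
          exact (hz.2 r hr.1).symm
      have hA0 : A ≤ Sg ⊓ Subgroup.normalizer (T : Set G) := hA.trans (le_inf hT.1 Subgroup.le_normalizer)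
      have hxA : cj x A ≤ Sg ⊓ Subgroup.normalizer (T : Set G) := (cj_mono x hA).trans
        ((mem_normalizer_iff_cj.1 hx.2).le.trans (le_inf hT.1 Subgroup.le_normalizer))
      have desc : ∀ i, ∃ z ∈ Subgroup.normalizer (functorTower W Sg T i : Set G),
          (∀ b ∈ A, z * b * z⁻¹ = x * b * x⁻¹) ∧ A ≤ Sg ⊓ Subgroup.normalizer (functorTower W Sg T i : Set G) ∧
            cj x A ≤ Sg ⊓ Subgroup.normalizer (functorTower W Sg T i : Set G) := by
        intro i
        induction i with
        | zero => exact ⟨x, hx.2, fun _ _ => rfl, hA0, hxA⟩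
        | succ i ih2 =>
          obtain ⟨z, hz, hze, hzA, hzxA⟩ := ih2
          set U := functorTower W Sg T i with hU
          set H := Subgroup.normalizer (U : Set G) with hH
          have hR : Syl p (Sg ⊓ H) H := by
            have h := (hT.2 i).syl hS
            rwa [top_inf_eq] at h
          have h := Fus.of_hom H.subtype_injective (fusion_zJ (e := 0) hp2 (Or.inl rfl) ↥H
            (hst U (hQ i) (tower_le hWc hS.pg hT.1 i)) _ hR.subgroupOf _ (stronglyClosed_self _))
          rw [← top_inf_eq (Subgroup.normalizer (zJ 0 ((Sg ⊓ H).subgroupOf H) : Set ↥H)), map_inf_normalizer H.subtype_injective,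
            map_zJ H.subtype_injective, ← MonoidHom.range_eq_map, H.range_subtype,
            Subgroup.map_subgroupOf_eq_of_le hR.le] at h
          obtain ⟨z', hz', hze'⟩ := h A hzA z hz (by
            rintro _ ⟨b, hb, rfl⟩
            show z * b * z⁻¹ ∈ Sg ⊓ H
            rw [hze b hb]; exact hzxA (conj_mem_cj hb))
          refine ⟨z', ?_, fun b hb => (hze' b hb).trans (hze b hb), hzA.trans (tower_mono hWc hS.pg i),
            hzxA.trans (tower_mono hWc hS.pg i)⟩
          rw [tower_succ]
          exact hz'.2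
      obtain ⟨z, hz, hze, -⟩ := desc (Nat.card Sg + 1)
      rw [tower_succ, tower_top hWc hS.pg _ le_rfl] at hz
      exact ⟨z, hz, hze⟩
    · -- enlarge `T` by its centralizer
      have hR : Syl p (Sg ⊓ Subgroup.normalizer (T : Set G)) (⊤ ⊓ Subgroup.normalizer (T : Set G)) :=
        (hT.2 0).syl hS
      obtain ⟨m, hm, k, hk, hxe⟩ := CfsgLib.Glau.frattini hR (N := C)
        (inf_le_right.trans (normalizer_le_centralizer_normalizer T)) hx
      have hkT : k ∈ Subgroup.normalizer (T : Set G) := hk.1.2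
      have he : Sg ⊓ Subgroup.normalizer (T : Set G) ⊓ C = Sg ⊓ C := le_antisymm
        (le_inf (inf_le_left.trans inf_le_left) inf_le_right)
        (le_inf (le_inf inf_le_left (inf_le_right.trans (Subgroup.centralizer_le_normalizer _))) inf_le_right)
      have hkR : k ∈ Subgroup.normalizer ((Sg ⊓ C : Subgroup G) : Set G) := he ▸ hk.2
      set T' := T ⊔ (Sg ⊓ C) with hT'
      have hT'S : T' ≤ Sg := sup_le hT.1 inf_le_left
      have hlt : Nat.card A < Nat.card T' := lt_of_le_of_lt (Subgroup.card_le_of_le hA)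
        (lt_of_le_of_ne (Subgroup.card_le_of_le le_sup_left) fun h =>
          hcen (le_sup_right.trans (Subgroup.eq_of_le_of_card_ge le_sup_left h.ge).ge))
      have hkT' : cj k T' ≤ Sg := by
        rw [hT', cj, Subgroup.map_sup]
        exact sup_le ((mem_normalizer_iff_cj.1 hkT).le.trans hT.1) ((mem_normalizer_iff_cj.1 hkR).le.trans inf_le_left)
      have := Subgroup.card_le_of_le hT'S
      obtain ⟨z, hz, hze⟩ := ih (Nat.card Sg - Nat.card T') (by omega) T' rfl hT'S k hkT'
      refine ⟨z, hz, fun b hb => ?_⟩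
      have hbT : k * b * k⁻¹ ∈ T := (Subgroup.mem_normalizer_iff.1 hkT b).1 (hA hb)
      have h2 : k * b * k⁻¹ * m = m * (k * b * k⁻¹) := hm.2 _ hbT
      rw [hze b (Subgroup.mem_sup_left (hA hb)), hxe, show m * k * b * (m * k)⁻¹ = m * (k * b * k⁻¹) * m⁻¹ by group,
        ← h2, mul_inv_cancel_right]

end CfsgLib.Inv.ZJ
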