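import Cfsg.Agent.Inv.ZJApp
import Cfsg.Agent.Fus.ComplementInduction

/-!
A normal p-complement in the normalizer of the center of the Thompson subgroup of a strongly closed subgroup gives one
in the group.
-/

set_option autoImplicit false
set_option linter.style.haveILetI false
set_option linter.deprecated false
set_option linter.unusedSectionVars false

open Cfsg
open scoped commutatorElement

namespace CfsgLib.Inv.ZJ

open CfsgLib.Solv CfsgLib.Glau

universe u

variable {p : ℕ} [hp : Fact p.Prime] {e : ℕ}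

/-- Strong closure modulo a normal subgroup of order prime to `p`. -/
theorem closed_map {Γ : Type*} [Group Γ] [Finite Γ] {S D : Subgroup Γ} (hS : Syl p S ⊤) (hD : IsStronglyClosed D S)
    (K : Subgroup Γ) [K.Normal] (hKc : ¬ p ∣ Nat.card K) :
    IsStronglyClosed (D.map (QuotientGroup.mk' K)) (S.map (QuotientGroup.mk' K)) := by
  let π := QuotientGroup.mk' K
  refine ⟨Subgroup.map_mono hD.1, ?_⟩
  rintro _ ⟨x, hx, rfl⟩ y hy
  obtain ⟨g, rfl⟩ := QuotientGroup.mk'_surjective K y
  obtain ⟨s, hs, hse⟩ := hy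
  have h1 : Subgroup.zpowers (g * x * g⁻¹) ≤ S ⊔ K := by
    rw [Subgroup.zpowers_le]
    have h2 : s⁻¹ * (g * x * g⁻¹) ∈ K := (QuotientGroup.eq_one_iff _).1 (show π (s⁻¹ * (g * x * g⁻¹)) = 1 by
      rw [map_mul, map_mul, map_mul, map_inv, map_inv, hse, inv_mul_cancel])
    have := mul_mem (Subgroup.mem_sup_left hs (T := K)) (Subgroup.mem_sup_right h2 (S := S))
    rwa [mul_inv_cancel_left] at this
  obtain ⟨w, hw, hwle⟩ := (syl_sup hS.pg hKc).exists_conj_le h1 (by
    have h := (hS.pg.to_le (Subgroup.zpowers_le.2 (hD.1 hx))).map (MulAut.conj g).toMonoidHom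
    rwa [MonoidHom.map_zpowers] at h)
  have hw' : w * (g * x * g⁻¹) * w⁻¹ ∈ S := hwle ⟨_, Subgroup.mem_zpowers _, rfl⟩
  obtain ⟨t, ht, k, hk, rfl⟩ := Subgroup.mem_sup_of_normal_right.1 hw
  have hk' : k * (g * x * g⁻¹) * k⁻¹ ∈ S := by
    have := S.mul_mem (S.mul_mem (S.inv_mem ht) hw') ht
    simpa [mul_assoc] using this
  have h3 := hD.2 x hx (k * g) (by simpa [mul_assoc] using hk')
  refine ⟨_, h3, ?_⟩
  have hk1 : π k = 1 := (QuotientGroup.eq_one_iff k).2 hk
  show π _ = π g * π x * (π g)⁻¹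
  simp only [map_mul, map_inv, hk1, one_mul]

/-- Strong closure modulo a normal `p`-subgroup. -/
theorem closed_map_p {Γ : Type*} [Group Γ] {S D P : Subgroup Γ} [P.Normal] (hPS : P ≤ S)
    (hD : IsStronglyClosed D S) :
    IsStronglyClosed (D.map (QuotientGroup.mk' P)) (S.map (QuotientGroup.mk' P)) := by
  let π := QuotientGroup.mk' P
  refine ⟨Subgroup.map_mono hD.1, ?_⟩
  rintro _ ⟨x, hx, rfl⟩ y hy
  obtain ⟨g, rfl⟩ := QuotientGroup.mk'_surjective P y
  obtain ⟨s, hs, hse⟩ := hy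
  have h2 : s⁻¹ * (g * x * g⁻¹) ∈ P := (QuotientGroup.eq_one_iff _).1 (show π (s⁻¹ * (g * x * g⁻¹)) = 1 by
    rw [map_mul, map_mul, map_mul, map_inv, map_inv, hse, inv_mul_cancel])
  have h3 := S.mul_mem hs (hPS h2)
  rw [mul_inv_cancel_left] at h3
  exact ⟨_, hD.2 x hx g h3, by rw [map_mul, map_mul, map_inv]⟩

set_option maxHeartbeats 1000000 in
/-- The normal `p`-complement criterion by the center of the Thompson subgroup of a strongly closed subgroup. -/
theorem hnpc_of_zJ (hp2 : p ≠ 2) (he : e = 0 ∨ e = p) :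
    ∀ (Γ : Type u) [Group Γ] [Finite Γ] (S : Sylow p Γ) (D : Subgroup Γ),
      IsStronglyClosed D (S : Subgroup Γ) →
      HasNormalPComplement p ↥(Subgroup.normalizer (zJ e D : Set Γ)) → HasNormalPComplement p Γ := by
  suffices key : ∀ (n : ℕ) (Γ : Type u) [Group Γ] [Finite Γ], Nat.card Γ = n → ∀ (S : Sylow p Γ) (D : Subgroup Γ),
      IsStronglyClosed D (S : Subgroup Γ) →
      HasNormalPComplement p ↥(Subgroup.normalizer (zJ e D : Set Γ)) → HasNormalPComplement p Γ from
    fun Γ _ _ => key _ Γ rfl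
  intro n
  induction n using Nat.strong_induction_on with
  | _ n IH =>
  intro Γ _ _ hcard S D hD hN
  classical
  by_contra hn
  have hDnn : ¬ (zJ e D).Normal := fun h => by
    rw [Subgroup.normalizer_eq_top_iff.2 h] at hN
    exact hn (hnpc_mulEquiv Subgroup.topEquiv hN)
  have hDne : D ≠ ⊥ := fun h => hDnn (Subgroup.normalizer_eq_top_iff.1 (eq_top_iff.2
    ((Subgroup.normalizer_eq_top_iff.2 (h ▸ inferInstance : D.Normal)).ge.trans (normalizer_le_zJ D))))
  have hSD : (S : Subgroup Γ) ≤ Subgroup.normalizer (D : Set Γ) := fun s hs => Subgroup.mem_normalizer_fintype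
    fun d hd => hD.2 d hd s ((S : Subgroup Γ).mul_mem ((S : Subgroup Γ).mul_mem hs (hD.1 hd))
      ((S : Subgroup Γ).inv_mem hs))
  have hWSe : wOf e D (S : Subgroup Γ) = zJ e D := by rw [wOf, sel_eq hD fun h => absurd h hDne]
  -- the induction
  have overH : ∀ (H : Subgroup Γ) (S₁ : Sylow p ↥H), H ≠ ⊤ →
      HasNormalPComplement p
        ↥(Subgroup.normalizer (wOf e D ((S₁ : Subgroup ↥H).map H.subtype) : Set Γ)) →
      HasNormalPComplement p ↥H := by
    intro H S₁ hH h
    have hcl := sel_closed (syl_top S) hD (Subgroup.map_subtype_le (S₁ : Subgroup ↥H)) (S₁.isPGroup'.map H.subtype)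
    have he' : ((S₁ : Subgroup ↥H).map H.subtype).subgroupOf H = (S₁ : Subgroup ↥H) :=
      Subgroup.comap_map_eq_self_of_injective H.subtype_injective _
    rw [he'] at hcl
    refine IH _ (hcard ▸ card_lt_of_ne_top hH) ↥H rfl S₁ _ hcl (hnpc_of_map_le H.subtype_injective ?_ h)
    refine (Subgroup.le_normalizer_map H.subtype).trans (le_of_eq ?_)
    rw [map_zJ H.subtype_injective, wOf,
      Subgroup.map_subgroupOf_eq_of_le ((sel_le D _).trans (Subgroup.map_subtype_le (S₁ : Subgroup ↥H)))]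
  have overP : ∀ H : Subgroup Γ, (S : Subgroup Γ) ≤ H → H ≠ ⊤ → HasNormalPComplement p ↥H := fun H hSH hH =>
    overH H (S.subtype hSH) hH (by rwa [Sylow.coe_subtype, Subgroup.map_subgroupOf_eq_of_le hSH, hWSe])
  have quot : ∀ (M : Subgroup Γ) [M.Normal], M ≠ ⊥ → ∀ (S₁ : Sylow p (Γ ⧸ M)) (D₁ : Subgroup (Γ ⧸ M)),
      IsStronglyClosed D₁ (S₁ : Subgroup (Γ ⧸ M)) →
      HasNormalPComplement p ↥(Subgroup.normalizer (zJ e D₁ : Set (Γ ⧸ M))) →
      HasNormalPComplement p (Γ ⧸ M) := fun M _ hM S₁ D₁ hD₁ h =>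
    IH _ (hcard ▸ card_quotient_lt hM) (Γ ⧸ M) rfl S₁ D₁ hD₁ h
  have hconjF := wOf_conjugacy (p := p) he D
  have hO : pPrimeCore p Γ = ⊥ := by
    by_contra hO
    haveI := CfsgLib.Solv.pPrimeCore_normal Γ p
    have hM : ¬ p ∣ Nat.card (pPrimeCore p Γ) := not_dvd_card_pPrimeCore
    refine hn (hnpc_of_quotient_pprime hM
      (quot _ hO (S.mapSurjective (QuotientGroup.mk'_surjective _)) (D.map (QuotientGroup.mk' _))
        (by rw [Sylow.coe_mapSurjective]; exact closed_map (syl_top S) hD _ hM) ?_))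
    set π := QuotientGroup.mk' (pPrimeCore p Γ)
    have hinj : Set.InjOn π ((S : Subgroup Γ) : Set Γ) := by
      intro a ha b hb hab
      have h : a⁻¹ * b ∈ (S : Subgroup Γ) ⊓ pPrimeCore p Γ :=
        ⟨(S : Subgroup Γ).mul_mem ((S : Subgroup Γ).inv_mem ha) hb, QuotientGroup.eq.1 hab⟩
      rw [sylow_inf_eq_bot_of_not_dvd S.isPGroup' hM, Subgroup.mem_bot, inv_mul_eq_one] at h
      exact h
    rw [← map_zJ_injOn π (hinj.mono hD.1)]
    have hWp : IsPGroup p ↥(zJ e D) := S.isPGroup'.to_le ((zJ_le D).trans hD.1)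
    haveI := hWp.isNilpotent
    refine hnpc_of_le (normalizer_map_mk'_le ?_ inferInstance) (hnpc_map π hN)
    obtain ⟨k, hk⟩ := hWp.exists_card_eq
    rw [hk]; exact (hp.out.coprime_iff_not_dvd.2 hM).pow_left k
  haveI := CfsgLib.Solv.pCore_normal Γ p
  set U := pCore p Γ with hUdef
  have hUp : IsPGroup p U := CfsgLib.Solv.pCore_isPGroup Γ p
  have hUne : U ≠ ⊥ := by
    let bad : Set (Subgroup Γ) := {Q | IsPGroup p Q ∧ Q ≠ ⊥ ∧
      ¬ HasNormalPComplement p (Subgroup.normalizer (Q : Set Γ))}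
    have hne : bad.Nonempty := by
      have hn' := hn
      rw [hnpc_iff_frobCond, FrobCond] at hn'
      push Not at hn'
      obtain ⟨Q, hQ, g, hg, hc, hgC⟩ := hn'
      refine ⟨Q, hQ, ?_, fun hN => hgC
        (mem_centralizer_of_hnpc_subgroup hN Subgroup.le_normalizer hQ hg hg hc)⟩
      rintro rfl
      exact hgC (Subgroup.mem_centralizer_iff.2 fun q hq => by
        rw [Subgroup.mem_bot.1 hq, one_mul, mul_one])
    obtain ⟨Q, ⟨hQ, hQne, hQbad⟩, hmax⟩ := Set.exists_max_image bad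
      (fun Q => vP p (Subgroup.normalizer (Q : Set Γ))) (Set.toFinite _) hne
    by_cases htop : Subgroup.normalizer (Q : Set Γ) = ⊤
    · haveI := Subgroup.normalizer_eq_top_iff.1 htop
      exact fun hb => hQne (le_bot_iff.1 (hb ▸ CfsgLib.Solv.le_pCore hQ))
    exfalso
    set H := Subgroup.normalizer (Q : Set Γ) with hHdef
    obtain ⟨S₁⟩ : Nonempty (Sylow p H) := inferInstance
    set S' := (S₁ : Subgroup H).map H.subtype with hS'
    have hS'p : IsPGroup p S' := S₁.isPGroup'.map H.subtype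
    have hcardS : Nat.card S' = p ^ vP p H := by
      rw [hS', card_map_subtype]; exact S₁.card_eq_multiplicity
    refine hQbad (overH H S₁ htop ?_)
    rw [← hS']
    by_cases hsyl : ∃ P0 : Sylow p Γ, (P0 : Subgroup Γ) = S'
    · obtain ⟨P0, hP0⟩ := hsyl
      obtain ⟨g, hg⟩ := MulAction.exists_smul_eq Γ S P0
      have he : S' = (S : Subgroup Γ).map (MulAut.conj g).toMonoidHom := by
        rw [← hP0, ← hg, Sylow.coe_subgroup_smul]; rfl
      rw [he, (hconjF _ S.isPGroup').2.2 g, hWSe]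
      have h := hnpc_map (MulAut.conj g).toMonoidHom hN
      rwa [Subgroup.map_equiv_normalizer_eq] at h
    · push Not at hsyl
      have hlt := vP_lt_normalizer hS'p hcardS hsyl
      by_contra hbad
      have hS'ne : S' ≠ ⊥ := by
        intro hb
        obtain ⟨j, hj⟩ := hQ.exists_card_eq
        have hd := Subgroup.card_dvd_of_le (Subgroup.le_normalizer (H := Q))
        rw [hj, hp.out.pow_dvd_iff_le_factorization Nat.card_pos.ne'] at hd
        have hj0 : j ≠ 0 := by
          rintro rfl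
          exact hQne (Subgroup.card_eq_one.1 (by rw [hj, pow_zero]))
        rw [hb, Subgroup.card_bot] at hcardS
        have := Nat.pow_right_injective hp.out.two_le
          (show p ^ 0 = p ^ vP p H by rw [pow_zero, ← hcardS])
        simp only [vP, hHdef] at this
        omega
      have h1 : vP p (Subgroup.normalizer (wOf e D S' : Set Γ)) ≤ vP p H :=
        hmax _ ⟨hS'p.to_le (hconjF _ hS'p).1, (hconjF _ hS'p).2.1 hS'ne, hbad⟩
      have h2 : vP p (Subgroup.normalizer (S' : Set Γ)) ≤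
          vP p (Subgroup.normalizer (wOf e D S' : Set Γ)) :=
        vP_mono (functor_normalizer hconjF hS'p)
      omega
  have hQ : HasNormalPComplement p (Γ ⧸ U) := by
    set f := QuotientGroup.mk' U with hf
    have hfs : Function.Surjective f := QuotientGroup.mk'_surjective U
    set P' := S.mapSurjective hfs with hP'
    by_cases hb : (P' : Subgroup (Γ ⧸ U)) = ⊥
    · rw [hnpc_iff_inf P', hb, bot_inf_eq]
    have hUS' : U ≤ (S : Subgroup Γ) := pCore_le_sylow S
    have hDU : ¬ D ≤ U := fun h => hDnn (Subgroup.normalizer_eq_top_iff.1 (eq_top_iff.2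
      ((Subgroup.normalizer_eq_top_iff.2 (⟨fun d hd g => hD.2 d hd g
        (hUS' ((inferInstance : U.Normal).conj_mem d (h hd) g))⟩ : D.Normal)).ge.trans (normalizer_le_zJ D))))
    refine quot U hUne P' (D.map f) (by rw [hP', Sylow.coe_mapSurjective]; exact closed_map_p hUS' hD) ?_
    set X := zJ e (D.map f) with hX
    have hXp : IsPGroup p ↥X := ((S.isPGroup'.to_le hD.1).map f).to_le (zJ_le _)
    have hWc : IsPGroup p (X.comap f) := hXp.comap_of_ker_isPGroup f
      (by rw [hf, QuotientGroup.ker_mk']; exact hUp)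
    have hNW : Subgroup.normalizer (X.comap f : Set Γ) = (Subgroup.normalizer (X : Set _)).comap f :=
      (Subgroup.comap_normalizer_eq_of_surjective X hfs).symm
    have hSle : (S : Subgroup Γ) ≤ Subgroup.normalizer (X.comap f : Set Γ) := by
      rw [hNW, ← Subgroup.map_le_iff_le_comap]
      exact ((Subgroup.map_mono hSD).trans (Subgroup.le_normalizer_map f)).trans (normalizer_le_zJ _)
    have hne : Subgroup.normalizer (X.comap f : Set Γ) ≠ ⊤ := by
      intro htop
      haveI := Subgroup.normalizer_eq_top_iff.1 htop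
      refine zJ_ne_bot (p := p) he ((S.isPGroup'.to_le hD.1).map f) (fun h => hDU ?_) (le_bot_iff.1 ?_)
      · rwa [Subgroup.map_eq_bot_iff, hf, QuotientGroup.ker_mk'] at h
      show X ≤ ⊥
      rw [← Subgroup.map_comap_eq_self_of_surjective hfs X, Subgroup.map_le_iff_le_comap,
        hf, MonoidHom.comap_bot, QuotientGroup.ker_mk']
      exact CfsgLib.Solv.le_pCore hWc
    have h' := hnpc_map f (overP _ hSle hne)
    rwa [hNW, Subgroup.map_comap_eq_self_of_surjective hfs] at h'
  have hCU : Subgroup.centralizer (U : Set Γ) ≤ U := centralizer_pCore_le_of_thompson hQ hO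
  have hUS : U ≤ S := pCore_le_sylow S
  have hmaxS : ∀ H : Subgroup Γ, (S : Subgroup Γ) ≤ H → H ≠ ⊤ → H = S := by
    intro H hSH hH
    refine S.is_maximal' (isPGroup_of_forall_coprime fun g hg hc => ?_) hSH
    exact eq_one_of_isPGroup_coprime hUp (hCU (mem_centralizer_of_hnpc_subgroup (overP H hSH hH)
      (hUS.trans hSH) hUp hg (Subgroup.normalizer_eq_top U ▸ Subgroup.mem_top g) hc)) hc
  set f := QuotientGroup.mk' U with hf
  have hfs : Function.Surjective f := QuotientGroup.mk'_surjective U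
  set P' : Sylow p (Γ ⧸ U) := S.mapSurjective hfs with hP'
  have hP'map : (P' : Subgroup (Γ ⧸ U)) = (S : Subgroup Γ).map f := Sylow.coe_mapSurjective hfs S
  set R := pResidual p (Γ ⧸ U) with hRdef
  haveI hRchar := pResidual_char p (Γ ⧸ U)
  haveI : R.Normal := Subgroup.normal_of_characteristic R
  have hR : ¬ p ∣ Nat.card R := hnpc_iff.1 hQ
  have hsup : (P' : Subgroup (Γ ⧸ U)) ⊔ R = ⊤ := sylow_sup_pResidual P'
  have hcopR : ∀ M : Subgroup (Γ ⧸ U), M ≤ R →
      (Nat.card (P' : Subgroup (Γ ⧸ U))).Coprime (Nat.card M) := fun M hM => by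
    obtain ⟨k, hk⟩ := P'.isPGroup'.exists_card_eq
    rw [hk]
    exact ((hp.out.coprime_iff_not_dvd.2 hR).pow_left k).coprime_dvd_right (Subgroup.card_dvd_of_le hM)
  have hinv : ∀ M : Subgroup (Γ ⧸ U), M ≤ R →
      (P' : Subgroup (Γ ⧸ U)) ≤ Subgroup.normalizer (M : Set (Γ ⧸ U)) → M = ⊥ ∨ M = R := by
    intro M hM hn'
    have hle : (S : Subgroup Γ) ≤ ((P' : Subgroup (Γ ⧸ U)) ⊔ M).comap f := by
      rw [← Subgroup.map_le_iff_le_comap, ← hP'map]; exact le_sup_left
    by_cases htop : ((P' : Subgroup (Γ ⧸ U)) ⊔ M).comap f = ⊤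
    · right
      have htop' : (P' : Subgroup (Γ ⧸ U)) ⊔ M = ⊤ := by
        rw [← Subgroup.map_comap_eq_self_of_surjective hfs (_ ⊔ M), htop,
          Subgroup.map_top_of_surjective f hfs]
      have h1 := card_sup_of_le_normalizer hn' (hcopR M hM)
      have h2 := card_sup_of_le_normalizer (X := (P' : Subgroup (Γ ⧸ U))) (M := R)
        (Subgroup.normalizer_eq_top R ▸ le_top) (hcopR R le_rfl)
      rw [htop'] at h1
      rw [hsup, h1] at h2
      exact Subgroup.eq_of_le_of_card_ge hM (Nat.eq_of_mul_eq_mul_left Nat.card_pos h2).ge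
    · left
      have he : (P' : Subgroup (Γ ⧸ U)) ⊔ M = P' := by
        rw [← Subgroup.map_comap_eq_self_of_surjective hfs (_ ⊔ M), hmaxS _ hle htop, hP'map]
      rw [← le_bot_iff, ← eq_bot_of_isPGroup_inf P'.isPGroup' hR]
      exact le_inf (he ▸ le_sup_right) hM
  have hab : ∀ x ∈ R, ∀ y ∈ R, x * y = y * x := by
    intro x hx y hy
    by_cases hRb : R = ⊥
    · rw [hRb, Subgroup.mem_bot] at hx hy; rw [hx, hy]
    obtain ⟨r, hr, hrd⟩ := Nat.exists_prime_and_dvd (fun e => hRb (Subgroup.card_eq_one.1 e))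
    haveI : Fact r.Prime := ⟨hr⟩
    obtain ⟨T, hT⟩ := exists_invariant_sylow (p := r) (A := (P' : Subgroup (Γ ⧸ U))) (K := R)
      (Subgroup.normalizer_eq_top R ▸ le_top) (hcopR R le_rfl) (Or.inl (by
        haveI := P'.isPGroup'.isNilpotent
        infer_instance))
    have hTne : (T : Subgroup R).map R.subtype ≠ ⊥ := by
      rw [Ne, ← Subgroup.card_eq_one, card_map_subtype]
      intro e
      have := T.dvd_card_of_dvd_card hrd
      rw [e] at this
      exact hr.ne_one (Nat.dvd_one.1 this)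
    have hTR := (hinv _ (Subgroup.map_subtype_le _) hT).resolve_left hTne
    have hRr : IsPGroup r R := hTR ▸ T.isPGroup'.map R.subtype
    have hzR : zOf R = R := (hinv _ (zOf_le R)
      ((Subgroup.normalizer_eq_top R ▸ le_top).trans (normalizer_le_normalizer_zOf R))).resolve_left
      (zOf_ne_bot hRr hRb)
    have hy' : y ∈ zOf R := hzR.symm ▸ hy
    exact Subgroup.mem_centralizer_iff.1 hy'.2 x hx
  have hqd : ¬ IsSec Γ ↥(Cfsg.qd p) :=
    CfsgLib.Dickson.not_isSec_qd hp2 hUp (fun x hx => CfsgLib.Inv.mem_pResidual hx) hab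
  have hst : IsNormalizerPStable p Γ := by
    by_contra h
    exact hqd (CfsgLib.Dickson.isSec_qd_of_not_stable hp2 h)
  have hSN : (S : Subgroup Γ) ≤ Subgroup.normalizer (zJ e D : Set Γ) := hSD.trans (normalizer_le_zJ D)
  refine hn (hnpc_of_fusion S fun x hx g hg => ?_)
  obtain ⟨n', hn', hne⟩ := (controls_zJ hp2 he hst S hD {x} (Set.singleton_subset_iff.2 hx)).2 g (by
    rintro _ ⟨y, rfl, rfl⟩; exact hg)
  have hxe := hne x rfl
  obtain ⟨s, hs, hse⟩ := fusion_of_frobCond (hnpc_iff_frobCond.1 hN) (S.subtype hSN)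
    (x := (⟨x, hSN hx⟩ : ↥(Subgroup.normalizer (zJ e D : Set Γ)))) hx (g := ⟨n', hn'⟩) (by
      show n' * x * n'⁻¹ ∈ (S : Subgroup Γ); rw [← hxe]; exact hg)
  exact ⟨(s : Γ), hs, (congrArg Subtype.val hse).trans hxe.symm⟩

end CfsgLib.Inv.ZJ
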