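import Cfsg.Agent.Inv.ZJApp
import Cfsg.Agent.Fus.QdControl

/-!
In a group isomorphic to `qd p` the center of the Thompson subgroup of a Sylow subgroup does not control strong fusion.
-/

set_option autoImplicit false
set_option linter.style.haveILetI false

open Cfsg
open scoped commutatorElement

namespace CfsgLib.Inv.ZJ

open CfsgLib.Fus

universe u

variable {p : ℕ} [hp : Fact p.Prime]

set_option maxHeartbeats 1000000 in
theorem not_controls_zJ_of_qd {Γ : Type u} [Group Γ] [Finite Γ] (e : Γ ≃* ↥(Cfsg.qd p)) :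
    ∃ T : Sylow p Γ, ¬ ControlsStrongFusion p (zJ 0 (T : Subgroup Γ)) := by
  classical
  -- the upper unitriangular elements
  let T₀ : Subgroup Γ :=
    { carrier := {g | ∃ s x y : ZMod p, e g = Qd.mk 1 s 0 1 x y (by ring)}
      one_mem' := ⟨0, 0, 0, by rw [map_one, ← Qd.mk_one]⟩
      mul_mem' := by
        rintro a b ⟨s, x, y, ha⟩ ⟨s', x', y', hb⟩
        refine ⟨s + s', x + x' + s * y', y + y', ?_⟩
        rw [map_mul, ha, hb, Qd.mk_mul]
        exact Qd.mk_congr (by ring) (by ring) (by ring) (by ring) (by ring) (by ring)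
      inv_mem' := by
        rintro a ⟨s, x, y, ha⟩
        refine ⟨-s, -x + s * y, -y, ?_⟩
        rw [map_inv, ha]
        refine inv_eq_of_mul_eq_one_right ?_
        rw [Qd.mk_mul, ← Qd.mk_one]
        exact Qd.mk_congr (by ring) (by ring) (by ring) (by ring) (by ring) (by ring) }
  have hT₀ : IsPGroup p T₀ := by
    rintro ⟨g, s, x, y, hg⟩
    refine ⟨2, Subtype.ext (e.injective ?_)⟩
    rw [SubmonoidClass.coe_pow, map_pow, OneMemClass.coe_one, map_one, show p ^ 2 = p * p by ring, pow_mul]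
    refine Qd.trans_pow_p (show Qd.blockHom (e g ^ p) = 1 from ?_)
    have h : ∀ n : ℕ, Qd.blockHom (e g ^ n) = !![1, (n : ZMod p) * s; 0, 1] := by
      intro n
      induction n with
      | zero => ext i j; fin_cases i <;> fin_cases j <;> simp
      | succ n ih =>
        rw [pow_succ, map_mul, ih, hg]
        ext i j
        fin_cases i <;> fin_cases j <;> simp [Qd.blockHom, Qd.mk, Matrix.mul_apply, Fin.sum_univ_two] <;> ring
    rw [h]
    ext i j
    fin_cases i <;> fin_cases j <;> simp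
  obtain ⟨T, hT⟩ := hT₀.exists_le_sylow
  -- it is a Sylow subgroup
  have hnorm : ∀ g : Γ, g ∈ Subgroup.normalizer (T₀ : Set Γ) → ∀ a b c d x y, ∀ h : a * d - b * c = 1,
      e g = Qd.mk a b c d x y h → c = 0 := by
    intro g hg a b c d x y h hge
    obtain ⟨s, x', y', hs⟩ := (Subgroup.mem_normalizer_iff.1 hg (e.symm (Qd.up 1))).1
      ⟨1, 0, 0, by rw [MulEquiv.apply_symm_apply]; rfl⟩
    rw [map_mul, map_mul, map_inv, MulEquiv.apply_symm_apply, hge, mul_inv_eq_iff_eq_mul] at hs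
    simp only [Qd.up, Qd.mk_mul] at hs
    have h' := congrArg (fun M : ↥(Cfsg.qd p) => M.1.1 1 1) hs
    simp [Qd.mk] at h'
    exact h'
  have hTT : (T : Subgroup Γ) = T₀ := by
    refine le_antisymm ?_ hT
    by_contra hne
    haveI : Finite ↥(T : Subgroup Γ) := inferInstance
    haveI := (T.2).isNilpotent
    have hlt : T₀.subgroupOf T < ⊤ := lt_top_iff_ne_top.2 fun h => hne (Subgroup.subgroupOf_eq_top.1 h)
    obtain ⟨⟨g, hgT⟩, hgN, hgn⟩ := SetLike.exists_of_lt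
      (Group.normalizerCondition_of_isNilpotent (G := ↥(T : Subgroup Γ)) _ hlt)
    have hgN' : g ∈ Subgroup.normalizer (T₀ : Set Γ) := Subgroup.mem_normalizer_iff.2 fun v => by
      constructor
      · intro hv
        exact (Subgroup.mem_normalizer_iff.1 hgN ⟨v, hT hv⟩).1 hv
      · intro hv
        have hvT : v ∈ (T : Subgroup Γ) := by
          have := (T : Subgroup Γ).mul_mem ((T : Subgroup Γ).mul_mem ((T : Subgroup Γ).inv_mem hgT) (hT hv)) hgT
          simpa [mul_assoc] using this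
        exact (Subgroup.mem_normalizer_iff.1 hgN ⟨v, hvT⟩).2 hv
    obtain ⟨a, b, c, d, x, y, h, hge⟩ := Qd.eq_mk (e g)
    obtain rfl := hnorm g hgN' a b c d x y h hge
    obtain ⟨n, hn⟩ := T.2 ⟨g, hgT⟩
    have hn' : e g ^ p ^ n = 1 := by
      rw [← map_pow, show g ^ p ^ n = 1 from congrArg Subtype.val hn, map_one]
    have hpow : ∀ m : ℕ, Qd.blockHom (e g ^ m) 0 0 = a ^ m ∧ Qd.blockHom (e g ^ m) 1 0 = 0 := by
      intro m
      induction m with
      | zero => simp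
      | succ m ih =>
        rw [pow_succ', map_mul, hge]
        rw [hge] at ih
        simp [Qd.blockHom, Qd.mk, Matrix.mul_apply, Fin.sum_univ_two] at ih ⊢
        rw [ih.1, ih.2]
        exact ⟨by ring, Or.inr rfl⟩
    have ha := (hpow (p ^ n)).1
    rw [hn', map_one, ZMod.pow_card_pow] at ha
    simp at ha
    subst ha
    have hd : d = 1 := by linear_combination h
    subst hd
    exact hgn ⟨b, x, y, hge⟩
  refine ⟨T, ?_⟩
  set t₁ := e.symm (Qd.mk 1 0 0 1 1 0 (by ring)) with ht₁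
  set t₂ := e.symm (Qd.mk 1 0 0 1 0 1 (by ring)) with ht₂
  set s₁ := e.symm (Qd.mk 1 1 0 1 0 0 (by ring)) with hs₁
  have ht₁T : t₁ ∈ (T : Subgroup Γ) := hT ⟨0, 1, 0, MulEquiv.apply_symm_apply _ _⟩
  have hcen : ∀ g ∈ (T : Subgroup Γ), t₁ * g = g * t₁ := by
    intro g hg
    obtain ⟨s, x, y, hge⟩ := (hTT.le hg : g ∈ T₀)
    refine e.injective ?_
    rw [map_mul, map_mul, ht₁, MulEquiv.apply_symm_apply, hge, Qd.mk_mul, Qd.mk_mul]
    exact Qd.mk_congr (by ring) (by ring) (by ring) (by ring) (by ring) (by ring)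
  -- an abelian subgroup of order at least `p ^ 2` containing `s₁`
  let B : Subgroup Γ :=
    { carrier := {g | ∃ s x : ZMod p, e g = Qd.mk 1 s 0 1 x 0 (by ring)}
      one_mem' := ⟨0, 0, by rw [map_one, ← Qd.mk_one]⟩
      mul_mem' := by
        rintro a b ⟨x, y, ha⟩ ⟨x', y', hb⟩
        refine ⟨x + x', y + y', ?_⟩
        rw [map_mul, ha, hb, Qd.mk_mul]
        exact Qd.mk_congr (by ring) (by ring) (by ring) (by ring) (by ring) (by ring)
      inv_mem' := by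
        rintro a ⟨x, y, ha⟩
        refine ⟨-x, -y, ?_⟩
        rw [map_inv, ha]
        refine inv_eq_of_mul_eq_one_right ?_
        rw [Qd.mk_mul, ← Qd.mk_one]
        exact Qd.mk_congr (by ring) (by ring) (by ring) (by ring) (by ring) (by ring) }
  have hB : B ≤ (T : Subgroup Γ) := fun g ⟨s, x, hg⟩ => hT ⟨s, x, 0, hg⟩
  have hBe : Abel 0 B := abel_of_commute (fun a ⟨x, y, ha⟩ b ⟨x', y', hb⟩ => e.injective (by
    rw [map_mul, map_mul, ha, hb, Qd.mk_mul, Qd.mk_mul]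
    exact Qd.mk_congr (by ring) (by ring) (by ring) (by ring) (by ring) (by ring))) fun a _ => pow_zero a
  have hB2 : p ^ 2 ≤ Nat.card B := by
    let f : ZMod p × ZMod p → B := fun q => ⟨e.symm (Qd.mk 1 q.1 0 1 q.2 0 (by ring)), q.1, q.2,
      MulEquiv.apply_symm_apply _ _⟩
    have hf : Function.Injective f := fun q q' h => by
      have h' := e.symm.injective (congrArg Subtype.val h)
      have h1 := congrArg (fun M : ↥(Cfsg.qd p) => M.1.1 0 1) h'
      have h2 := congrArg (fun M : ↥(Cfsg.qd p) => M.1.1 0 2) h'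
      simp [Qd.mk] at h1 h2
      exact Prod.ext h1 h2
    have := Nat.card_le_card_of_injective f hf
    rwa [Nat.card_prod, Nat.card_zmod, ← pow_two] at this
  have hT3 : Nat.card (T : Subgroup Γ) ≤ p ^ 3 := by
    let f : ↥(T : Subgroup Γ) → ZMod p × ZMod p × ZMod p := fun g =>
      ((e g.1).1.1 0 1, (e g.1).1.1 0 2, (e g.1).1.1 1 2)
    have hf : Function.Injective f := fun g g' h => by
      obtain ⟨s, x, y, hg⟩ := (hTT.le g.2 : (g : Γ) ∈ T₀)
      obtain ⟨s', x', y', hg'⟩ := (hTT.le g'.2 : (g' : Γ) ∈ T₀)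
      simp only [f, hg, hg', Prod.mk.injEq] at h
      simp [Qd.mk] at h
      obtain ⟨h1, h2, h3⟩ := h
      exact Subtype.ext (e.injective (hg.trans ((Qd.mk_congr rfl h1 rfl rfl h2 h3).trans hg'.symm)))
    have := Nat.card_le_card_of_injective f hf
    rwa [Nat.card_prod, Nat.card_prod, Nat.card_zmod, show p * (p * p) = p ^ 3 by ring] at this
  have hmaxB : MaxA 0 (T : Subgroup Γ) B := by
    refine ⟨hB, hBe, fun A hA hAe => le_trans ?_ hB2⟩
    have hne : A ≠ (T : Subgroup Γ) := fun h => by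
      have h1 := hAe.comm (show t₂ ∈ A from h ▸ hT ⟨0, 0, 1, MulEquiv.apply_symm_apply _ _⟩)
        (show s₁ ∈ A from h ▸ hT ⟨1, 0, 0, MulEquiv.apply_symm_apply _ _⟩)
      have h2 := congrArg e h1
      rw [map_mul, map_mul, ht₂, hs₁, MulEquiv.apply_symm_apply, MulEquiv.apply_symm_apply, Qd.mk_mul,
        Qd.mk_mul] at h2
      have h3 := congrArg (fun M : ↥(Cfsg.qd p) => M.1.1 0 2) h2
      simp [Qd.mk] at h3
    obtain ⟨a, ha⟩ := (T.isPGroup'.to_le hA).exists_card_eq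
    obtain ⟨b, hb⟩ := T.isPGroup'.exists_card_eq
    have hlt : Nat.card A < Nat.card (T : Subgroup Γ) := lt_of_le_of_ne (Subgroup.card_le_of_le hA) fun h =>
      hne (Subgroup.eq_of_le_of_card_ge hA h.ge)
    rw [ha] at hlt ⊢
    have hb3 : b ≤ 3 := (Nat.pow_le_pow_iff_right hp.out.one_lt).1 (hb ▸ hT3)
    rw [hb, Nat.pow_lt_pow_iff_right hp.out.one_lt] at hlt
    exact Nat.pow_le_pow_right hp.out.pos (by omega)
  have ht₁Z : t₁ ∈ zJ 0 (T : Subgroup Γ) :=
    ⟨hmaxB.le_jOf (hmaxB.mem ht₁T (pow_zero _) fun a ha => hcen a (hB ha)),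
      fun w hw => (hcen w (jOf_le _ hw)).symm⟩
  have ht₂Z : t₂ ∉ zJ 0 (T : Subgroup Γ) := fun h => by
    have h1 := h.2 s₁ (hmaxB.le_jOf ⟨1, 0, MulEquiv.apply_symm_apply _ _⟩)
    have h2 := congrArg e h1
    rw [map_mul, map_mul, ht₂, hs₁, MulEquiv.apply_symm_apply, MulEquiv.apply_symm_apply, Qd.mk_mul,
      Qd.mk_mul] at h2
    have h3 := congrArg (fun M : ↥(Cfsg.qd p) => M.1.1 0 2) h2
    simp [Qd.mk] at h3
  rintro ⟨T', hTT', hctl⟩
  set J := e.symm (Qd.mk 0 (-1) 1 0 0 0 (by ring)) with hJ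
  have hJt : J * t₁ * J⁻¹ = t₂ := by
    refine e.injective ?_
    rw [map_mul, map_mul, map_inv, hJ, ht₁, ht₂, MulEquiv.apply_symm_apply, MulEquiv.apply_symm_apply,
      MulEquiv.apply_symm_apply, mul_inv_eq_iff_eq_mul, Qd.mk_mul, Qd.mk_mul]
    exact Qd.mk_congr (by ring) (by ring) (by ring) (by ring) (by ring) (by ring)
  obtain ⟨W, hW⟩ : ∃ W : Subgroup Γ, W = zJ 0 (T : Subgroup Γ) := ⟨_, rfl⟩
  have ht₂T : t₂ ∈ (T : Subgroup Γ) := hT ⟨0, 0, 1, MulEquiv.apply_symm_apply _ _⟩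
  by_cases h2 : t₂ ∈ (T' : Subgroup Γ)
  · obtain ⟨x, hx, hxe⟩ := (hctl {t₁} (Set.singleton_subset_iff.2 (hTT' ht₁Z))).2 J (by
      rintro _ ⟨a, rfl, rfl⟩
      show J * t₁ * J⁻¹ ∈ (T' : Subgroup Γ)
      rw [hJt]; exact h2)
    refine ht₂Z ?_
    rw [← hJt, hxe t₁ rfl]
    exact (Subgroup.mem_normalizer_iff.1 hx t₁).1 ht₁Z
  · -- move `t₂` into `T'`
    obtain ⟨g, hg⟩ := MulAction.exists_smul_eq Γ T T'
    have hgn : g * t₂ * g⁻¹ ∈ (T' : Subgroup Γ) := by
      rw [← hg, Sylow.coe_subgroup_smul]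
      exact ⟨t₂, ht₂T, rfl⟩
    have hTe : (T : Subgroup Γ) ≤ Subgroup.normalizer (zJ 0 (T : Subgroup Γ) : Set Γ) :=
      Subgroup.le_normalizer.trans (normalizer_le_zJ _)
    have hT'e : (T' : Subgroup Γ) ≤ Subgroup.normalizer (zJ 0 (T : Subgroup Γ) : Set Γ) := by
      intro y hy
      obtain ⟨n, hn, hne⟩ := (hctl (T' : Subgroup Γ) le_rfl).2 y (by
        rintro _ ⟨w, hw, rfl⟩
        exact (T' : Subgroup Γ).mul_mem ((T' : Subgroup Γ).mul_mem hy hw) ((T' : Subgroup Γ).inv_mem hy))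
      refine Subgroup.mem_normalizer_fintype fun w hw => ?_
      show y * w * y⁻¹ ∈ zJ 0 (T : Subgroup Γ)
      rw [hne w (hTT' hw)]
      exact (Subgroup.mem_normalizer_iff.1 hn w).1 hw
    obtain ⟨n, hn⟩ := MulAction.exists_smul_eq ↥(Subgroup.normalizer (zJ 0 (T : Subgroup Γ) : Set Γ))
      (T.subtype hTe) (T'.subtype hT'e)
    have hn2 : (n : Γ) * t₂ * (n : Γ)⁻¹ ∈ (T' : Subgroup Γ) := by
      have : n * ⟨t₂, hTe ht₂T⟩ * n⁻¹ ∈
          ((T'.subtype hT'e : Sylow p ↥(Subgroup.normalizer (zJ 0 (T : Subgroup Γ) : Set Γ))) : Subgroup _) := by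
        rw [← hn, Sylow.coe_subgroup_smul]
        exact ⟨⟨t₂, hTe ht₂T⟩, ht₂T, rfl⟩
      exact this
    obtain ⟨x, hx, hxe⟩ := (hctl {t₁} (Set.singleton_subset_iff.2 (hTT' ht₁Z))).2 ((n : Γ) * J) (by
      rintro _ ⟨a, rfl, rfl⟩
      show (n : Γ) * J * t₁ * ((n : Γ) * J)⁻¹ ∈ (T' : Subgroup Γ)
      rw [show (n : Γ) * J * t₁ * ((n : Γ) * J)⁻¹ = n * (J * t₁ * J⁻¹) * (n : Γ)⁻¹ by group, hJt]
      exact hn2)
    have h3 : (n : Γ) * t₂ * (n : Γ)⁻¹ ∈ zJ 0 (T : Subgroup Γ) := by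
      rw [← hJt, show (n : Γ) * (J * t₁ * J⁻¹) * (n : Γ)⁻¹ = n * J * t₁ * ((n : Γ) * J)⁻¹ by group, hxe t₁ rfl]
      exact (Subgroup.mem_normalizer_iff.1 hx t₁).1 ht₁Z
    exact ht₂Z ((Subgroup.mem_normalizer_iff.1 n.2 t₂).2 h3)

end CfsgLib.Inv.ZJ
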